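import Mathlib
import Cfsg.Prelude.Def_Solvable

/-!
# Basic tools for fusion arguments

Conjugates of subgroups, Sylow subgroups of subgroups written inside the ambient group.
-/

set_option autoImplicit false

namespace Cfsg.Agent.Fusion

variable {G : Type*} [Group G]

/-- The conjugate `g H g⁻¹`, in the form used by the statements. -/
abbrev cj (H : Subgroup G) (g : G) : Subgroup G := H.map (MulAut.conj g).toMonoidHom

theorem mem_cj {H : Subgroup G} {g x : G} : x ∈ cj H g ↔ g⁻¹ * x * g ∈ H := by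
  constructor
  · rintro ⟨h, hh, rfl⟩
    simpa [mul_assoc] using hh
  · intro h
    exact ⟨_, h, by simp [mul_assoc]⟩

theorem conj_mem_cj {H : Subgroup G} {g x : G} (hx : x ∈ H) : g * x * g⁻¹ ∈ cj H g := by
  rw [mem_cj]; simpa [mul_assoc] using hx

theorem cj_one (H : Subgroup G) : cj H 1 = H := by ext x; simp

theorem cj_cj (H : Subgroup G) (a b : G) : cj (cj H a) b = cj H (b * a) := by
  ext x; rw [mem_cj, mem_cj, mem_cj]; simp [mul_assoc]

theorem cj_cj_inv (H : Subgroup G) (g : G) : cj (cj H g) g⁻¹ = H := by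
  rw [cj_cj]; simp [cj_one]

theorem cj_inv_cj (H : Subgroup G) (g : G) : cj (cj H g⁻¹) g = H := by
  rw [cj_cj]; simp [cj_one]

theorem cj_mono {H K : Subgroup G} (h : H ≤ K) (g : G) : cj H g ≤ cj K g :=
  Subgroup.map_mono h

theorem cj_le_cj {H K : Subgroup G} {g : G} : cj H g ≤ cj K g ↔ H ≤ K :=
  Subgroup.map_le_map_iff_of_injective (MulAut.conj g).injective

theorem cj_le_iff {H K : Subgroup G} {g : G} : cj H g ≤ K ↔ H ≤ cj K g⁻¹ := by
  rw [← cj_le_cj (g := g⁻¹), cj_cj_inv]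

theorem cj_inf (H K : Subgroup G) (g : G) : cj (H ⊓ K) g = cj H g ⊓ cj K g :=
  Subgroup.map_inf _ _ _ (MulAut.conj g).injective

theorem cj_sup (H K : Subgroup G) (g : G) : cj (H ⊔ K) g = cj H g ⊔ cj K g :=
  Subgroup.map_sup H K _

theorem cj_bot (g : G) : cj (⊥ : Subgroup G) g = ⊥ := Subgroup.map_bot _

theorem card_cj (H : Subgroup G) (g : G) : Nat.card (cj H g) = Nat.card H :=
  Subgroup.card_map_of_injective (MulAut.conj g).injective

theorem index_cj (H : Subgroup G) (g : G) : (cj H g).index = H.index :=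
  Subgroup.index_map_equiv H (MulAut.conj g)

theorem relIndex_cj (H K : Subgroup G) (g : G) : (cj H g).relIndex (cj K g) = H.relIndex K :=
  Subgroup.relIndex_map_map_of_injective H K (MulAut.conj g).injective

theorem isPGroup_cj {p : ℕ} {H : Subgroup G} (h : IsPGroup p H) (g : G) :
    IsPGroup p (cj H g) :=
  h.map _

theorem cj_commutator (H K : Subgroup G) (g : G) : cj ⁅H, K⁆ g = ⁅cj H g, cj K g⁆ :=
  Subgroup.map_commutator H K _

theorem cj_normalizer (H : Subgroup G) (g : G) :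
    cj (Subgroup.normalizer (H : Set G)) g = Subgroup.normalizer (cj H g : Set G) :=
  Subgroup.map_equiv_normalizer_eq H (MulAut.conj g)

theorem cj_centralizer (S : Subgroup G) (g : G) :
    cj (Subgroup.centralizer (S : Set G)) g = Subgroup.centralizer (cj S g : Set G) := by
  ext x
  rw [mem_cj, Subgroup.mem_centralizer_iff, Subgroup.mem_centralizer_iff]
  constructor
  · intro h y hy
    have := h _ (mem_cj.1 hy)
    have h2 := congrArg (fun z => g * z * g⁻¹) this
    simpa [mul_assoc] using h2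
  · intro h y hy
    have := h _ (conj_mem_cj (g := g) hy)
    have h2 := congrArg (fun z => g⁻¹ * z * g) this
    simpa [mul_assoc] using h2

theorem mem_normalizer_iff_cj {H : Subgroup G} {g : G} :
    g ∈ Subgroup.normalizer (H : Set G) ↔ cj H g = H :=
  Subgroup.mem_normalizer_iff_map_conj_eq

theorem cj_eq_self {H : Subgroup G} {g : G} (h : g ∈ Subgroup.normalizer (H : Set G)) :
    cj H g = H :=
  mem_normalizer_iff_cj.1 h

theorem cj_eq_self_of_mem {H : Subgroup G} {g : G} (h : g ∈ H) : cj H g = H :=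
  cj_eq_self (Subgroup.le_normalizer h)

theorem normal_iff_cj {H : Subgroup G} : H.Normal ↔ ∀ g, cj H g = H := by
  rw [← Subgroup.normalizer_eq_top_iff]
  constructor
  · intro h g; exact mem_normalizer_iff_cj.1 (h ▸ Subgroup.mem_top g)
  · intro h; exact eq_top_iff.2 fun g _ => mem_normalizer_iff_cj.2 (h g)

theorem cj_of_normal (H : Subgroup G) [H.Normal] (g : G) : cj H g = H :=
  normal_iff_cj.1 inferInstance g

theorem cj_eq_of_cj_le [Finite G] {H : Subgroup G} {g : G} (h : cj H g ≤ H) : cj H g = H :=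
  Subgroup.eq_of_le_of_card_ge h (card_cj H g).ge

theorem mem_normalizer_of_cj_le [Finite G] {H : Subgroup G} {g : G} (h : cj H g ≤ H) :
    g ∈ Subgroup.normalizer (H : Set G) :=
  mem_normalizer_iff_cj.2 (cj_eq_of_cj_le h)

theorem mem_centralizer_set {S : Set G} {x : G} :
    x ∈ Subgroup.centralizer S ↔ ∀ s ∈ S, x * s * x⁻¹ = s := by
  rw [Subgroup.mem_centralizer_iff]
  refine forall₂_congr fun s _ => ?_
  rw [mul_inv_eq_iff_eq_mul]; exact eq_comm

/-! ### Sylow subgroups of subgroups -/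

/-- `T` is a Sylow `p`-subgroup of the subgroup `H`. -/
structure SylIn (p : ℕ) (T H : Subgroup G) : Prop where
  le : T ≤ H
  isPGroup : IsPGroup p T
  not_dvd : ¬ p ∣ T.relIndex H

variable {p : ℕ}

theorem SylIn.cj {T H : Subgroup G} (h : SylIn p T H) (g : G) :
    SylIn p (cj T g) (Fusion.cj H g) :=
  ⟨cj_mono h.le g, isPGroup_cj h.isPGroup g, by rw [relIndex_cj]; exact h.not_dvd⟩

theorem SylIn.cj' {T H : Subgroup G} (h : SylIn p T H) {g : G}
    (hg : g ∈ Subgroup.normalizer (H : Set G)) : SylIn p (Fusion.cj T g) H := by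
  simpa only [cj_eq_self hg] using h.cj g

section
variable [Finite G] [Fact p.Prime]

theorem sylIn_top (P : Sylow p G) : SylIn p (P : Subgroup G) ⊤ :=
  ⟨le_top, P.isPGroup', by rw [Subgroup.relIndex_top_right]; exact P.not_dvd_index⟩

theorem SylIn.exists_sylow {T : Subgroup G} (h : SylIn p T ⊤) :
    ∃ P : Sylow p G, (P : Subgroup G) = T :=
  ⟨h.isPGroup.toSylow (Subgroup.relIndex_top_right T ▸ h.not_dvd), rfl⟩

/-- A Sylow subgroup of the group `↥H`, seen inside `G`. -/
theorem sylIn_map (H : Subgroup G) (P : Sylow p H) :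
    SylIn p ((P : Subgroup H).map H.subtype) H := by
  refine ⟨Subgroup.map_subtype_le _, P.isPGroup'.map _, ?_⟩
  rw [Subgroup.relIndex, Subgroup.subgroupOf,
    Subgroup.comap_map_eq_self_of_injective H.subtype_injective]
  exact P.not_dvd_index

theorem SylIn.exists_sylow_subgroupOf {T H : Subgroup G} (h : SylIn p T H) :
    ∃ P : Sylow p H, (P : Subgroup H) = T.subgroupOf H :=
  ⟨(h.isPGroup.comap_subtype (K := H)).toSylow (by
    exact h.not_dvd), rfl⟩

theorem exists_sylIn_ge {Q H : Subgroup G} (hQ : IsPGroup p Q) (hQH : Q ≤ H) :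
    ∃ T, SylIn p T H ∧ Q ≤ T := by
  obtain ⟨P, hP⟩ := (hQ.comap_subtype (K := H)).exists_le_sylow
  refine ⟨(P : Subgroup H).map H.subtype, sylIn_map H P, fun x hx => ?_⟩
  exact ⟨⟨x, hQH hx⟩, hP hx, rfl⟩

theorem exists_sylIn (H : Subgroup G) : ∃ T, SylIn p T H :=
  ⟨_, sylIn_map H (default : Sylow p H)⟩

theorem SylIn.eq_of_le {T H Q : Subgroup G} (h : SylIn p T H) (hQ : IsPGroup p Q) (hTQ : T ≤ Q)
    (hQH : Q ≤ H) : Q = T := by
  refine (le_antisymm hTQ ?_).symm
  rw [← Subgroup.relIndex_eq_one]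
  obtain ⟨k, hk⟩ := IsPGroup.iff_card.1 hQ
  have h1 : T.relIndex Q ∣ p ^ k := hk ▸ Subgroup.relIndex_dvd_card T Q
  obtain ⟨j, -, hj⟩ := (Nat.dvd_prime_pow Fact.out).1 h1
  rcases j with _ | j
  · simpa using hj
  · exfalso
    apply h.not_dvd
    rw [← Subgroup.relIndex_mul_relIndex T Q H hTQ hQH]
    exact (hj ▸ dvd_pow_self p (Nat.succ_ne_zero j)).mul_right _

theorem SylIn.conj_eq {T T' H : Subgroup G} (h : SylIn p T H) (h' : SylIn p T' H) :
    ∃ x ∈ H, Fusion.cj T x = T' := by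
  obtain ⟨P, hP⟩ := h.exists_sylow_subgroupOf
  obtain ⟨P', hP'⟩ := h'.exists_sylow_subgroupOf
  obtain ⟨x, hx⟩ := MulAction.exists_smul_eq H P P'
  refine ⟨x, x.2, ?_⟩
  have hx' : (P : Subgroup H).map (MulAut.conj x).toMonoidHom = (P' : Subgroup H) := by
    rw [← hx]; rfl
  rw [hP, hP'] at hx'
  have := congrArg (Subgroup.map H.subtype) hx'
  rw [Subgroup.map_map] at this
  have hc : H.subtype.comp (MulAut.conj x).toMonoidHom
      = (MulAut.conj (x : G)).toMonoidHom.comp H.subtype := by ext; simp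
  rw [hc, ← Subgroup.map_map, Subgroup.map_subgroupOf_eq_of_le h.le,
    Subgroup.map_subgroupOf_eq_of_le h'.le] at this
  exact this

/-- A `p`-subgroup of `H` is conjugate in `H` into any Sylow subgroup of `H`. -/
theorem SylIn.conj_le {T H Q : Subgroup G} (h : SylIn p T H) (hQ : IsPGroup p Q) (hQH : Q ≤ H) :
    ∃ x ∈ H, Fusion.cj Q x ≤ T := by
  obtain ⟨T', hT', hQT'⟩ := exists_sylIn_ge hQ hQH
  obtain ⟨x, hx, rfl⟩ := hT'.conj_eq h
  exact ⟨x, hx, cj_mono hQT' x⟩

theorem SylIn.card_le {T H Q : Subgroup G} (h : SylIn p T H) (hQ : IsPGroup p Q) (hQH : Q ≤ H) :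
    Nat.card Q ≤ Nat.card T := by
  obtain ⟨x, -, hx⟩ := h.conj_le hQ hQH
  rw [← card_cj Q x]
  exact Subgroup.card_le_of_le hx

theorem SylIn.of_card_ge {T H Q : Subgroup G} (h : SylIn p T H) (hQ : IsPGroup p Q) (hQH : Q ≤ H)
    (hc : Nat.card T ≤ Nat.card Q) : SylIn p Q H := by
  obtain ⟨T', hT', hQT'⟩ := exists_sylIn_ge hQ hQH
  obtain ⟨x, -, rfl⟩ := h.conj_eq hT'
  rwa [Subgroup.eq_of_le_of_card_ge hQT' (by rw [card_cj]; exact hc)]

theorem SylIn.mono {T H K : Subgroup G} (h : SylIn p T H) (hTK : T ≤ K) (hKH : K ≤ H) :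
    SylIn p T K :=
  ⟨hTK, h.isPGroup, fun hd => h.not_dvd
    (hd.trans ⟨_, (Subgroup.relIndex_mul_relIndex T K H hTK hKH).symm⟩)⟩

theorem SylIn.inf_normal {T H N : Subgroup G} (h : SylIn p T H) (hN : N ≤ H)
    (hHN : H ≤ Subgroup.normalizer (N : Set G)) : SylIn p (T ⊓ N) N := by
  refine ⟨inf_le_right, h.isPGroup.to_inf_left, ?_⟩
  obtain ⟨R, hR, hTR⟩ := exists_sylIn_ge (h.isPGroup.to_inf_left (K := N)) inf_le_right
  obtain ⟨x, hx, hxT⟩ := h.conj_le hR.isPGroup (hR.le.trans hN)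
  have h1 : Fusion.cj R x ≤ T ⊓ N :=
    le_inf hxT ((cj_mono hR.le x).trans (cj_eq_self (hHN hx)).le)
  have h2 : R = T ⊓ N := (Subgroup.eq_of_le_of_card_ge hTR
    (by rw [← card_cj R x]; exact Subgroup.card_le_of_le h1)).symm
  exact h2 ▸ hR.not_dvd

/-- Frattini argument inside subgroups. -/
theorem frattini_conj {T H N : Subgroup G} (hT : SylIn p T N)
    (hHN : H ≤ Subgroup.normalizer (N : Set G)) {h : G} (hh : h ∈ H) :
    ∃ n ∈ N, n * h ∈ Subgroup.normalizer (T : Set G) := by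
  obtain ⟨n, hn, he⟩ := (hT.cj' (hHN hh)).conj_eq hT
  exact ⟨n, hn, mem_normalizer_iff_cj.2 (by rw [← cj_cj]; exact he)⟩

theorem SylIn.normalizer_growth {T S : Subgroup G} (hT : T ≤ S) (hne : T ≠ S)
    (hS : IsPGroup p S) : T < S ⊓ Subgroup.normalizer (T : Set G) := by
  refine lt_of_le_not_ge (le_inf hT Subgroup.le_normalizer) fun hle => hne ?_
  have := hS.isNilpotent
  have h1 : Subgroup.normalizer ((T.subgroupOf S : Subgroup S) : Set S) = T.subgroupOf S := by
    refine le_antisymm (fun x hx => ?_) Subgroup.le_normalizer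
    rw [← Subgroup.subgroupOf_normalizer_eq hT] at hx
    exact hle ⟨x.2, hx⟩
  have h2 : T.subgroupOf S = ⊤ :=
    normalizerCondition_iff_only_full_group_self_normalizing.1
      Group.normalizerCondition_of_isNilpotent _ h1
  exact le_antisymm hT (Subgroup.subgroupOf_eq_top.1 h2)

end

end Cfsg.Agent.Fusion
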