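import Mathlib
import Cfsg.Agent.Lib.Fusion.Basic

/-!
# Focal subgroups of Sylow subgroups of subgroups
-/

set_option autoImplicit false

open scoped commutatorElement

namespace Cfsg.Agent.Fusion

variable {G : Type*} [Group G] {p : ℕ}

/-- The subgroup generated by the `x⁻¹ (h x h⁻¹)` with `x, h x h⁻¹ ∈ T`, `h ∈ H`. -/
def focalIn (T H : Subgroup G) : Subgroup G :=
  Subgroup.closure {y | ∃ x ∈ T, ∃ h ∈ H, h * x * h⁻¹ ∈ T ∧ y = x⁻¹ * (h * x * h⁻¹)}

theorem focalIn_le_commutator {T H : Subgroup G} (hTH : T ≤ H) : focalIn T H ≤ ⁅H, H⁆ := by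
  refine (Subgroup.closure_le _).2 ?_
  rintro _ ⟨x, hx, h, hh, -, rfl⟩
  have := Subgroup.commutator_mem_commutator (inv_mem (hTH hx)) hh
  simpa [commutatorElement_def, mul_assoc] using this

theorem focalIn_le (T H : Subgroup G) : focalIn T H ≤ T := by
  refine (Subgroup.closure_le _).2 ?_
  rintro _ ⟨x, hx, h, -, hxh, rfl⟩
  exact mul_mem (inv_mem hx) hxh

theorem focalIn_mono {T H K : Subgroup G} (hHK : H ≤ K) : focalIn T H ≤ focalIn T K := by
  refine Subgroup.closure_mono ?_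
  rintro _ ⟨x, hx, h, hh, hxh, rfl⟩
  exact ⟨x, hx, h, hHK hh, hxh, rfl⟩

theorem mem_focalIn {T H : Subgroup G} {x h : G} (hx : x ∈ T) (hh : h ∈ H)
    (hxh : h * x * h⁻¹ ∈ T) : x⁻¹ * (h * x * h⁻¹) ∈ focalIn T H :=
  Subgroup.subset_closure ⟨x, hx, h, hh, hxh, rfl⟩

variable [Finite G] [Fact p.Prime]

/-- The focal subgroup theorem inside a subgroup. -/
theorem inf_commutator_eq_focalIn {T H : Subgroup G} (hT : SylIn p T H) :
    T ⊓ ⁅H, H⁆ = focalIn T H := by
  refine le_antisymm ?_ (le_inf (focalIn_le T H) (focalIn_le_commutator hT.le))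
  obtain ⟨P, hP⟩ := hT.exists_sylow_subgroupOf
  rintro y ⟨hyT, hyH⟩
  have hyH' : y ∈ H := Subgroup.commutator_le.2 (fun a ha b hb => by
    rw [commutatorElement_def]
    exact mul_mem (mul_mem (mul_mem ha hb) (inv_mem ha)) (inv_mem hb)) hyH
  have h1 : (⟨y, hyH'⟩ : H) ∈ commutator H ⊓ (P : Subgroup H) := by
    refine ⟨?_, hP ▸ hyT⟩
    rw [← Subgroup.map_subtype_commutator] at hyH
    obtain ⟨z, hz, hzy⟩ := hyH
    have : z = ⟨y, hyH'⟩ := Subtype.ext hzy
    exact this ▸ hz
  rw [Subgroup.commutator_inf_eq_focalSubgroup, Subgroup.focalSubgroup_def] at h1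
  have h2 := Subgroup.mem_map_of_mem H.subtype h1
  rw [MonoidHom.map_closure] at h2
  refine (Subgroup.closure_le _).2 ?_ h2
  rintro _ ⟨g, ⟨hg, x, hx, u, rfl⟩, rfl⟩
  rw [hP] at hg hx
  have hg' : (x : G) * u * (x : G)⁻¹ * (u : G)⁻¹ ∈ T := by
    simpa [commutatorElement_def, Subgroup.mem_subgroupOf] using hg
  have hx' : (x : G) ∈ T := hx
  have h3 : (u : G) * (x : G)⁻¹ * (u : G)⁻¹ ∈ T := by
    have := mul_mem (inv_mem hx') hg'
    simpa [mul_assoc] using this
  have h4 := mem_focalIn (inv_mem hx') u.2 h3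
  simpa [commutatorElement_def, mul_assoc] using h4

theorem inf_commutator_eq_focalIn_top {S : Subgroup G} (hS : SylIn p S ⊤) :
    S ⊓ commutator G = focalIn S ⊤ := by
  rw [commutator_def]; exact inf_commutator_eq_focalIn hS

/-- If a Sylow subgroup is not contained in the derived subgroup, there is a normal subgroup of
index `p`. -/
theorem exists_normal_index_prime {S : Subgroup G} (hS : SylIn p S ⊤)
    (h : ¬ S ≤ commutator G) : ∃ N : Subgroup G, N.Normal ∧ N.index = p := by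
  obtain ⟨x, hxS, hx⟩ := SetLike.not_le_iff_exists.1 h
  set A := Abelianization G
  set f : G →* A := Abelianization.of
  have hfx : f x ≠ 1 := fun h1 => hx (by
    rw [← Abelianization.ker_of]; exact h1)
  obtain ⟨k, hk⟩ := IsPGroup.iff_orderOf.1 hS.isPGroup ⟨x, hxS⟩
  have hp : p ∣ orderOf (f x) := by
    obtain ⟨j, -, hj⟩ := (Nat.dvd_prime_pow Fact.out).1
      (show orderOf (f x) ∣ p ^ k by rw [← hk, Subgroup.orderOf_mk]; exact orderOf_map_dvd f x)
    rcases j with _ | j
    · exact absurd (orderOf_eq_one_iff.1 (by simpa using hj)) hfx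
    · exact hj ▸ dvd_pow_self p (Nat.succ_ne_zero j)
  set π : A →* A := powMonoidHom p
  have hne : π.range ≠ ⊤ := by
    intro htop
    have hinj : Function.Injective π :=
      Finite.injective_iff_surjective.2 (MonoidHom.range_eq_top.1 htop)
    have h1 : π (f x ^ (orderOf (f x) / p)) = 1 := by
      show (f x ^ _) ^ p = 1
      rw [← pow_mul, Nat.div_mul_cancel hp, pow_orderOf_eq_one]
    have h2 := hinj (h1.trans π.map_one.symm)
    have h3 : orderOf (f x) ≤ orderOf (f x) / p := Nat.le_of_dvd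
      (Nat.div_pos (Nat.le_of_dvd (orderOf_pos _) hp) (Fact.out : p.Prime).pos)
      (orderOf_dvd_of_pow_eq_one h2)
    exact absurd h3 (Nat.not_le.2 (Nat.div_lt_self (orderOf_pos _) (Fact.out : p.Prime).one_lt))
  have hB : IsPGroup p (A ⧸ π.range) := by
    intro b
    obtain ⟨a, rfl⟩ := QuotientGroup.mk_surjective b
    exact ⟨1, by rw [pow_one, ← QuotientGroup.mk_pow, QuotientGroup.eq_one_iff]; exact ⟨a, rfl⟩⟩
  obtain ⟨n, hn⟩ := IsPGroup.iff_card.1 hB
  have hn0 : n ≠ 0 := by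
    rintro rfl
    rw [pow_zero, ← Subgroup.index_eq_card, Subgroup.index_eq_one] at hn
    exact hne hn
  obtain ⟨C, hC⟩ := Sylow.exists_subgroup_card_pow_prime (G := A ⧸ π.range) p (n := n - 1)
    (hn ▸ pow_dvd_pow p (Nat.sub_le n 1))
  have hCi : C.index = p := by
    have := C.card_mul_index
    obtain ⟨m, rfl⟩ : ∃ m, n = m + 1 := ⟨n - 1, by omega⟩
    rw [hC, hn, pow_succ] at this
    exact Nat.eq_of_mul_eq_mul_left (pow_pos (Fact.out : p.Prime).pos _) this
  refine ⟨C.comap ((QuotientGroup.mk' π.range).comp f), inferInstance, ?_⟩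
  have hs : Function.Surjective ((QuotientGroup.mk' π.range).comp f) :=
    (QuotientGroup.mk'_surjective _).comp (QuotientGroup.mk'_surjective (commutator G))
  exact (Subgroup.index_comap_of_surjective C hs).trans hCi

end Cfsg.Agent.Fusion
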