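import Mathlib
import Cfsg.Prelude.Def_Transfer
import Cfsg.Agent.Lib.Fusion.Basic
import Cfsg.Agent.Lib.Fusion.Focal

/-!
# Fusion in central weakly closed subgroups
-/

set_option autoImplicit false

namespace Cfsg.Agent.Fusion

variable {G : Type*} [Group G] [Finite G] {p : ℕ} [Fact p.Prime]

omit [Finite G] [Fact p.Prime] in
theorem weaklyClosed_fixed_of_cj_le {Z S : Subgroup G} (hW : Cfsg.IsWeaklyClosed Z S) {g : G}
    (h : cj Z g ≤ S) : g ∈ Subgroup.normalizer (Z : Set G) :=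
  mem_normalizer_iff_cj.2 (hW.2 g h)

/-- A central weakly closed subgroup of a Sylow subgroup controls fusion. -/
theorem fusion_of_central_weaklyClosed {S Z : Subgroup G} (hS : SylIn p S ⊤)
    (hZ : Z ≤ Subgroup.centralizer (S : Set G)) (hW : Cfsg.IsWeaklyClosed Z S) {x g : G}
    (hx : x ∈ S) (hxg : g * x * g⁻¹ ∈ S) :
    ∃ n ∈ Subgroup.normalizer (Z : Set G), n * x * n⁻¹ = g * x * g⁻¹ := by
  set y := g * x * g⁻¹ with hy
  set C := Subgroup.centralizer ({y} : Set G)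
  have hZp : IsPGroup p Z := hS.isPGroup.to_le hW.1
  have hmemC : ∀ z : G, z * y = y * z → z ∈ C := fun z hz => by
    rw [Subgroup.mem_centralizer_iff]
    intro a ha
    rw [Set.mem_singleton_iff.1 ha]
    exact hz.symm
  have hZC : Z ≤ C := fun z hz => hmemC z (Subgroup.mem_centralizer_iff.1 (hZ hz) y hxg).symm
  have hgC : cj Z g ≤ C := by
    intro w hw
    refine hmemC w ?_
    have := Subgroup.mem_centralizer_iff.1 (hZ (mem_cj.1 hw)) x hx
    calc w * y = g * ((g⁻¹ * w * g) * x) * g⁻¹ := by rw [hy]; group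
      _ = g * (x * (g⁻¹ * w * g)) * g⁻¹ := by rw [this]
      _ = y * w := by rw [hy]; group
  obtain ⟨T, hT, hZT⟩ := exists_sylIn_ge hZp hZC
  obtain ⟨c, hc, hcT⟩ := hT.conj_le (isPGroup_cj hZp g) hgC
  obtain ⟨h, -, hh⟩ := hS.conj_le hT.isPGroup le_top
  have h1 : h ∈ Subgroup.normalizer (Z : Set G) :=
    weaklyClosed_fixed_of_cj_le hW ((cj_mono hZT h).trans hh)
  have h2 : h * (c * g) ∈ Subgroup.normalizer (Z : Set G) := by
    refine weaklyClosed_fixed_of_cj_le hW ?_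
    rw [← cj_cj, ← cj_cj]
    exact (cj_mono hcT h).trans hh
  refine ⟨c * g, (Subgroup.mul_mem_cancel_left _ h1).1 h2, ?_⟩
  have hcy : y * c = c * y := Subgroup.mem_centralizer_iff.1 hc y rfl
  calc c * g * x * (c * g)⁻¹ = c * (g * x * g⁻¹) * c⁻¹ := by group
    _ = c * y * c⁻¹ := rfl
    _ = y := by rw [← hcy, mul_inv_cancel_right]

omit [Fact p.Prime] in
theorem isWeaklyClosed_self (S : Subgroup G) : Cfsg.IsWeaklyClosed S S :=
  ⟨le_rfl, fun _ h => cj_eq_of_cj_le h⟩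

/-- Burnside's fusion lemma for abelian Sylow subgroups. -/
theorem fusion_of_abelian {S : Subgroup G} (hS : SylIn p S ⊤)
    (hab : S ≤ Subgroup.centralizer (S : Set G)) {x g : G} (hx : x ∈ S) (hxg : g * x * g⁻¹ ∈ S) :
    ∃ n ∈ Subgroup.normalizer (S : Set G), n * x * n⁻¹ = g * x * g⁻¹ :=
  fusion_of_central_weaklyClosed hS hab (isWeaklyClosed_self S) hx hxg

omit [Finite G] [Fact p.Prime] in
theorem focalIn_eq_of_fusion {S H K : Subgroup G} (hHK : H ≤ K)
    (h : ∀ x ∈ S, ∀ g ∈ K, g * x * g⁻¹ ∈ S → ∃ n ∈ H, n * x * n⁻¹ = g * x * g⁻¹) :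
    focalIn S K = focalIn S H := by
  refine le_antisymm ((Subgroup.closure_le _).2 ?_) (focalIn_mono hHK)
  rintro _ ⟨x, hx, g, hg, hxg, rfl⟩
  obtain ⟨n, hn, he⟩ := h x hx g hg hxg
  rw [← he]
  exact mem_focalIn hx hn (he ▸ hxg)

end Cfsg.Agent.Fusion
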