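import Mathlib
import Cfsg.Agent.Lib.Fusion.Basic

/-!
# Alperin's fusion theorem and its variants

Conjugation in this file is on the right: `A ^ x = x⁻¹ A x`.
-/

set_option autoImplicit false

namespace Cfsg.Agent.Fusion

variable {G : Type*} [Group G]

/-- Right conjugation of a set. -/
abbrev rcj (x : G) (A : Set G) : Set G := (fun a => x⁻¹ * a * x) '' A

theorem rcj_rcj (x y : G) (A : Set G) : rcj y (rcj x A) = rcj (x * y) A := by
  simp only [rcj, Set.image_image]
  exact congrArg (· '' A) (funext fun a => by simp [mul_assoc])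

theorem rcj_one (A : Set G) : rcj 1 A = A := by simp [rcj]

theorem rcj_coe (H : Subgroup G) (x : G) : rcj x (H : Set G) = (cj H x⁻¹ : Subgroup G) := by
  ext y
  constructor
  · rintro ⟨a, ha, rfl⟩
    simpa [mul_assoc] using conj_mem_cj (g := x⁻¹) ha
  · intro hy
    exact ⟨x * y * x⁻¹, by simpa using mem_cj.1 hy, by simp [mul_assoc]⟩

theorem rcj_subset_iff {H : Subgroup G} {A : Set G} {x : G} :
    rcj x A ⊆ H ↔ cj (Subgroup.closure A) x⁻¹ ≤ H := by
  rw [cj_le_iff, inv_inv, Subgroup.closure_le, Set.image_subset_iff]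
  refine forall₂_congr fun a _ => ?_
  rw [Set.mem_preimage, SetLike.mem_coe, SetLike.mem_coe, mem_cj]

/-- `Chain R A g`: `g` is a product of allowed steps along which the conjugates of `A` stay in
the subgroup of the next step. -/
inductive Chain (R : Subgroup G → G → Prop) : Set G → G → Prop
  | nil (A : Set G) : Chain R A 1
  | cons {A : Set G} {g : G} (T : Subgroup G) (x : G) :
      R T x → A ⊆ T → Chain R (rcj x A) g → Chain R A (x * g)

variable {R : Subgroup G → G → Prop}

theorem Chain.mono {A B : Set G} {g : G} (h : Chain R B g) (hAB : A ⊆ B) : Chain R A g := by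
  induction h generalizing A with
  | nil _ => exact .nil _
  | cons T x hx hT _ ih => exact .cons T x hx (hAB.trans hT) (ih (Set.image_mono hAB))

theorem Chain.single {A : Set G} {T : Subgroup G} {x : G} (hx : R T x) (hA : A ⊆ T) :
    Chain R A x := by
  simpa using Chain.cons T x hx hA (.nil _)

theorem Chain.append {A : Set G} {g h : G} (hg : Chain R A g) (hh : Chain R (rcj g A) h) :
    Chain R A (g * h) := by
  induction hg generalizing h with
  | nil B => simpa [rcj_one] using hh
  | @cons B g T x hx hT _ ih =>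
    rw [mul_assoc]
    exact .cons T x hx hT (ih (by rwa [rcj_rcj]))

theorem Chain.inv (hR : ∀ T x, R T x → x ∈ Subgroup.normalizer (T : Set G) ∧ R T x⁻¹)
    {A : Set G} {g : G} (hg : Chain R A g) : Chain R (rcj g A) g⁻¹ := by
  induction hg with
  | nil B => rw [inv_one]; exact .nil _
  | @cons B g T x hx hT _ ih =>
    rw [rcj_rcj] at ih
    rw [mul_inv_rev]
    refine ih.append ?_
    rw [rcj_rcj, mul_assoc, mul_inv_cancel, mul_one]
    refine Chain.single (hR T x hx).2 ?_
    rintro _ ⟨a, ha, rfl⟩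
    have := ((Subgroup.mem_normalizer_iff.1 (inv_mem (hR T x hx).1)) a).1 (hT ha)
    simpa [SetLike.mem_coe] using this

theorem Chain.to_fin {A : Set G} {g : G} (hg : Chain R A g) :
    ∃ (n : ℕ) (T : Fin n → Subgroup G) (x : Fin n → G), (List.ofFn x).prod = g ∧
      (∀ i, R (T i) (x i)) ∧ (∀ h : 0 < n, A ⊆ T ⟨0, h⟩) ∧
      ∀ (i : Fin n) (h : i.val + 1 < n),
        rcj ((List.ofFn x).take (i.val + 1)).prod A ⊆ T ⟨i.val + 1, h⟩ := by
  induction hg with
  | nil B => exact ⟨0, Fin.elim0, Fin.elim0, by simp, fun i => i.elim0,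
      fun h => absurd h (by omega), fun i => i.elim0⟩
  | @cons B g T x hx hT _ ih =>
    obtain ⟨n, U, y, hp, hR, h0, hs⟩ := ih
    refine ⟨n + 1, Fin.cons T U, Fin.cons x y, by simp [List.ofFn_succ, hp], ?_, fun _ => hT, ?_⟩
    · intro i; refine Fin.cases ?_ ?_ i
      · simpa using hx
      · intro j; simpa using hR j
    · intro i h
      have he : (⟨i.val + 1, h⟩ : Fin (n + 1)) = Fin.succ ⟨i.val, by omega⟩ := rfl
      rw [he, Fin.cons_succ]
      have h1 : ((List.ofFn (Fin.cons x y : Fin (n + 1) → G)).take (i.val + 1)).prod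
          = x * ((List.ofFn y).take i.val).prod := by simp [List.ofFn_succ]
      rw [h1, ← rcj_rcj]
      rcases Nat.eq_zero_or_pos i.val with h2 | h2
      · simp only [h2, List.take_zero, List.prod_nil, rcj_one]
        exact h0 _
      · obtain ⟨k, hk⟩ : ∃ k, i.val = k + 1 := ⟨i.val - 1, by omega⟩
        simp only [hk]
        exact hs ⟨k, by omega⟩ (by simpa [hk] using h)

section
variable [Finite G] {p : ℕ} [Fact p.Prime] {S : Subgroup G}

/-- Every subgroup of `S` has a conjugate `U` in `S` with `N_S(U)` Sylow in `N(U)`. -/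
theorem exists_extremal_conj (hS : SylIn p S ⊤) {T : Subgroup G} (hT : T ≤ S) :
    ∃ g : G, cj T g ≤ S ∧ SylIn p (S ⊓ Subgroup.normalizer (cj T g : Set G))
      (Subgroup.normalizer (cj T g : Set G)) := by
  obtain ⟨Q, hQ, hTQ⟩ := exists_sylIn_ge (H := Subgroup.normalizer (T : Set G))
    (hS.isPGroup.to_le hT) Subgroup.le_normalizer
  obtain ⟨g, -, hg⟩ := hS.conj_le hQ.isPGroup le_top
  refine ⟨g, (cj_mono hTQ g).trans hg, ?_⟩
  have h1 := hQ.cj g
  rw [cj_normalizer] at h1
  have h2 : S ⊓ Subgroup.normalizer (cj T g : Set G) = cj Q g :=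
    h1.eq_of_le hS.isPGroup.to_inf_left (le_inf hg h1.le) inf_le_right
  rwa [h2]

/-- Alperin's induction. -/
theorem chain_of_local (hS : SylIn p S ⊤)
    (hR : ∀ T x, R T x → x ∈ Subgroup.normalizer (T : Set G) ∧ R T x⁻¹)
    (hloc : ∀ X : Subgroup G, X ≤ S → ∃ (U : Subgroup G) (c : G), U = cj X c ∧ U ≤ S ∧
      SylIn p (S ⊓ Subgroup.normalizer (U : Set G)) (Subgroup.normalizer (U : Set G)) ∧
      ∀ n ∈ Subgroup.normalizer (U : Set G),
        (∀ (W : Subgroup G) (h : G), Nat.card X < Nat.card W → W ≤ S → cj W h⁻¹ ≤ S →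
          Chain R (W : Set G) h) →
        Chain R (U : Set G) n)
    {A : Set G} {g : G} (hA : A ⊆ S) (hAg : rcj g A ⊆ S) : Chain R A g := by
  suffices H : ∀ (k : ℕ) (X : Subgroup G) (g : G), Nat.card S - Nat.card X = k → X ≤ S →
      cj X g⁻¹ ≤ S → Chain R (X : Set G) g from
    (H _ _ g rfl ((Subgroup.closure_le S).2 hA) (rcj_subset_iff.1 hAg)).mono
      Subgroup.subset_closure
  intro k
  induction k using Nat.strong_induction_on with
  | _ k IH =>
    intro X g hk hX hXg
    have bigger : ∀ (W : Subgroup G) (h : G), Nat.card X < Nat.card W → W ≤ S → cj W h⁻¹ ≤ S →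
        Chain R (W : Set G) h := fun W h hlt hW hWh =>
      IH _ (by have := Subgroup.card_le_of_le hW; omega) W h rfl hW hWh
    obtain ⟨U, c, hU, hUS, hUsyl, hUn⟩ := hloc X hX
    have key : ∀ Y : Subgroup G, Nat.card Y = Nat.card X → Y ≤ S → Y ≠ S → ∀ e : G, cj Y e = U →
        ∃ a : G, Chain R (Y : Set G) a ∧ cj Y a⁻¹ = U := by
      intro Y hY hYS hne e he
      have h1 : cj (S ⊓ Subgroup.normalizer (Y : Set G)) e ≤ Subgroup.normalizer (U : Set G) := by
        rw [← he, ← cj_normalizer]; exact cj_mono inf_le_right e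
      obtain ⟨m, hm, hm'⟩ := hUsyl.conj_le (isPGroup_cj hS.isPGroup.to_inf_left e) h1
      rw [cj_cj] at hm'
      refine ⟨(m * e)⁻¹, ?_, ?_⟩
      · refine (bigger (S ⊓ Subgroup.normalizer (Y : Set G)) _ ?_ inf_le_left ?_).mono
          (le_inf hYS Subgroup.le_normalizer)
        · rw [← hY]
          by_contra hcon
          exact (SylIn.normalizer_growth (p := p) hYS hne hS.isPGroup).ne
            (Subgroup.eq_of_le_of_card_ge (le_inf hYS Subgroup.le_normalizer) (by omega))
        · rw [inv_inv]; exact hm'.trans inf_le_left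
      · rw [inv_inv, ← cj_cj, he, cj_eq_self hm]
    by_cases hXS : X = S
    · have hUeq : U = S := Subgroup.eq_of_le_of_card_ge hUS (by rw [hU, card_cj, hXS])
      have hg : g ∈ Subgroup.normalizer (S : Set G) := by
        rw [← inv_inv g]; exact inv_mem (mem_normalizer_of_cj_le (hXS ▸ hXg))
      rw [hUeq] at hUn
      rw [hXS]
      exact hUn g hg bigger
    · have hYne : cj X g⁻¹ ≠ S := fun h => hXS
        (Subgroup.eq_of_le_of_card_ge hX (by rw [← h, card_cj]))
      obtain ⟨a, ha, haU⟩ := key X rfl hX hXS c hU.symm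
      obtain ⟨b, hb, hbU⟩ := key (cj X g⁻¹) (card_cj _ _) hXg hYne (c * g)
        (by rw [cj_cj]; simp [hU])
      rw [cj_cj] at hbU
      have hn : a⁻¹ * g * b ∈ Subgroup.normalizer (U : Set G) := by
        rw [← inv_inv (a⁻¹ * g * b)]
        refine inv_mem (mem_normalizer_iff_cj.2 ?_)
        rw [show cj U (a⁻¹ * g * b)⁻¹ = cj (cj X a⁻¹) (a⁻¹ * g * b)⁻¹ by rw [haU], cj_cj]
        rw [show (a⁻¹ * g * b)⁻¹ * a⁻¹ = b⁻¹ * g⁻¹ by simp [mul_assoc]]
        exact hbU
      have h2 := (ha.append (h := a⁻¹ * g * b) (by rw [rcj_coe, haU]; exact hUn _ hn bigger))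
      have h3 := hb.inv hR
      have h4 : rcj (a * (a⁻¹ * g * b)) (X : Set G) = rcj b ((cj X g⁻¹ : Subgroup G) : Set G) := by
        rw [← rcj_coe, rcj_rcj]; simp [mul_assoc]
      rw [← h4] at h3
      have h5 := h2.append h3
      simpa [mul_assoc] using h5

/-- Alperin's theorem for a family containing an extremal conjugate of every subgroup. -/
theorem chain_of_extremal_family (hS : SylIn p S ⊤) (F : Set (Subgroup G))
    (hF : ∀ T : Subgroup G, T ≤ S → ∃ U ∈ F, U ≤ S ∧ (∃ g, cj T g = U) ∧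
      SylIn p (S ⊓ Subgroup.normalizer (U : Set G)) (Subgroup.normalizer (U : Set G)))
    {A : Set G} {g : G} (hA : A ⊆ S) (hAg : rcj g A ⊆ S) :
    Chain (fun T x => T ∈ F ∧ x ∈ Subgroup.normalizer (T : Set G)) A g := by
  refine chain_of_local hS (fun T x h => ⟨h.2, h.1, inv_mem h.2⟩) (fun X hX => ?_) hA hAg
  obtain ⟨U, hU, hUS, ⟨c, hc⟩, hsyl⟩ := hF X hX
  exact ⟨U, c, hc.symm, hUS, hsyl, fun n hn _ => Chain.single ⟨hU, hn⟩ subset_rfl⟩

/-- A step in Alperin's theorem: a tame Sylow intersection and an element of its normalizer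
which is a `p`-element unless the intersection is the whole Sylow subgroup. -/
def TameStep (p : ℕ) (P : Subgroup G) (T : Subgroup G) (x : G) : Prop :=
  ∃ Q : Subgroup G, SylIn p Q ⊤ ∧ T = P ⊓ Q ∧ x ∈ Subgroup.normalizer (T : Set G) ∧
    SylIn p (P ⊓ Subgroup.normalizer (T : Set G)) (Subgroup.normalizer (T : Set G)) ∧
    SylIn p (Q ⊓ Subgroup.normalizer (T : Set G)) (Subgroup.normalizer (T : Set G)) ∧
    (Q = P ∨ ∃ k : ℕ, orderOf x = p ^ k)

theorem tameStep_inv {P T : Subgroup G} {x : G} (h : TameStep p P T x) :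
    x ∈ Subgroup.normalizer (T : Set G) ∧ TameStep p P T x⁻¹ := by
  obtain ⟨Q, hQ, hT, hx, h1, h2, h3⟩ := h
  exact ⟨hx, Q, hQ, hT, inv_mem hx, h1, h2, h3.imp id (fun ⟨k, hk⟩ => ⟨k, by rw [orderOf_inv]; exact hk⟩)⟩

/-- Alperin's fusion theorem. -/
theorem alperin (hS : SylIn p S ⊤) {A : Set G} {g : G} (hA : A ⊆ S) (hAg : rcj g A ⊆ S) :
    Chain (TameStep p S) A g := by
  refine chain_of_local hS (fun T x h => tameStep_inv h) (fun X hX => ?_) hA hAg
  obtain ⟨c, hcS, hsyl⟩ := exists_extremal_conj hS hX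
  refine ⟨cj X c, c, rfl, hcS, hsyl, ?_⟩
  intro n hn bigger
  set U := cj X c
  set R := S ⊓ Subgroup.normalizer (U : Set G)
  have hcard : Nat.card U = Nat.card X := card_cj X c
  by_cases hUS : U = S
  · have hn' : n ∈ Subgroup.normalizer (S : Set G) := hUS ▸ hn
    have h1 : S ⊓ Subgroup.normalizer (S : Set G) = S := inf_eq_left.2 Subgroup.le_normalizer
    refine Chain.single (T := U) ⟨S, hS, by rw [inf_idem, hUS], hn, ?_, ?_, .inl rfl⟩ subset_rfl
    all_goals (rw [hUS, h1]; exact hS.mono Subgroup.le_normalizer le_top)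
  have hUR : U < R := SylIn.normalizer_growth (p := p) hcS hUS hS.isPGroup
  have hlarge : ∀ W : Subgroup G, U < W → Nat.card X < Nat.card W := by
    intro W hW
    rw [← hcard]
    by_contra hcon
    exact hW.ne (Subgroup.eq_of_le_of_card_ge hW.le (by omega))
  by_cases htame : ∃ m ∈ Subgroup.normalizer (U : Set G), R ⊓ cj R m = U
  · obtain ⟨m, hm, hmU⟩ := htame
    have hR' : SylIn p (cj R m) (Subgroup.normalizer (U : Set G)) :=
      hsyl.cj' (Subgroup.le_normalizer hm)
    obtain ⟨Q, hQ, hQR⟩ := exists_sylIn_ge hR'.isPGroup (le_top (a := cj R m))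
    have hQN : Q ⊓ Subgroup.normalizer (U : Set G) = cj R m :=
      hR'.eq_of_le hQ.isPGroup.to_inf_left (le_inf hQR hR'.le) inf_le_right
    have hUQ : U ≤ Q := (hmU ▸ inf_le_right).trans hQR
    have hT : U = S ⊓ Q := by
      by_contra hne
      have := SylIn.normalizer_growth (p := p) (le_inf hcS hUQ) hne hS.isPGroup.to_inf_left
      refine this.ne ?_
      rw [inf_inf_distrib_right, hQN]
      exact hmU.symm
    set K := Subgroup.closure {x : G | x ∈ Subgroup.normalizer (U : Set G) ∧
      ∃ k : ℕ, orderOf x = p ^ k}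
    have hKN : K ≤ Subgroup.normalizer (U : Set G) := (Subgroup.closure_le _).2 fun x hx => hx.1
    have hKnorm : Subgroup.normalizer (U : Set G) ≤ Subgroup.normalizer (K : Set G) := by
      intro h hh
      refine mem_normalizer_of_cj_le ?_
      rw [cj, MonoidHom.map_closure, Subgroup.closure_le]
      rintro _ ⟨x, ⟨hx, k, hk⟩, rfl⟩
      refine Subgroup.subset_closure ⟨?_, k, ?_⟩
      · exact mul_mem (mul_mem hh hx) (inv_mem hh)
      · rw [← hk]; exact MulEquiv.orderOf_eq (MulAut.conj h) x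
    have hRK : R ≤ K := by
      intro x hx
      obtain ⟨k, hk⟩ := IsPGroup.iff_orderOf.1 hsyl.isPGroup ⟨x, hx⟩
      exact Subgroup.subset_closure ⟨hx.2, k, by rw [← hk, Subgroup.orderOf_mk]⟩
    have hK : ∀ x ∈ K, Chain (TameStep p S) (U : Set G) x := by
      intro x hx
      induction hx using Subgroup.closure_induction with
      | mem y hy => exact Chain.single (T := U) ⟨Q, hQ, hT, hy.1, hsyl, hQN.symm ▸ hR', .inr hy.2⟩ subset_rfl
      | one => exact .nil _
      | mul y z hy _ ihy ihz =>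
        refine ihy.append ?_
        rw [rcj_coe, cj_eq_self (inv_mem (hKN hy))]
        exact ihz
      | inv y hy ih =>
        have := ih.inv (fun T x h => tameStep_inv h)
        rwa [rcj_coe, cj_eq_self (inv_mem (hKN hy))] at this
    obtain ⟨k, hk, hkn⟩ := frattini_conj (hsyl.mono hRK hKN) hKnorm hn
    have h1 : Chain (TameStep p S) (U : Set G) (k * n) := by
      refine (bigger R _ (hlarge R hUR) inf_le_left ?_).mono hUR.le
      exact (cj_eq_self (inv_mem hkn)).le.trans inf_le_left
    have h2 := (hK k⁻¹ (inv_mem hk)).append (h := k * n)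
      (by rw [rcj_coe, inv_inv, cj_eq_self (hKN hk)]; exact h1)
    simpa using h2
  · push Not at htame
    have h1 : U < R ⊓ cj R n := lt_of_le_of_ne
      (le_inf hUR.le ((cj_eq_self hn).ge.trans (cj_mono hUR.le n))) (htame n hn).symm
    refine (bigger _ n (hlarge _ h1) (inf_le_left.trans inf_le_left) ?_).mono h1.le
    rw [cj_inf]
    exact inf_le_right.trans ((cj_cj_inv R n).le.trans inf_le_left)

end

end Cfsg.Agent.Fusion
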