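import Mathlib
import Cfsg.Prelude.Def_ConjugacyFunctors
import Cfsg.Agent.Lib.Fusion.Alperin

/-!
# Well-placed subgroups with respect to a conjugacy functor
-/

set_option autoImplicit false

namespace Cfsg.Agent.Fusion

variable {G : Type*} [Group G] {p : ℕ} {W : Subgroup G → Subgroup G} {S : Subgroup G}

theorem functorTower_shift (T : Subgroup G) (i : ℕ) :
    functorTower W S T (i + 1)
      = functorTower W S (W (S ⊓ Subgroup.normalizer (T : Set G))) i := by
  induction i with
  | zero => rfl
  | succ i ih =>
    show W (S ⊓ Subgroup.normalizer (functorTower W S T (i + 1) : Set G)) = _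
    rw [ih]; rfl

theorem conjFunctor_le (hW : IsConjugacyFunctor p W) {P : Subgroup G} (hP : IsPGroup p P) :
    W P ≤ P := (hW P hP).1

theorem conjFunctor_cj (hW : IsConjugacyFunctor p W) {P : Subgroup G} (hP : IsPGroup p P) (g : G) :
    W (cj P g) = cj (W P) g := (hW P hP).2.2 g

theorem conjFunctor_normalizer_le (hW : IsConjugacyFunctor p W) {P : Subgroup G}
    (hP : IsPGroup p P) :
    Subgroup.normalizer (P : Set G) ≤ Subgroup.normalizer (W P : Set G) := by
  intro g hg
  rw [mem_normalizer_iff_cj, ← conjFunctor_cj hW hP g, cj_eq_self hg]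

variable [Finite G] [Fact p.Prime]

/-- A subgroup whose normalizer in `S` is all of `S`: its tower is constant from step one. -/
theorem functorTower_of_normalized (hS : SylIn p S ⊤) (hW : IsConjugacyFunctor p W)
    {T : Subgroup G} (hT : S ≤ Subgroup.normalizer (T : Set G)) (i : ℕ) :
    functorTower W S T (i + 1) = W S := by
  induction i with
  | zero =>
    show W (S ⊓ _) = _
    rw [show functorTower W S T 0 = T from rfl, inf_eq_left.2 hT]
  | succ i ih =>
    show W (S ⊓ _) = _
    rw [ih, inf_eq_left.2 (Subgroup.le_normalizer.trans (conjFunctor_normalizer_le hW hS.isPGroup))]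

/-- Every subgroup of `S` has a well-placed conjugate. -/
theorem exists_wellPlaced_conj (hS : SylIn p S ⊤) (hW : IsConjugacyFunctor p W) {T : Subgroup G}
    (hT : T ≤ S) : ∃ g : G, IsWellPlaced p W S (cj T g) := by
  suffices H : ∀ (k : ℕ) (T : Subgroup G),
      Nat.card S - Nat.card (S ⊓ Subgroup.normalizer (T : Set G) : Subgroup G) = k → T ≤ S →
      ∃ g : G, IsWellPlaced p W S (cj T g) from H _ T rfl hT
  intro k
  induction k using Nat.strong_induction_on with
  | _ k IH =>
    intro T hk hT
    obtain ⟨c, hcS, hsyl⟩ := exists_extremal_conj hS hT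
    set U := cj T c
    set R := S ⊓ Subgroup.normalizer (U : Set G)
    have hRp : IsPGroup p R := hS.isPGroup.to_inf_left
    have hge : Nat.card (S ⊓ Subgroup.normalizer (T : Set G) : Subgroup G) ≤ Nat.card R := by
      rw [← card_cj _ c]
      refine hsyl.card_le (isPGroup_cj hS.isPGroup.to_inf_left c) ?_
      rw [← cj_normalizer]
      exact cj_mono inf_le_right c
    by_cases hR : R = S
    · refine ⟨c, hcS, fun i => ?_⟩
      rcases i with _ | i
      · exact hsyl.not_dvd
      · rw [functorTower_of_normalized hS hW (hR.ge.trans inf_le_right)]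
        have h1 : S ≤ Subgroup.normalizer (W S : Set G) :=
          Subgroup.le_normalizer.trans (conjFunctor_normalizer_le hW hS.isPGroup)
        rw [inf_eq_left.2 h1]
        exact (hS.mono h1 le_top).not_dvd
    · have hU1S : W R ≤ S := (conjFunctor_le hW hRp).trans inf_le_left
      have hlt : R < S ⊓ Subgroup.normalizer (W R : Set G) :=
        (SylIn.normalizer_growth (p := p) inf_le_left hR hS.isPGroup).trans_le
          (inf_le_inf_left _ (conjFunctor_normalizer_le hW hRp))
      have hcard : Nat.card R < Nat.card (S ⊓ Subgroup.normalizer (W R : Set G) : Subgroup G) := by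
        by_contra hcon
        exact hlt.ne (Subgroup.eq_of_le_of_card_ge hlt.le (by omega))
      have hle : Nat.card (S ⊓ Subgroup.normalizer (W R : Set G) : Subgroup G) ≤ Nat.card S :=
        Subgroup.card_le_of_le inf_le_left
      obtain ⟨g, hg, hwp⟩ := IH _ (by omega) (W R) rfl hU1S
      have hsylV : SylIn p (S ⊓ Subgroup.normalizer (cj (W R) g : Set G))
          (Subgroup.normalizer (cj (W R) g : Set G)) :=
        ⟨inf_le_right, hS.isPGroup.to_inf_left, hwp 0⟩
      have hRg : cj R g ≤ Subgroup.normalizer (cj (W R) g : Set G) := by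
        rw [← cj_normalizer]
        exact cj_mono (Subgroup.le_normalizer.trans (conjFunctor_normalizer_le hW hRp)) g
      obtain ⟨m, hm, hmS⟩ := hsylV.conj_le (isPGroup_cj hRp g) hRg
      rw [cj_cj] at hmS
      refine ⟨m * g * c, ?_⟩
      rw [← cj_cj]
      have hN : cj R (m * g) = S ⊓ Subgroup.normalizer (cj U (m * g) : Set G) := by
        have h1 := hsyl.cj (m * g)
        rw [cj_normalizer] at h1
        exact (h1.eq_of_le hS.isPGroup.to_inf_left
          (le_inf (hmS.trans inf_le_left) h1.le) inf_le_right).symm
      refine ⟨(cj_mono (le_inf hcS Subgroup.le_normalizer) (m * g)).trans (hmS.trans inf_le_left),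
        fun i => ?_⟩
      rcases i with _ | i
      · show ¬ p ∣ (S ⊓ Subgroup.normalizer (cj U (m * g) : Set G)).relIndex _
        rw [← hN]
        have h1 := hsyl.cj (m * g)
        rw [cj_normalizer] at h1
        exact h1.not_dvd
      · rw [functorTower_shift, ← hN, conjFunctor_cj hW hRp, ← cj_cj, cj_eq_self hm]
        exact hwp i

end Cfsg.Agent.Fusion
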