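import Mathlib
import Cfsg.Prelude.Def_ConjugacyFunctors
import Cfsg.Agent.Lib.Fusion.Basic
import Cfsg.Agent.Lib.Fusion.Focal
import Cfsg.Agent.Lib.Fusion.WellPlaced

/-!
# Local-to-global principle for conjugacy functors

Conjugation in this file is on the left: `lcj g A = g A g⁻¹`.
-/

set_option autoImplicit false

namespace Cfsg.Agent.Fusion

variable {G : Type*} [Group G]

/-- Left conjugation of a set. -/
abbrev lcj (g : G) (A : Set G) : Set G := (fun a => g * a * g⁻¹) '' A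

theorem lcj_lcj (g h : G) (A : Set G) : lcj h (lcj g A) = lcj (h * g) A := by
  simp only [lcj, Set.image_image]
  exact congrArg (· '' A) (funext fun a => by group)

theorem lcj_one (A : Set G) : lcj 1 A = A := by simp [lcj]

theorem lcj_inv_lcj (g : G) (A : Set G) : lcj g⁻¹ (lcj g A) = A := by
  rw [lcj_lcj, inv_mul_cancel, lcj_one]

theorem lcj_coe (H : Subgroup G) (g : G) : lcj g (H : Set G) = (cj H g : Subgroup G) := by
  ext y; exact ⟨fun ⟨a, ha, e⟩ => ⟨a, ha, e⟩, fun ⟨a, ha, e⟩ => ⟨a, ha, e⟩⟩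

theorem lcj_subset_coe {H K : Subgroup G} {g : G} :
    lcj g (H : Set G) ⊆ K ↔ cj H g ≤ K := by rw [lcj_coe]; exact Iff.rfl

theorem lcj_subset_iff_closure {H : Subgroup G} {A : Set G} {g : G} :
    lcj g A ⊆ H ↔ cj (Subgroup.closure A) g ≤ H := by
  rw [cj_le_iff, Subgroup.closure_le, Set.image_subset_iff]
  refine forall₂_congr fun a _ => ?_
  rw [Set.mem_preimage, SetLike.mem_coe, SetLike.mem_coe, mem_cj, inv_inv]

theorem lcj_congr {A : Set G} {g h : G} (e : ∀ a ∈ A, h * a * h⁻¹ = g * a * g⁻¹) :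
    lcj h A = lcj g A :=
  Set.image_congr e

/-- A predicate `Φ A g` behaving like "conjugation of `A` by `g` is achieved". -/
structure FusPred (S : Subgroup G) (Φ : Set G → G → Prop) : Prop where
  one : ∀ {A : Set G}, A ⊆ S → Φ A 1
  mono : ∀ {A B : Set G} {g : G}, A ⊆ B → B ⊆ S → Φ B g → Φ A g
  congr : ∀ {A : Set G} {g h : G}, Φ A g → (∀ a ∈ A, h * a * h⁻¹ = g * a * g⁻¹) → Φ A h
  mul : ∀ {A : Set G} {g h : G}, A ⊆ S → lcj g A ⊆ S → Φ A g → Φ (lcj g A) h → Φ A (h * g)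
  inv : ∀ {A : Set G} {g : G}, A ⊆ S → lcj g A ⊆ S → Φ A g → Φ (lcj g A) g⁻¹

theorem FusPred.subset_bot {S : Subgroup G} {Φ : Set G → G → Prop} (h : FusPred S Φ)
    {A : Set G} (hA : A ⊆ (⊥ : Subgroup G)) (g : G) : Φ A g :=
  h.congr (h.one (hA.trans (bot_le (a := S)))) fun a ha => by
    rw [Subgroup.mem_bot.1 (hA ha)]; group

/-! ### Chains -/

/-- Conjugations of `A` composed of steps in `E` keeping the conjugates of `A` inside `S`. -/
inductive FusRel (E : Set G) (S : Subgroup G) (A : Set G) : G → Prop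
  | one : A ⊆ S → FusRel E S A 1
  | step {g : G} (x : G) : FusRel E S A g → x ∈ E → lcj (x * g) A ⊆ S → FusRel E S A (x * g)

theorem FusRel.subset {E : Set G} {S : Subgroup G} {A : Set G} {g : G} (h : FusRel E S A g) :
    lcj g A ⊆ S := by
  cases h with
  | one h => rwa [lcj_one]
  | step _ _ _ h => exact h

theorem FusRel.mono {E E' : Set G} {S : Subgroup G} {A B : Set G} {g : G} (h : FusRel E S B g)
    (hE : E ⊆ E') (hAB : A ⊆ B) : FusRel E' S A g := by
  induction h with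
  | one h => exact .one (hAB.trans h)
  | step x _ hx hs ih => exact .step x ih (hE hx) ((Set.image_mono hAB).trans hs)

theorem FusRel.trans {E : Set G} {S : Subgroup G} {A : Set G} {g h : G} (hg : FusRel E S A g)
    (hh : FusRel E S (lcj g A) h) : FusRel E S A (h * g) := by
  induction hh with
  | one _ => rwa [one_mul]
  | step x _ hx hs ih =>
    rw [mul_assoc]
    refine .step x ih hx ?_
    rw [lcj_lcj, mul_assoc] at hs
    exact hs

theorem FusRel.inv {E : Set G} (hE : ∀ x ∈ E, x⁻¹ ∈ E) {S : Subgroup G} {A : Set G}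
    {g : G} (hA : A ⊆ S) (hg : FusRel E S A g) : FusRel E S (lcj g A) g⁻¹ := by
  induction hg with
  | one _ => rw [inv_one, lcj_one]; exact .one hA
  | @step g x hgr hx hs ih =>
    rw [mul_inv_rev]
    have h1 : FusRel E S (lcj (x * g) A) x⁻¹ := by
      rw [← mul_one x⁻¹]
      refine FusRel.step (g := 1) x⁻¹ (.one hs) (hE x hx) ?_
      rw [lcj_lcj, mul_one, inv_mul_cancel_left]
      exact hgr.subset
    refine h1.trans ?_
    rwa [lcj_lcj, inv_mul_cancel_left]

/-- Conjugation of `A` by `g` agrees with a chain of steps in `E`. -/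
def Fus (E : Set G) (S : Subgroup G) (A : Set G) (g : G) : Prop :=
  ∃ h, FusRel E S A h ∧ ∀ a ∈ A, h * a * h⁻¹ = g * a * g⁻¹

theorem fus_step {E : Set G} {S : Subgroup G} {A : Set G} {x : G} (hA : A ⊆ S) (hx : x ∈ E)
    (hxA : lcj x A ⊆ S) : Fus E S A x :=
  ⟨x, by simpa using FusRel.step (g := 1) x (.one hA) hx (by rwa [mul_one]), fun _ _ => rfl⟩

theorem fusPred_fus {E : Set G} (hE : ∀ x ∈ E, x⁻¹ ∈ E) (S : Subgroup G) :
    FusPred S (Fus E S) where
  one hA := ⟨1, .one hA, fun _ _ => rfl⟩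
  mono hAB _ := fun ⟨h, hr, he⟩ => ⟨h, hr.mono subset_rfl hAB, fun a ha => he a (hAB ha)⟩
  congr := fun ⟨h, hr, he⟩ e => ⟨h, hr, fun a ha => (he a ha).trans (e a ha).symm⟩
  mul := by
    rintro A g k _ _ ⟨h, hr, he⟩ ⟨l, hlr, hle⟩
    refine ⟨l * h, hr.trans (by rwa [lcj_congr he]), fun a ha => ?_⟩
    calc l * h * a * (l * h)⁻¹ = l * (h * a * h⁻¹) * l⁻¹ := by group
      _ = k * (g * a * g⁻¹) * k⁻¹ := by rw [he a ha]; exact hle _ ⟨a, ha, rfl⟩
      _ = _ := by group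
  inv := by
    rintro A g hA _ ⟨h, hr, he⟩
    refine ⟨h⁻¹, lcj_congr he ▸ hr.inv hE hA, ?_⟩
    rintro _ ⟨a, ha, rfl⟩
    calc h⁻¹ * (g * a * g⁻¹) * h⁻¹⁻¹ = h⁻¹ * (h * a * h⁻¹) * h⁻¹⁻¹ := by rw [he a ha]
      _ = g⁻¹ * (g * a * g⁻¹) * g⁻¹⁻¹ := by group

/-- Conjugation changes the elements of `A` only inside `M`. -/
def FocalPred (M : Subgroup G) (A : Set G) (g : G) : Prop :=
  ∀ a ∈ A, a⁻¹ * (g * a * g⁻¹) ∈ M

theorem fusPred_focal (S M : Subgroup G) : FusPred S (FocalPred M) where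
  one _ := fun a _ => by simp
  mono hAB _ h := fun a ha => h a (hAB ha)
  congr h e := fun a ha => by rw [e a ha]; exact h a ha
  mul := by
    intro A g k _ _ h1 h2 a ha
    have := mul_mem (h1 a ha) (h2 _ ⟨a, ha, rfl⟩)
    convert this using 1
    group
  inv := by
    rintro A g _ _ h _ ⟨a, ha, rfl⟩
    have := inv_mem (h a ha)
    convert this using 1
    group

/-! ### The local-to-global principle -/

variable [Finite G] {p : ℕ} [Fact p.Prime] {S : Subgroup G}

theorem FusPred.local_to_global {Φ : Set G → G → Prop} (hΦ : FusPred S Φ) (hS : SylIn p S ⊤)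
    (𝓦 : Set (Subgroup G → Subgroup G)) (h𝓦 : ∀ W ∈ 𝓦, IsConjugacyFunctor p W)
    (hbase : ∀ W ∈ 𝓦, ∀ x ∈ Subgroup.normalizer (W S : Set G), ∀ A : Set G, A ⊆ S → lcj x A ⊆ S →
      Φ A x)
    (𝓛 : Set (Subgroup G))
    (h𝓛 : ∀ T : Subgroup G, T ≤ S → ∃ g : G, cj T g ∈ 𝓛 ∧ cj T g ≤ S ∧
      SylIn p (S ⊓ Subgroup.normalizer (cj T g : Set G)) (Subgroup.normalizer (cj T g : Set G)))
    (hloc : ∀ U ∈ 𝓛, U ≠ ⊥ → U ≤ S →
      ∀ Q : Subgroup G, Q = S ⊓ Subgroup.normalizer (U : Set G) →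
      SylIn p Q (Subgroup.normalizer (U : Set G)) →
      (∀ W ∈ 𝓦, ∀ x ∈ Subgroup.normalizer (U : Set G) ⊓ Subgroup.normalizer (W Q : Set G),
        ∀ B : Set G, B ⊆ Q → lcj x B ⊆ Q → Φ B x) →
      ∀ n ∈ Subgroup.normalizer (U : Set G), ∀ A : Set G, A ⊆ Q → lcj n A ⊆ Q → Φ A n)
    {A : Set G} {g : G} (hA : A ⊆ S) (hAg : lcj g A ⊆ S) : Φ A g := by
  suffices H : ∀ k : ℕ,
      (∀ (X : Subgroup G) (g : G), Nat.card S ≤ Nat.card X + k → X ≤ S → cj X g ≤ S →
        Φ (X : Set G) g) ∧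
      (∀ W ∈ 𝓦, ∀ R : Subgroup G, Nat.card S ≤ Nat.card R + k → R ≤ S →
        ∀ x ∈ Subgroup.normalizer (W R : Set G), ∀ A : Set G, A ⊆ R → lcj x A ⊆ R → Φ A x) by
    have h1 := (H (Nat.card S)).1 (Subgroup.closure A) g (Nat.le_add_left _ _)
      ((Subgroup.closure_le S).2 hA) (lcj_subset_iff_closure.1 hAg)
    exact hΦ.mono Subgroup.subset_closure (Subgroup.closure_le S |>.2 hA) h1
  intro k
  induction k using Nat.strong_induction_on with
  | _ k IH =>
  have bigA : ∀ (Y : Subgroup G) (h : G) (X : Subgroup G), Nat.card S ≤ Nat.card X + k →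
      Nat.card X < Nat.card Y → Y ≤ S → cj Y h ≤ S → Φ (Y : Set G) h := by
    intro Y h X hX hlt hY hYh
    have := Subgroup.card_le_of_le hY
    exact (IH (k - 1) (by omega)).1 Y h (by omega) hY hYh
  have bigB : ∀ (R X : Subgroup G), Nat.card S ≤ Nat.card X + k →
      Nat.card X < Nat.card R → R ≤ S →
      ∀ W ∈ 𝓦, ∀ x ∈ Subgroup.normalizer (W R : Set G), ∀ B : Set G, B ⊆ R → lcj x B ⊆ R → Φ B x := by
    intro R X hX hlt hR W hW x hx B hB hxB
    have := Subgroup.card_le_of_le hR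
    exact (IH (k - 1) (by omega)).2 W hW R (by omega) hR x hx B hB hxB
  have hlt_of_lt : ∀ {X Y : Subgroup G}, X < Y → Nat.card X < Nat.card Y := fun {X Y} h => by
    by_contra hcon
    exact h.ne (Subgroup.eq_of_le_of_card_ge h.le (by omega))
  refine ⟨fun X g hk hX hXg => ?_, fun W hW R hk hR x hx A hA hxA => ?_⟩
  · by_cases hXb : X = ⊥
    · subst hXb
      exact hΦ.subset_bot subset_rfl g
    obtain ⟨c, hUL, hUS, hUsyl⟩ := h𝓛 X hX
    set U := cj X c
    set Q := S ⊓ Subgroup.normalizer (U : Set G) with hQ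
    have hUne : U ≠ ⊥ := fun h => hXb (by
      rw [← cj_cj_inv X c, show cj X c = ⊥ from h, cj_bot])
    have hUQ : U ≤ Q := le_inf hUS Subgroup.le_normalizer
    have hn : ∀ n ∈ Subgroup.normalizer (U : Set G), Φ (U : Set G) n := by
      intro n hn
      refine hloc U hUL hUne hUS Q hQ hUsyl (fun W hW y hy B hB hyB => ?_) n hn U hUQ
        (lcj_subset_coe.2 ((cj_eq_self hn).le.trans hUQ))
      by_cases hQS : Q = S
      · exact hbase W hW y (hQS ▸ hy.2) B (hQS ▸ hB) (hQS ▸ hyB)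
      · refine bigB Q X hk ?_ inf_le_left W hW y hy.2 B hB hyB
        refine lt_of_eq_of_lt (card_cj X c).symm (hlt_of_lt ?_)
        refine SylIn.normalizer_growth (p := p) hUS (fun h => hQS ?_) hS.isPGroup
        rw [hQ, show U = S from h, inf_eq_left.2 Subgroup.le_normalizer]
    by_cases hXS : X = S
    · have hUX : U = X :=
        Subgroup.eq_of_le_of_card_ge (hXS.symm ▸ hUS) (card_cj X c).ge
      exact hUX ▸ hn g (hUX ▸ mem_normalizer_of_cj_le (hXS ▸ hXg))
    have key : ∀ Y : Subgroup G, Nat.card Y = Nat.card X → Y ≤ S → Y ≠ S → ∀ e : G, cj Y e = U →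
        ∃ a : G, Φ (Y : Set G) a ∧ cj Y a = U := by
      intro Y hY hYS hne e he
      have h1 : cj (S ⊓ Subgroup.normalizer (Y : Set G)) e ≤ Subgroup.normalizer (U : Set G) := by
        rw [← he, ← cj_normalizer]; exact cj_mono inf_le_right e
      obtain ⟨m, hm, hm'⟩ := hUsyl.conj_le (isPGroup_cj hS.isPGroup.to_inf_left e) h1
      rw [cj_cj] at hm'
      refine ⟨m * e, hΦ.mono (le_inf hYS Subgroup.le_normalizer) inf_le_left
        (bigA (S ⊓ Subgroup.normalizer (Y : Set G)) (m * e) X hk ?_ inf_le_left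
          (hm'.trans inf_le_left)), ?_⟩
      · rw [← hY]; exact hlt_of_lt (SylIn.normalizer_growth (p := p) hYS hne hS.isPGroup)
      · rw [← cj_cj, he, cj_eq_self hm]
    have hgne : cj X g ≠ S := fun h => hXS
      (Subgroup.eq_of_le_of_card_ge hX (by rw [← h, card_cj]))
    obtain ⟨a, ha, haU⟩ := key X rfl hX hXS c rfl
    obtain ⟨b, hb, hbU⟩ := key (cj X g) (card_cj _ _) hXg hgne (c * g⁻¹)
      (by rw [cj_cj]; simp [U])
    have hnN : b * g * a⁻¹ ∈ Subgroup.normalizer (U : Set G) := by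
      refine mem_normalizer_iff_cj.2 ?_
      rw [← cj_cj, ← cj_cj]
      conv_lhs => rw [← haU, cj_cj_inv]
      exact hbU
    have haS : lcj a (X : Set G) ⊆ S := lcj_subset_coe.2 (haU.le.trans hUS)
    have h1 : Φ (X : Set G) (b * g * a⁻¹ * a) :=
      hΦ.mul hX haS ha (by rw [lcj_coe, haU]; exact hn _ hnN)
    rw [inv_mul_cancel_right] at h1
    have h2 : Φ (lcj (b * g) (X : Set G)) b⁻¹ := by
      rw [← lcj_lcj]
      refine hΦ.inv (lcj_subset_coe.2 hXg) ?_ (by rw [lcj_coe]; exact hb)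
      rw [lcj_lcj, lcj_subset_coe, ← cj_cj, hbU]
      exact hUS
    have h3 := hΦ.mul hX (by rw [lcj_subset_coe, ← cj_cj, hbU]; exact hUS) h1 h2
    rwa [inv_mul_cancel_left] at h3
  · by_cases hRS : R = S
    · exact hbase W hW x (hRS ▸ hx) A (hRS ▸ hA) (hRS ▸ hxA)
    by_cases hRb : R = ⊥
    · exact hΦ.subset_bot (hRb ▸ hA) x
    have hRp := hS.isPGroup.to_le hR
    set V := W R with hV
    have hVR : V ≤ R := conjFunctor_le (h𝓦 W hW) hRp
    obtain ⟨c, hUL, hUS, hUsyl⟩ := h𝓛 V (hVR.trans hR)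
    set U := cj V c
    set Q := S ⊓ Subgroup.normalizer (U : Set G) with hQ
    set N := S ⊓ Subgroup.normalizer (V : Set G)
    have hRN : R < N := lt_of_lt_of_le (SylIn.normalizer_growth (p := p) hR hRS hS.isPGroup)
      (inf_le_inf_left _ (conjFunctor_normalizer_le (h𝓦 W hW) hRp))
    have h1 : cj N c ≤ Subgroup.normalizer (U : Set G) := by
      rw [← cj_normalizer]; exact cj_mono inf_le_right c
    obtain ⟨m, hm, hm'⟩ := hUsyl.conj_le (isPGroup_cj hS.isPGroup.to_inf_left c) h1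
    rw [cj_cj] at hm'
    set e := m * c
    have heU : cj V e = U := by rw [← cj_cj, cj_eq_self hm]
    have heN : Φ (N : Set G) e :=
      bigA N e R hk (hlt_of_lt hRN) inf_le_left (hm'.trans inf_le_left)
    have hmove : ∀ B : Set G, B ⊆ R → lcj e B ⊆ Q := fun B hB =>
      (Set.image_mono (hB.trans hRN.le)).trans (lcj_subset_coe.2 hm')
    have hx' : e * x * e⁻¹ ∈ Subgroup.normalizer (U : Set G) := by
      rw [← heU, ← cj_normalizer]; exact conj_mem_cj hx
    have hUne : U ≠ ⊥ := fun h => (h𝓦 W hW R hRp).2.1 hRb (by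
      rw [← hV, ← cj_cj_inv V c, show cj V c = ⊥ from h, cj_bot])
    have hNQ : Nat.card R < Nat.card Q :=
      (hlt_of_lt hRN).trans_le ((card_cj N e).symm.le.trans (Subgroup.card_le_of_le hm'))
    have hlhs : lcj (e * x * e⁻¹) (lcj e A) = lcj e (lcj x A) := by
      rw [lcj_lcj, lcj_lcj, inv_mul_cancel_right]
    have hmid : Φ (lcj e A) (e * x * e⁻¹) :=
      hloc U hUL hUne hUS Q hQ hUsyl
        (fun W' hW' y hy B hB hyB => bigB Q R hk hNQ inf_le_left W' hW' y hy.2 B hB hyB)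
        _ hx' _ (hmove A hA) (hlhs ▸ hmove _ hxA)
    have hQS : (Q : Set G) ⊆ S := fun _ h => h.1
    have hfirst : Φ A e := hΦ.mono (hA.trans hRN.le) (fun _ h => h.1) heN
    have hlast : Φ (lcj e (lcj x A)) e⁻¹ := hΦ.inv (hxA.trans hR) ((hmove _ hxA).trans hQS)
      (hΦ.mono (hxA.trans hRN.le) (fun _ h => h.1) heN)
    have h4 := hΦ.mul (hA.trans hR) ((hmove A hA).trans hQS) hfirst hmid
    rw [inv_mul_cancel_right] at h4
    have h5 := hΦ.mul (hA.trans hR) (by rw [← lcj_lcj]; exact (hmove _ hxA).trans hQS) h4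
      (by rw [← lcj_lcj]; exact hlast)
    rwa [inv_mul_cancel_left] at h5

end Cfsg.Agent.Fusion
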