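import Mathlib
import Cfsg.Prelude.Def_ConjugacyFunctors
import Cfsg.Agent.Lib.Fusion.ConjFunctor

/-!
# Control of fusion and transfer: normal forms
-/

set_option autoImplicit false

namespace Cfsg.Agent.Fusion

variable {G : Type*} [Group G]

/-- The elements allowed in a chain for the family `𝓦` inside `H` at the Sylow subgroup `T`. -/
def famE (𝓦 : Set (Subgroup G → Subgroup G)) (H T : Subgroup G) : Set G :=
  {x | ∃ W ∈ 𝓦, x ∈ H ⊓ Subgroup.normalizer (W T : Set G)}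

theorem famE_inv {𝓦 : Set (Subgroup G → Subgroup G)} {H T : Subgroup G} :
    ∀ x ∈ famE 𝓦 H T, x⁻¹ ∈ famE 𝓦 H T := fun _ ⟨W, hW, hx⟩ => ⟨W, hW, inv_mem hx⟩

/-- Strong fusion of the subgroup `T` of `H` is controlled by the family. -/
def FamFusAt (𝓦 : Set (Subgroup G → Subgroup G)) (H T : Subgroup G) : Prop :=
  ∀ (A : Set G) (h : G), h ∈ H → A ⊆ T → lcj h A ⊆ T → Fus (famE 𝓦 H T) T A h

/-- Transfer at the subgroup `T` of `H` is controlled by the family. -/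
def FamTransAt (𝓦 : Set (Subgroup G → Subgroup G)) (H T : Subgroup G) : Prop :=
  T ⊓ ⁅H, H⁆ = ⨆ W ∈ 𝓦, T ⊓ ⁅H ⊓ Subgroup.normalizer (W T : Set G),
    H ⊓ Subgroup.normalizer (W T : Set G)⁆

theorem FusRel.to_fin {E : Set G} {S : Subgroup G} {A : Set G} {g : G} (h : FusRel E S A g) :
    ∃ (n : ℕ) (c : Fin (n + 1) → G), c 0 = 1 ∧ (∀ i : Fin n, c i.succ * (c i.castSucc)⁻¹ ∈ E) ∧
      (∀ i, lcj (c i) A ⊆ S) ∧ c (Fin.last n) = g := by
  induction h with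
  | one hA => exact ⟨0, fun _ => 1, rfl, fun i => i.elim0, fun _ => by rwa [lcj_one], rfl⟩
  | @step g x _ hx hs ih =>
    obtain ⟨n, c, h0, hE, hS, hl⟩ := ih
    refine ⟨n + 1, Fin.snoc c (x * g), ?_, ?_, ?_, Fin.snoc_last _ _⟩
    · rw [← Fin.castSucc_zero, Fin.snoc_castSucc, h0]
    · intro i
      refine Fin.lastCases ?_ (fun j => ?_) i
      · rw [Fin.succ_last, Fin.snoc_last, Fin.snoc_castSucc, hl, mul_inv_cancel_right]
        exact hx
      · rw [Fin.succ_castSucc, Fin.snoc_castSucc, Fin.snoc_castSucc]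
        exact hE j
    · intro i
      refine Fin.lastCases ?_ (fun j => ?_) i
      · rw [Fin.snoc_last]; exact hs
      · rw [Fin.snoc_castSucc]; exact hS j

theorem fusRel_of_fin {E : Set G} {S : Subgroup G} {A : Set G} :
    ∀ (n : ℕ) (c : Fin (n + 1) → G), c 0 = 1 → (∀ i : Fin n, c i.succ * (c i.castSucc)⁻¹ ∈ E) →
      (∀ i, lcj (c i) A ⊆ S) → FusRel E S A (c (Fin.last n)) := by
  intro n
  induction n with
  | zero =>
    intro c h0 _ hS
    rw [show Fin.last 0 = 0 from rfl, h0]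
    have h1 := hS 0
    rw [h0, lcj_one] at h1
    exact .one h1
  | succ n ih =>
    intro c h0 hE hS
    have h1 := ih (fun i => c i.castSucc) h0
      (fun i => hE i.castSucc) (fun i => hS _)
    have h2 := h1.step (c (Fin.last n).succ * (c (Fin.last n).castSucc)⁻¹) (hE _)
      (by rw [inv_mul_cancel_right]; exact hS _)
    rwa [inv_mul_cancel_right, Fin.succ_last] at h2

variable {p : ℕ} {𝓦 : Set (Subgroup G → Subgroup G)}

theorem familyFus_iff (H : Subgroup G) : FamilyControlsStrongFusionIn p 𝓦 H ↔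
    ∃ T, SylIn p T H ∧ FamFusAt 𝓦 H T := by
  constructor
  · rintro ⟨T, hTH, hTp, hTi, hT⟩
    refine ⟨T, ⟨hTH, hTp, hTi⟩, fun A h hh hA hhA => ?_⟩
    obtain ⟨n, c, h0, hE, hS, hl⟩ := hT A h hh hA hhA
    exact ⟨_, fusRel_of_fin n c h0 hE hS, hl⟩
  · rintro ⟨T, hT, hf⟩
    refine ⟨T, hT.le, hT.isPGroup, hT.not_dvd, fun A h hh hA hhA => ?_⟩
    obtain ⟨g, hg, he⟩ := hf A h hh hA hhA
    obtain ⟨n, c, h0, hE, hS, hl⟩ := hg.to_fin
    exact ⟨n, c, h0, hE, hS, fun a ha => by rw [hl]; exact he a ha⟩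

theorem familyTransfer_iff (H : Subgroup G) : FamilyControlsTransferIn p 𝓦 H ↔
    ∃ T, SylIn p T H ∧ FamTransAt 𝓦 H T :=
  ⟨fun ⟨T, a, b, c, d⟩ => ⟨T, ⟨a, b, c⟩, d⟩, fun ⟨T, h, d⟩ => ⟨T, h.le, h.isPGroup, h.not_dvd, d⟩⟩

theorem FusRel.mem_subgroup {H : Subgroup G} {E : Set G} (hE : E ⊆ H) {S : Subgroup G} {A : Set G}
    {g : G} (h : FusRel E S A g) : g ∈ H := by
  induction h with
  | one _ => exact one_mem H
  | step x _ hx _ ih => exact mul_mem (hE hx) ih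

theorem famE_singleton (W : Subgroup G → Subgroup G) (H T : Subgroup G) :
    famE {W} H T = (H ⊓ Subgroup.normalizer (W T : Set G) : Subgroup G) := by
  ext x; simp [famE]

theorem famFusAt_singleton (W : Subgroup G → Subgroup G) (H T : Subgroup G) :
    FamFusAt {W} H T ↔ ∀ (A : Set G) (h : G), h ∈ H → A ⊆ T → lcj h A ⊆ T →
      ∃ x ∈ H ⊓ Subgroup.normalizer (W T : Set G), ∀ a ∈ A, x * a * x⁻¹ = h * a * h⁻¹ := by
  rw [FamFusAt, famE_singleton]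
  refine forall_congr' fun A => forall_congr' fun h => forall_congr' fun _ => forall_congr' fun hA =>
    forall_congr' fun hhA => ⟨fun ⟨x, hx, he⟩ => ⟨x, hx.mem_subgroup subset_rfl, he⟩, ?_⟩
  rintro ⟨x, hx, he⟩
  refine (fusPred_fus (E := ((H ⊓ Subgroup.normalizer (W T : Set G) : Subgroup G) : Set G))
    (fun _ => inv_mem) T).congr (fus_step hA hx ?_) fun a ha => (he a ha).symm
  rw [lcj_congr he]; exact hhA

theorem controlsFus_iff (W : Subgroup G → Subgroup G) (H : Subgroup G) :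
    ControlsStrongFusionIn p W H ↔ ∃ T, SylIn p T H ∧ FamFusAt {W} H T := by
  constructor
  · rintro ⟨T, a, b, c, d⟩
    exact ⟨T, ⟨a, b, c⟩, (famFusAt_singleton W H T).2 d⟩
  · rintro ⟨T, h, d⟩
    exact ⟨T, h.le, h.isPGroup, h.not_dvd, (famFusAt_singleton W H T).1 d⟩

theorem famTransAt_singleton (W : Subgroup G → Subgroup G) (H T : Subgroup G) :
    FamTransAt {W} H T ↔ T ⊓ ⁅H, H⁆ = T ⊓ ⁅H ⊓ Subgroup.normalizer (W T : Set G),
      H ⊓ Subgroup.normalizer (W T : Set G)⁆ := by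
  simp [FamTransAt]

theorem controlsTransfer_iff (W : Subgroup G → Subgroup G) (H : Subgroup G) :
    ControlsTransferIn p W H ↔ ∃ T, SylIn p T H ∧ FamTransAt {W} H T :=
  ⟨fun ⟨T, a, b, c, d⟩ => ⟨T, ⟨a, b, c⟩, (famTransAt_singleton W H T).2 d⟩,
    fun ⟨T, h, d⟩ => ⟨T, h.le, h.isPGroup, h.not_dvd, (famTransAt_singleton W H T).1 d⟩⟩

theorem FusRel.conj {E : Set G} {S : Subgroup G} {A : Set G} {g : G} (m : G)
    (h : FusRel E S A g) : FusRel (lcj m E) (cj S m) (lcj m A) (m * g * m⁻¹) := by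
  induction h with
  | one hA =>
    rw [mul_one, mul_inv_cancel]
    exact .one ((Set.image_mono hA).trans (lcj_coe S m).subset)
  | @step g x _ hx hs ih =>
    rw [show m * (x * g) * m⁻¹ = (m * x * m⁻¹) * (m * g * m⁻¹) by group]
    refine .step _ ih ⟨x, hx, rfl⟩ ?_
    rw [show (m * x * m⁻¹) * (m * g * m⁻¹) = m * (x * g) * m⁻¹ by group, lcj_lcj,
      inv_mul_cancel_right, ← lcj_lcj]
    exact (Set.image_mono hs).trans (lcj_coe S m).subset

theorem famE_conj (h𝓦 : ∀ W ∈ 𝓦, IsConjugacyFunctor p W) {H T : Subgroup G}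
    (hT : IsPGroup p T) {m : G} (hm : m ∈ H) : lcj m (famE 𝓦 H T) ⊆ famE 𝓦 H (cj T m) := by
  rintro _ ⟨x, ⟨W, hW, hx1, hx2⟩, rfl⟩
  refine ⟨W, hW, H.mul_mem (H.mul_mem hm hx1) (H.inv_mem hm), ?_⟩
  show _ ∈ Subgroup.normalizer (W (cj T m) : Set G)
  rw [conjFunctor_cj (h𝓦 W hW) hT, ← cj_normalizer]
  exact conj_mem_cj hx2

variable [Finite G] [Fact p.Prime]

theorem FamFusAt.sylow (h𝓦 : ∀ W ∈ 𝓦, IsConjugacyFunctor p W) {H T T' : Subgroup G}
    (hT : SylIn p T H) (hT' : SylIn p T' H) (h : FamFusAt 𝓦 H T) : FamFusAt 𝓦 H T' := by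
  obtain ⟨m, hm, rfl⟩ := hT.conj_eq hT'
  intro A g hg hA hgA
  have h1 : lcj m⁻¹ A ⊆ T := by
    have := Set.image_mono (f := fun a => m⁻¹ * a * m⁻¹⁻¹) hA
    rwa [← lcj, ← lcj, ← lcj_coe, lcj_inv_lcj] at this
  have h2 : lcj (m⁻¹ * g * m) (lcj m⁻¹ A) ⊆ T := by
    have h3 := Set.image_mono (f := fun a => m⁻¹ * a * m⁻¹⁻¹) hgA
    rw [← lcj, ← lcj, ← lcj_coe, lcj_inv_lcj, lcj_lcj] at h3
    rwa [lcj_lcj, mul_inv_cancel_right]
  obtain ⟨x, hx, he⟩ := h _ _ (mul_mem (mul_mem (inv_mem hm) hg) hm) h1 h2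
  refine ⟨m * x * m⁻¹, ?_, fun a ha => ?_⟩
  · have h4 := (hx.conj m).mono (famE_conj h𝓦 hT.isPGroup hm) subset_rfl
    rwa [lcj_lcj, mul_inv_cancel, lcj_one] at h4
  · calc m * x * m⁻¹ * a * (m * x * m⁻¹)⁻¹
        = m * (x * (m⁻¹ * a * m⁻¹⁻¹) * x⁻¹) * m⁻¹ := by group
      _ = m * ((m⁻¹ * g * m) * (m⁻¹ * a * m⁻¹⁻¹) * (m⁻¹ * g * m)⁻¹) * m⁻¹ := by
        rw [he _ ⟨a, ha, rfl⟩]
      _ = g * a * g⁻¹ := by group

theorem FamTransAt.sylow (h𝓦 : ∀ W ∈ 𝓦, IsConjugacyFunctor p W) {H T T' : Subgroup G}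
    (hT : SylIn p T H) (hT' : SylIn p T' H) (h : FamTransAt 𝓦 H T) : FamTransAt 𝓦 H T' := by
  obtain ⟨m, hm, rfl⟩ := hT.conj_eq hT'
  have hHm : cj H m = H := cj_eq_self (Subgroup.le_normalizer hm)
  have h1 := congrArg (cj · m) h
  simp only [cj_inf, cj_commutator, hHm, cj, Subgroup.map_iSup] at h1
  rw [FamTransAt]
  refine h1.trans (iSup_congr fun W => iSup_congr fun hW => ?_)
  show cj T m ⊓ ⁅H ⊓ cj (Subgroup.normalizer (W T : Set G)) m,
    H ⊓ cj (Subgroup.normalizer (W T : Set G)) m⁆ = _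
  rw [cj_normalizer, conjFunctor_cj (h𝓦 W hW) hT.isPGroup]

end Cfsg.Agent.Fusion
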