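import Mathlib
import Cfsg.Prelude.Def_ConjugacyFunctors
import Cfsg.Agent.Lib.Fusion.Focal
import Cfsg.Agent.Lib.Fusion.Control

/-!
# Control of fusion and transfer is locally determined
-/

set_option autoImplicit false

open scoped commutatorElement

namespace Cfsg.Agent.Fusion

variable {G : Type*} [Group G] [Finite G] {p : ℕ} [Fact p.Prime] {S : Subgroup G}
  {𝓦 : Set (Subgroup G → Subgroup G)}

theorem focalIn_le_of_focalPred {T H M : Subgroup G}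
    (h : ∀ x ∈ T, ∀ g ∈ H, g * x * g⁻¹ ∈ T → FocalPred M {x} g) : focalIn T H ≤ M := by
  refine (Subgroup.closure_le _).2 ?_
  rintro _ ⟨x, hx, g, hg, hxg, rfl⟩
  exact h x hx g hg hxg x rfl

theorem sylow_le_normalizer_functor {W : Subgroup G → Subgroup G} (hW : IsConjugacyFunctor p W)
    {T : Subgroup G} (hT : IsPGroup p T) : T ≤ Subgroup.normalizer (W T : Set G) :=
  Subgroup.le_normalizer.trans (conjFunctor_normalizer_le hW hT)

theorem famFusAt_of_local (hS : SylIn p S ⊤) (h𝓦 : ∀ W ∈ 𝓦, IsConjugacyFunctor p W)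
    (𝓛 : Set (Subgroup G))
    (h𝓛 : ∀ T : Subgroup G, T ≤ S → ∃ g : G, cj T g ∈ 𝓛 ∧ cj T g ≤ S ∧
      SylIn p (S ⊓ Subgroup.normalizer (cj T g : Set G)) (Subgroup.normalizer (cj T g : Set G)))
    (hloc : ∀ U ∈ 𝓛, U ≠ ⊥ → U ≤ S →
      SylIn p (S ⊓ Subgroup.normalizer (U : Set G)) (Subgroup.normalizer (U : Set G)) →
      FamilyControlsStrongFusionIn p 𝓦 (Subgroup.normalizer (U : Set G))) :
    FamFusAt 𝓦 ⊤ S := by
  intro A g _ hA hgA
  have hΦ := fusPred_fus (E := famE 𝓦 ⊤ S) famE_inv S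
  refine hΦ.local_to_global hS 𝓦 h𝓦 (fun W hW x hx B hB hxB =>
    fus_step hB ⟨W, hW, trivial, hx⟩ hxB) 𝓛 h𝓛 ?_ hA hgA
  intro U hU hUne hUS Q hQ hQsyl hinner n hn B hB hnB
  obtain ⟨T, hT, hf⟩ := (familyFus_iff _).1 (hloc U hU hUne hUS (hQ ▸ hQsyl))
  obtain ⟨c, hc, he⟩ := hf.sylow h𝓦 hT hQsyl B n hn hB hnB
  refine hΦ.congr ?_ fun a ha => (he a ha).symm
  have hQS : (Q : Set G) ⊆ S := by rw [hQ]; exact fun _ h => h.1
  clear he
  induction hc with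
  | one h => exact hΦ.one (h.trans hQS)
  | @step d x hd hx hs ih =>
    obtain ⟨W, hW, hxW⟩ := hx
    refine hΦ.mul (hB.trans hQS) (hd.subset.trans hQS) ih
      (hinner W hW x hxW _ hd.subset ?_)
    rw [lcj_lcj]; exact hs

theorem famTransAt_of_focalPred (hS : SylIn p S ⊤) (h𝓦 : ∀ W ∈ 𝓦, IsConjugacyFunctor p W)
    (h : ∀ x ∈ S, ∀ g : G, g * x * g⁻¹ ∈ S → FocalPred (⨆ W ∈ 𝓦, S ⊓
      ⁅(⊤ : Subgroup G) ⊓ Subgroup.normalizer (W S : Set G),
        (⊤ : Subgroup G) ⊓ Subgroup.normalizer (W S : Set G)⁆) {x} g) :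
    FamTransAt 𝓦 ⊤ S := by
  have := h𝓦
  refine le_antisymm ?_ (iSup₂_le fun W _ => inf_le_inf_left _
    (Subgroup.commutator_mono le_top le_top))
  rw [inf_commutator_eq_focalIn hS]
  exact focalIn_le_of_focalPred fun x hx g _ hxg => h x hx g hxg

theorem famTransAt_of_local (hS : SylIn p S ⊤) (h𝓦 : ∀ W ∈ 𝓦, IsConjugacyFunctor p W)
    (𝓛 : Set (Subgroup G))
    (h𝓛 : ∀ T : Subgroup G, T ≤ S → ∃ g : G, cj T g ∈ 𝓛 ∧ cj T g ≤ S ∧
      SylIn p (S ⊓ Subgroup.normalizer (cj T g : Set G)) (Subgroup.normalizer (cj T g : Set G)))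
    (hloc : ∀ U ∈ 𝓛, U ≠ ⊥ → U ≤ S →
      SylIn p (S ⊓ Subgroup.normalizer (U : Set G)) (Subgroup.normalizer (U : Set G)) →
      FamilyControlsTransferIn p 𝓦 (Subgroup.normalizer (U : Set G))) :
    FamTransAt 𝓦 ⊤ S := by
  refine famTransAt_of_focalPred hS h𝓦 fun z hz g hzg => ?_
  set M := ⨆ W ∈ 𝓦, S ⊓ ⁅(⊤ : Subgroup G) ⊓ Subgroup.normalizer (W S : Set G),
        (⊤ : Subgroup G) ⊓ Subgroup.normalizer (W S : Set G)⁆
  refine (fusPred_focal S M).local_to_global hS 𝓦 h𝓦 ?_ 𝓛 h𝓛 ?_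
    (A := {z}) (by simpa using hz) (by simpa using hzg)
  · intro W hW x hx B hB hxB a ha
    refine le_iSup₂ (f := fun W _ => S ⊓ ⁅(⊤ : Subgroup G) ⊓ Subgroup.normalizer (W S : Set G),
        (⊤ : Subgroup G) ⊓ Subgroup.normalizer (W S : Set G)⁆) W hW
      ⟨S.mul_mem (S.inv_mem (hB ha)) (hxB ⟨a, ha, rfl⟩), ?_⟩
    rw [top_inf_eq]
    have := Subgroup.commutator_mem_commutator
      (inv_mem (sylow_le_normalizer_functor (h𝓦 W hW) hS.isPGroup (hB ha))) hx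
    simpa [commutatorElement_def, mul_assoc] using this
  · intro U hU hUne hUS Q hQ hQsyl hinner n hn B hB hnB a ha
    obtain ⟨T, hT, hf⟩ := (familyTransfer_iff _).1 (hloc U hU hUne hUS (hQ ▸ hQsyl))
    have hQN := hf.sylow h𝓦 hT hQsyl
    have h1 : a⁻¹ * (n * a * n⁻¹) ∈
        Q ⊓ ⁅Subgroup.normalizer (U : Set G), Subgroup.normalizer (U : Set G)⁆ := by
      rw [inf_commutator_eq_focalIn hQsyl]
      exact mem_focalIn (hB ha) hn (hnB ⟨a, ha, rfl⟩)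
    rw [hQN] at h1
    refine (iSup₂_le fun W hW => ?_ :
      (⨆ W ∈ 𝓦, Q ⊓ ⁅Subgroup.normalizer (U : Set G) ⊓ Subgroup.normalizer (W Q : Set G),
        Subgroup.normalizer (U : Set G) ⊓ Subgroup.normalizer (W Q : Set G)⁆) ≤ M) h1
    rw [inf_commutator_eq_focalIn (hQsyl.mono
      (le_inf hQsyl.le (sylow_le_normalizer_functor (h𝓦 W hW) hQsyl.isPGroup)) inf_le_left)]
    exact focalIn_le_of_focalPred fun x hx y hy hxy =>
      hinner W hW y hy {x} (by simpa using hx) (by simpa using hxy)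

/-- All extremal subgroups. -/
theorem exists_extremal_top (hS : SylIn p S ⊤) (T : Subgroup G) (hT : T ≤ S) :
    ∃ g : G, cj T g ∈ (Set.univ : Set (Subgroup G)) ∧ cj T g ≤ S ∧
      SylIn p (S ⊓ Subgroup.normalizer (cj T g : Set G)) (Subgroup.normalizer (cj T g : Set G)) := by
  obtain ⟨g, h1, h2⟩ := exists_extremal_conj hS hT
  exact ⟨g, trivial, h1, h2⟩

theorem exists_wellPlaced_top (hS : SylIn p S ⊤) {W : Subgroup G → Subgroup G}
    (hW : IsConjugacyFunctor p W) (T : Subgroup G) (hT : T ≤ S) :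
    ∃ g : G, cj T g ∈ {U : Subgroup G | IsWellPlaced p W S U} ∧ cj T g ≤ S ∧
      SylIn p (S ⊓ Subgroup.normalizer (cj T g : Set G)) (Subgroup.normalizer (cj T g : Set G)) := by
  obtain ⟨g, hg⟩ := exists_wellPlaced_conj hS hW hT
  exact ⟨g, hg, hg.1, inf_le_right, hS.isPGroup.to_inf_left, hg.2 0⟩

end Cfsg.Agent.Fusion
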