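import Mathlib
import Cfsg.Prelude.Def_Solvable
import Cfsg.Prelude.Def_Transfer
import Cfsg.Prelude.Def_CaseTheorems
import Cfsg.Agent.Lib.Fusion.Basic

/-!
# The p-core, the p'-core and the p-residual of a finite group
-/

set_option autoImplicit false

namespace Cfsg.Agent.Fusion

variable {G : Type*} [Group G] {p : ℕ}

theorem card_sup_dvd (N H : Subgroup G) [N.Normal] :
    Nat.card (H ⊔ N : Subgroup G) ∣ Nat.card H * Nat.card N := by
  have h1 : Nat.card N * N.relIndex (H ⊔ N) = Nat.card (H ⊔ N : Subgroup G) := by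
    have := Subgroup.relIndex_mul_relIndex ⊥ N (H ⊔ N) bot_le le_sup_right
    simpa only [Subgroup.relIndex_bot_left] using this
  rw [← h1, Subgroup.relIndex_sup_right, mul_comm (Nat.card H)]
  exact mul_dvd_mul_left _ (Subgroup.relIndex_dvd_card _ _)

theorem le_pPrimeCore {N : Subgroup G} [hn : N.Normal] (h : (Nat.card N).Coprime p) :
    N ≤ pPrimeCore p G :=
  le_sSup ⟨hn, h⟩

theorem le_pCore {N : Subgroup G} [hn : N.Normal] (h : IsPGroup p N) : N ≤ pCore p G :=
  le_sSup ⟨hn, h⟩

section
variable [Finite G]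

theorem card_pPrimeCore_coprime (p : ℕ) (G : Type*) [Group G] [Finite G] :
    (Nat.card (pPrimeCore p G)).Coprime p := by
  classical
  set S : Set (Subgroup G) := {N : Subgroup G | N.Normal ∧ (Nat.card N).Coprime p}
  have hfin : S.Finite := Set.toFinite _
  have key : ∀ s : Set (Subgroup G), s.Finite → s ⊆ S → sSup s ∈ S := by
    intro s hs
    induction s, hs using Set.Finite.induction_on with
    | empty =>
      intro _
      simp only [sSup_empty, S]
      exact ⟨inferInstance, by simp⟩
    | @insert a t _ _ ih =>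
      intro hsub
      obtain ⟨ha, hac⟩ := hsub (Set.mem_insert a t)
      obtain ⟨ht, htc⟩ := ih ((Set.subset_insert a t).trans hsub)
      rw [sSup_insert]
      exact ⟨inferInstance, Nat.Coprime.coprime_dvd_left (card_sup_dvd _ _) (hac.mul_left htc)⟩
  exact (key S hfin subset_rfl).2

theorem isPGroup_pCore (p : ℕ) (G : Type*) [Group G] : IsPGroup p (pCore p G) :=
  Sylow.sSup_of_normal _ (fun _ h => h.2) (fun _ h => h.1)

theorem mem_pPrimeCore_orderOf {x : G} (hx : x ∈ pPrimeCore p G) : (orderOf x).Coprime p :=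
  (card_pPrimeCore_coprime p G).coprime_dvd_left
    ((Subgroup.orderOf_mk x hx).symm ▸ orderOf_dvd_natCard _)

theorem pCore_le_sylow (P : Sylow p G) : pCore p G ≤ (P : Subgroup G) :=
  (isPGroup_pCore p G).le_sylow_of_normal P

theorem pCore_le_sylIn [Fact p.Prime] {T : Subgroup G} (h : SylIn p T ⊤) : pCore p G ≤ T := by
  obtain ⟨P, rfl⟩ := h.exists_sylow
  exact pCore_le_sylow P

omit [Finite G] in
theorem coprime_inf_pGroup [Fact p.Prime] [Finite G] {H Q : Subgroup G}
    (hH : (Nat.card H).Coprime p) (hQ : IsPGroup p Q) : H ⊓ Q = ⊥ := by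
  obtain ⟨k, hk⟩ := IsPGroup.iff_card.1 hQ
  exact Subgroup.inf_eq_bot_of_coprime (hk ▸ hH.pow_right k)

theorem pPrimeCore_inf_pCore [Fact p.Prime] : pPrimeCore p G ⊓ pCore p G = ⊥ :=
  coprime_inf_pGroup (card_pPrimeCore_coprime p G) (isPGroup_pCore p G)

theorem pPrimeCore_commutes_pCore [Fact p.Prime] :
    pPrimeCore p G ≤ Subgroup.centralizer (pCore p G : Set G) := by
  intro x hx
  rw [Subgroup.mem_centralizer_iff]
  intro y hy
  exact (Subgroup.commute_of_normal_of_disjoint _ _ inferInstance inferInstance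
    (disjoint_iff.2 pPrimeCore_inf_pCore) x y hx hy).symm.eq

end

section
variable {G' : Type*} [Group G']

theorem map_pCore_le (e : G ≃* G') : (pCore p G).map e.toMonoidHom ≤ pCore p G' := by
  rw [pCore, sSup_eq_iSup, Subgroup.map_iSup]
  refine iSup_le fun N => ?_
  rw [Subgroup.map_iSup]
  refine iSup_le fun hN => ?_
  haveI := hN.1.map e.toMonoidHom e.surjective
  exact le_pCore (hN.2.map _)

theorem map_pCore_equiv (e : G ≃* G') : (pCore p G).map e.toMonoidHom = pCore p G' := by
  refine le_antisymm (map_pCore_le e) fun x hx => ?_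
  exact ⟨e.symm x, map_pCore_le e.symm ⟨x, hx, rfl⟩, e.apply_symm_apply x⟩

theorem map_pPrimeCore_le (e : G ≃* G') :
    (pPrimeCore p G).map e.toMonoidHom ≤ pPrimeCore p G' := by
  rw [pPrimeCore, sSup_eq_iSup, Subgroup.map_iSup]
  refine iSup_le fun N => ?_
  rw [Subgroup.map_iSup]
  refine iSup_le fun hN => ?_
  haveI := hN.1.map e.toMonoidHom e.surjective
  exact le_pPrimeCore (by rw [Subgroup.card_map_of_injective e.injective]; exact hN.2)

theorem map_pPrimeCore_equiv (e : G ≃* G') :
    (pPrimeCore p G).map e.toMonoidHom = pPrimeCore p G' := by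
  refine le_antisymm (map_pPrimeCore_le e) fun x hx => ?_
  exact ⟨e.symm x, map_pPrimeCore_le e.symm ⟨x, hx, rfl⟩, e.apply_symm_apply x⟩

instance pCore_characteristic : (pCore p G).Characteristic :=
  Subgroup.characteristic_iff_map_eq.2 fun e => map_pCore_equiv e

instance pPrimeCore_characteristic : (pPrimeCore p G).Characteristic :=
  Subgroup.characteristic_iff_map_eq.2 fun e => map_pPrimeCore_equiv e

end

section
variable [Finite G]

theorem pPrimeCore_quotient_eq_bot :
    pPrimeCore p (G ⧸ pPrimeCore p G) = ⊥ := by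
  set N := pPrimeCore p G
  set M := (pPrimeCore p (G ⧸ N)).comap (QuotientGroup.mk' N)
  have hM : M ≤ N := by
    refine le_pPrimeCore ?_
    have h1 : Nat.card M = Nat.card N * Nat.card (pPrimeCore p (G ⧸ N)) := by
      have h2 := Subgroup.relIndex_ker (f := QuotientGroup.mk' N) (K := M)
      rw [QuotientGroup.ker_mk', Subgroup.map_comap_eq_self_of_surjective
        (QuotientGroup.mk'_surjective N)] at h2
      have h3 := Subgroup.relIndex_mul_relIndex ⊥ N M bot_le
        (by intro x hx; simp [M, (QuotientGroup.eq_one_iff x).2 hx])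
      rw [Subgroup.relIndex_bot_left, Subgroup.relIndex_bot_left, h2] at h3
      exact h3.symm
    rw [h1]
    exact (card_pPrimeCore_coprime p G).mul_left (card_pPrimeCore_coprime p _)
  refine eq_bot_iff.2 ?_
  have h := Subgroup.map_mono (f := QuotientGroup.mk' N) hM
  rwa [Subgroup.map_comap_eq_self_of_surjective (QuotientGroup.mk'_surjective N),
    QuotientGroup.map_mk'_self] at h

theorem pCore_quotient_eq_bot [Fact p.Prime] :
    pCore p (G ⧸ pCore p G) = ⊥ := by
  set N := pCore p G
  set M := (pCore p (G ⧸ N)).comap (QuotientGroup.mk' N)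
  have hM : M ≤ N := le_pCore ((isPGroup_pCore p _).comap_of_ker_isPGroup (QuotientGroup.mk' N)
    (by rw [QuotientGroup.ker_mk']; exact isPGroup_pCore p G))
  refine eq_bot_iff.2 ?_
  have h := Subgroup.map_mono (f := QuotientGroup.mk' N) hM
  rwa [Subgroup.map_comap_eq_self_of_surjective (QuotientGroup.mk'_surjective N),
    QuotientGroup.map_mk'_self] at h

/-- Elements of order prime to `p` in a normal subgroup of order prime to `p`. -/
theorem pResidual_le_of_isPGroup_quotient [Fact p.Prime] {N : Subgroup G} [N.Normal]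
    (h : IsPGroup p (G ⧸ N)) : pResidual p G ≤ N := by
  refine (Subgroup.closure_le N).2 fun g hg => ?_
  obtain ⟨k, hk⟩ := IsPGroup.iff_orderOf.1 h (QuotientGroup.mk g)
  have h1 : orderOf (QuotientGroup.mk g : G ⧸ N) ∣ orderOf g :=
    orderOf_map_dvd (QuotientGroup.mk' N) g
  have h3 : (orderOf g).Coprime p := hg
  have h2 : orderOf (QuotientGroup.mk g : G ⧸ N) = 1 :=
    Nat.eq_one_of_dvd_coprimes (h3.pow_right k) h1 (hk ▸ dvd_rfl)
  exact (QuotientGroup.eq_one_iff g).1 (orderOf_eq_one_iff.1 h2)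

end

instance pResidual_characteristic : (pResidual p G).Characteristic := by
  refine Subgroup.characteristic_iff_map_le.2 fun e => ?_
  rw [pResidual, MonoidHom.map_closure]
  refine Subgroup.closure_mono ?_
  rintro _ ⟨g, hg, rfl⟩
  show (orderOf (e g)).Coprime p
  rw [MulEquiv.orderOf_eq e g]; exact hg

section
variable [Finite G]

theorem isPGroup_quotient_pResidual [hp : Fact p.Prime] :
    IsPGroup p (G ⧸ pResidual p G) := by
  intro q
  obtain ⟨g, rfl⟩ := QuotientGroup.mk_surjective q
  obtain ⟨k, m, hm, hkm⟩ := Nat.exists_eq_pow_mul_and_not_dvd (orderOf_pos g).ne' p hp.out.ne_one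
  refine ⟨k, ?_⟩
  rw [← QuotientGroup.mk_pow, QuotientGroup.eq_one_iff]
  refine Subgroup.subset_closure ?_
  show (orderOf (g ^ p ^ k)).Coprime p
  have h1 : orderOf (g ^ p ^ k) = m := by
    rw [orderOf_pow_of_dvd (pow_ne_zero _ hp.out.ne_zero) (hkm ▸ dvd_mul_right _ _), hkm,
      Nat.mul_div_cancel_left _ (pow_pos hp.out.pos k)]
  rw [h1]
  exact ((Nat.Prime.coprime_iff_not_dvd hp.out).2 hm).symm

theorem pResidual_sup_sylow [Fact p.Prime] (P : Sylow p G) :
    pResidual p G ⊔ (P : Subgroup G) = ⊤ := by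
  have hq : IsPGroup p (G ⧸ pResidual p G) := isPGroup_quotient_pResidual
  rw [← Subgroup.index_eq_one]
  obtain ⟨k, hk⟩ := IsPGroup.iff_card.1 hq
  have h1 : (pResidual p G ⊔ (P : Subgroup G)).index ∣ p ^ k :=
    hk ▸ (Subgroup.index_eq_card (pResidual p G) ▸ Subgroup.index_dvd_of_le le_sup_left)
  have h2 : (pResidual p G ⊔ (P : Subgroup G)).index.Coprime p := by
    refine Nat.Coprime.coprime_dvd_left (Subgroup.index_dvd_of_le le_sup_right) ?_
    exact ((Nat.Prime.coprime_iff_not_dvd Fact.out).2 P.not_dvd_index).symm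
  exact Nat.eq_one_of_dvd_coprimes (h2.pow_right k) dvd_rfl h1

end

end Cfsg.Agent.Fusion
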