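import Mathlib
import Cfsg.Prelude.Def_Transfer
import Cfsg.Agent.Lib.Fusion.Basic
import Cfsg.Agent.Lib.Fusion.Cores
import Cfsg.Agent.Lib.Fusion.Alperin
import Cfsg.Agent.Lib.Fusion.Focal

/-!
# Normal p-complements
-/

set_option autoImplicit false

open scoped commutatorElement

universe u

namespace Cfsg.Agent.Fusion

variable {G : Type u} [Group G] [Finite G] {p : ℕ} [hp : Fact p.Prime]

theorem coprime_card_iff_not_dvd {H : Subgroup G} :
    (Nat.card H).Coprime p ↔ ¬ p ∣ Nat.card H := by
  rw [Nat.coprime_comm, hp.out.coprime_iff_not_dvd]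

theorem isComplement'_of_coprime_card (P : Sylow p G)
    (h : (Nat.card (pResidual p G)).Coprime p) :
    (pResidual p G).IsComplement' (P : Subgroup G) := by
  refine Subgroup.isComplement'_of_disjoint_and_mul_eq_univ
    (disjoint_iff.2 (coprime_inf_pGroup h P.isPGroup')) ?_
  rw [← Subgroup.normal_mul, pResidual_sup_sylow P, Subgroup.coe_top]

theorem pResidual_le_of_isComplement' {N : Subgroup G} [N.Normal] {P : Sylow p G}
    (h : N.IsComplement' (P : Subgroup G)) : pResidual p G ≤ N := by
  refine pResidual_le_of_isPGroup_quotient ?_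
  obtain ⟨k, hk⟩ := IsPGroup.iff_card.1 P.isPGroup'
  refine IsPGroup.of_card (n := k) ?_
  rw [← Subgroup.index_eq_card, h.symm.index_eq_card]
  exact hk

theorem coprime_card_of_isComplement' {N : Subgroup G} {P : Sylow p G}
    (h : N.IsComplement' (P : Subgroup G)) : (Nat.card N).Coprime p := by
  rw [coprime_card_iff_not_dvd, ← h.index_eq_card]
  exact P.not_dvd_index

theorem hnpc_iff : HasNormalPComplement p G ↔ (Nat.card (pResidual p G)).Coprime p := by
  constructor
  · rintro ⟨P, N, hN, hc⟩
    exact (coprime_card_of_isComplement' hc).coprime_dvd_left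
      (Subgroup.card_dvd_of_le (pResidual_le_of_isComplement' hc))
  · intro h
    exact ⟨default, pResidual p G, inferInstance, isComplement'_of_coprime_card _ h⟩

theorem hnpc_exists_complement (h : HasNormalPComplement p G) (P : Sylow p G) :
    ∃ N : Subgroup G, N.Normal ∧ N.IsComplement' (P : Subgroup G) :=
  ⟨pResidual p G, inferInstance, isComplement'_of_coprime_card P (hnpc_iff.1 h)⟩

theorem eq_pResidual_of_isComplement' {N : Subgroup G} [N.Normal] {P : Sylow p G}
    (h : N.IsComplement' (P : Subgroup G)) : N = pResidual p G := by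
  refine le_antisymm (fun x hx => Subgroup.subset_closure ?_) (pResidual_le_of_isComplement' h)
  refine (coprime_card_of_isComplement' h).coprime_dvd_left ?_
  rw [← Subgroup.orderOf_mk x hx]
  exact orderOf_dvd_natCard _

theorem hnpc_of_coprime_normal_pgroup_quotient {N : Subgroup G} [N.Normal]
    (h1 : (Nat.card N).Coprime p) (h2 : IsPGroup p (G ⧸ N)) : HasNormalPComplement p G :=
  hnpc_iff.2 (h1.coprime_dvd_left
    (Subgroup.card_dvd_of_le (pResidual_le_of_isPGroup_quotient h2)))

theorem hnpc_pResidual_le_pPrimeCore (h : HasNormalPComplement p G) :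
    pResidual p G ≤ pPrimeCore p G :=
  le_pPrimeCore (hnpc_iff.1 h)

theorem hnpc_of_pgroup_quotient_pPrimeCore (h : IsPGroup p (G ⧸ pPrimeCore p G)) :
    HasNormalPComplement p G :=
  hnpc_of_coprime_normal_pgroup_quotient (card_pPrimeCore_coprime p G) h

theorem map_pResidual_le {G' : Type*} [Group G'] (f : G →* G') :
    (pResidual p G).map f ≤ pResidual p G' := by
  rw [pResidual, MonoidHom.map_closure]
  refine Subgroup.closure_mono ?_
  rintro _ ⟨g, hg, rfl⟩
  exact Nat.Coprime.coprime_dvd_left (orderOf_map_dvd f g) hg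

theorem hnpc_of_injective {H : Type*} [Group H] [Finite H] (f : H →* G)
    (hf : Function.Injective f) (h : HasNormalPComplement p G) : HasNormalPComplement p H := by
  rw [hnpc_iff] at h ⊢
  rw [← Subgroup.card_map_of_injective hf]
  exact h.coprime_dvd_left (Subgroup.card_dvd_of_le (map_pResidual_le f))

theorem hnpc_subgroup (h : HasNormalPComplement p G) (H : Subgroup G) :
    HasNormalPComplement p H :=
  hnpc_of_injective H.subtype H.subtype_injective h

theorem map_pResidual_of_surjective {G' : Type*} [Group G'] [Finite G'] (f : G →* G')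
    (hf : Function.Surjective f) : (pResidual p G).map f = pResidual p G' := by
  refine le_antisymm (map_pResidual_le f) ?_
  haveI : ((pResidual p G).map f).Normal := Subgroup.Normal.map inferInstance f hf
  refine pResidual_le_of_isPGroup_quotient ?_
  refine (isPGroup_quotient_pResidual (G := G)).of_surjective
    (QuotientGroup.map _ _ f (Subgroup.le_comap_map f _)) ?_
  rintro ⟨y⟩
  obtain ⟨x, rfl⟩ := hf y
  exact ⟨QuotientGroup.mk x, rfl⟩

theorem hnpc_of_surjective {G' : Type*} [Group G'] [Finite G'] (f : G →* G')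
    (hf : Function.Surjective f) (h : HasNormalPComplement p G) : HasNormalPComplement p G' := by
  rw [hnpc_iff] at h ⊢
  rw [← map_pResidual_of_surjective f hf]
  exact h.coprime_dvd_left (Subgroup.card_map_dvd _ f)

theorem hnpc_of_equiv {G' : Type*} [Group G'] [Finite G'] (e : G ≃* G')
    (h : HasNormalPComplement p G) : HasNormalPComplement p G' :=
  hnpc_of_surjective e.toMonoidHom e.surjective h

theorem hnpc_of_quotient (N : Subgroup G) [N.Normal] (h1 : (Nat.card N).Coprime p)
    (h : HasNormalPComplement p (G ⧸ N)) : HasNormalPComplement p G := by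
  rw [hnpc_iff] at h ⊢
  have h2 := Subgroup.card_dvd_of_le
    (Subgroup.le_comap_map (QuotientGroup.mk' N) (pResidual p G))
  rw [map_pResidual_of_surjective _ (QuotientGroup.mk'_surjective N)] at h2
  refine Nat.Coprime.coprime_dvd_left h2 ?_
  set M := (pResidual p (G ⧸ N)).comap (QuotientGroup.mk' N)
  have h3 := Subgroup.relIndex_ker (f := QuotientGroup.mk' N) (K := M)
  rw [QuotientGroup.ker_mk', Subgroup.map_comap_eq_self_of_surjective
    (QuotientGroup.mk'_surjective N)] at h3
  have h4 := Subgroup.relIndex_mul_relIndex ⊥ N M bot_le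
    (by intro x hx; simp [M, (QuotientGroup.eq_one_iff x).2 hx])
  rw [Subgroup.relIndex_bot_left, Subgroup.relIndex_bot_left, h3] at h4
  rw [← h4]
  exact h1.mul_left h

theorem hnpc_of_not_dvd (h : ¬ p ∣ Nat.card G) : HasNormalPComplement p G :=
  hnpc_iff.2 (coprime_card_iff_not_dvd.2
    fun h' => h (h'.trans (Subgroup.card_subgroup_dvd_card _)))

theorem hnpc_mem_iff (h : HasNormalPComplement p G) {x : G} :
    x ∈ pResidual p G ↔ (orderOf x).Coprime p :=
  ⟨fun hx => (hnpc_iff.1 h).coprime_dvd_left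
    ((Subgroup.orderOf_mk x hx).symm ▸ orderOf_dvd_natCard _),
    fun hx => Subgroup.subset_closure hx⟩

omit [Finite G] hp in
theorem pResidual_subtype_of_eq {R : Subgroup G} (hR : R = pResidual p G) :
    pResidual p R = ⊤ := by
  refine Subgroup.map_injective R.subtype_injective ?_
  rw [← MonoidHom.range_eq_map, Subgroup.range_subtype]
  refine le_antisymm (Subgroup.map_subtype_le _) ?_
  conv_lhs => rw [hR, pResidual]
  refine (Subgroup.closure_le _).2 fun g hg => ?_
  have hgR : g ∈ R := hR ▸ Subgroup.subset_closure hg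
  exact ⟨⟨g, hgR⟩, Subgroup.subset_closure (by simpa using hg), rfl⟩

omit [Finite G] hp in
theorem pResidual_pResidual : pResidual p (pResidual p G) = ⊤ :=
  pResidual_subtype_of_eq rfl

omit [Finite G] hp in
theorem eq_bot_of_le_commutator_top [Group.IsNilpotent G] {N : Subgroup G}
    (h : N ≤ ⁅N, (⊤ : Subgroup G)⁆) : N = ⊥ := by
  obtain ⟨n, hn⟩ := Subgroup.nilpotent_iff_lowerCentralSeries.1 ‹Group.IsNilpotent G›
  refine eq_bot_iff.2 (hn ▸ ?_)
  clear hn
  induction n with
  | zero => simp
  | succ k ih => exact h.trans (Subgroup.commutator_mono ih le_rfl)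

theorem not_le_commutator_pgroup {S Q : Subgroup G} (hS : IsPGroup p S) (hQS : Q ≤ S)
    (hQ : Q ≠ ⊥) : ¬ Q ≤ ⁅Q, S⁆ := by
  intro h
  haveI : Group.IsNilpotent S := hS.isNilpotent
  refine hQ ?_
  have h1 : Q.subgroupOf S = ⊥ := by
    refine eq_bot_of_le_commutator_top ?_
    rw [← Subgroup.map_le_map_iff_of_injective S.subtype_injective, Subgroup.map_commutator,
      Subgroup.map_subgroupOf_eq_of_le hQS, ← MonoidHom.range_eq_map, Subgroup.range_subtype]
    exact h
  rw [← Subgroup.map_subgroupOf_eq_of_le hQS, h1, Subgroup.map_bot]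

/-- If a Sylow subgroup controls the fusion of its elements there is a normal complement. -/
theorem hnpc_of_fusion_controlled {S : Subgroup G} (hS : SylIn p S ⊤)
    (h : ∀ x ∈ S, ∀ g : G, g * x * g⁻¹ ∈ S → ∃ s ∈ S, s * x * s⁻¹ = g * x * g⁻¹) :
    HasNormalPComplement p G := by
  set R := pResidual p G with hR
  have hQ : SylIn p (S ⊓ R) R := hS.inf_normal le_top (by
    rw [Subgroup.normalizer_eq_top])
  set Q := S ⊓ R
  by_cases hQb : Q = ⊥
  · rw [hnpc_iff, coprime_card_iff_not_dvd]
    have := hQ.not_dvd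
    rwa [hQb, Subgroup.relIndex_bot_left] at this
  exfalso
  have h1 : ¬ Q ≤ ⁅R, R⁆ := by
    intro hle
    refine not_le_commutator_pgroup hS.isPGroup inf_le_left hQb ?_
    calc Q = Q ⊓ ⁅R, R⁆ := (inf_eq_left.2 hle).symm
      _ = focalIn Q R := inf_commutator_eq_focalIn hQ
      _ ≤ ⁅Q, S⁆ := by
        refine (Subgroup.closure_le _).2 ?_
        rintro _ ⟨x, hx, g, hg, hxg, rfl⟩
        obtain ⟨s, hs, hse⟩ := h x hx.1 g hxg.1
        rw [← hse]
        have := Subgroup.commutator_mem_commutator (inv_mem hx) hs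
        simpa [commutatorElement_def, mul_assoc] using this
  obtain ⟨P, hP⟩ := hQ.exists_sylow_subgroupOf
  obtain ⟨N, hN, hNi⟩ := exists_normal_index_prime (G := R) (sylIn_top P) (by
    intro hle
    refine h1 ?_
    have := Subgroup.map_mono (f := R.subtype) hle
    rwa [hP, Subgroup.map_subgroupOf_eq_of_le inf_le_right,
      Subgroup.map_subtype_commutator] at this)
  have h2 : pResidual p R ≤ N :=
    pResidual_le_of_isPGroup_quotient
      (IsPGroup.of_card (n := 1) (by rw [← Subgroup.index_eq_card, hNi, pow_one]))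
  rw [pResidual_subtype_of_eq hR, top_le_iff] at h2
  rw [h2, Subgroup.index_top] at hNi
  exact hp.out.one_lt.ne hNi

/-- If the elements of order prime to `p` in `N(Q)` centralize `Q` for all `Q ≤ S`, then `S`
controls its fusion. -/
theorem fusion_controlled_of_centralize {S : Subgroup G} (hS : SylIn p S ⊤)
    (h : ∀ Q : Subgroup G, Q ≤ S → ∀ g ∈ Subgroup.normalizer (Q : Set G),
      (orderOf g).Coprime p → g ∈ Subgroup.centralizer (Q : Set G))
    {A : Set G} {g : G} (hA : A ⊆ S) (hAg : rcj g A ⊆ S) :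
    ∃ s ∈ S, ∀ a ∈ A, g⁻¹ * a * g = s⁻¹ * a * s := by
  have hc := alperin hS hA hAg
  clear hA hAg
  induction hc with
  | nil B => exact ⟨1, one_mem _, fun a _ => by simp⟩
  | @cons B g T x hx hBT _ ih =>
    obtain ⟨Q, -, hT, hxN, hsyl, -, -⟩ := hx
    have hTS : T ≤ S := hT ▸ inf_le_left
    set H := Subgroup.normalizer (T : Set G)
    obtain ⟨P, hP⟩ := hsyl.exists_sylow_subgroupOf
    have h1 : pResidual p H ≤ (Subgroup.centralizer (T : Set G)).subgroupOf H := by
      refine (Subgroup.closure_le _).2 fun y hy => h T hTS (y : G) y.2 ?_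
      rw [Subgroup.orderOf_coe]; exact hy
    have h2 : (⟨x, hxN⟩ : H) ∈ pResidual p H ⊔ (P : Subgroup H) := by
      rw [pResidual_sup_sylow P]; trivial
    rw [Subgroup.mem_sup_of_normal_left] at h2
    obtain ⟨c, hc, r, hr, hcr⟩ := h2
    rw [hP] at hr
    have hr' : (r : G) ∈ S := hr.1
    have hcT : (c : G) ∈ Subgroup.centralizer (T : Set G) := h1 hc
    have hx' : x = (c : G) * r := congrArg Subtype.val hcr.symm
    obtain ⟨s, hs, hsa⟩ := ih
    refine ⟨(r : G) * s, mul_mem hr' hs, fun a ha => ?_⟩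
    have h3 : x⁻¹ * a * x = (r : G)⁻¹ * a * r := by
      have := (Subgroup.mem_centralizer_iff.1 hcT) a (hBT ha)
      rw [hx']
      calc ((c : G) * r)⁻¹ * a * ((c : G) * r)
          = (r : G)⁻¹ * ((c : G)⁻¹ * (a * c)) * r := by group
        _ = _ := by rw [this]; group
    have := hsa (x⁻¹ * a * x) ⟨a, ha, rfl⟩
    calc (x * g)⁻¹ * a * (x * g) = g⁻¹ * (x⁻¹ * a * x) * g := by group
      _ = s⁻¹ * (x⁻¹ * a * x) * s := this
      _ = _ := by rw [h3]; group

/-- Frobenius' normal p-complement theorem. -/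
theorem hnpc_of_centralize {S : Subgroup G} (hS : SylIn p S ⊤)
    (h : ∀ Q : Subgroup G, Q ≤ S → ∀ g ∈ Subgroup.normalizer (Q : Set G),
      (orderOf g).Coprime p → g ∈ Subgroup.centralizer (Q : Set G)) :
    HasNormalPComplement p G := by
  refine hnpc_of_fusion_controlled hS fun x hx g hxg => ?_
  obtain ⟨s, hs, hsa⟩ := fusion_controlled_of_centralize hS h (A := {x}) (g := g⁻¹)
    (by simpa using hx) (by rintro _ ⟨_, rfl, rfl⟩; simpa using hxg)
  exact ⟨s⁻¹, inv_mem hs, by simpa using (hsa x rfl).symm⟩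

theorem hnpc_centralize (h : HasNormalPComplement p G) {Q : Subgroup G} (hQ : IsPGroup p Q)
    {g : G} (hg : g ∈ Subgroup.normalizer (Q : Set G)) (hgp : (orderOf g).Coprime p) :
    g ∈ Subgroup.centralizer (Q : Set G) := by
  rw [mem_centralizer_set]
  intro q hq
  replace hq : q ∈ Q := hq
  have h1 : g * q * g⁻¹ * q⁻¹ ∈ pResidual p G ⊓ Q := by
    refine ⟨?_, Q.mul_mem ((Subgroup.mem_normalizer_iff.1 hg q).1 hq) (Q.inv_mem hq)⟩
    have hgR : g ∈ pResidual p G := Subgroup.subset_closure hgp
    rw [show g * q * g⁻¹ * q⁻¹ = g * (q * g⁻¹ * q⁻¹) by group]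
    exact mul_mem hgR ((inferInstance : (pResidual p G).Normal).conj_mem _ (inv_mem hgR) q)
  rw [coprime_inf_pGroup (hnpc_iff.1 h) hQ, Subgroup.mem_bot] at h1
  exact mul_inv_eq_one.1 h1

/-- Burnside's transfer theorem. -/
theorem hnpc_of_normalizer_le_centralizer (P : Sylow p G)
    (h : Subgroup.normalizer (P : Set G) ≤ Subgroup.centralizer (P : Set G)) :
    HasNormalPComplement p G :=
  ⟨P, _, inferInstance, MonoidHom.ker_transferSylow_isComplement' P h⟩

end Cfsg.Agent.Fusion
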