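import Mathlib
import Cfsg.Prelude.Def_ConjugacyFunctors
import Cfsg.Prelude.Def_LocalEven
import Cfsg.Agent.Lib.Fusion.Control

/-!
# Sections and the transport of induced functors
-/

set_option autoImplicit false

universe u

namespace Cfsg.Agent.Fusion

variable {G : Type u} [Group G]

theorem involves_of_surjective {X : Type*} [Group X] {K : Subgroup G} (f : K →* X)
    (hf : Function.Surjective f) : Involves X G := by
  have e : (f.ker.map K.subtype).subgroupOf K = f.ker :=
    Subgroup.comap_map_eq_self_of_injective K.subtype_injective _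
  haveI hn : ((f.ker.map K.subtype).subgroupOf K).Normal := by rw [e]; infer_instance
  exact ⟨K, f.ker.map K.subtype, hn,
    ⟨(QuotientGroup.quotientMulEquivOfEq e).trans (QuotientGroup.quotientKerEquivOfSurjective f hf)⟩⟩

theorem involves_exists_surjective {X : Type*} [Group X] (h : Involves X G) :
    ∃ (K : Subgroup G) (f : K →* X), Function.Surjective f := by
  obtain ⟨K, R, hn, ⟨e⟩⟩ := h
  exact ⟨K, e.toMonoidHom.comp (QuotientGroup.mk' _),
    e.surjective.comp (QuotientGroup.mk'_surjective _)⟩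

theorem involves_finite {X : Type*} [Group X] [Finite G] (h : Involves X G) : Finite X := by
  obtain ⟨K, f, hf⟩ := involves_exists_surjective h
  exact Finite.of_surjective f hf

theorem involves_refl : Involves G G :=
  involves_of_surjective (Subgroup.topEquiv (G := G)).toMonoidHom (Subgroup.topEquiv).surjective

theorem involves_subgroup {X : Type*} [Group X] (h : Involves X G) (H : Subgroup X) :
    Involves H G := by
  obtain ⟨K, f, hf⟩ := involves_exists_surjective h
  set K' : Subgroup K := H.comap f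
  let g : K' →* H := (f.comp K'.subtype).codRestrict H fun x => x.2
  have hg : Function.Surjective g := by
    rintro ⟨y, hy⟩
    obtain ⟨x, rfl⟩ := hf y
    exact ⟨⟨x, hy⟩, rfl⟩
  let e := K'.equivMapOfInjective K.subtype K.subtype_injective
  exact involves_of_surjective (g.comp e.symm.toMonoidHom) (hg.comp e.symm.surjective)

theorem involves_surjective {X Y : Type*} [Group X] [Group Y] (h : Involves X G) (g : X →* Y)
    (hg : Function.Surjective g) : Involves Y G := by
  obtain ⟨K, f, hf⟩ := involves_exists_surjective h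
  exact involves_of_surjective (g.comp f) (hg.comp hf)

theorem involves_section {X : Type*} [Group X] (h : Involves X G) (K R : Subgroup X)
    [(R.subgroupOf K).Normal] : Involves (K ⧸ R.subgroupOf K) G :=
  involves_surjective (involves_subgroup h K) (QuotientGroup.mk' _) (QuotientGroup.mk'_surjective _)

/-! ### Induced functors -/

variable {p : ℕ} {W : ∀ (Q : Type u) [Group Q], Subgroup Q} {G' : Type u} [Group G']

theorem inducedFunctor_map_of_injOn [Finite G] (hW : IsCharPFunctor.{u} p W) (f : G →* G')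
    {P : Subgroup G} (hf : Set.InjOn f P) (hP : IsPGroup p P) :
    inducedFunctor W (P.map f) = (inducedFunctor W P).map f := by
  let φ : P ≃* P.map f := MulEquiv.ofBijective (f.subgroupMap P)
    ⟨fun a b h => Subtype.ext (hf a.2 b.2 (congrArg Subtype.val h)), f.subgroupMap_surjective P⟩
  show (W (P.map f : Subgroup G')).map _ = ((W P).map P.subtype).map f
  rw [← hW.2 P (P.map f : Subgroup G') hP φ, Subgroup.map_map, Subgroup.map_map]
  rfl

theorem inducedFunctor_le (W : ∀ (Q : Type u) [Group Q], Subgroup Q) (P : Subgroup G) :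
    inducedFunctor W P ≤ P := Subgroup.map_subtype_le _

theorem isConjugacyFunctor_induced [Finite G] (hW : IsCharPFunctor.{u} p W) :
    IsConjugacyFunctor p (inducedFunctor (G := G) W) := by
  intro P hP
  refine ⟨inducedFunctor_le W P, fun hne h => ?_, fun g =>
    inducedFunctor_map_of_injOn hW _ (MulAut.conj g).injective.injOn hP⟩
  haveI : Nontrivial P := (Subgroup.nontrivial_iff_ne_bot P).2 hne
  refine hW.1 P hP inferInstance ?_
  exact (Subgroup.map_eq_bot_iff_of_injective _ P.subtype_injective).1 h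

theorem isConjugacyFunctor_image [Finite G] {𝓦 : Set (∀ (Q : Type u) [Group Q], Subgroup Q)}
    (h : ∀ W ∈ 𝓦, IsCharPFunctor.{u} p W) :
    ∀ W' ∈ (fun W => inducedFunctor (G := G) W) '' 𝓦, IsConjugacyFunctor p W' := by
  rintro _ ⟨W, hW, rfl⟩
  exact isConjugacyFunctor_induced (h W hW)

theorem map_normalizer_inf {H : Type*} [Group H] (f : H →* G) (hf : Function.Injective f)
    (V : Subgroup H) :
    ((⊤ : Subgroup H) ⊓ Subgroup.normalizer (V : Set H)).map f =
      f.range ⊓ Subgroup.normalizer (V.map f : Set G) := by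
  rw [top_inf_eq]
  have hiff : ∀ x : H, x ∈ Subgroup.normalizer (V : Set H) ↔
      f x ∈ Subgroup.normalizer (V.map f : Set G) := by
    intro x
    rw [mem_normalizer_iff_cj, mem_normalizer_iff_cj]
    have e : cj (V.map f) (f x) = (cj V x).map f := by
      rw [cj, cj, Subgroup.map_map, Subgroup.map_map]
      congr 1
      ext y; simp
    rw [e]
    exact ⟨fun h => by rw [h], fun h => Subgroup.map_injective hf h⟩
  ext y
  constructor
  · rintro ⟨x, hx, rfl⟩
    exact ⟨⟨x, rfl⟩, (hiff x).1 hx⟩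
  · rintro ⟨⟨x, rfl⟩, hy⟩
    exact ⟨x, (hiff x).2 hy, rfl⟩

theorem FusRel.map {H : Type*} [Group H] (f : H →* G) {E : Set H} {S : Subgroup H} {A : Set H}
    {g : H} (h : FusRel E S A g) : FusRel (f '' E) (S.map f) (f '' A) (f g) := by
  have key : ∀ z : H, lcj z A ⊆ S → lcj (f z) (f '' A) ⊆ (S.map f : Subgroup G) := by
    rintro z hz _ ⟨_, ⟨a, ha, rfl⟩, rfl⟩
    exact ⟨_, hz ⟨a, ha, rfl⟩, by simp⟩
  induction h with
  | one hA => rw [map_one]; exact .one (Set.image_mono hA)
  | @step g x _ hx hs ih =>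
    rw [map_mul]
    exact .step _ ih ⟨x, hx, rfl⟩ (by rw [← map_mul]; exact key _ hs)

variable [Finite G] [Fact p.Prime] {𝓦 : Set (∀ (Q : Type u) [Group Q], Subgroup Q)}

theorem sylIn_map_injective {H : Type*} [Group H] [Finite H] (f : H →* G)
    (hf : Function.Injective f) {T : Subgroup H} (hT : SylIn p T ⊤) :
    SylIn p (T.map f) f.range := by
  refine ⟨f.range_eq_map ▸ Subgroup.map_mono le_top, hT.isPGroup.map f, ?_⟩
  rw [f.range_eq_map, Subgroup.relIndex_map_map_of_injective _ _ hf]
  exact hT.not_dvd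

theorem familyFus_map {H : Type u} [Group H] [Finite H] (f : H →* G) (hf : Function.Injective f)
    (h𝓦 : ∀ W ∈ 𝓦, IsCharPFunctor.{u} p W)
    (h : FamilyControlsStrongFusionIn p ((fun W => inducedFunctor (G := H) W) '' 𝓦) ⊤) :
    FamilyControlsStrongFusionIn p ((fun W => inducedFunctor (G := G) W) '' 𝓦) f.range := by
  obtain ⟨T, hT, hf'⟩ := (familyFus_iff _).1 h
  refine (familyFus_iff _).2 ⟨T.map f, sylIn_map_injective f hf hT, ?_⟩
  rintro A g ⟨g, rfl⟩ hA hgA
  have hA1 : A = f '' (f ⁻¹' A) := (Set.image_preimage_eq_of_subset fun a ha => by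
    obtain ⟨x, -, rfl⟩ := hA ha; exact ⟨x, rfl⟩).symm
  have hB : f ⁻¹' A ⊆ T := fun x hx => by
    obtain ⟨y, hy, e⟩ := hA hx
    rwa [hf e] at hy
  obtain ⟨k, hk, he⟩ := hf' (f ⁻¹' A) g trivial hB (by
    rintro _ ⟨x, hx, rfl⟩
    obtain ⟨y, hy, e⟩ := hgA ⟨f x, hx, rfl⟩
    rwa [hf (e.trans (by simp : f g * f x * (f g)⁻¹ = f (g * x * g⁻¹)))] at hy)
  refine ⟨f k, hA1 ▸ (hk.map f).mono ?_ subset_rfl, ?_⟩
  · rintro _ ⟨x, ⟨_, ⟨W, hW, rfl⟩, hx⟩, rfl⟩
    refine ⟨_, ⟨W, hW, rfl⟩, ?_⟩
    simp only [inducedFunctor_map_of_injOn (h𝓦 W hW) f hf.injOn hT.isPGroup,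
      ← map_normalizer_inf f hf]
    exact ⟨x, hx, rfl⟩
  · intro a ha
    obtain ⟨x, -, rfl⟩ := hA ha
    have := congrArg f (he x ha)
    simpa using this

theorem familyTransfer_map {H : Type u} [Group H] [Finite H] (f : H →* G)
    (hf : Function.Injective f) (h𝓦 : ∀ W ∈ 𝓦, IsCharPFunctor.{u} p W)
    (h : FamilyControlsTransferIn p ((fun W => inducedFunctor (G := H) W) '' 𝓦) ⊤) :
    FamilyControlsTransferIn p ((fun W => inducedFunctor (G := G) W) '' 𝓦) f.range := by
  obtain ⟨T, hT, hf'⟩ := (familyTransfer_iff _).1 h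
  refine (familyTransfer_iff _).2 ⟨T.map f, sylIn_map_injective f hf hT, ?_⟩
  have h1 := congrArg (Subgroup.map f) hf'
  simp only [Subgroup.map_inf _ _ f hf, Subgroup.map_commutator, iSup_image, Subgroup.map_iSup,
    ← f.range_eq_map] at h1
  rw [FamTransAt]
  simp only [iSup_image]
  rw [h1]
  refine iSup_congr fun W => iSup_congr fun hW => ?_
  rw [inducedFunctor_map_of_injOn (h𝓦 W hW) f hf.injOn hT.isPGroup,
    ← map_normalizer_inf f hf, Subgroup.map_inf _ _ f hf, ← f.range_eq_map]

theorem familyFus_subgroup (h𝓦 : ∀ W ∈ 𝓦, IsCharPFunctor.{u} p W) (H : Subgroup G)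
    (h : FamilyControlsStrongFusionIn p ((fun W => inducedFunctor (G := H) W) '' 𝓦) ⊤) :
    FamilyControlsStrongFusionIn p ((fun W => inducedFunctor (G := G) W) '' 𝓦) H := by
  simpa using familyFus_map H.subtype H.subtype_injective h𝓦 h

theorem familyTransfer_subgroup (h𝓦 : ∀ W ∈ 𝓦, IsCharPFunctor.{u} p W) (H : Subgroup G)
    (h : FamilyControlsTransferIn p ((fun W => inducedFunctor (G := H) W) '' 𝓦) ⊤) :
    FamilyControlsTransferIn p ((fun W => inducedFunctor (G := G) W) '' 𝓦) H := by
  simpa using familyTransfer_map H.subtype H.subtype_injective h𝓦 h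

end Cfsg.Agent.Fusion
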