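import Mathlib
import Cfsg.Prelude.Def_ConjugacyFunctors
import Cfsg.Agent.Lib.Fusion.LocalGlobal
import Cfsg.Agent.Lib.Fusion.Sections
import Cfsg.Agent.Lib.Fusion.NPC

/-!
# Reduction of control of fusion and transfer to constrained sections
-/

set_option autoImplicit false

open scoped commutatorElement

universe u

namespace Cfsg.Agent.Fusion

variable {G : Type u} [Group G] [Finite G] {p : ℕ} [hp : Fact p.Prime] {S : Subgroup G}

/-- Fusion of a factorized group. -/
theorem FusPred.of_factorization {Φ : Set G → G → Prop} (hΦ : FusPred S Φ) (hS : SylIn p S ⊤)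
    {L M : Subgroup G} (hSL : S ≤ L) (hSM : S ≤ M) (hprod : ∀ g : G, ∃ l ∈ L, ∃ m ∈ M, g = l * m)
    (hL : ∀ x ∈ L, ∀ A : Set G, A ⊆ S → lcj x A ⊆ S → Φ A x)
    (hM : ∀ x ∈ M, ∀ A : Set G, A ⊆ S → lcj x A ⊆ S → Φ A x)
    {A : Set G} {g : G} (hA : A ⊆ S) (hgA : lcj g A ⊆ S) : Φ A g := by
  obtain ⟨l, hl, m, hm, rfl⟩ := hprod g
  have hmA : lcj m A ⊆ (M ⊓ L : Subgroup G) := by
    rintro _ ⟨a, ha, rfl⟩
    refine Subgroup.mem_inf.2 ⟨mul_mem (mul_mem hm (hSM (hA ha))) (inv_mem hm), ?_⟩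
    have := mul_mem (mul_mem (inv_mem hl) (hSL (hgA ⟨a, ha, rfl⟩))) hl
    convert this using 1
    group
  have hP : IsPGroup p (cj (Subgroup.closure A) m) :=
    isPGroup_cj (hS.isPGroup.to_le ((Subgroup.closure_le S).2 hA)) m
  obtain ⟨k, hk, hkS⟩ := (hS.mono (le_inf hSM hSL) le_top).conj_le hP
    (lcj_subset_iff_closure.1 hmA)
  rw [cj_cj, ← lcj_subset_iff_closure] at hkS
  have h1 : lcj (l * k⁻¹) (lcj (k * m) A) ⊆ S := by
    rw [lcj_lcj, show l * k⁻¹ * (k * m) = l * m by group]; exact hgA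
  have := hΦ.mul hA hkS (hM _ (mul_mem hk.1 hm) A hA hkS)
    (hL _ (mul_mem hl (inv_mem hk.2)) _ hkS h1)
  rwa [show l * k⁻¹ * (k * m) = l * m by group] at this

theorem comap_normalizer_quotient {N : Subgroup G} [N.Normal] (V : Subgroup (G ⧸ N)) :
    (Subgroup.normalizer (V : Set (G ⧸ N))).comap (QuotientGroup.mk' N) =
      Subgroup.normalizer (V.comap (QuotientGroup.mk' N) : Set G) :=
  Subgroup.comap_normalizer_eq_of_surjective V (QuotientGroup.mk'_surjective N)

theorem exists_lift_normalizer {N : Subgroup G} [N.Normal] (hN : (Nat.card N).Coprime p)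
    {V : Subgroup G} (hV : IsPGroup p V) {y : G ⧸ N}
    (hy : y ∈ Subgroup.normalizer (V.map (QuotientGroup.mk' N) : Set (G ⧸ N))) :
    ∃ x ∈ Subgroup.normalizer (V : Set G), QuotientGroup.mk' N x = y := by
  obtain ⟨x₀, rfl⟩ := QuotientGroup.mk'_surjective N y
  have hx : x₀ ∈ Subgroup.normalizer ((N ⊔ V : Subgroup G) : Set G) := by
    have : x₀ ∈ (Subgroup.normalizer (V.map (QuotientGroup.mk' N) : Set (G ⧸ N))).comap
        (QuotientGroup.mk' N) := hy
    rwa [comap_normalizer_quotient, QuotientGroup.comap_map_mk'] at this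
  have hsyl : SylIn p V (N ⊔ V) := by
    refine ⟨le_sup_right, hV, ?_⟩
    intro hdvd
    have hN' : V.relIndex (N ⊔ V) ∣ Nat.card N := by
      have h0 := card_sup_dvd N V
      have h1 := Subgroup.relIndex_mul_relIndex ⊥ V (V ⊔ N) bot_le le_sup_left
      rw [Subgroup.relIndex_bot_left, Subgroup.relIndex_bot_left] at h1
      rw [← h1, sup_comm] at h0
      exact (Nat.mul_dvd_mul_iff_left Nat.card_pos).1 h0
    exact coprime_card_iff_not_dvd.1 hN (hdvd.trans hN')
  obtain ⟨n, hn, hnx⟩ := frattini_conj hsyl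
    (H := Subgroup.normalizer ((N ⊔ V : Subgroup G) : Set G)) le_rfl hx
  obtain ⟨v, hv, n', hn', rfl⟩ := Subgroup.mem_sup_of_normal_right.1
    (show n ∈ V ⊔ N by rwa [sup_comm])
  refine ⟨n' * x₀, ?_, ?_⟩
  · have := mul_mem (inv_mem (Subgroup.le_normalizer hv)) hnx
    rwa [← mul_assoc, inv_mul_cancel_left] at this
  · rw [map_mul, show QuotientGroup.mk' N n' = 1 from (QuotientGroup.eq_one_iff n').2 hn', one_mul]

theorem injOn_mk_of_coprime {N : Subgroup G} [N.Normal] (hN : (Nat.card N).Coprime p)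
    (hS : IsPGroup p S) : Set.InjOn (QuotientGroup.mk' N) S := by
  intro a ha b hb h
  have h1 : a⁻¹ * b ∈ N ⊓ S :=
    Subgroup.mem_inf.2 ⟨(QuotientGroup.eq).1 h, mul_mem (inv_mem ha) hb⟩
  rw [coprime_inf_pGroup hN hS, Subgroup.mem_bot, inv_mul_eq_one] at h1
  exact h1

theorem sylIn_map_mk {N : Subgroup G} [N.Normal] (hS : SylIn p S ⊤) :
    SylIn p (S.map (QuotientGroup.mk' N)) ⊤ := by
  refine ⟨le_top, hS.isPGroup.map _, ?_⟩
  rw [Subgroup.relIndex_top_right]
  intro h
  have h0 := hS.not_dvd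
  rw [Subgroup.relIndex_top_right] at h0
  exact h0 (h.trans (Subgroup.index_map_dvd S (QuotientGroup.mk'_surjective N)))

variable {𝓦 : Set (∀ (Q : Type u) [Group Q], Subgroup Q)}

/-- The fusion of `G` is controlled by a family if it is so modulo a normal `p'`-subgroup. -/
theorem familyFus_of_pPrime_quotient (h𝓦 : ∀ W ∈ 𝓦, IsCharPFunctor.{u} p W) (hS : SylIn p S ⊤)
    {N : Subgroup G} [N.Normal] (hN : (Nat.card N).Coprime p)
    (h : FamilyControlsStrongFusionIn p ((fun W => inducedFunctor (G := G ⧸ N) W) '' 𝓦) ⊤) :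
    FamFusAt ((fun W => inducedFunctor (G := G) W) '' 𝓦) ⊤ S := by
  set π := QuotientGroup.mk' N
  have hinj : Set.InjOn π S := injOn_mk_of_coprime hN hS.isPGroup
  obtain ⟨T, hT, hf⟩ := (familyFus_iff _).1 h
  have hf' := hf.sylow (isConjugacyFunctor_image h𝓦) hT (sylIn_map_mk hS)
  intro A g _ hA hgA
  obtain ⟨k, hk, he⟩ := hf' (π '' A) (π g) trivial (Set.image_mono hA) (by
    rintro _ ⟨_, ⟨a, ha, rfl⟩, rfl⟩
    exact ⟨g * a * g⁻¹, hgA ⟨a, ha, rfl⟩, by rw [map_mul, map_mul, map_inv]⟩)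
  have key : ∃ x, π x = k ∧
      FusRel (famE ((fun W => inducedFunctor (G := G) W) '' 𝓦) ⊤ S) S A x := by
    clear he
    induction hk with
    | one _ => exact ⟨1, map_one π, .one hA⟩
    | @step d y _ hy hs ih =>
      obtain ⟨x, hxd, hx⟩ := ih
      obtain ⟨_, ⟨W, hW, rfl⟩, -, hyW⟩ := hy
      set V := inducedFunctor W S
      have hyW' : y ∈ Subgroup.normalizer (V.map π : Set (G ⧸ N)) := by
        rw [← inducedFunctor_map_of_injOn (h𝓦 W hW) π hinj hS.isPGroup]; exact hyW
      have hVS : V ≤ S := inducedFunctor_le W S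
      obtain ⟨z, hz, hzy⟩ := exists_lift_normalizer hN (hS.isPGroup.to_le hVS) hyW'
      have hSV : S ≤ Subgroup.normalizer (V : Set G) :=
        sylow_le_normalizer_functor (isConjugacyFunctor_induced (h𝓦 W hW)) hS.isPGroup
      have hzA : lcj (z * x) A ⊆
          (Subgroup.normalizer (V : Set G) ⊓ (S ⊔ N) : Subgroup G) := by
        rintro _ ⟨a, ha, rfl⟩
        refine ⟨?_, ?_⟩
        · have h1 := hx.subset ⟨a, ha, rfl⟩
          have := mul_mem (mul_mem hz (hSV h1)) (inv_mem hz)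
          rw [show z * (x * a * x⁻¹) * z⁻¹ = z * x * a * (z * x)⁻¹ by group] at this
          exact this
        · obtain ⟨s, hs', hse⟩ := hs ⟨π a, ⟨a, ha, rfl⟩, rfl⟩
          have hsN : s⁻¹ * (z * x * a * (z * x)⁻¹) ∈ N := by
            refine (QuotientGroup.eq).1 ?_
            show π s = π _
            rw [hse, map_mul, map_mul, map_inv, map_mul, hzy, hxd]
          have := mul_mem (Subgroup.mem_sup_left (T := N) hs') (Subgroup.mem_sup_right (S := S) hsN)
          rwa [mul_inv_cancel_left] at this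
      have hP : IsPGroup p (cj (Subgroup.closure A) (z * x)) :=
        isPGroup_cj (hS.isPGroup.to_le ((Subgroup.closure_le S).2 hA)) _
      obtain ⟨c, hc, hcS⟩ := (hS.mono (le_inf hSV le_sup_left) le_top).conj_le hP
        (lcj_subset_iff_closure.1 hzA)
      obtain ⟨s, hs', n, hn, rfl⟩ := Subgroup.mem_sup_of_normal_right.1 hc.2
      have hnV : n ∈ Subgroup.normalizer (V : Set G) := by
        have := mul_mem (inv_mem (hSV hs')) hc.1
        rwa [inv_mul_cancel_left] at this
      refine ⟨n * z * x, ?_, hx.step (n * z) ⟨_, ⟨W, hW, rfl⟩, trivial, mul_mem hnV hz⟩ ?_⟩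
      · rw [map_mul, map_mul, hxd, hzy,
          show π n = 1 from (QuotientGroup.eq_one_iff n).2 hn, one_mul]
      · rw [mul_assoc, lcj_subset_iff_closure]
        rw [cj_cj, mul_assoc, ← cj_cj, cj_le_iff, cj_eq_self (inv_mem (Subgroup.le_normalizer hs'))] at hcS
        exact hcS
  obtain ⟨x, hxk, hx⟩ := key
  refine ⟨x, hx, fun a ha => hinj (hx.subset ⟨a, ha, rfl⟩) (hgA ⟨a, ha, rfl⟩) ?_⟩
  have := he (π a) ⟨a, ha, rfl⟩
  rw [← hxk] at this
  simpa using this

/-- The transfer of `G` is controlled by a family if it is so modulo a normal `p'`-subgroup. -/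
theorem familyTransfer_of_pPrime_quotient (h𝓦 : ∀ W ∈ 𝓦, IsCharPFunctor.{u} p W)
    (hS : SylIn p S ⊤) {N : Subgroup G} [N.Normal] (hN : (Nat.card N).Coprime p)
    (h : FamilyControlsTransferIn p ((fun W => inducedFunctor (G := G ⧸ N) W) '' 𝓦) ⊤) :
    FamTransAt ((fun W => inducedFunctor (G := G) W) '' 𝓦) ⊤ S := by
  set π := QuotientGroup.mk' N
  have hinj : Set.InjOn π S := injOn_mk_of_coprime hN hS.isPGroup
  obtain ⟨T, hT, hf⟩ := (familyTransfer_iff _).1 h
  have hf' := hf.sylow (isConjugacyFunctor_image h𝓦) hT (sylIn_map_mk hS)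
  refine le_antisymm ?_ (iSup₂_le fun W _ => inf_le_inf_left _
    (Subgroup.commutator_mono le_top le_top))
  rintro s ⟨hsS, hs⟩
  have h1 : π s ∈ S.map π ⊓ ⁅(⊤ : Subgroup (G ⧸ N)), ⊤⁆ := by
    refine ⟨⟨s, hsS, rfl⟩, ?_⟩
    rw [← Subgroup.map_top_of_surjective π (QuotientGroup.mk'_surjective N),
      ← Subgroup.map_commutator]
    exact ⟨s, hs, rfl⟩
  rw [hf'] at h1
  set M := ⨆ W' ∈ (fun W => inducedFunctor (G := G) W) '' 𝓦, S ⊓
    ⁅(⊤ : Subgroup G) ⊓ Subgroup.normalizer (W' S : Set G),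
      (⊤ : Subgroup G) ⊓ Subgroup.normalizer (W' S : Set G)⁆
  have hmem : ∀ W ∈ 𝓦, S ⊓
      ⁅(⊤ : Subgroup G) ⊓ Subgroup.normalizer (inducedFunctor W S : Set G),
        (⊤ : Subgroup G) ⊓ Subgroup.normalizer (inducedFunctor W S : Set G)⁆ ≤ M := fun W hW =>
    le_iSup₂_of_le (inducedFunctor (G := G) W) ⟨W, hW, rfl⟩ le_rfl
  have hle : (⨆ W' ∈ (fun W => inducedFunctor (G := G ⧸ N) W) '' 𝓦, S.map π ⊓
      ⁅(⊤ : Subgroup (G ⧸ N)) ⊓ Subgroup.normalizer (W' (S.map π) : Set (G ⧸ N)),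
        (⊤ : Subgroup (G ⧸ N)) ⊓ Subgroup.normalizer (W' (S.map π) : Set (G ⧸ N))⁆) ≤ M.map π := by
    refine iSup₂_le ?_
    rintro _ ⟨W, hW, rfl⟩
    simp only [inducedFunctor_map_of_injOn (h𝓦 W hW) π hinj hS.isPGroup, top_inf_eq]
    set V := inducedFunctor W S
    set L := Subgroup.normalizer (V : Set G)
    have hVS : V ≤ S := inducedFunctor_le W S
    have hLle : Subgroup.normalizer (V.map π : Set (G ⧸ N)) ≤ L.map π := fun y hy => by
      obtain ⟨x, hx, he⟩ := exists_lift_normalizer hN (hS.isPGroup.to_le hVS) hy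
      exact ⟨x, hx, he⟩
    refine le_trans (inf_le_inf_left _ (Subgroup.commutator_mono hLle hLle)) ?_
    rw [← Subgroup.map_commutator]
    rintro _ ⟨⟨t, ht, rfl⟩, l, hl, hle⟩
    refine ⟨t, hmem W hW (Subgroup.mem_inf.2 ⟨ht, ?_⟩), rfl⟩
    show t ∈ ⁅(⊤ : Subgroup G) ⊓ L, (⊤ : Subgroup G) ⊓ L⁆
    rw [top_inf_eq]
    have htL : t ∈ L :=
      sylow_le_normalizer_functor (isConjugacyFunctor_induced (h𝓦 W hW)) hS.isPGroup ht
    have hlL : l ∈ L := Subgroup.commutator_le.2 (fun a ha b hb => by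
      rw [commutatorElement_def]
      exact mul_mem (mul_mem (mul_mem ha hb) (inv_mem ha)) (inv_mem hb)) hl
    have hn : l⁻¹ * t ∈ N := (QuotientGroup.eq).1 hle
    have hlc : (⟨l, hlL⟩ : L) ∈ commutator L := by
      rw [← Subgroup.map_subtype_commutator] at hl
      obtain ⟨l', hl', he⟩ := hl
      rwa [show (⟨l, hlL⟩ : L) = l' from Subtype.ext he.symm]
    suffices htc : (⟨t, htL⟩ : L) ∈ commutator L by
      rw [← Subgroup.map_subtype_commutator]
      exact ⟨_, htc, rfl⟩
    rw [← Abelianization.ker_of, MonoidHom.mem_ker] at hlc ⊢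
    have e : (⟨t, htL⟩ : L) = ⟨l, hlL⟩ * ⟨l⁻¹ * t, mul_mem (inv_mem hlL) htL⟩ :=
      Subtype.ext (mul_inv_cancel_left l t).symm
    rw [← orderOf_eq_one_iff]
    obtain ⟨j, hj⟩ := IsPGroup.iff_orderOf.1 hS.isPGroup ⟨t, ht⟩
    rw [Subgroup.orderOf_mk] at hj
    refine Nat.eq_one_of_dvd_coprimes (hN.pow_right j) ?_
      ((orderOf_map_dvd _ _).trans (by rw [Subgroup.orderOf_mk, hj]))
    rw [e, map_mul, hlc, one_mul]
    refine (orderOf_map_dvd _ _).trans ?_
    rw [Subgroup.orderOf_mk, ← Subgroup.orderOf_mk (l⁻¹ * t) hn]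
    exact orderOf_dvd_natCard _
  obtain ⟨m, hm, hme⟩ := hle h1
  have hmS : m ∈ S := (iSup₂_le fun W' _ => inf_le_left : M ≤ S) hm
  exact (hinj hmS hsS hme) ▸ hm

theorem exists_proper_factor (hS : SylIn p S ⊤) (h0 : pPrimeCore p G = ⊥)
    (hc : ¬ Subgroup.centralizer (pCore p G : Set G) ≤ pCore p G) :
    S ≠ pCore p G ∧ ∃ M : Subgroup G, S ≤ M ∧ M ≠ ⊤ ∧
      ∀ g : G, ∃ l ∈ Subgroup.centralizer (pCore p G : Set G) ⊔ S, ∃ m ∈ M, g = l * m := by
  set Q := pCore p G
  set C := Subgroup.centralizer (Q : Set G)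
  haveI hCn : C.Normal := Subgroup.normal_centralizer (H := Q)
  have hQS : Q ≤ S := pCore_le_sylIn hS
  have hD : SylIn p (S ⊓ C) C := hS.inf_normal le_top (by rw [Subgroup.normalizer_eq_top])
  have hDQ : ¬ S ⊓ C ≤ Q := by
    intro hle
    obtain ⟨P, hP⟩ := hD.exists_sylow_subgroupOf
    have hnpc : HasNormalPComplement p C := by
      refine hnpc_of_normalizer_le_centralizer P fun x _ => ?_
      rw [Subgroup.mem_centralizer_iff]
      intro y hy
      replace hy : y ∈ (P : Subgroup C) := hy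
      rw [hP] at hy
      exact Subtype.ext (Subgroup.mem_centralizer_iff.1 x.2 y (hle hy))
    haveI : ((pResidual p C).map C.subtype).Normal := ConjAct.normal_of_characteristic_of_normal
    have h1 : (pResidual p C).map C.subtype ≤ pPrimeCore p G := le_pPrimeCore (by
      rw [Subgroup.card_map_of_injective C.subtype_injective]; exact hnpc_iff.1 hnpc)
    rw [h0, le_bot_iff, Subgroup.map_eq_bot_iff_of_injective _ C.subtype_injective] at h1
    refine hc (le_pCore fun x => ?_)
    obtain ⟨k, hk⟩ := (isPGroup_quotient_pResidual (p := p) (G := C)) (QuotientGroup.mk x)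
    refine ⟨k, ?_⟩
    rwa [← QuotientGroup.mk_pow, QuotientGroup.eq_one_iff, h1, Subgroup.mem_bot] at hk
  refine ⟨fun h => hDQ (h ▸ inf_le_left), ?_⟩
  set F := S ⊓ (Q ⊔ C)
  have hF : SylIn p F (Q ⊔ C) := hS.inf_normal le_top (by rw [Subgroup.normalizer_eq_top])
  have hSF : S ≤ Subgroup.normalizer (F : Set G) := by
    intro s hs
    rw [mem_normalizer_iff_cj, cj_inf, cj_eq_self (Subgroup.le_normalizer hs), cj_of_normal]
  refine ⟨Subgroup.normalizer (F : Set G), hSF, fun h => hDQ ?_, fun g => ?_⟩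
  · haveI : F.Normal := Subgroup.normalizer_eq_top_iff.1 h
    exact (le_inf inf_le_left (inf_le_right.trans le_sup_right)).trans (le_pCore hF.isPGroup)
  · obtain ⟨k, hk, hkg⟩ := frattini_conj hF (H := ⊤)
      (by rw [Subgroup.normalizer_eq_top]) (Subgroup.mem_top g)
    refine ⟨k⁻¹, inv_mem ((sup_le (hQS.trans le_sup_right) le_sup_left : Q ⊔ C ≤ C ⊔ S) hk),
      k * g, hkg, (inv_mul_cancel_left k g).symm⟩

theorem centralizer_sylIn_top (hS : SylIn p S ⊤) (h : S = ⊤) :
    Subgroup.centralizer (pCore p G : Set G) ≤ pCore p G := by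
  have : IsPGroup p (⊤ : Subgroup G) := h ▸ hS.isPGroup
  exact le_top.trans (le_pCore this)

/-- The induction step for fusion. -/
theorem familyFus_step (h𝓦 : ∀ W ∈ 𝓦, IsCharPFunctor.{u} p W)
    (hsub : ∀ H : Subgroup G, H ≠ ⊤ →
      FamilyControlsStrongFusionIn p ((fun W => inducedFunctor (G := H) W) '' 𝓦) ⊤)
    (hquot : ∀ (N : Subgroup G) [N.Normal], N ≠ ⊥ →
      FamilyControlsStrongFusionIn p ((fun W => inducedFunctor (G := G ⧸ N) W) '' 𝓦) ⊤)
    (hcon : Subgroup.centralizer (pCore p G : Set G) ≤ pCore p G →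
      FamilyControlsStrongFusionIn p ((fun W => inducedFunctor (G := G) W) '' 𝓦) ⊤) :
    FamilyControlsStrongFusionIn p ((fun W => inducedFunctor (G := G) W) '' 𝓦) ⊤ := by
  obtain ⟨S, hS⟩ := exists_sylIn (p := p) (⊤ : Subgroup G)
  refine (familyFus_iff _).2 ⟨S, hS, ?_⟩
  have hW' := isConjugacyFunctor_image (G := G) h𝓦
  by_cases h0 : pPrimeCore p G = ⊥
  swap
  · exact familyFus_of_pPrime_quotient h𝓦 hS (card_pPrimeCore_coprime p G) (hquot _ h0)
  by_cases hQ : pCore p G = ⊥
  · refine famFusAt_of_local hS hW' Set.univ (exists_extremal_top hS) fun U _ hU hUS _ =>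
      familyFus_subgroup h𝓦 _ (hsub _ fun h => hU ?_)
    haveI : U.Normal := Subgroup.normalizer_eq_top_iff.1 h
    exact le_bot_iff.1 (hQ ▸ le_pCore (hS.isPGroup.to_le hUS))
  by_cases hc : Subgroup.centralizer (pCore p G : Set G) ≤ pCore p G
  · obtain ⟨T, hT, hf⟩ := (familyFus_iff _).1 (hcon hc)
    exact hf.sylow hW' hT hS
  set 𝓥 := (fun W => inducedFunctor (G := G) W) '' 𝓦
  have hΦ := fusPred_fus (E := famE 𝓥 ⊤ S) famE_inv S
  have hproper : ∀ H : Subgroup G, S ≤ H → H ≠ ⊤ → ∀ x ∈ H, ∀ A : Set G, A ⊆ S → lcj x A ⊆ S →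
      Fus (famE 𝓥 ⊤ S) S A x := by
    intro H hSH hH x hx A hA hxA
    obtain ⟨T, hT, hf⟩ := (familyFus_iff _).1 (familyFus_subgroup h𝓦 H (hsub H hH))
    obtain ⟨k, hk, he⟩ := hf.sylow hW' hT (hS.mono hSH le_top) A x hx hA hxA
    exact ⟨k, hk.mono (fun y ⟨W, hW, hy⟩ => ⟨W, hW, trivial, hy.2⟩) subset_rfl, he⟩
  obtain ⟨hSQ, M, hSM, hM, hprod⟩ := exists_proper_factor hS h0 hc
  intro A g _ hA hgA
  set Q := pCore p G
  set C := Subgroup.centralizer (Q : Set G)
  haveI hCn : C.Normal := Subgroup.normal_centralizer (H := Q)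
  by_cases hL : C ⊔ S = ⊤
  swap
  · exact hΦ.of_factorization hS le_sup_right hSM hprod (hproper _ le_sup_right hL)
      (hproper _ hSM hM) hA hgA
  have hQS : Q ≤ S := pCore_le_sylIn hS
  have hSne : S ≠ ⊤ := fun h => hc (centralizer_sylIn_top hS h)
  set π := QuotientGroup.mk' Q
  have hcomapS : (S.map π).comap π = S := by
    rw [QuotientGroup.comap_map_mk', sup_eq_right.2 hQS]
  obtain ⟨T', hT', hf'⟩ := (familyFus_iff _).1 (hquot Q hQ)
  have hfq := hf'.sylow (isConjugacyFunctor_image h𝓦) hT' (sylIn_map_mk (N := Q) hS)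
  have step : ∀ T x, TameStep p S T x → Q ≤ T → Fus (famE 𝓥 ⊤ S) S (T : Set G) x := by
    intro T x hx hQT
    obtain ⟨Q', -, hTeq, hxN, hsyl, -, -⟩ := hx
    have hTS : T ≤ S := hTeq ▸ inf_le_left
    set N := Subgroup.normalizer (T : Set G)
    obtain ⟨k, hk, he⟩ := hfq (π '' (T : Set G)) (π x) trivial (Set.image_mono hTS) (by
      rintro _ ⟨_, ⟨t, ht, rfl⟩, rfl⟩
      exact ⟨x * t * x⁻¹, hTS ((Subgroup.mem_normalizer_iff.1 hxN t).1 ht),
        by rw [map_mul, map_mul, map_inv]⟩)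
    have key : ∃ h, π h = k ∧ Fus (famE 𝓥 ⊤ S) S (T : Set G) h ∧
        lcj h (T : Set G) ⊆ S := by
      clear he
      induction hk with
      | one _ => exact ⟨1, map_one π, hΦ.one hTS, by rw [lcj_one]; exact hTS⟩
      | @step d y _ hy hs ih =>
        obtain ⟨h, hhd, hh, hhS⟩ := ih
        obtain ⟨_, ⟨W, hW, rfl⟩, -, hyW⟩ := hy
        obtain ⟨z, rfl⟩ := QuotientGroup.mk'_surjective Q y
        have hW2 := isConjugacyFunctor_induced (G := G ⧸ Q) (h𝓦 W hW)
        set V := (inducedFunctor W (S.map π)).comap π with hV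
        set H := Subgroup.normalizer (V : Set G) with hHdef
        have hzH : z ∈ H := by
          rw [hHdef, hV, ← comap_normalizer_quotient]; exact hyW
        have hSH : S ≤ H := by
          intro s hs
          rw [hHdef, hV, ← comap_normalizer_quotient]
          exact sylow_le_normalizer_functor hW2 (hS.isPGroup.map π) ⟨s, hs, rfl⟩
        have hH : H ≠ ⊤ := by
          intro htop
          have hVS : V ≤ S := (Subgroup.comap_mono (inducedFunctor_le W _)).trans_eq hcomapS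
          haveI : V.Normal := Subgroup.normalizer_eq_top_iff.1 htop
          have hbot : inducedFunctor W (S.map π) = ⊥ := by
            have := Subgroup.map_mono (f := π) (le_pCore (hS.isPGroup.to_le hVS) : V ≤ Q)
            rwa [hV, Subgroup.map_comap_eq_self_of_surjective (QuotientGroup.mk'_surjective Q),
              QuotientGroup.map_mk'_self, le_bot_iff] at this
          have h1 : S.map π = ⊥ := by
            by_contra hne
            exact (hW2 _ (hS.isPGroup.map π)).2.1 hne hbot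
          refine hSQ (le_antisymm ?_ hQS)
          rwa [← QuotientGroup.ker_mk' Q, ← Subgroup.map_eq_bot_iff]
        have hzS : lcj (z * h) (T : Set G) ⊆ S := by
          rintro _ ⟨t, ht, rfl⟩
          have h2 : π (z * h * t * (z * h)⁻¹) ∈ S.map π := by
            have := hs ⟨π t, ⟨t, ht, rfl⟩, rfl⟩
            rw [map_mul, map_mul, map_inv, map_mul, hhd]
            exact this
          have h3 : z * h * t * (z * h)⁻¹ ∈ (S.map π).comap π := h2
          rwa [hcomapS] at h3
        refine ⟨z * h, by rw [map_mul, hhd], hΦ.mul hTS hhS hh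
          (hproper H hSH hH z hzH _ hhS (by rwa [lcj_lcj])), hzS⟩
    obtain ⟨h, hhk, hh, hhS⟩ := key
    have hmod : ∀ t ∈ T, (x * t * x⁻¹)⁻¹ * (h * t * h⁻¹) ∈ Q := by
      intro t ht
      refine (QuotientGroup.eq).1 ?_
      show π _ = π _
      have := he (π t) ⟨t, ht, rfl⟩
      rw [← hhk] at this
      simpa using this.symm
    have hhN : h ∈ N := mem_normalizer_of_cj_le (by
      rintro _ ⟨t, ht, rfl⟩
      have h1 := mul_mem ((Subgroup.mem_normalizer_iff.1 hxN t).1 ht) (hQT (hmod t ht))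
      rw [mul_inv_cancel_left] at h1
      exact h1)
    set d : N := ⟨h⁻¹ * x, mul_mem (inv_mem hhN) hxN⟩
    obtain ⟨P, hP⟩ := hsyl.exists_sylow_subgroupOf
    let D : Subgroup N :=
      { carrier := {y | ∀ t ∈ T, t⁻¹ * ((y : G) * t * (y : G)⁻¹) ∈ Q}
        one_mem' := fun t _ => by simp
        mul_mem' := fun {a b} ha hb t ht => by
          have h1 := hb t ht
          have h2 := ha _ ((Subgroup.mem_normalizer_iff.1 b.2 t).1 ht)
          have := mul_mem h1 h2
          simpa [mul_assoc] using this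
        inv_mem' := fun {a} ha t ht => by
          have h1 := ha _ ((Subgroup.mem_normalizer_iff.1 (inv_mem a.2) t).1 ht)
          have := inv_mem h1
          simpa [mul_assoc] using this }
    haveI : (Cfsg.pResidual p D).Characteristic := inferInstance
    have hDcent : ∀ y : D, (orderOf y).Coprime p →
        ∀ t ∈ T, ((y : N) : G) * t * ((y : N) : G)⁻¹ = t := by
      intro y hy t ht
      set z : G := ((y : N) : G) with hz
      have hzo : orderOf z = orderOf y := by rw [hz, Subgroup.orderOf_coe, Subgroup.orderOf_coe]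
      have hzC : z ∈ C := by
        have hq : IsPGroup p (G ⧸ C) := by
          have h' : ((QuotientGroup.mk' C).comp S.subtype).range = ⊤ := by
            rw [MonoidHom.range_comp, Subgroup.range_subtype, eq_top_iff]
            intro b _
            obtain ⟨g₀, rfl⟩ := QuotientGroup.mk'_surjective C b
            obtain ⟨c, hc', s, hs, rfl⟩ :=
              Subgroup.mem_sup_of_normal_left.1 (hL ▸ Subgroup.mem_top g₀)
            exact ⟨s, hs, by rw [map_mul, show QuotientGroup.mk' C c = 1 from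
              (QuotientGroup.eq_one_iff c).2 hc', one_mul]⟩
          exact hS.isPGroup.of_surjective _ (MonoidHom.range_eq_top.1 h')
        exact pResidual_le_of_isPGroup_quotient hq
          (Subgroup.subset_closure (show (orderOf z).Coprime p by rw [hzo]; exact hy))
      set q := t⁻¹ * (z * t * z⁻¹) with hqdef
      have hq : q ∈ Q := y.2 t ht
      have hzq : z * q * z⁻¹ = q := mem_centralizer_set.1 hzC q hq
      have hpow : ∀ j : ℕ, z ^ j * t * (z ^ j)⁻¹ = t * q ^ j := by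
        intro j
        induction j with
        | zero => simp
        | succ j ih =>
          calc z ^ (j + 1) * t * (z ^ (j + 1))⁻¹ = z * (z ^ j * t * (z ^ j)⁻¹) * z⁻¹ := by
                rw [pow_succ']; group
            _ = (z * t * z⁻¹) * (z * q ^ j * z⁻¹) := by rw [ih]; group
            _ = (t * q) * (z * q * z⁻¹) ^ j := by
                rw [conj_pow, hqdef]; group
            _ = t * q ^ (j + 1) := by rw [hzq, pow_succ']; group
      have h5 := hpow (orderOf z)
      rw [pow_orderOf_eq_one] at h5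
      have h6 : q ^ orderOf z = 1 := by
        have : t = t * q ^ orderOf z := by simpa using h5
        exact mul_left_cancel (this.symm.trans (mul_one t).symm)
      obtain ⟨i, hi⟩ := IsPGroup.iff_orderOf.1 (isPGroup_pCore p G) ⟨q, hq⟩
      rw [Subgroup.orderOf_mk] at hi
      have h7 : q = 1 := orderOf_eq_one_iff.1 (Nat.eq_one_of_dvd_coprimes
        ((hzo ▸ hy).pow_right i) (orderOf_dvd_of_pow_eq_one h6) (hi ▸ dvd_rfl))
      rw [hqdef, inv_mul_eq_one] at h7
      exact h7.symm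
    have hd : d ∈ D := by
      intro t ht
      have h1 := hmod t ht
      have h2 := (inferInstance : Q.Normal).conj_mem _ (inv_mem h1) h⁻¹
      show t⁻¹ * (h⁻¹ * x * t * (h⁻¹ * x)⁻¹) ∈ Q
      convert h2 using 1
      group
    haveI hDn : D.Normal := ⟨fun a ha y t ht => by
      have h1 := ha _ ((Subgroup.mem_normalizer_iff.1 (inv_mem y.2) t).1 ht)
      have h2 := (inferInstance : Q.Normal).conj_mem _ h1 (y : G)
      convert h2 using 1
      simp only [Subgroup.coe_mul, Subgroup.coe_inv]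
      group⟩
    obtain ⟨PD, hPD⟩ := ((sylIn_top P).inf_normal (N := D) le_top
      (by rw [Subgroup.normalizer_eq_top])).exists_sylow_subgroupOf
    obtain ⟨c, hc', r, hr, hcr⟩ := Subgroup.mem_sup_of_normal_left.1
      (show (⟨d, hd⟩ : D) ∈ Cfsg.pResidual p D ⊔ (PD : Subgroup D) by
        rw [pResidual_sup_sylow]; trivial)
    rw [hPD] at hr
    have hrS : ((r : N) : G) ∈ S := by
      have h1 : (r : N) ∈ (P : Subgroup N) := hr.1
      rw [hP] at h1
      exact h1.1
    have hfix : ∀ y ∈ Cfsg.pResidual p D, ∀ t ∈ T, ((y : N) : G) * t * ((y : N) : G)⁻¹ = t := by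
      intro y hy t ht
      induction hy using Subgroup.closure_induction with
      | mem y hy => exact hDcent y hy t ht
      | one => simp
      | mul a b _ _ ha hb =>
        calc _ = ((a : N) : G) * (((b : N) : G) * t * ((b : N) : G)⁻¹) * ((a : N) : G)⁻¹ := by
              simp [mul_assoc]
          _ = t := by rw [hb, ha]
      | inv a _ ha =>
        calc _ = ((a : N) : G)⁻¹ * t * ((a : N) : G) := by simp
          _ = ((a : N) : G)⁻¹ * (((a : N) : G) * t * ((a : N) : G)⁻¹) * ((a : N) : G) := by rw [ha]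
          _ = t := by group
    have hcfix := hfix c hc'
    have hdfus : Fus (famE 𝓥 ⊤ S) S (T : Set G) (h⁻¹ * x) := by
      have hr' : Fus (famE 𝓥 ⊤ S) S (T : Set G) ((r : N) : G) :=
        hproper S le_rfl hSne _ hrS _ hTS
          (lcj_subset_coe.2 ((cj_mono hTS _).trans (cj_eq_self_of_mem hrS).le))
      refine hΦ.congr hr' fun t ht => ?_
      have e : h⁻¹ * x = ((c : N) : G) * ((r : N) : G) :=
        congrArg (fun y : D => ((y : N) : G)) hcr.symm
      have hrt : ((r : N) : G) * t * ((r : N) : G)⁻¹ ∈ T :=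
        (Subgroup.mem_normalizer_iff.1 (r : N).2 t).1 ht
      rw [e]
      calc _ = ((c : N) : G) * (((r : N) : G) * t * ((r : N) : G)⁻¹) * ((c : N) : G)⁻¹ := by group
        _ = _ := hcfix _ hrt
    have hdT : lcj (h⁻¹ * x) (T : Set G) = T := by
      rw [lcj_coe, cj_eq_self (mul_mem (inv_mem hhN) hxN)]
    have := hΦ.mul hTS (hdT.subset.trans hTS) hdfus (by rw [hdT]; exact hh)
    rwa [mul_inv_cancel_left] at this
  have hgQ : lcj g (A ∪ Q) ⊆ S := by
    rw [lcj, Set.image_union]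
    exact Set.union_subset hgA
      ((lcj_coe Q g).subset.trans ((cj_of_normal Q g).le.trans hQS))
  have hAQ : A ∪ Q ⊆ (S : Set G) := Set.union_subset hA hQS
  refine hΦ.mono Set.subset_union_left hAQ ?_
  have hrl : ∀ (y : G) (B : Set G), rcj y B = lcj y⁻¹ B := fun y B =>
    Set.image_congr fun a _ => by simp
  have hc0 := alperin hS hAQ (g := g⁻¹) (by rwa [hrl, inv_inv])
  suffices key : ∀ (B : Set G) (u : G), Chain (TameStep p S) B u → (Q : Set G) ⊆ B → B ⊆ S →
      Fus (famE 𝓥 ⊤ S) S B u⁻¹ by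
    simpa using key _ _ hc0 Set.subset_union_right hAQ
  intro B u hu
  induction hu with
  | nil B => intro _ hBS; rw [inv_one]; exact hΦ.one hBS
  | @cons B u T x hx hBT _ ih =>
    intro hQB hBS
    have hQT : Q ≤ T := hQB.trans hBT
    obtain ⟨Q', -, hTeq, hxN, -⟩ := id hx
    have hTS : T ≤ S := hTeq ▸ inf_le_left
    have h1 : Fus (famE 𝓥 ⊤ S) S B x⁻¹ :=
      hΦ.mono hBT hTS (step T x⁻¹ (tameStep_inv hx).2 hQT)
    have h2 : lcj x⁻¹ B ⊆ S := (Set.image_mono hBT).trans
      ((lcj_subset_coe.2 (cj_eq_self (inv_mem hxN)).le).trans hTS)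
    have h3 : (Q : Set G) ⊆ rcj x B := by
      rw [hrl]
      exact (lcj_coe Q x⁻¹).trans (by rw [cj_of_normal]) |>.ge.trans (Set.image_mono hQB)
    rw [mul_inv_rev]
    exact hΦ.mul hBS h2 h1 (by have h4 := ih h3 (by rwa [hrl]); rwa [hrl] at h4)

/-- The induction step for transfer. -/
theorem familyTransfer_step (h𝓦 : ∀ W ∈ 𝓦, IsCharPFunctor.{u} p W)
    (hsub : ∀ H : Subgroup G, H ≠ ⊤ →
      FamilyControlsTransferIn p ((fun W => inducedFunctor (G := H) W) '' 𝓦) ⊤)
    (hquot : ∀ (N : Subgroup G) [N.Normal], N ≠ ⊥ →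
      FamilyControlsTransferIn p ((fun W => inducedFunctor (G := G ⧸ N) W) '' 𝓦) ⊤)
    (hcon : Subgroup.centralizer (pCore p G : Set G) ≤ pCore p G →
      FamilyControlsTransferIn p ((fun W => inducedFunctor (G := G) W) '' 𝓦) ⊤) :
    FamilyControlsTransferIn p ((fun W => inducedFunctor (G := G) W) '' 𝓦) ⊤ := by
  obtain ⟨S, hS⟩ := exists_sylIn (p := p) (⊤ : Subgroup G)
  refine (familyTransfer_iff _).2 ⟨S, hS, ?_⟩
  have hW' := isConjugacyFunctor_image (G := G) h𝓦
  by_cases h0 : pPrimeCore p G = ⊥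
  swap
  · exact familyTransfer_of_pPrime_quotient h𝓦 hS (card_pPrimeCore_coprime p G) (hquot _ h0)
  by_cases hQ : pCore p G = ⊥
  · refine famTransAt_of_local hS hW' Set.univ (exists_extremal_top hS) fun U _ hU hUS _ =>
      familyTransfer_subgroup h𝓦 _ (hsub _ fun h => hU ?_)
    haveI : U.Normal := Subgroup.normalizer_eq_top_iff.1 h
    exact le_bot_iff.1 (hQ ▸ le_pCore (hS.isPGroup.to_le hUS))
  by_cases hc : Subgroup.centralizer (pCore p G : Set G) ≤ pCore p G
  · obtain ⟨T, hT, hf⟩ := (familyTransfer_iff _).1 (hcon hc)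
    exact hf.sylow hW' hT hS
  set 𝓥 := (fun W => inducedFunctor (G := G) W) '' 𝓦
  set M₀ := ⨆ W' ∈ 𝓥, S ⊓ ⁅(⊤ : Subgroup G) ⊓ Subgroup.normalizer (W' S : Set G),
      (⊤ : Subgroup G) ⊓ Subgroup.normalizer (W' S : Set G)⁆ with hM₀
  have hproper : ∀ H : Subgroup G, S ≤ H → H ≠ ⊤ → S ⊓ ⁅H, H⁆ ≤ M₀ := by
    intro H hSH hH
    obtain ⟨T, hT, hf⟩ := (familyTransfer_iff _).1 (familyTransfer_subgroup h𝓦 H (hsub H hH))
    rw [hf.sylow hW' hT (hS.mono hSH le_top)]
    exact iSup₂_mono fun W' _ => inf_le_inf_left _ (Subgroup.commutator_mono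
      (inf_le_inf_right _ le_top) (inf_le_inf_right _ le_top))
  have hfoc : ∀ H : Subgroup G, S ≤ H → H ≠ ⊤ → ∀ x ∈ H, ∀ A : Set G, A ⊆ S → lcj x A ⊆ S →
      FocalPred M₀ A x := by
    intro H hSH hH x hx A hA hxA a ha
    refine hproper H hSH hH ⟨S.mul_mem (S.inv_mem (hA ha)) (hxA ⟨a, ha, rfl⟩), ?_⟩
    have := Subgroup.commutator_mem_commutator (inv_mem (hSH (hA ha))) hx
    simpa [commutatorElement_def, mul_assoc] using this
  obtain ⟨hSQ, M, hSM, hM, hprod⟩ := exists_proper_factor hS h0 hc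
  set Q := pCore p G
  set C := Subgroup.centralizer (Q : Set G)
  haveI hCn : C.Normal := Subgroup.normal_centralizer (H := Q)
  by_cases hL : C ⊔ S = ⊤
  swap
  · exact famTransAt_of_focalPred hS hW' fun x hx g hxg =>
      (fusPred_focal S M₀).of_factorization hS le_sup_right hSM hprod
        (hfoc _ le_sup_right hL) (hfoc _ hSM hM) (by simpa using hx) (by simpa using hxg)
  have hQS : Q ≤ S := pCore_le_sylIn hS
  have hSne : S ≠ ⊤ := fun h => hc (centralizer_sylIn_top hS h)
  have hS' : ⁅S, S⁆ ≤ M₀ := by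
    refine le_trans (le_inf ?_ le_rfl) (hproper S le_rfl hSne)
    exact Subgroup.commutator_le.2 fun a ha b hb => by
      rw [commutatorElement_def]
      exact mul_mem (mul_mem (mul_mem ha hb) (inv_mem ha)) (inv_mem hb)
  have hQM : ∀ q ∈ Q, q ∈ commutator G → q ∈ M₀ := by
    intro q hq hqG
    let φ : S →* Abelianization S := Abelianization.of
    haveI : Fintype (Quotient (MulAction.orbitRel (Subgroup.zpowers q) (G ⧸ S))) :=
      Fintype.ofFinite _
    have hV : MonoidHom.transfer φ q = φ ⟨q, hQS hq⟩ ^ S.index := by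
      rw [MonoidHom.transfer_eq_prod_quotient_orbitRel_zpowers_quot,
        Subgroup.index_eq_sum_minimalPeriod S q, ← Finset.prod_pow_eq_pow_sum]
      refine Finset.prod_congr rfl fun o _ => ?_
      set g₀ := o.out.out
      set k := Function.minimalPeriod (q • ·) o.out
      obtain ⟨c, hc', s, hs, hcs⟩ := Subgroup.mem_sup_of_normal_left.1 (hL ▸ Subgroup.mem_top g₀)
      have hqk : q ^ k ∈ Q := pow_mem hq k
      have h1 : c⁻¹ * q ^ k * c = q ^ k := by
        rw [mul_assoc, Subgroup.mem_centralizer_iff.1 hc' _ hqk, inv_mul_cancel_left]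
      have h2 : g₀⁻¹ * q ^ k * g₀ = s⁻¹ * q ^ k * s := by
        rw [← hcs]
        calc (c * s)⁻¹ * q ^ k * (c * s) = s⁻¹ * (c⁻¹ * q ^ k * c) * s := by group
          _ = _ := by rw [h1]
      have h3 : φ ⟨g₀⁻¹ * q ^ k * g₀, QuotientGroup.out_conj_pow_minimalPeriod_mem S q o.out⟩ =
          φ ((⟨s, hs⟩ : S)⁻¹ * (⟨q, hQS hq⟩ : S) ^ k * ⟨s, hs⟩) :=
        congrArg φ (Subtype.ext h2)
      rw [h3, map_mul, map_mul, map_inv, map_pow, mul_right_comm, inv_mul_cancel, one_mul]
    rw [MonoidHom.mem_ker.1 (Abelianization.commutator_subset_ker (MonoidHom.transfer φ) hqG),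
      ← map_pow] at hV
    have h4 : (⟨q, hQS hq⟩ : S) ∈ commutator S := by
      rw [← Abelianization.ker_of, MonoidHom.mem_ker, ← orderOf_eq_one_iff]
      obtain ⟨j, hj⟩ := IsPGroup.iff_orderOf.1 hS.isPGroup ⟨q, hQS hq⟩
      refine Nat.eq_one_of_dvd_coprimes (a := S.index) (b := p ^ j) ?_
        (orderOf_dvd_of_pow_eq_one (by rw [← map_pow]; exact hV.symm))
        (hj ▸ orderOf_map_dvd φ _)
      refine Nat.Coprime.pow_right j ?_
      have := hS.not_dvd
      rwa [Subgroup.relIndex_top_right, ← hp.out.coprime_iff_not_dvd, Nat.coprime_comm] at this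
    refine hS' ?_
    rw [← Subgroup.map_subtype_commutator]
    exact ⟨_, h4, rfl⟩
  refine le_antisymm ?_ (iSup₂_le fun W' _ => inf_le_inf_left _
    (Subgroup.commutator_mono le_top le_top))
  show S ⊓ ⁅(⊤ : Subgroup G), ⊤⁆ ≤ M₀
  set π := QuotientGroup.mk' Q
  have hcomapS : (S.map π).comap π = S := by
    rw [QuotientGroup.comap_map_mk', sup_eq_right.2 hQS]
  obtain ⟨T', hT', hf'⟩ := (familyTransfer_iff _).1 (hquot Q hQ)
  have hfq := hf'.sylow (isConjugacyFunctor_image h𝓦) hT' (sylIn_map_mk (N := Q) hS)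
  have hMS : M₀ ≤ S ⊓ ⁅(⊤ : Subgroup G), ⊤⁆ := iSup₂_le fun W' _ => inf_le_inf_left _
    (Subgroup.commutator_mono le_top le_top)
  rintro s ⟨hsS, hs⟩
  have h1 : π s ∈ S.map π ⊓ ⁅(⊤ : Subgroup (G ⧸ Q)), ⊤⁆ := by
    refine ⟨⟨s, hsS, rfl⟩, ?_⟩
    rw [← Subgroup.map_top_of_surjective π (QuotientGroup.mk'_surjective Q),
      ← Subgroup.map_commutator]
    exact ⟨s, hs, rfl⟩
  rw [hfq] at h1
  have hle : (⨆ W' ∈ (fun W => inducedFunctor (G := G ⧸ Q) W) '' 𝓦, S.map π ⊓
      ⁅(⊤ : Subgroup (G ⧸ Q)) ⊓ Subgroup.normalizer (W' (S.map π) : Set (G ⧸ Q)),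
        (⊤ : Subgroup (G ⧸ Q)) ⊓ Subgroup.normalizer (W' (S.map π) : Set (G ⧸ Q))⁆) ≤ M₀.map π := by
    refine iSup₂_le ?_
    rintro _ ⟨W, hW, rfl⟩
    simp only [top_inf_eq]
    have hW2 := isConjugacyFunctor_induced (G := G ⧸ Q) (h𝓦 W hW)
    set V₀ := inducedFunctor W (S.map π)
    set L := (Subgroup.normalizer (V₀ : Set (G ⧸ Q))).comap π
    have hL' : L.map π = Subgroup.normalizer (V₀ : Set (G ⧸ Q)) :=
      Subgroup.map_comap_eq_self_of_surjective (QuotientGroup.mk'_surjective Q) _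
    have hSL : S ≤ L := fun x hx =>
      sylow_le_normalizer_functor hW2 (hS.isPGroup.map π) ⟨x, hx, rfl⟩
    have hLne : L ≠ ⊤ := by
      intro htop
      have hn : Subgroup.normalizer (V₀ : Set (G ⧸ Q)) = ⊤ := by
        rw [← hL', htop, Subgroup.map_top_of_surjective π (QuotientGroup.mk'_surjective Q)]
      haveI : V₀.Normal := Subgroup.normalizer_eq_top_iff.1 hn
      have h2 := le_pCore (p := p) ((hS.isPGroup.map π).to_le (inducedFunctor_le W (S.map π)) :
        IsPGroup p V₀)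
      rw [pCore_quotient_eq_bot, le_bot_iff] at h2
      have h3 : S.map π = ⊥ := by
        by_contra hne
        exact (hW2 _ (hS.isPGroup.map π)).2.1 hne h2
      refine hSQ (le_antisymm ?_ hQS)
      rwa [← QuotientGroup.ker_mk' Q, ← Subgroup.map_eq_bot_iff]
    rw [← hL', ← Subgroup.map_commutator]
    rintro _ ⟨hy, l, hl, rfl⟩
    have hlS : l ∈ S := by
      have : l ∈ (S.map π).comap π := hy
      rwa [hcomapS] at this
    exact ⟨l, hproper L hSL hLne ⟨hlS, hl⟩, rfl⟩
  obtain ⟨m, hm, hme⟩ := hle h1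
  have hqm : m⁻¹ * s ∈ Q := (QuotientGroup.eq).1 hme
  have hqG : m⁻¹ * s ∈ commutator G := by
    rw [commutator_def]
    exact mul_mem (inv_mem (hMS hm).2) hs
  have := mul_mem hm (hQM _ hqm hqG)
  rwa [mul_inv_cancel_left] at this

theorem familyFus_sections (h𝓦 : ∀ W ∈ 𝓦, IsCharPFunctor.{u} p W)
    (hloc : ∀ (X : Type u) [Group X] [Finite X], Involves X G →
      Subgroup.centralizer (pCore p X : Set X) ≤ pCore p X →
      FamilyControlsStrongFusionIn p ((fun W => inducedFunctor (G := X) W) '' 𝓦) ⊤)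
    (X : Type u) [Group X] [Finite X] (hX : Involves X G) :
    FamilyControlsStrongFusionIn p ((fun W => inducedFunctor (G := X) W) '' 𝓦) ⊤ := by
  suffices H : ∀ (n : ℕ) (X : Type u) [Group X] [Finite X], Involves X G → Nat.card X = n →
      FamilyControlsStrongFusionIn p ((fun W => inducedFunctor (G := X) W) '' 𝓦) ⊤ from
    H _ X hX rfl
  intro n
  induction n using Nat.strong_induction_on with
  | _ n IH =>
    intro X _ _ hX hn
    refine familyFus_step h𝓦 (fun H hH => ?_) (fun N _ hN => ?_) (hloc X hX)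
    · refine IH _ (hn ▸ ?_) H (involves_subgroup hX H) rfl
      exact lt_of_le_of_ne (Subgroup.card_le_card_group H)
        fun h => hH (Subgroup.eq_top_of_card_eq H h)
    · refine IH _ (hn ▸ ?_) (X ⧸ N)
        (involves_surjective hX (QuotientGroup.mk' N) (QuotientGroup.mk'_surjective N)) rfl
      rw [Subgroup.card_eq_card_quotient_mul_card_subgroup N]
      exact lt_mul_of_one_lt_right Nat.card_pos ((Subgroup.one_lt_card_iff_ne_bot N).2 hN)

theorem familyTransfer_sections (h𝓦 : ∀ W ∈ 𝓦, IsCharPFunctor.{u} p W)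
    (hloc : ∀ (X : Type u) [Group X] [Finite X], Involves X G →
      Subgroup.centralizer (pCore p X : Set X) ≤ pCore p X →
      FamilyControlsTransferIn p ((fun W => inducedFunctor (G := X) W) '' 𝓦) ⊤)
    (X : Type u) [Group X] [Finite X] (hX : Involves X G) :
    FamilyControlsTransferIn p ((fun W => inducedFunctor (G := X) W) '' 𝓦) ⊤ := by
  suffices H : ∀ (n : ℕ) (X : Type u) [Group X] [Finite X], Involves X G → Nat.card X = n →
      FamilyControlsTransferIn p ((fun W => inducedFunctor (G := X) W) '' 𝓦) ⊤ from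
    H _ X hX rfl
  intro n
  induction n using Nat.strong_induction_on with
  | _ n IH =>
    intro X _ _ hX hn
    refine familyTransfer_step h𝓦 (fun H hH => ?_) (fun N _ hN => ?_) (hloc X hX)
    · refine IH _ (hn ▸ ?_) H (involves_subgroup hX H) rfl
      exact lt_of_le_of_ne (Subgroup.card_le_card_group H)
        fun h => hH (Subgroup.eq_top_of_card_eq H h)
    · refine IH _ (hn ▸ ?_) (X ⧸ N)
        (involves_surjective hX (QuotientGroup.mk' N) (QuotientGroup.mk'_surjective N)) rfl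
      rw [Subgroup.card_eq_card_quotient_mul_card_subgroup N]
      exact lt_mul_of_one_lt_right Nat.card_pos ((Subgroup.one_lt_card_iff_ne_bot N).2 hN)

/-- Transfer of a hypothesis on sections `K ⧸ R` to groups isomorphic to them. -/
theorem familyFus_of_equiv {X Y : Type u} [Group X] [Group Y] [Finite X] [Finite Y]
    (h𝓦 : ∀ W ∈ 𝓦, IsCharPFunctor.{u} p W) (e : X ≃* Y)
    (h : FamilyControlsStrongFusionIn p ((fun W => inducedFunctor (G := X) W) '' 𝓦) ⊤) :
    FamilyControlsStrongFusionIn p ((fun W => inducedFunctor (G := Y) W) '' 𝓦) ⊤ := by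
  have := familyFus_map e.toMonoidHom e.injective h𝓦 h
  rwa [MonoidHom.range_eq_top.2 e.surjective] at this

theorem familyTransfer_of_equiv {X Y : Type u} [Group X] [Group Y] [Finite X] [Finite Y]
    (h𝓦 : ∀ W ∈ 𝓦, IsCharPFunctor.{u} p W) (e : X ≃* Y)
    (h : FamilyControlsTransferIn p ((fun W => inducedFunctor (G := X) W) '' 𝓦) ⊤) :
    FamilyControlsTransferIn p ((fun W => inducedFunctor (G := Y) W) '' 𝓦) ⊤ := by
  have := familyTransfer_map e.toMonoidHom e.injective h𝓦 h
  rwa [MonoidHom.range_eq_top.2 e.surjective] at this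

theorem centralizer_pCore_equiv {X Y : Type*} [Group X] [Group Y] (e : X ≃* Y)
    (h : Subgroup.centralizer (pCore p Y : Set Y) ≤ pCore p Y) :
    Subgroup.centralizer (pCore p X : Set X) ≤ pCore p X := by
  intro x hx
  have h1 : e x ∈ pCore p Y := h (by
    rw [Subgroup.mem_centralizer_iff]
    intro y hy
    replace hy : y ∈ pCore p Y := hy
    rw [← map_pCore_equiv e] at hy
    obtain ⟨z, hz, rfl⟩ := hy
    show e z * e x = e x * e z
    rw [← map_mul, ← map_mul, Subgroup.mem_centralizer_iff.1 hx z hz])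
  rw [← map_pCore_equiv e] at h1
  obtain ⟨z, hz, hze⟩ := h1
  exact e.injective hze ▸ hz

end Cfsg.Agent.Fusion
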