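import Cfsg.Agent.Lib.Fusion.AB
import Cfsg.Agent.Lib.Fusion.Reduction
import Cfsg.Agent.Lib.Solv.Cores

/-!
# The `p'`-core of a centralizer in a solvable group
-/

set_option autoImplicit false

open Cfsg
open scoped commutatorElement

namespace Cfsg.Agent.Fusion

variable {G : Type*} [Group G] [Finite G] {p : ℕ} [hp : Fact p.Prime]

theorem centralizer_pCore_le_of_solvable (hs : Group.IsSolvable G) (h0 : pPrimeCore p G = ⊥) :
    Subgroup.centralizer (pCore p G : Set G) ≤ pCore p G := by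
  have hF : fittingSubgroup G = pCore p G := by
    refine le_antisymm ?_ (Solv.pCore_le_fitting p)
    rw [Solv.fitting_eq_iSup_pCore]
    refine iSup_le fun q => ?_
    by_cases hq : (q : ℕ) = p
    · rw [hq]
    · haveI := Fact.mk q.2
      refine le_trans ?_ (h0.le.trans bot_le)
      refine le_pPrimeCore ?_
      obtain ⟨k, hk⟩ := IsPGroup.iff_card.1 (isPGroup_pCore (q : ℕ) G)
      rw [hk]
      exact ((Nat.coprime_primes q.2 hp.out).2 hq).pow_left k
  have h := Solv.centralizer_fitting_le hs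
  rwa [hF] at h

/-- In a solvable group a `p'`-subgroup normalised by `C(a)`, `a` a `p`-element commuting with it,
lies in the `p'`-core. -/
theorem le_pPrimeCore_of_centralizer (hs : Group.IsSolvable G) {a : G}
    (ha : IsPGroup p ↥(Subgroup.zpowers a)) {W : Subgroup G} (hW : (Nat.card W).Coprime p)
    (hWa : W ≤ Subgroup.centralizer {a})
    (hn : Subgroup.centralizer {a} ≤ Subgroup.normalizer (W : Set G)) : W ≤ pPrimeCore p G := by
  haveI := hs
  obtain ⟨K, hKdef⟩ : ∃ K, K = pPrimeCore p G := ⟨_, rfl⟩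
  haveI : K.Normal := hKdef ▸ inferInstance
  have hK : (Nat.card K).Coprime p := hKdef ▸ card_pPrimeCore_coprime p G
  have h0 : pPrimeCore p (G ⧸ K) = ⊥ := by
    subst hKdef
    exact pPrimeCore_quotient_eq_bot
  haveI hsq : Group.IsSolvable (G ⧸ K) :=
    Group.isSolvable_of_surjective (QuotientGroup.mk'_surjective K)
  set π := QuotientGroup.mk' K
  obtain ⟨Q, hQdef⟩ : ∃ Q, Q = pCore p (G ⧸ K) := ⟨_, rfl⟩
  haveI : Q.Normal := hQdef ▸ inferInstance
  have hQ : IsPGroup p ↥Q := hQdef ▸ isPGroup_pCore p _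
  intro w hw
  rw [← hKdef]
  refine (QuotientGroup.eq_one_iff w).1 ?_
  show π w = 1
  have hwo : (orderOf (π w)).Coprime p := by
    refine Nat.Coprime.coprime_dvd_left ((orderOf_map_dvd π w).trans ?_) hW
    rw [← Subgroup.orderOf_mk w hw]
    exact orderOf_dvd_natCard _
  have hwc : π w ∈ Subgroup.centralizer (Q : Set (G ⧸ K)) := by
    refine mem_centralizer_of_AB hQ (ha.map π) (by rw [Subgroup.normalizer_eq_top]; exact le_top)
      (by rw [Subgroup.normalizer_eq_top]; exact Subgroup.mem_top _) ?_ hwo ?_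
    · rintro _ ⟨t, ht, rfl⟩
      obtain ⟨i, rfl⟩ := Subgroup.mem_zpowers_iff.1 ht
      rw [← map_mul, ← map_mul]
      have := Subgroup.mem_centralizer_singleton_iff.1 (hWa hw)
      exact congrArg π ((show Commute w a from this).zpow_right i).eq
    · intro q hq hqT
      obtain ⟨x, hx, hxq⟩ := exists_lift_normalizer hK ha (y := q) (by
        refine Subgroup.centralizer_le_normalizer _ (Subgroup.mem_centralizer_iff.2 fun t ht => (hqT t ht).symm))
      have hxa : x * a * x⁻¹ = a := by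
        refine injOn_mk_of_coprime hK ha ((Subgroup.mem_normalizer_iff.1 hx a).1 (Subgroup.mem_zpowers a))
          (Subgroup.mem_zpowers a) ?_
        show π (x * a * x⁻¹) = π a
        rw [map_mul, map_mul, map_inv, show π x = q from hxq,
          hqT (π a) (Subgroup.mem_map_of_mem π (Subgroup.mem_zpowers a)), mul_inv_cancel_right]
      have hxW : x ∈ Subgroup.normalizer (W : Set G) :=
        hn (Subgroup.mem_centralizer_singleton_iff.2 (mul_inv_eq_iff_eq_mul.1 hxa))
      refine commutatorElement_eq_one_iff_mul_comm.1 ?_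
      have h1 : ⁅π w, q⁆ ∈ W.map π := by
        rw [← hxq, ← map_commutatorElement]
        refine Subgroup.mem_map_of_mem π ?_
        rw [commutatorElement_def, mul_assoc w, mul_assoc w]
        exact mul_mem hw ((Subgroup.mem_normalizer_iff.1 hxW _).1 (inv_mem hw))
      have h2 : ⁅π w, q⁆ ∈ Q := by
        rw [commutatorElement_def]
        exact mul_mem ((inferInstance : Q.Normal).conj_mem q hq _) (inv_mem hq)
      have h3 : W.map π ⊓ Q = ⊥ :=
        coprime_inf_pGroup (hW.coprime_dvd_left (Subgroup.card_map_dvd _ π)) hQ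
      rw [← Subgroup.mem_bot, ← h3]
      exact Subgroup.mem_inf.2 ⟨h1, h2⟩
  have hwQ : π w ∈ Q := by
    rw [hQdef]
    exact centralizer_pCore_le_of_solvable hsq h0 (hQdef ▸ hwc)
  obtain ⟨j, hj⟩ := hQ ⟨π w, hwQ⟩
  exact orderOf_eq_one_iff.1 (Nat.eq_one_of_dvd_coprimes (hwo.pow_right j) dvd_rfl
    (orderOf_dvd_of_pow_eq_one (congrArg Subtype.val hj)))

/-- Balance for two commuting `p`-elements with solvable centralizer. -/
theorem centralizerPPrimeCore_inf_le {a b : G} (ha : IsPGroup p ↥(Subgroup.zpowers a))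
    (hab : a * b = b * a) (hsb : Group.IsSolvable ↥(Subgroup.centralizer ({b} : Set G))) :
    centralizerPPrimeCore p a ⊓ Subgroup.centralizer {b} ≤ centralizerPPrimeCore p b := by
  obtain ⟨H, hH⟩ : ∃ H, H = Subgroup.centralizer ({b} : Set G) := ⟨_, rfl⟩
  rw [← hH] at hsb ⊢
  have haH : a ∈ H := hH ▸ Subgroup.mem_centralizer_singleton_iff.2 hab
  obtain ⟨O, hO⟩ : ∃ O, O = centralizerPPrimeCore p a := ⟨_, rfl⟩
  rw [← hO]
  have hOC : O ≤ Subgroup.centralizer {a} := hO ▸ Subgroup.map_subtype_le _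
  have hOcard : (Nat.card O).Coprime p := by
    rw [hO, centralizerPPrimeCore, Subgroup.card_map_of_injective (Subgroup.subtype_injective _)]
    exact card_pPrimeCore_coprime p _
  have hOn : ∀ y ∈ Subgroup.centralizer ({a} : Set G), y ∈ Subgroup.normalizer (O : Set G) :=
    fun y hy => mem_normalizer_of_cj_le (by
      rw [hO]
      rintro _ ⟨_, ⟨o, ho, rfl⟩, rfl⟩
      exact ⟨⟨y, hy⟩ * o * ⟨y, hy⟩⁻¹, (inferInstance : (pPrimeCore p _).Normal).conj_mem o ho _, rfl⟩)
  let a' : ↥H := ⟨a, haH⟩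
  have ha' : IsPGroup p ↥(Subgroup.zpowers a') := by
    refine ha.of_injective ((H.subtype.comp (Subgroup.zpowers a').subtype).codRestrict _ ?_) ?_
    · rintro ⟨y, hy⟩
      obtain ⟨i, rfl⟩ := Subgroup.mem_zpowers_iff.1 hy
      exact Subgroup.mem_zpowers_iff.2 ⟨i, rfl⟩
    · exact fun y z h => Subtype.ext (Subtype.ext (congrArg Subtype.val h :))
  have hle : (O ⊓ H).subgroupOf H ≤ pPrimeCore p ↥H := by
    refine le_pPrimeCore_of_centralizer hsb ha' ?_ ?_ ?_
    · rw [Nat.card_congr (Subgroup.subgroupOfEquivOfLe (inf_le_right : O ⊓ H ≤ H)).toEquiv]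
      exact hOcard.coprime_dvd_left (Subgroup.card_dvd_of_le inf_le_left)
    · intro y hy
      rw [Subgroup.mem_centralizer_singleton_iff]
      exact Subtype.ext (Subgroup.mem_centralizer_singleton_iff.1 (hOC (Subgroup.mem_inf.1 hy).1))
    · intro y hy
      have hya : (y : G) ∈ Subgroup.centralizer ({a} : Set G) :=
        Subgroup.mem_centralizer_singleton_iff.2
          (congrArg Subtype.val (Subgroup.mem_centralizer_singleton_iff.1 hy))
      refine mem_normalizer_of_cj_le ?_
      rintro _ ⟨z, hz, rfl⟩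
      obtain ⟨hzO, hzH⟩ := Subgroup.mem_inf.1 hz
      exact Subgroup.mem_inf.2 ⟨(Subgroup.mem_normalizer_iff.1 (hOn y hya) z).1 hzO, (y * z * y⁻¹).2⟩
  intro x hx
  obtain ⟨hxO, hxH⟩ := Subgroup.mem_inf.1 hx
  rw [centralizerPPrimeCore, ← hH]
  exact ⟨⟨x, hxH⟩, hle (show (⟨x, hxH⟩ : H) ∈ (O ⊓ H).subgroupOf H from hx), rfl⟩

end Cfsg.Agent.Fusion
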