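import Cfsg.Agent.Lib.Fusion.ZJControl

/-!
Tools for weakly closed elements: replacement for an abelian normal subgroup, coprime action on an abelian
`p`-group, and the norm of a fixed point.
-/

set_option autoImplicit false

open scoped commutatorElement

namespace Cfsg.Agent.Fusion

open Cfsg

variable {G : Type*} [Group G] [Finite G] {p : ℕ} [hp : Fact p.Prime]

/-- Thompson's replacement. -/
theorem exists_replacement_abelian {T V A : Subgroup G} (hT : IsPGroup p T) (hVT : V ≤ T)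
    (hTn : T ≤ Subgroup.normalizer (V : Set G)) (hV : ∀ x ∈ V, ∀ y ∈ V, x * y = y * x) (hAT : A ≤ T)
    (hA : IsMulCommutative A) (hnot : ¬ V ≤ Subgroup.normalizer (A : Set G)) :
    ∃ R : Subgroup G, R ≤ T ∧ Nat.card R = Nat.card A ∧ IsMulCommutative R ∧ A ⊓ V < R ⊓ V ∧ R ⊓ V < V ∧
      ∃ b ∈ V, R ≤ A ⊔ cj A b := by
  haveI : Group.IsNilpotent T := hT.isNilpotent
  set A0 := A.subgroupOf T
  set B0 := V.subgroupOf T
  haveI : B0.Normal := Subgroup.normal_subgroupOf_iff_le_normalizer hVT |>.2 hTn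
  have hmapA : A0.map T.subtype = A := Subgroup.map_subgroupOf_eq_of_le hAT
  have hmapB : B0.map T.subtype = V := Subgroup.map_subgroupOf_eq_of_le hVT
  have hinj : Function.Injective T.subtype := T.subtype_injective
  have hA0 : IsMulCommutative A0 := ⟨⟨fun x y => Subtype.ext (Subtype.ext
    (show ((x : T) : G) * ((y : T) : G) = ((y : T) : G) * ((x : T) : G) from
      congrArg Subtype.val (hA.1.1 ⟨_, x.2⟩ ⟨_, y.2⟩)))⟩⟩
  have hB0 : IsMulCommutative B0 := ⟨⟨fun x y => Subtype.ext (Subtype.ext (hV _ x.2 _ y.2))⟩⟩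
  have hBA0 : ⁅B0, B0⁆ ≤ A0 := by
    rw [Subgroup.commutator_le]
    intro x hx y hy
    rw [commutatorElement_eq_one_iff_mul_comm.2 (Subtype.ext (hV _ hx _ hy))]
    exact one_mem _
  have hnot0 : ¬ B0 ≤ Subgroup.normalizer (A0 : Set T) := by
    intro h
    refine hnot fun b hb => mem_normalizer_of_cj_le ?_
    rintro _ ⟨a, ha, rfl⟩
    exact (Subgroup.mem_normalizer_iff.1 (h (show (⟨b, hVT hb⟩ : T) ∈ B0 from hb)) ⟨a, hAT ha⟩).1 ha
  obtain ⟨b, hb, hbN, hbA⟩ := exists_normalizing_normalizer B0 A0 hnot0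
  obtain ⟨h1, h2, -, h4, h5, -, -, -, -, -, hle⟩ :=
    replSub_spec hT (fun _ => hB0) hA0 hBA0 hb hbN hbA
  set R := (replSub A0 b).map T.subtype
  have hcardA : Nat.card A = Nat.card A0 := by rw [← hmapA, Subgroup.card_map_of_injective hinj]
  have hinf : ∀ X : Subgroup T, X.map T.subtype ⊓ V = (X ⊓ B0).map T.subtype := fun X => by
    rw [← hmapB, ← Subgroup.map_inf _ _ _ hinj]
  refine ⟨R, Subgroup.map_subtype_le _, ?_, isMulCommutative_map _ h2, ?_, ?_, (b : G)⁻¹, V.inv_mem hb, ?_⟩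
  · rw [Subgroup.card_map_of_injective hinj, h1, hcardA]
  · rw [← hmapA, hinf, hinf]
    exact Subgroup.map_lt_map_iff_of_injective hinj |>.2 h4
  · rw [hinf]
    conv_rhs => rw [← hmapB]
    exact Subgroup.map_lt_map_iff_of_injective hinj |>.2 h5
  · refine (Subgroup.map_mono hle).trans ?_
    rw [Subgroup.map_sup, hmapA]
    refine sup_le_sup_left ?_ A
    rintro _ ⟨_, ⟨a, ha, rfl⟩, rfl⟩
    exact ⟨a, ha, rfl⟩

/-- An element of order prime to `p` fixing the elements of order `p` of an abelian `p`-group centralizes it. -/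
theorem commute_of_coprime_fixed_omega {V : Subgroup G} (hV : IsPGroup p V) (hab : ∀ a ∈ V, ∀ b ∈ V, a * b = b * a)
    {y : G} (hy : y ∈ Subgroup.normalizer (V : Set G)) {n : ℕ} (hn : ¬ p ∣ n)
    (hyn : ∀ v ∈ V, y ^ n * v = v * y ^ n) (hfix : ∀ v ∈ V, v ^ p = 1 → y * v = v * y) :
    ∀ v ∈ V, y * v = v * y := by
  suffices ∀ k : ℕ, ∀ v ∈ V, v ^ p ^ k = 1 → y * v = v * y from fun v hv => by
    obtain ⟨k, hk⟩ := hV ⟨v, hv⟩
    exact this k v hv (congrArg Subtype.val hk)
  intro k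
  induction k with
  | zero => intro v _ hv; rw [pow_zero, pow_one] at hv; subst hv; simp
  | succ k ih =>
    intro v hv hvk
    have hvp : y * v ^ p = v ^ p * y := ih _ (pow_mem hv p) (by rwa [← pow_mul, ← pow_succ'])
    set d := y * v * y⁻¹ * v⁻¹ with hd
    have hyv : y * v * y⁻¹ ∈ V := (Subgroup.mem_normalizer_iff.1 hy v).1 hv
    have hdV : d ∈ V := mul_mem hyv (inv_mem hv)
    have hdp : d ^ p = 1 := by
      rw [hd, (show Commute (y * v * y⁻¹) v⁻¹ from hab _ hyv _ (inv_mem hv)).mul_pow, conj_pow, hvp,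
        mul_inv_cancel_right, inv_pow, mul_inv_cancel]
    have hdy : y * d = d * y := hfix d hdV hdp
    have hiter : ∀ i : ℕ, y ^ i * v * (y ^ i)⁻¹ = d ^ i * v := by
      intro i
      induction i with
      | zero => simp
      | succ i hi =>
        have hc : y * d ^ i = d ^ i * y := ((show Commute y d from hdy).pow_right i).eq
        calc y ^ (i + 1) * v * (y ^ (i + 1))⁻¹ = y * (y ^ i * v * (y ^ i)⁻¹) * y⁻¹ := by rw [pow_succ']; group
          _ = y * d ^ i * v * y⁻¹ := by rw [hi]; group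
          _ = d ^ i * (y * v * y⁻¹ * v⁻¹) * v := by rw [hc]; group
          _ = d ^ (i + 1) * v := by rw [← hd, pow_succ]
    have h1 := hiter n
    rw [hyn v hv, mul_inv_cancel_right] at h1
    have h2 : d ^ n = 1 := right_eq_mul.1 h1
    have h3 := pow_gcd_eq_one.2 ⟨hdp, h2⟩
    rw [show Nat.gcd p n = 1 from (hp.out.coprime_iff_not_dvd.2 hn), pow_one] at h3
    rw [hd, mul_inv_eq_one, mul_inv_eq_iff_eq_mul] at h3
    exact h3

set_option maxHeartbeats 1000000 in
/-- **The norm argument**. A fixed point of a weakly closed `p`-subgroup with quadratic action is central. -/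
theorem fixed_of_norm {x : G} {T K : Subgroup G} (hT : SylIn p T ⊤) (hKT : K ≤ T)
    (hTx : ∀ t ∈ T, t * x = x * t) (hxT : x ∈ T)
    (hab : ∀ a ∈ Subgroup.normalClosure {x}, ∀ b ∈ Subgroup.normalClosure ({x} : Set G), a * b = b * a)
    (hxp : ∀ g : G, g * x ^ p * g⁻¹ = x ^ p)
    (hfixed : ∀ g : G, cj K g⁻¹ ≤ Subgroup.centralizer ({x} : Set G) → g * x = x * g)
    (horb : ∀ B : Subgroup K, B.Normal → IsCoatom B → ∀ w ∈ Subgroup.normalClosure ({x} : Set G),
      (∀ b ∈ B, (b : G) * w = w * b) → ∃ a : K, a ∉ B ∧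
        (a : G) * ((a : G) * w * (a : G)⁻¹ * w⁻¹) = (a : G) * w * (a : G)⁻¹ * w⁻¹ * a ∧
        (p ≠ 2 ∨ (a : G) * w * (a : G)⁻¹ * w⁻¹ = 1)) :
    ∀ g : G, g * x = x * g := by
  classical
  set M := Subgroup.centralizer ({x} : Set G) with hM
  set V := Subgroup.normalClosure ({x} : Set G)
  letI : CommGroup V := { (inferInstance : Group V) with mul_comm := fun a b => Subtype.ext (hab a a.2 b b.2) }
  haveI : Fintype (G ⧸ M) := Fintype.ofFinite _
  have hxV : x ∈ V := Subgroup.subset_normalClosure rfl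
  set X : V := ⟨x, hxV⟩
  have hM' : ∀ {m : G}, m ∈ M ↔ m * x = x * m := fun {m} => by
    rw [hM, Subgroup.mem_centralizer_singleton_iff]
  let φ : G ⧸ M → V := fun q => Quotient.liftOn' q (fun g => MulAut.conjNormal g X) fun g h hgh => by
    have := hM'.1 (QuotientGroup.leftRel_apply.1 hgh)
    refine Subtype.ext ?_
    show g * x * g⁻¹ = h * x * h⁻¹
    calc g * x * g⁻¹ = g * (x * (g⁻¹ * h)) * h⁻¹ := by group
      _ = g * ((g⁻¹ * h) * x) * h⁻¹ := by rw [this]
      _ = h * x * h⁻¹ := by group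
  have hφ : ∀ (k : G) (q : G ⧸ M), φ (k • q) = MulAut.conjNormal k (φ q) := fun k q => by
    obtain ⟨g, rfl⟩ := QuotientGroup.mk_surjective q
    show MulAut.conjNormal (k * g) X = MulAut.conjNormal k (MulAut.conjNormal g X)
    rw [map_mul]; rfl
  have hφp : ∀ q, φ q ^ p = X ^ p := fun q => by
    obtain ⟨g, rfl⟩ := QuotientGroup.mk_surjective q
    refine Subtype.ext ?_
    show (g * x * g⁻¹) ^ p = x ^ p
    rw [conj_pow, hxp]
  -- invariant sets
  have key : ∀ s : Finset (G ⧸ M), (∀ k ∈ K, ∀ q ∈ s, k • q ∈ s) → ∏ q ∈ s, φ q = X ^ s.card := by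
    intro s
    induction s using Finset.strongInduction with
    | _ s ih =>
    intro hs
    rcases s.eq_empty_or_nonempty with rfl | ⟨q, hq⟩
    · simp
    by_cases hfix : ∀ k ∈ K, k • q = q
    · have h1 := ih (s.erase q) (Finset.erase_ssubset hq) fun k hk q' hq' => by
        rw [Finset.mem_erase] at hq' ⊢
        refine ⟨fun h => hq'.1 ?_, hs k hk q' hq'.2⟩
        rw [← inv_smul_smul k q', h, hfix k⁻¹ (K.inv_mem hk)]
      have hφq : φ q = X := by
        obtain ⟨g, rfl⟩ := QuotientGroup.mk_surjective q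
        have hg := hfixed g (by
          rintro _ ⟨k, hk, rfl⟩
          have h2 : ((k * g : G) : G ⧸ M) = g := hfix k hk
          show g⁻¹ * k * g⁻¹⁻¹ ∈ M
          rw [inv_inv, mul_assoc]
          exact QuotientGroup.eq.1 h2.symm)
        refine Subtype.ext ?_
        show g * x * g⁻¹ = x
        rw [hg, mul_inv_cancel_right]
      rw [← Finset.mul_prod_erase s φ hq, h1, hφq, ← pow_succ', Finset.card_erase_add_one hq]
    push Not at hfix
    obtain ⟨k₀, hk₀, hk₀q⟩ := hfix
    set O := s.filter (fun r => ∃ k : K, (k : G) • q = r)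
    have hOs : O ⊆ s := Finset.filter_subset _ _
    have hqO : q ∈ O := Finset.mem_filter.2 ⟨hq, 1, one_smul G q⟩
    set St : Subgroup K := MulAction.stabilizer K q
    have hSt : St ≠ ⊤ := fun h => hk₀q (h.ge (Subgroup.mem_top (⟨k₀, hk₀⟩ : K)))
    obtain ⟨B, hB, hStB⟩ := (eq_top_or_exists_le_coatom St).resolve_left hSt
    haveI : Group.IsNilpotent K := (hT.isPGroup.to_le hKT).isNilpotent
    haveI hBn : B.Normal := Subgroup.NormalizerCondition.normal_of_coatom B
      Group.normalizerCondition_of_isNilpotent hB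
    set O₁ := s.filter (fun r => ∃ k : K, k ∈ B ∧ (k : G) • q = r)
    set P₁ := ∏ r ∈ O₁, φ r with hP₁
    have hBP : ∀ b ∈ B, MulAut.conjNormal (b : G) P₁ = P₁ := fun b hb => by
      rw [hP₁, map_prod]
      refine Finset.prod_bij' (fun r _ => (b : G) • r) (fun r _ => (b : G)⁻¹ • r) ?_ ?_ ?_ ?_ ?_
      · intro r hr
        obtain ⟨hr', k, hk, rfl⟩ := Finset.mem_filter.1 hr
        exact Finset.mem_filter.2 ⟨hs _ b.2 _ hr', b * k, B.mul_mem hb hk, mul_smul _ _ _⟩
      · intro r hr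
        obtain ⟨hr', k, hk, rfl⟩ := Finset.mem_filter.1 hr
        exact Finset.mem_filter.2 ⟨hs _ (K.inv_mem b.2) _ hr', b⁻¹ * k, B.mul_mem (B.inv_mem hb) hk,
          mul_smul _ _ _⟩
      · intro r _; exact inv_smul_smul _ _
      · intro r _; exact smul_inv_smul _ _
      · intro r _; exact (hφ _ _).symm
    obtain ⟨a, haB, hquad, hcase⟩ := horb B hBn hB (P₁ : G) P₁.2 fun b hb => by
      have h3 : (b : G) * (P₁ : G) * (b : G)⁻¹ = P₁ := congrArg Subtype.val (hBP b hb)
      exact mul_inv_eq_iff_eq_mul.1 h3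
    have hap : a ^ p ∈ B := by
      by_contra h
      have htop : B ⊔ Subgroup.zpowers (a ^ p) = ⊤ :=
        hB.2 _ (lt_of_le_of_ne le_sup_left fun he => h (he ▸ Subgroup.mem_sup_right (Subgroup.mem_zpowers _)))
      obtain ⟨b, hb, c, ⟨j, rfl⟩, hc⟩ := Subgroup.mem_sup_of_normal_left.1 (htop.ge (Subgroup.mem_top a))
      obtain ⟨k, hk⟩ := (hT.isPGroup.to_le hKT) a
      have h1 : a ^ (1 - (p : ℤ) * j) ∈ B := by
        rw [zpow_sub, zpow_one, zpow_mul, zpow_natCast]
        rwa [show a * ((a ^ p) ^ j)⁻¹ = b from by rw [mul_inv_eq_iff_eq_mul]; exact hc.symm]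
      obtain ⟨u, v, huv⟩ : IsCoprime (1 - (p : ℤ) * j) ((p ^ k : ℕ) : ℤ) := by
        push_cast
        exact IsCoprime.pow_right ⟨1, j, by ring⟩
      refine haB ?_
      have h2 : a = (a ^ (1 - (p : ℤ) * j)) ^ u * (a ^ (((p ^ k : ℕ) : ℤ))) ^ v := by
        rw [← zpow_mul, ← zpow_mul, ← zpow_add, mul_comm _ u, mul_comm _ v, huv, zpow_one]
      rw [h2, zpow_natCast, hk, one_zpow, mul_one]
      exact B.zpow_mem h1 u
    have hdecomp : ∀ k : K, ∃ i < p, ∃ b ∈ B, k = a ^ i * b := by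
      intro k
      have htop : Subgroup.zpowers a ⊔ B = ⊤ :=
        hB.2 _ (lt_of_le_of_ne le_sup_right fun he => haB (he ▸ Subgroup.mem_sup_left (Subgroup.mem_zpowers _)))
      obtain ⟨c, ⟨j, rfl⟩, b, hb, rfl⟩ := Subgroup.mem_sup_of_normal_right.1 (htop.ge (Subgroup.mem_top k))
      have hp0 : (0 : ℤ) < p := by exact_mod_cast hp.out.pos
      refine ⟨(j % p).toNat, by have := Int.emod_lt_of_pos j hp0; have := Int.emod_nonneg j hp0.ne'; omega,
        (a ^ p) ^ (j / p) * b, B.mul_mem (B.zpow_mem hap _) hb, ?_⟩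
      show a ^ j * b = _
      rw [← mul_assoc, ← zpow_natCast a (j % p).toNat, Int.toNat_of_nonneg (Int.emod_nonneg j hp0.ne'),
        ← zpow_natCast a p, ← zpow_mul, ← zpow_add, Int.emod_def, sub_add_cancel]
    have hinj : ∀ ir ∈ Finset.range p ×ˢ O₁, ∀ ir' ∈ Finset.range p ×ˢ O₁,
        ((a ^ ir.1 : K) : G) • ir.2 = ((a ^ ir'.1 : K) : G) • ir'.2 → ir = ir' := by
      rintro ⟨i, r⟩ hir ⟨i', r'⟩ hir' he
      obtain ⟨hi, hr⟩ := Finset.mem_product.1 hir
      obtain ⟨hi', hr'⟩ := Finset.mem_product.1 hir'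
      obtain ⟨-, k, hk, rfl⟩ := Finset.mem_filter.1 hr
      obtain ⟨-, k', hk', rfl⟩ := Finset.mem_filter.1 hr'
      rw [Finset.mem_range] at hi hi'
      dsimp only at he
      have hmem : ((a ^ i * k)⁻¹ * (a ^ i' * k') : K) ∈ St := by
        rw [MulAction.mem_stabilizer_iff, mul_smul, inv_smul_eq_iff]
        show ((a ^ i' * k' : K) : G) • q = ((a ^ i * k : K) : G) • q
        rw [Subgroup.coe_mul, Subgroup.coe_mul, mul_smul, mul_smul]
        exact he.symm
      have h1 : (a ^ i)⁻¹ * a ^ i' ∈ B := by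
        have h2 : k⁻¹ * ((a ^ i)⁻¹ * a ^ i') * k' ∈ B := by
          have := hStB hmem
          rwa [show (a ^ i * k)⁻¹ * (a ^ i' * k') = k⁻¹ * ((a ^ i)⁻¹ * a ^ i') * k' by group] at this
        have h3 := B.mul_mem (B.mul_mem hk h2) (B.inv_mem hk')
        rwa [show k * (k⁻¹ * ((a ^ i)⁻¹ * a ^ i') * k') * k'⁻¹ = (a ^ i)⁻¹ * a ^ i' by group] at h3
      have hmin : ∀ j, 0 < j → j < p → a ^ j ∉ B := fun j hj hjp hjB => by
        obtain ⟨u, v, huv⟩ := Nat.isCoprime_iff_coprime.2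
          ((hp.out.coprime_iff_not_dvd.2 (Nat.not_dvd_of_pos_of_lt hj hjp)).symm)
        refine haB ?_
        have : a = (a ^ j) ^ u * (a ^ p) ^ v := by
          rw [← zpow_natCast, ← zpow_natCast, ← zpow_mul, ← zpow_mul, ← zpow_add, mul_comm _ u, mul_comm _ v,
            huv, zpow_one]
        rw [this]
        exact B.mul_mem (B.zpow_mem hjB u) (B.zpow_mem hap v)
      obtain rfl : i = i' := by
        rcases lt_trichotomy i i' with h | h | h
        · refine absurd ?_ (hmin (i' - i) (by omega) (by omega))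
          rwa [pow_sub a h.le, ((Commute.refl a).pow_pow i' i).inv_right.eq]
        · exact h
        · refine absurd ?_ (hmin (i - i') (by omega) (by omega))
          have := B.inv_mem h1
          rwa [mul_inv_rev, inv_inv, ← ((Commute.refl a).pow_pow i i').inv_right.eq, ← pow_sub a h.le] at this
      refine Prod.ext rfl (MulAction.injective _ he)
    set conj := fun i : ℕ => (MulAut.conjNormal (((a ^ i : K) : G)) : MulAut V)
    have hO : ∏ r ∈ O, φ r = ∏ i ∈ Finset.range p, conj i P₁ := by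
      simp only [conj, hP₁, map_prod, ← hφ]
      rw [← Finset.prod_product' (f := fun i r => φ (((a ^ i : K) : G) • r))]
      refine (Finset.prod_bij (fun ir _ => ((a ^ ir.1 : K) : G) • ir.2) ?_ ?_ ?_ fun _ _ => rfl).symm
      · rintro ⟨i, r⟩ hir
        obtain ⟨-, hr⟩ := Finset.mem_product.1 hir
        obtain ⟨hr', k, -, rfl⟩ := Finset.mem_filter.1 hr
        exact Finset.mem_filter.2 ⟨hs _ (a ^ i : K).2 _ hr', a ^ i * k, mul_smul _ _ _⟩
      · exact fun ir hir ir' hir' he => hinj ir hir ir' hir' he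
      · intro r hr
        obtain ⟨hr', k, rfl⟩ := Finset.mem_filter.1 hr
        obtain ⟨i, hi, b, hb, rfl⟩ := hdecomp k
        refine ⟨(i, (b : G) • q), Finset.mem_product.2 ⟨Finset.mem_range.2 hi,
          Finset.mem_filter.2 ⟨hs _ b.2 _ hq, b, hb, rfl⟩⟩, ?_⟩
        show ((a ^ i : K) : G) • (b : G) • q = _
        rw [← mul_smul]; rfl
    have hOcard : O.card = p * O₁.card := by
      have := Finset.card_range p
      rw [← this, ← Finset.card_product]
      refine (Finset.card_bij (fun ir _ => ((a ^ ir.1 : K) : G) • ir.2) ?_ ?_ ?_).symm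
      · rintro ⟨i, r⟩ hir
        obtain ⟨-, hr⟩ := Finset.mem_product.1 hir
        obtain ⟨hr', k, -, rfl⟩ := Finset.mem_filter.1 hr
        exact Finset.mem_filter.2 ⟨hs _ (a ^ i : K).2 _ hr', a ^ i * k, mul_smul _ _ _⟩
      · exact fun ir hir ir' hir' he => hinj ir hir ir' hir' he
      · intro r hr
        obtain ⟨hr', k, rfl⟩ := Finset.mem_filter.1 hr
        obtain ⟨i, hi, b, hb, rfl⟩ := hdecomp k
        refine ⟨(i, (b : G) • q), Finset.mem_product.2 ⟨Finset.mem_range.2 hi,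
          Finset.mem_filter.2 ⟨hs _ b.2 _ hq, b, hb, rfl⟩⟩, ?_⟩
        show ((a ^ i : K) : G) • (b : G) • q = _
        rw [← mul_smul]; rfl
    set c : V := MulAut.conjNormal (a : G) P₁ * P₁⁻¹ with hc
    have hca : MulAut.conjNormal (a : G) c = c := Subtype.ext (mul_inv_eq_iff_eq_mul.2 hquad)
    have hac : MulAut.conjNormal (a : G) P₁ = c * P₁ := by rw [hc, inv_mul_cancel_right]
    have hiter : ∀ i : ℕ, conj i P₁ = c ^ i * P₁ := by
      intro i
      induction i with
      | zero => simp [conj]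
      | succ i hi =>
        show (MulAut.conjNormal (((a ^ (i + 1) : K)) : G) : MulAut V) P₁ = _
        rw [pow_succ', Subgroup.coe_mul, map_mul, MulAut.mul_apply]
        show MulAut.conjNormal (a : G) (conj i P₁) = _
        rw [hi, map_mul, map_pow, hca, hac, ← mul_assoc, ← pow_succ]
    have hcp : c ^ p = 1 := by
      have h1 : conj p P₁ = P₁ := hBP _ hap
      rwa [hiter, mul_eq_right] at h1
    have hsum : c ^ (∑ i ∈ Finset.range p, i) = 1 := by
      rcases hcase with h2 | h2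
      · rw [Finset.sum_range_id]
        obtain ⟨m, hm⟩ : p ∣ p * (p - 1) / 2 := by
          obtain ⟨m, hm⟩ := hp.out.odd_of_ne_two h2
          exact ⟨m, by rw [hm, show 2 * m + 1 - 1 = 2 * m by omega,
            show (2 * m + 1) * (2 * m) = 2 * ((2 * m + 1) * m) by ring, Nat.mul_div_cancel_left _ (by norm_num)]⟩
        rw [hm, pow_mul, hcp, one_pow]
      · rw [show c = 1 from Subtype.ext h2, one_pow]
    have hprod : ∏ r ∈ O, φ r = X ^ O.card := by
      rw [hO, hOcard, Finset.prod_congr rfl fun i _ => hiter i, Finset.prod_mul_distrib,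
        Finset.prod_pow_eq_pow_sum, hsum, one_mul, Finset.prod_const, Finset.card_range, hP₁,
        ← Finset.prod_pow, Finset.prod_congr rfl fun r _ => hφp r, Finset.prod_const, ← pow_mul]
    have h1 := ih (s \ O) (Finset.sdiff_ssubset hOs ⟨q, hqO⟩) fun k hk r hr => by
      rw [Finset.mem_sdiff] at hr ⊢
      refine ⟨hs k hk r hr.1, fun h => hr.2 ?_⟩
      obtain ⟨-, k', hk'⟩ := Finset.mem_filter.1 h
      refine Finset.mem_filter.2 ⟨hr.1, ⟨k, hk⟩⁻¹ * k', ?_⟩
      show (k⁻¹ * (k' : G)) • q = r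
      rw [mul_smul, hk', inv_smul_smul]
    rw [← Finset.prod_sdiff hOs, h1, hprod, ← pow_add, Finset.card_sdiff_add_card_eq_card hOs]
  -- the norm
  have h := key Finset.univ fun _ _ _ _ => Finset.mem_univ _
  rw [Finset.card_univ, ← Nat.card_eq_fintype_card] at h
  have hcentral : ∀ g : G, g * x ^ M.index = x ^ M.index * g := fun g => by
    have h1 : MulAut.conjNormal g (∏ q, φ q) = ∏ q, φ q := by
      rw [map_prod]
      exact Fintype.prod_equiv (MulAction.toPerm g) _ _ fun q => (hφ g q).symm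
    rw [h] at h1
    exact mul_inv_eq_iff_eq_mul.1 (congrArg Subtype.val h1)
  have hTM : T ≤ M := fun t ht => hM'.2 (hTx t ht)
  have hn : ¬ p ∣ M.index := fun hd => hT.not_dvd (by
    rw [Subgroup.relIndex_top_right]; exact hd.trans (Subgroup.index_dvd_of_le hTM))
  obtain ⟨k, hk⟩ := hT.isPGroup ⟨x, hxT⟩
  have hk' : x ^ p ^ k = 1 := congrArg Subtype.val hk
  obtain ⟨u, v, huv⟩ := Nat.isCoprime_iff_coprime.2
    (((hp.out.coprime_iff_not_dvd.2 hn).pow_left k).symm)
  intro g
  have hx : x = (x ^ M.index) ^ u := by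
    rw [← zpow_natCast, ← zpow_mul, ← mul_one ((x : G) ^ _), ← one_zpow v, ← hk', ← zpow_natCast x (p ^ k),
      ← zpow_mul, ← zpow_add, mul_comm _ u, mul_comm _ v, huv, zpow_one]
  rw [hx]
  exact ((show Commute g (x ^ M.index) from hcentral g).zpow_right u).eq

end Cfsg.Agent.Fusion
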