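import Cfsg.Agent.Lib.Local.FS.Omega
import Cfsg.Agent.Lib.Fusion.NPC

/-!
# Normal p-complements from series through the elements of order `p` (or 4)
-/

set_option autoImplicit false

namespace Cfsg.Agent.Fusion

open Cfsg.Agent.Local.FS (IsOmega)

universe u

variable {p : ℕ} [hp : Fact p.Prime]

/-- A coprime automorphism moving `x` by a fixed element fixes `x`. -/
theorem aut_fix_step {Q : Type u} [Group Q] [Finite Q] (hQ : IsPGroup p Q) (α : MulAut Q)
    (hco : (orderOf α).Coprime p) (x : Q) (hfix : α (x⁻¹ * α x) = x⁻¹ * α x) : α x = x := by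
  set q := x⁻¹ * α x with hq
  have hax : α x = x * q := by rw [hq]; group
  have hpow : ∀ j : ℕ, (α ^ j) x = x * q ^ j := by
    intro j
    induction j with
    | zero => simp
    | succ j ih => rw [pow_succ', MulAut.mul_apply, ih, map_mul, map_pow, hfix, hax, pow_succ', mul_assoc]
  have h5 := hpow (orderOf α)
  rw [pow_orderOf_eq_one, MulAut.one_apply] at h5
  have h6 : q ^ orderOf α = 1 := mul_left_cancel (h5.symm.trans (mul_one x).symm)
  obtain ⟨k, hk⟩ := hQ q
  have h7 := pow_gcd_eq_one.2 ⟨h6, hk⟩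
  rw [Nat.Coprime.pow_right k hco, pow_one] at h7
  rw [hax, h7, mul_one]

/-- A coprime automorphism fixing the elements of order `p` (dividing 4 for `p = 2`) is trivial. -/
theorem aut_eq_one_of_fix_omega {Q : Type u} [Group Q] [Finite Q] (hQ : IsPGroup p Q) (α : MulAut Q)
    (hco : (orderOf α).Coprime p) (h : ∀ x : Q, IsOmega p x → α x = x) : α = 1 := by
  obtain ⟨D, -, -, hom, hdet⟩ := Local.FS.exists_detect hQ (⊤ : Subgroup (MulAut Q))
  exact hdet α (Subgroup.mem_top _) hco fun d hd => h d (hom d hd)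

variable {G : Type u} [Group G] [Finite G]

theorem exists_conj_aut {Q : Subgroup G} {g : G} (hg : g ∈ Subgroup.normalizer (Q : Set G)) :
    ∃ α : MulAut Q, (∀ x : Q, ((α x : Q) : G) = g * x * g⁻¹) ∧ orderOf α ∣ orderOf g := by
  let α : MulAut Q :=
    { toFun := fun x => ⟨g * x * g⁻¹, (Subgroup.mem_normalizer_iff.1 hg _).1 x.2⟩
      invFun := fun x => ⟨g⁻¹ * x * g, by simpa using (Subgroup.mem_normalizer_iff.1 (inv_mem hg) _).1 x.2⟩
      left_inv := fun x => Subtype.ext (by simp [mul_assoc])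
      right_inv := fun x => Subtype.ext (by simp [mul_assoc])
      map_mul' := fun x y => Subtype.ext (by simp [mul_assoc]) }
  have hpow : ∀ (k : ℕ) (x : Q), (((α ^ k) x : Q) : G) = g ^ k * x * (g ^ k)⁻¹ := by
    intro k
    induction k with
    | zero => intro x; simp
    | succ k ih =>
      intro x
      rw [pow_succ, pow_succ, MulAut.mul_apply, ih]
      show g ^ k * (g * x * g⁻¹) * (g ^ k)⁻¹ = _
      group
  refine ⟨α, fun x => rfl, orderOf_dvd_of_pow_eq_one (MulEquiv.ext fun x => Subtype.ext ?_)⟩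
  rw [hpow, pow_orderOf_eq_one, one_mul, inv_one, mul_one]; rfl

/-- If the `p'`-elements normalizing a `p`-subgroup move every omega element one step down a series,
then `G` has a normal `p`-complement. -/
theorem hnpc_of_omega_series {S : Subgroup G} (hS : SylIn p S ⊤) (C : ℕ → Subgroup G) (n : ℕ)
    (h0 : C 0 = ⊥)
    (h : ∀ Q : Subgroup G, Q ≤ S → ∀ g ∈ Subgroup.normalizer (Q : Set G), (orderOf g).Coprime p →
      ∀ a ∈ Q, IsOmega p a → a ∈ C n ∧ ∀ i, a ∈ C (i + 1) → a⁻¹ * (g * a * g⁻¹) ∈ C i) :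
    Cfsg.HasNormalPComplement p G := by
  refine hnpc_of_centralize hS fun Q hQ g hg hgp => ?_
  obtain ⟨α, hα, hαo⟩ := exists_conj_aut hg
  obtain ⟨D, hinv, -, hom, hdet⟩ := Local.FS.exists_detect (hS.isPGroup.to_le hQ) (⊤ : Subgroup (MulAut Q))
  have hco : (orderOf α).Coprime p := hgp.coprime_dvd_left hαo
  have hom' : ∀ d ∈ D, IsOmega p ((d : Q) : G) := fun d hd =>
    (hom d hd).imp (fun h' => congrArg Subtype.val h') fun h' => ⟨h'.1, congrArg Subtype.val h'.2⟩
  have hfix : ∀ i, ∀ d ∈ D, ((d : Q) : G) ∈ C i → α d = d := by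
    intro i
    induction i with
    | zero =>
      intro d _ hd
      rw [h0, Subgroup.mem_bot] at hd
      rw [show d = 1 from Subtype.ext hd, map_one]
    | succ i ih =>
      intro d hdD hd
      refine aut_fix_step (hS.isPGroup.to_le hQ) α hco d (ih _ (mul_mem (inv_mem hdD)
        (hinv α (Subgroup.mem_top _) d hdD)) ?_)
      push_cast
      rw [hα]
      exact (h Q hQ g hg hgp d d.2 (hom' d hdD)).2 i hd
  have h1 : α = 1 := hdet α (Subgroup.mem_top _) hco fun d hd =>
    hfix n d hd (h Q hQ g hg hgp d d.2 (hom' d hd)).1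
  refine Subgroup.mem_centralizer_iff.2 fun x hx => ?_
  have := hα ⟨x, hx⟩
  rw [h1] at this
  exact (mul_inv_eq_iff_eq_mul.1 this.symm).symm

end Cfsg.Agent.Fusion
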