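import Mathlib
import Cfsg.Prelude.Def_ConjugacyFunctors
import Cfsg.Agent.Lib.Fusion.NPC

/-!
# The K-infinity subgroups
-/

set_option autoImplicit false

open scoped commutatorElement

universe u

namespace Cfsg.Agent.Fusion

/-- The part of a subgroup centralizing it. -/
abbrev zOf {P : Type*} [Group P] (B : Subgroup P) : Subgroup P :=
  B ⊓ Subgroup.centralizer (B : Set P)

section Basic

variable {P : Type*} [Group P]

theorem kUpperStar_anti {Q Q' : Subgroup P} (h : Q ≤ Q') :
    kUpperStarFamily Q' ⊆ kUpperStarFamily Q := fun _ ⟨h1, h2⟩ =>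
  ⟨h1, (Subgroup.commutator_mono le_rfl h).trans h2⟩

theorem kLowerStar_anti {Q Q' : Subgroup P} (h : Q ≤ Q') :
    kLowerStarFamily Q' ⊆ kLowerStarFamily Q := fun _ ⟨h1, h2, h3⟩ =>
  ⟨h1, h.trans h2, fun A hA hAQ => h3 A hA (hAQ.trans h)⟩

theorem kSeqOdd_succ_le (n : ℕ) : kSeqOdd P (n + 1) ≤ kSeqOdd P n := by
  induction n with
  | zero => exact le_top
  | succ n ih => exact sSup_le_sSup (kUpperStar_anti (sSup_le_sSup (kLowerStar_anti ih)))

theorem kSeqOdd_antitone : Antitone (kSeqOdd P) := antitone_nat_of_succ_le kSeqOdd_succ_le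

theorem kSeqEven_monotone : Monotone (kSeqEven P) := fun _ _ h =>
  sSup_le_sSup (kLowerStar_anti (kSeqOdd_antitone h))

theorem kSeqOdd_succ (n : ℕ) :
    kSeqOdd P (n + 1) = sSup (kUpperStarFamily (kSeqEven P n)) := rfl

theorem exists_stable [Finite P] : ∃ n, ∀ m, n ≤ m →
    kSeqEven P m = kInfLower P ∧ kSeqOdd P m = kInfUpper P := by
  obtain ⟨b, ⟨n, rfl⟩, hb⟩ := Set.exists_max_image (Set.range (kSeqEven P))
    (fun H : Subgroup P => Nat.card H) (Set.toFinite _) ⟨_, 0, rfl⟩
  obtain ⟨a, ⟨k, rfl⟩, ha⟩ := Set.exists_min_image (Set.range (kSeqOdd P))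
    (fun H : Subgroup P => Nat.card H) (Set.toFinite _) ⟨_, 0, rfl⟩
  have hE : ∀ m, n ≤ m → kSeqEven P m = kSeqEven P n := fun m hm =>
    (Subgroup.eq_of_le_of_card_ge (kSeqEven_monotone hm) (hb _ ⟨m, rfl⟩)).symm
  have hO : ∀ m, k ≤ m → kSeqOdd P m = kSeqOdd P k := fun m hm =>
    Subgroup.eq_of_le_of_card_ge (kSeqOdd_antitone hm) (ha _ ⟨m, rfl⟩)
  refine ⟨max n k, fun m hm => ⟨le_antisymm (le_iSup (kSeqEven P) m) (iSup_le fun j => ?_),
    le_antisymm (le_iInf fun j => ?_) (iInf_le (kSeqOdd P) m)⟩⟩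
  · rw [hE m (le_of_max_le_left hm), ← hE (max n j) (le_max_left _ _)]
    exact kSeqEven_monotone (le_max_right _ _)
  · rw [hO m (le_of_max_le_right hm), ← hO (max k j) (le_max_left _ _)]
    exact kSeqOdd_antitone (le_max_right _ _)

theorem kSeqEven_le_kInfLower (n : ℕ) : kSeqEven P n ≤ kInfLower P := le_iSup (kSeqEven P) n

theorem kInfUpper_le_kSeqOdd (n : ℕ) : kInfUpper P ≤ kSeqOdd P n := iInf_le (kSeqOdd P) n

theorem abelian_normal_mem {A : Subgroup P} [A.Normal] (hA : A ≤ Subgroup.centralizer (A : Set P))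
    (Q : Subgroup P) : A ∈ classTwoSubgroups P ∧ A ∈ kLowerStarFamily Q ∧ A ∈ kUpperStarFamily Q := by
  have hn : ∀ B : Subgroup P, ⁅A, B⁆ ≤ zOf A := fun B =>
    (Subgroup.commutator_le_left A B).trans (le_inf le_rfl hA)
  have hc : A ∈ classTwoSubgroups P := (Subgroup.commutator_le_left A A).trans hA
  refine ⟨hc, ⟨hc, by rw [Subgroup.normalizer_eq_top]; exact le_top, fun B _ _ _ _ _ => hn B⟩,
    hc, hn Q⟩

/-- In a nilpotent group, some element of `C` outside `N` is fixed by `Q` modulo `N`. -/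
theorem exists_fixed_mod [Group.IsNilpotent P] {N C Q : Subgroup P}
    (hQC : Q ≤ Subgroup.normalizer (C : Set P)) (hCN : ¬ C ≤ N) :
    ∃ x ∈ C, x ∉ N ∧ ∀ q ∈ Q, ⁅x, q⁆ ∈ N := by
  let F : Subgroup P → Subgroup P := fun H => ⁅H, Q⁆
  let f : ℕ → Subgroup P := fun i => F^[i] C
  have hsucc : ∀ i, f (i + 1) = ⁅f i, Q⁆ := fun i => Function.iterate_succ_apply' F i C
  obtain ⟨n, hn⟩ := Subgroup.nilpotent_iff_lowerCentralSeries.1 ‹Group.IsNilpotent P›
  have hf : ∀ i, f i ≤ (⊤ : Subgroup P).lowerCentralSeries i := by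
    intro i
    induction i with
    | zero => exact le_top
    | succ i ih => rw [hsucc]; exact Subgroup.commutator_mono ih le_top
  have hfC : ∀ i, f i ≤ C := by
    intro i
    induction i with
    | zero => exact le_rfl
    | succ i ih =>
      rw [hsucc]
      exact (Subgroup.commutator_mono ih le_rfl).trans
        (Subgroup.le_normalizer_iff_commutator_le_left.1 hQC)
  have step : ∀ m, f m ≤ N → ∃ j, ¬ f j ≤ N ∧ f (j + 1) ≤ N := by
    intro m
    induction m with
    | zero => exact fun h => absurd h hCN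
    | succ m ih =>
      intro h
      rcases Classical.em (f m ≤ N) with hm | hm
      · exact ih hm
      · exact ⟨m, hm, h⟩
  obtain ⟨j, h1, h2⟩ := step n ((hf n).trans (hn.le.trans bot_le))
  obtain ⟨x, hx, hxN⟩ := SetLike.not_le_iff_exists.1 h1
  refine ⟨x, hfC j hx, hxN, fun q hq => ?_⟩
  rw [hsucc] at h2
  exact h2 (Subgroup.commutator_mem_commutator hx hq)

theorem zOf_le_zOf_sup {B : Subgroup P} {x : P} (hx : x ∈ Subgroup.centralizer (B : Set P)) :
    zOf B ≤ zOf (B ⊔ Subgroup.zpowers x) := by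
  refine le_inf (inf_le_left.trans le_sup_left) ?_
  have h1 : (B ⊔ Subgroup.zpowers x) ≤ Subgroup.centralizer ((zOf B : Subgroup P) : Set P) :=
    sup_le (Subgroup.le_centralizer_iff.1 inf_le_right)
      (Subgroup.zpowers_le.2 (Subgroup.centralizer_le (fun _ h => h.1) hx))
  exact Subgroup.le_centralizer_iff.1 h1

theorem classTwo_sup {B : Subgroup P} (hB : B ∈ classTwoSubgroups P) {x : P}
    (hx : x ∈ Subgroup.centralizer (B : Set P)) :
    B ⊔ Subgroup.zpowers x ∈ classTwoSubgroups P := by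
  set X := Subgroup.zpowers x
  have hXB : X ≤ Subgroup.centralizer (B : Set P) := Subgroup.zpowers_le.2 hx
  have hBB : ⁅B, B⁆ ≤ zOf B := le_inf (Subgroup.le_normalizer_iff_commutator_le_left.1
    Subgroup.le_normalizer) hB
  show ⁅B ⊔ X, B ⊔ X⁆ ≤ _
  refine le_trans ?_ ((zOf_le_zOf_sup hx).trans inf_le_right)
  refine le_trans ?_ hBB
  rw [Subgroup.commutator_le]
  have hsplit : ∀ a ∈ B ⊔ X, ∃ b ∈ B, ∃ y ∈ X, b * y = a := by
    intro a ha
    rw [Subgroup.sup_eq_closure_mul] at ha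
    induction ha using Subgroup.closure_induction with
    | mem a ha => obtain ⟨b, hb, y, hy, rfl⟩ := ha; exact ⟨b, hb, y, hy, rfl⟩
    | one => exact ⟨1, one_mem _, 1, one_mem _, one_mul 1⟩
    | mul a a' _ _ h h' =>
      obtain ⟨b, hb, y, hy, rfl⟩ := h
      obtain ⟨b', hb', y', hy', rfl⟩ := h'
      refine ⟨b * b', mul_mem hb hb', y * y', mul_mem hy hy', ?_⟩
      have := Subgroup.mem_centralizer_iff.1 (hXB hy) b' hb'
      calc b * b' * (y * y') = b * (b' * y) * y' := by group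
        _ = b * (y * b') * y' := by rw [this]
        _ = _ := by group
    | inv a _ h =>
      obtain ⟨b, hb, y, hy, rfl⟩ := h
      refine ⟨b⁻¹, inv_mem hb, y⁻¹, inv_mem hy, ?_⟩
      have := Subgroup.mem_centralizer_iff.1 (hXB (inv_mem hy)) b⁻¹ (inv_mem hb)
      rw [this, mul_inv_rev]
  intro a ha b hb
  obtain ⟨a', ha', y, hy, rfl⟩ := hsplit a ha
  obtain ⟨b', hb', z, hz, rfl⟩ := hsplit b hb
  obtain ⟨i, rfl⟩ := Subgroup.mem_zpowers_iff.1 hy
  obtain ⟨j, rfl⟩ := Subgroup.mem_zpowers_iff.1 hz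
  have e : ⁅a' * x ^ i, b' * x ^ j⁆ = ⁅a', b'⁆ := by
    have c1 : Commute b' (x ^ i) := Subgroup.mem_centralizer_iff.1 (hXB hy) b' hb'
    have c2 : Commute a' (x ^ j) := Subgroup.mem_centralizer_iff.1 (hXB hz) a' ha'
    simp only [commutatorElement_def, mul_inv_rev]
    calc a' * x ^ i * (b' * x ^ j) * ((x ^ i)⁻¹ * a'⁻¹) * ((x ^ j)⁻¹ * b'⁻¹)
        = a' * (x ^ i * b') * (x ^ j * (x ^ i)⁻¹) * a'⁻¹ * (x ^ j)⁻¹ * b'⁻¹ := by group
      _ = a' * b' * (x ^ i * (x ^ j * (x ^ i)⁻¹)) * a'⁻¹ * (x ^ j)⁻¹ * b'⁻¹ := by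
          rw [← c1.eq]; group
      _ = a' * b' * x ^ j * a'⁻¹ * (x ^ j)⁻¹ * b'⁻¹ := by
          rw [show x ^ i * (x ^ j * (x ^ i)⁻¹) = x ^ j by group]
      _ = a' * b' * (x ^ j * (a'⁻¹ * (x ^ j)⁻¹)) * b'⁻¹ := by group
      _ = _ := by
          rw [show x ^ j * (a'⁻¹ * (x ^ j)⁻¹) = a'⁻¹ by
            rw [← mul_assoc, ← (c2.inv_left).eq, mul_inv_cancel_right]]
  rw [e]
  exact Subgroup.commutator_mem_commutator ha' hb'

theorem commutator_sup_le {B X A Z : Subgroup P} (h1 : ⁅B, A⁆ ≤ Z) (h2 : ⁅X, A⁆ ≤ Z)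
    (hZ : B ⊔ X ≤ Subgroup.normalizer (Z : Set P)) : ⁅B ⊔ X, A⁆ ≤ Z := by
  rw [Subgroup.commutator_le]
  intro a ha c hc
  have key : ∀ a' : P, a' ∈ B ⊔ X → ⁅a', c⁆ ∈ Z := by
    intro a' ha'
    rw [Subgroup.sup_eq_closure] at ha'
    induction ha' using Subgroup.closure_induction with
    | mem a' h =>
      rcases h with h | h
      · exact h1 (Subgroup.commutator_mem_commutator h hc)
      · exact h2 (Subgroup.commutator_mem_commutator h hc)
    | one => simp
    | mul u v hu _ ihu ihv =>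
      have hu' : u ∈ B ⊔ X := by rw [Subgroup.sup_eq_closure]; exact hu
      have := mul_mem ((Subgroup.mem_normalizer_iff.1 (hZ hu') _).1 ihv) ihu
      simpa [commutatorElement_def, mul_assoc] using this
    | inv u hu ihu =>
      have hu' : u ∈ B ⊔ X := by rw [Subgroup.sup_eq_closure]; exact hu
      have := (Subgroup.mem_normalizer_iff.1 (hZ (inv_mem hu')) _).1 (inv_mem ihu)
      simpa [commutatorElement_def, mul_assoc] using this
  exact key a ha

theorem normalizer_zOf {B Q : Subgroup P} (h : Q ≤ Subgroup.normalizer (B : Set P)) :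
    Q ≤ Subgroup.normalizer ((zOf B : Subgroup P) : Set P) := by
  intro q hq
  rw [mem_normalizer_iff_cj, cj_inf, cj_centralizer, cj_eq_self (h hq)]

theorem le_normalizer_of_commutator {B Q : Subgroup P} (h : ⁅B, Q⁆ ≤ B) :
    Q ≤ Subgroup.normalizer (B : Set P) :=
  Subgroup.le_normalizer_iff_commutator_le_left.2 h

theorem exists_extension [Group.IsNilpotent P] {B Q : Subgroup P}
    (hQ : Q ≤ Subgroup.normalizer (B : Set P)) (h : ¬ Subgroup.centralizer (B : Set P) ≤ B) :
    ∃ x ∈ Subgroup.centralizer (B : Set P), x ∉ B ∧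
      ⁅Subgroup.zpowers x, Q⁆ ≤ zOf B := by
  have hQC : Q ≤ Subgroup.normalizer (Subgroup.centralizer (B : Set P) : Set P) := fun q hq => by
    rw [mem_normalizer_iff_cj, cj_centralizer, cj_eq_self (hQ hq)]
  obtain ⟨x, hxC, hxN, hx⟩ := exists_fixed_mod (N := zOf B) hQC fun h' => h (h'.trans inf_le_left)
  refine ⟨x, hxC, fun hxB => hxN ⟨hxB, hxC⟩, ?_⟩
  have hxZ : x ∈ Subgroup.normalizer ((zOf B : Subgroup P) : Set P) :=
    Subgroup.centralizer_le_normalizer _ (Subgroup.centralizer_le (fun _ h => h.1) hxC)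
  rw [Subgroup.commutator_le]
  intro a ha q hq
  rw [Subgroup.zpowers_eq_closure] at ha
  induction ha using Subgroup.closure_induction with
  | mem a h => rw [Set.mem_singleton_iff.1 h]; exact hx q hq
  | one => simp
  | mul u v hu _ ihu ihv =>
    have hu' : u ∈ Subgroup.normalizer ((zOf B : Subgroup P) : Set P) :=
      (Subgroup.closure_le _).2 (Set.singleton_subset_iff.2 hxZ) hu
    have := mul_mem ((Subgroup.mem_normalizer_iff.1 hu' _).1 ihv) ihu
    simpa [commutatorElement_def, mul_assoc] using this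
  | inv u hu ihu =>
    have hu' : u ∈ Subgroup.normalizer ((zOf B : Subgroup P) : Set P) :=
      (Subgroup.closure_le _).2 (Set.singleton_subset_iff.2 hxZ) hu
    have := (Subgroup.mem_normalizer_iff.1 (inv_mem hu') _).1 (inv_mem ihu)
    simpa [commutatorElement_def, mul_assoc] using this

end Basic

section Families

variable {P : Type*} [Group P] [Group.IsNilpotent P]

theorem centralizer_le_classTwo_maximal {B : Subgroup P}
    (hB : B ∈ classTwoSubgroups P) (hmax : ∀ C ∈ classTwoSubgroups P, B ≤ C → C = B) :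
    Subgroup.centralizer (B : Set P) ≤ B := by
  intro x hx
  rw [← hmax _ (classTwo_sup hB hx) le_sup_left]
  exact Subgroup.mem_sup_right (Subgroup.mem_zpowers x)

theorem centralizer_le_upper_maximal {Q B : Subgroup P}
    (hB : B ∈ kUpperStarFamily Q) (hmax : ∀ C ∈ kUpperStarFamily Q, B ≤ C → C = B) :
    Subgroup.centralizer (B : Set P) ≤ B := by
  by_contra h
  have hQ := le_normalizer_of_commutator (hB.2.trans inf_le_left)
  obtain ⟨x, hxC, hxB, hxQ⟩ := exists_extension hQ h
  refine hxB ?_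
  have hmem : B ⊔ Subgroup.zpowers x ∈ kUpperStarFamily Q := by
    refine ⟨classTwo_sup hB.1 hxC, (commutator_sup_le hB.2 hxQ ?_).trans (zOf_le_zOf_sup hxC)⟩
    exact sup_le (normalizer_zOf Subgroup.le_normalizer)
      (Subgroup.zpowers_le.2 (Subgroup.centralizer_le_normalizer _
        (Subgroup.centralizer_le (fun _ h => h.1) hxC)))
  rw [← hmax _ hmem le_sup_left]
  exact Subgroup.mem_sup_right (Subgroup.mem_zpowers x)

theorem centralizer_le_lower_maximal {Q B : Subgroup P}
    (hB : B ∈ kLowerStarFamily Q) (hmax : ∀ C ∈ kLowerStarFamily Q, B ≤ C → C = B) :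
    Subgroup.centralizer (B : Set P) ≤ B := by
  by_contra h
  obtain ⟨x, hxC, hxB, hxQ⟩ := exists_extension hB.2.1 h
  refine hxB ?_
  have hXn : Subgroup.zpowers x ≤ Subgroup.normalizer ((zOf B : Subgroup P) : Set P) :=
    Subgroup.zpowers_le.2 (Subgroup.centralizer_le_normalizer _
      (Subgroup.centralizer_le (fun _ h => h.1) hxC))
  have hmem : B ⊔ Subgroup.zpowers x ∈ kLowerStarFamily Q := by
    refine ⟨classTwo_sup hB.1 hxC, ?_, fun A hA hAQ hAn h1 h2 => ?_⟩
    · intro q hq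
      refine Subgroup.mem_normalizer_iff.2 ?_
      have key : ∀ q ∈ Q, ∀ a ∈ B ⊔ Subgroup.zpowers x, q * a * q⁻¹ ∈ B ⊔ Subgroup.zpowers x := by
        intro q hq a ha
        rw [Subgroup.sup_eq_closure] at ha
        induction ha using Subgroup.closure_induction with
        | mem a h =>
          rcases h with h | h
          · exact Subgroup.mem_sup_left ((Subgroup.mem_normalizer_iff.1 (hB.2.1 hq) a).1 h)
          · have h3 : ⁅a, q⁆⁻¹ ∈ B ⊔ Subgroup.zpowers x := inv_mem (Subgroup.mem_sup_left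
              ((hxQ (Subgroup.commutator_mem_commutator h hq)).1))
            have := mul_mem h3 (Subgroup.mem_sup_right h)
            simpa [commutatorElement_def, mul_assoc] using this
        | one => simp
        | mul u v _ _ ihu ihv => simpa [mul_assoc] using mul_mem ihu ihv
        | inv u _ ihu => simpa [mul_assoc] using inv_mem ihu
      intro a
      refine ⟨key q hq a, fun ha => ?_⟩
      have := key q⁻¹ (inv_mem hq) _ ha
      simpa [mul_assoc] using this
    · have h3 : ⁅B, A⁆ ≤ zOf B := hB.2.2 A hA hAQ (le_sup_left.trans hAn)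
        (le_bot_iff.1 (h1 ▸ Subgroup.commutator_mono le_sup_left le_rfl))
        (le_bot_iff.1 (h2 ▸ Subgroup.commutator_mono
          (Subgroup.commutator_mono (zOf_le_zOf_sup hxC) le_rfl) le_rfl))
      refine (commutator_sup_le h3 ((Subgroup.commutator_mono le_rfl hAQ).trans hxQ) ?_).trans
        (zOf_le_zOf_sup hxC)
      exact sup_le (normalizer_zOf Subgroup.le_normalizer) hXn
  rw [← hmax _ hmem le_sup_left]
  exact Subgroup.mem_sup_right (Subgroup.mem_zpowers x)

theorem centralizer_sSup_le {𝒦 : Set (Subgroup P)} [Finite P] (hne : 𝒦.Nonempty)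
    (h : ∀ B ∈ 𝒦, (∀ C ∈ 𝒦, B ≤ C → C = B) → Subgroup.centralizer (B : Set P) ≤ B) :
    Subgroup.centralizer (sSup 𝒦 : Subgroup P) ≤ sSup 𝒦 := by
  obtain ⟨B, hB, hmax⟩ := Set.exists_max_image 𝒦 (fun H : Subgroup P => Nat.card H)
    (Set.toFinite _) hne
  have hle : B ≤ sSup 𝒦 := le_sSup hB
  exact (Subgroup.centralizer_le hle).trans ((h B hB fun C hC hBC =>
    (Subgroup.eq_of_le_of_card_ge hBC (hmax C hC)).symm).trans hle)

theorem center_mem_families (Q : Subgroup P) :
    Subgroup.center P ∈ kLowerStarFamily Q ∧ Subgroup.center P ∈ kUpperStarFamily Q :=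
  (abelian_normal_mem (A := Subgroup.center P) (Subgroup.center_le_centralizer _) Q).2

theorem centralizer_kInfLower_le [Finite P] :
    Subgroup.centralizer (kInfLower P : Set P) ≤ kInfLower P := by
  obtain ⟨n, hn⟩ := exists_stable (P := P)
  rw [← (hn n le_rfl).1]
  exact centralizer_sSup_le ⟨_, (center_mem_families _).1⟩ fun B hB hmax =>
    centralizer_le_lower_maximal hB hmax

theorem centralizer_kInfUpper_le [Finite P] :
    Subgroup.centralizer (kInfUpper P : Set P) ≤ kInfUpper P := by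
  obtain ⟨n, hn⟩ := exists_stable (P := P)
  rw [← (hn (n + 1) (Nat.le_succ n)).2, kSeqOdd_succ]
  exact centralizer_sSup_le ⟨_, (center_mem_families _).2⟩ fun B hB hmax =>
    centralizer_le_upper_maximal hB hmax

theorem center_le_kInfLower [Finite P] : Subgroup.center P ≤ kInfLower P :=
  (Subgroup.center_le_centralizer _).trans centralizer_kInfLower_le

theorem center_le_kInfUpper [Finite P] : Subgroup.center P ≤ kInfUpper P :=
  (Subgroup.center_le_centralizer _).trans centralizer_kInfUpper_le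

end Families

end Cfsg.Agent.Fusion
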