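import Mathlib
import Cfsg.Prelude.Def_Solvable
import Cfsg.Agent.Lib.Fusion.KInf

/-!
# Thompson critical subgroups
-/

set_option autoImplicit false

open scoped commutatorElement

universe u

namespace Cfsg.Agent.Fusion

theorem frattini_le_of_elementary_quotient {H : Type*} [Group H] [Finite H] {p : ℕ} [hp : Fact p.Prime]
    (A : Subgroup H) [A.Normal] (hc : ∀ a b : H, ⁅a, b⁆ ∈ A) (hpow : ∀ a : H, a ^ p ∈ A) :
    frattini H ≤ A := by
  intro x hx
  by_contra hxA
  obtain ⟨K, ⟨hAK, hxK⟩, hmax⟩ := Set.exists_max_image {K : Subgroup H | A ≤ K ∧ x ∉ K}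
    (fun K : Subgroup H => Nat.card K) (Set.toFinite _) ⟨A, le_rfl, hxA⟩
  have hgt : ∀ L : Subgroup H, K < L → x ∈ L := fun L hL => by
    by_contra hxL
    exact hL.ne (Subgroup.eq_of_le_of_card_ge hL.le (hmax L ⟨hAK.trans hL.le, hxL⟩))
  haveI : K.Normal := ⟨fun k hk g => by
    have := mul_mem (hAK (hc g k)) hk
    simpa [commutatorElement_def, mul_assoc] using this⟩
  have htop : K ⊔ Subgroup.zpowers x = ⊤ := by
    rw [eq_top_iff]
    intro y _
    by_cases hy : y ∈ K
    · exact Subgroup.mem_sup_left hy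
    have h1 : x ∈ K ⊔ Subgroup.zpowers y := hgt _ (lt_of_le_of_ne le_sup_left fun h =>
      hy (h ▸ Subgroup.mem_sup_right (Subgroup.mem_zpowers y)))
    obtain ⟨k, hk, z, hz, hkz⟩ := Subgroup.mem_sup_of_normal_left.1 h1
    obtain ⟨i, rfl⟩ := Subgroup.mem_zpowers_iff.1 hz
    have hpi : ¬ (p : ℤ) ∣ i := fun hd => hxK (by
      obtain ⟨c, rfl⟩ := hd
      rw [← hkz, zpow_mul, zpow_natCast]
      exact mul_mem hk (zpow_mem (hAK (hpow y)) c))
    obtain ⟨a, b, hab⟩ := ((Prime.coprime_iff_not_dvd (Nat.prime_iff_prime_int.1 hp.out)).2 hpi :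
      IsCoprime (p : ℤ) i)
    have h3 : y ^ i ∈ K ⊔ Subgroup.zpowers x := by
      rw [show y ^ i = k⁻¹ * x by rw [← hkz]; group]
      exact mul_mem (Subgroup.mem_sup_left (inv_mem hk)) (Subgroup.mem_sup_right (Subgroup.mem_zpowers x))
    have h4 : y ^ (p : ℤ) ∈ K ⊔ Subgroup.zpowers x := by
      rw [zpow_natCast]; exact Subgroup.mem_sup_left (hAK (hpow y))
    have h5 := mul_mem (zpow_mem h4 a) (zpow_mem h3 b)
    rwa [← zpow_mul, ← zpow_mul, ← zpow_add, mul_comm (p : ℤ), mul_comm i, hab, zpow_one] at h5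
  have hco : IsCoatom K := ⟨fun h => hxK (h ▸ Subgroup.mem_top x), fun L hL =>
    top_le_iff.1 (htop.ge.trans (sup_le hL.le (Subgroup.zpowers_le.2 (hgt L hL))))⟩
  exact hxK (frattini_le_coatom hco hx)

variable {P : Type u} [Group P] [Finite P] {p : ℕ} [hp : Fact p.Prime]

/-- A critical subgroup: characteristic, with central Frattini subgroup, self-centralizing, and
with commutators with the whole group central. -/
theorem exists_critical (hP : IsPGroup p P) :
    ∃ H : Subgroup P, H.Characteristic ∧ (∀ x ∈ H, x ^ p ∈ zOf H) ∧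
      ⁅H, (⊤ : Subgroup P)⁆ ≤ zOf H ∧ Subgroup.centralizer (H : Set P) ≤ H := by
  haveI : Group.IsNilpotent P := hP.isNilpotent
  obtain ⟨A, ⟨hAc, hAa⟩, hmax⟩ := Set.exists_max_image
    {A : Subgroup P | A.Characteristic ∧ A ≤ Subgroup.centralizer (A : Set P)}
    (fun A : Subgroup P => Nat.card A) (Set.toFinite _)
    ⟨⊥, inferInstance, bot_le⟩
  haveI := hAc
  haveI : A.Normal := inferInstance
  set π := QuotientGroup.mk' A
  let H : Subgroup P :=
    { carrier := {x | x ∈ Subgroup.centralizer (A : Set P) ∧ x ^ p ∈ A ∧ ∀ g : P, ⁅x, g⁆ ∈ A}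
      one_mem' := ⟨one_mem _, by simp, fun g => by simp⟩
      mul_mem' := fun {x y} hx hy => by
        refine ⟨mul_mem hx.1 hy.1, ?_, fun g => ?_⟩
        · rw [← QuotientGroup.ker_mk' A, MonoidHom.mem_ker, map_pow, map_mul]
          have hc : Commute (π x) (π y) := by
            refine commutatorElement_eq_one_iff_commute.1 ?_
            rw [← map_commutatorElement]
            exact (QuotientGroup.eq_one_iff _).2 (hx.2.2 y)
          rw [hc.mul_pow, ← map_pow, ← map_pow,
            show π (x ^ p) = 1 from (QuotientGroup.eq_one_iff _).2 hx.2.1,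
            show π (y ^ p) = 1 from (QuotientGroup.eq_one_iff _).2 hy.2.1, one_mul]
        · have := mul_mem ((inferInstance : A.Normal).conj_mem _ (hy.2.2 g) x) (hx.2.2 g)
          simpa [commutatorElement_def, mul_assoc] using this
      inv_mem' := fun {x} hx => by
        refine ⟨inv_mem hx.1, by rw [inv_pow]; exact inv_mem hx.2.1, fun g => ?_⟩
        have := (inferInstance : A.Normal).conj_mem _ (inv_mem (hx.2.2 g)) x⁻¹
        simpa [commutatorElement_def, mul_assoc] using this }
  have hAH : A ≤ H := fun a ha => ⟨hAa ha, pow_mem ha _, fun g => by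
    have := mul_mem ha ((inferInstance : A.Normal).conj_mem _ (inv_mem ha) g)
    simpa [commutatorElement_def, mul_assoc] using this⟩
  have hAZ : A ≤ zOf H :=
    le_inf hAH (Subgroup.le_centralizer_iff.1 (show H ≤ Subgroup.centralizer (A : Set P) from fun x hx => hx.1))
  haveI hHc : H.Characteristic := by
    refine Subgroup.characteristic_iff_map_le.2 fun e => ?_
    have hA : ∀ a ∈ A, e a ∈ A := fun a ha => by
      rw [← Subgroup.characteristic_iff_map_eq.1 hAc e]; exact ⟨a, ha, rfl⟩
    have hA' : ∀ a ∈ A, e.symm a ∈ A := fun a ha => by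
      rw [← Subgroup.characteristic_iff_map_eq.1 hAc e.symm]; exact ⟨a, ha, rfl⟩
    rintro _ ⟨x, ⟨h1, h2, h3⟩, rfl⟩
    refine ⟨fun a ha => e.symm.injective ?_, ?_, fun g => ?_⟩
    · show e.symm (a * e x) = e.symm (e x * a)
      rw [map_mul, map_mul, e.symm_apply_apply]
      exact h1 (e.symm a) (hA' a ha)
    · show e x ^ p ∈ A
      rw [← map_pow]; exact hA _ h2
    · show ⁅e x, g⁆ ∈ A
      rw [← e.apply_symm_apply g, ← map_commutatorElement]
      exact hA _ (h3 _)
  refine ⟨H, hHc, fun x (hx : x ∈ H) => hAZ hx.2.1,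
    (Subgroup.commutator_le.2 fun x (hx : x ∈ H) g _ => hx.2.2 g).trans hAZ, ?_⟩
  by_contra hCH
  set Q := Subgroup.centralizer (H : Set P)
  haveI : H.Normal := inferInstance
  haveI : Q.Characteristic := by
    refine Subgroup.characteristic_iff_map_le.2 fun e => ?_
    rintro _ ⟨x, hx, rfl⟩ h hh
    have hh' : e.symm h ∈ H := by
      rw [← Subgroup.characteristic_iff_map_eq.1 hHc e.symm]; exact ⟨h, hh, rfl⟩
    have := congrArg e (hx _ hh')
    simpa using this
  haveI : Q.Normal := inferInstance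
  have hQH : Q ⊓ H = A := by
    have hchar : (Q ⊓ H).Characteristic := Subgroup.characteristic_iff_map_eq.2 fun e => by
      rw [Subgroup.map_inf _ _ e.toMonoidHom e.injective,
        Subgroup.characteristic_iff_map_eq.1 (inferInstance : Q.Characteristic) e,
        Subgroup.characteristic_iff_map_eq.1 hHc e]
    have hle : A ≤ Q ⊓ H := le_inf (hAZ.trans inf_le_right) hAH
    exact (Subgroup.eq_of_le_of_card_ge hle (hmax _ ⟨hchar,
      inf_le_left.trans (Subgroup.centralizer_le inf_le_right)⟩)).symm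
  obtain ⟨x, hxQ, hxA, hx⟩ := exists_fixed_mod (N := A) (C := Q) (Q := (⊤ : Subgroup P))
    (by rw [Subgroup.normalizer_eq_top]) fun h => hCH (h.trans hAH)
  have hxA' : x ∈ Subgroup.centralizer (A : Set P) := Subgroup.centralizer_le hAH hxQ
  let L : Subgroup P := Q ⊓ (Subgroup.center (P ⧸ A)).comap π
  have hLprop : ∀ y ∈ L, ∀ g : P, ⁅y, g⁆ ∈ A := fun y hy g => by
    rw [← QuotientGroup.ker_mk' A, MonoidHom.mem_ker, map_commutatorElement]
    exact commutatorElement_eq_one_iff_mul_comm.2 (Subgroup.mem_center_iff.1 hy.2 (π g)).symm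
  have hxL : x ∈ L := by
    refine Subgroup.mem_inf.2 ⟨hxQ, ?_⟩
    rw [Subgroup.mem_comap, Subgroup.mem_center_iff]
    intro q
    obtain ⟨g, rfl⟩ := QuotientGroup.mk'_surjective A q
    refine (commutatorElement_eq_one_iff_mul_comm.1 ?_).symm
    rw [← map_commutatorElement]
    exact (QuotientGroup.eq_one_iff _).2 (hx g trivial)
  have key : ∀ k : ℕ, ∀ y ∈ L, y ^ p ^ k ∈ A → y ∈ A := by
    intro k
    induction k with
    | zero => intro y _ hy; simpa using hy
    | succ k ih =>
      intro y hy hk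
      have h1 : y ^ p ∈ A := ih _ (pow_mem hy p) (by rwa [← pow_mul, ← pow_succ'])
      have h2 : y ∈ Q ⊓ H := ⟨hy.1, Subgroup.centralizer_le hAH hy.1, h1, hLprop y hy⟩
      rwa [hQH] at h2
  obtain ⟨k, hk⟩ := hP x
  exact hxA (key k x hxL (by rw [hk]; exact one_mem A))

/-- A coprime automorphism centralizing a self-centralizing normal subgroup is trivial. -/
theorem aut_eq_one_of_fix (hP : IsPGroup p P) {H : Subgroup P} [H.Normal]
    (hC : Subgroup.centralizer (H : Set P) ≤ H) (a : MulAut P) (ha : (orderOf a).Coprime p)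
    (h : ∀ x ∈ H, a x = x) : a = 1 := by
  ext x
  show a x = x
  set q := x⁻¹ * a x with hq
  have hqC : q ∈ Subgroup.centralizer (H : Set P) := by
    rw [mem_centralizer_set]
    intro z hz
    have h1 := h _ ((inferInstance : H.Normal).conj_mem z hz x)
    rw [map_mul, map_mul, map_inv, h z hz] at h1
    calc q * z * q⁻¹ = x⁻¹ * (a x * z * (a x)⁻¹) * x := by rw [hq]; group
      _ = z := by rw [h1]; group
  have hfix : a q = q := h q (hC hqC)
  have hax : a x = x * q := by rw [hq]; group
  have hpow : ∀ j : ℕ, (a ^ j) x = x * q ^ j := by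
    intro j
    induction j with
    | zero => simp
    | succ j ih =>
      rw [pow_succ', MulAut.mul_apply, ih, map_mul, map_pow, hfix, hax, pow_succ', mul_assoc]
  have h5 := hpow (orderOf a)
  rw [pow_orderOf_eq_one, MulAut.one_apply] at h5
  have h6 : q ^ orderOf a = 1 := mul_left_cancel (h5.symm.trans (mul_one x).symm)
  obtain ⟨i, hi⟩ := IsPGroup.iff_orderOf.1 hP q
  have h7 : q = 1 := orderOf_eq_one_iff.1 (Nat.eq_one_of_dvd_coprimes (ha.pow_right i)
    (orderOf_dvd_of_pow_eq_one h6) (hi ▸ dvd_rfl))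
  rw [hax, h7, mul_one]

end Cfsg.Agent.Fusion
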