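import Mathlib
import Cfsg.Prelude.Def_ConjugacyFunctors
import Cfsg.Agent.Lib.Fusion.NPC
import Cfsg.Agent.Lib.Fusion.Sections
import Cfsg.Agent.Lib.Fusion.Reduction

/-!
# Thompson-type normal p-complement criteria for functors
-/

set_option autoImplicit false

universe u

namespace Cfsg.Agent.Fusion

variable {G : Type u} [Group G] [Finite G] {p : ℕ} [hp : Fact p.Prime]

/-- A group without normal `p`-complement has a nontrivial `p`-subgroup whose normalizer has
none. -/
theorem exists_not_hnpc_normalizer (h : ¬ HasNormalPComplement p G) :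
    ∃ Q : Subgroup G, IsPGroup p Q ∧ Q ≠ ⊥ ∧
      ¬ HasNormalPComplement p (Subgroup.normalizer (Q : Set G)) := by
  by_contra hcon
  push Not at hcon
  obtain ⟨P⟩ : Nonempty (Sylow p G) := inferInstance
  refine h (hnpc_of_centralize (sylIn_top P) fun Q hQ g hg hgp => ?_)
  rcases eq_or_ne Q ⊥ with rfl | hne
  · rw [mem_centralizer_set]
    intro s hs
    simp [Subgroup.mem_bot.1 hs]
  have hQp : IsPGroup p Q := P.isPGroup'.to_le hQ
  have h1 : (⟨g, hg⟩ : Subgroup.normalizer (Q : Set G)) ∈
      Subgroup.centralizer ((Q.subgroupOf (Subgroup.normalizer (Q : Set G)) :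
        Subgroup (Subgroup.normalizer (Q : Set G))) : Set (Subgroup.normalizer (Q : Set G))) :=
    hnpc_centralize (hcon Q hQp hne) (hQp.comap_of_injective _ (Subgroup.subtype_injective _))
      (Subgroup.mem_normalizer_iff.2 fun x => Subgroup.mem_normalizer_iff.1 hg (x : G))
      (by rwa [Subgroup.orderOf_mk])
  rw [mem_centralizer_set] at h1 ⊢
  intro s hs
  have := congrArg Subtype.val (h1 ⟨s, Subgroup.le_normalizer hs⟩ hs)
  simpa using this

theorem hnpc_normalizer_of_injective {H : Type*} [Group H] [Finite H] (f : H →* G)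
    (hf : Function.Injective f) (V : Subgroup H)
    (h : HasNormalPComplement p (Subgroup.normalizer (V.map f : Set G))) :
    HasNormalPComplement p (Subgroup.normalizer (V : Set H)) := by
  have hle : ∀ x : Subgroup.normalizer (V : Set H),
      f x ∈ Subgroup.normalizer (V.map f : Set G) := by
    intro x
    have h1 : f x ∈ ((⊤ : Subgroup H) ⊓ Subgroup.normalizer (V : Set H)).map f :=
      ⟨x, ⟨trivial, x.2⟩, rfl⟩
    rw [map_normalizer_inf f hf] at h1
    exact h1.2
  exact hnpc_of_injective ((f.comp (Subgroup.normalizer (V : Set H)).subtype).codRestrict _ hle)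
    (fun a b hab => Subtype.ext (hf (congrArg Subtype.val hab))) h

theorem hnpc_sub {H K : Subgroup G} (hHK : H ≤ K) (h : HasNormalPComplement p K) :
    HasNormalPComplement p H :=
  hnpc_of_injective (Subgroup.inclusion hHK) (Subgroup.inclusion_injective hHK) h

theorem hnpc_map {G' : Type*} [Group G'] [Finite G'] (f : G →* G') (H : Subgroup G)
    (h : HasNormalPComplement p H) : HasNormalPComplement p (H.map f) :=
  hnpc_of_surjective (f.subgroupMap H) (f.subgroupMap_surjective H) h

variable {W : ∀ (Q : Type u) [Group Q], Subgroup Q}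

theorem hnpc_of_functor_step (hW : IsCharPFunctor.{u} p W)
    (hsub : ∀ H : Subgroup G, H ≠ ⊤ → ∀ T : Sylow p H,
      HasNormalPComplement p (Subgroup.normalizer (inducedFunctor W (T : Subgroup H) : Set H)) →
      HasNormalPComplement p H)
    (hquot : ∀ (N : Subgroup G) [N.Normal], N ≠ ⊥ → ∀ T : Sylow p (G ⧸ N),
      HasNormalPComplement p
        (Subgroup.normalizer (inducedFunctor W (T : Subgroup (G ⧸ N)) : Set (G ⧸ N))) →
      HasNormalPComplement p (G ⧸ N))
    (hcon : Subgroup.centralizer (pCore p G : Set G) ≤ pCore p G →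
      HasNormalPComplement p (G ⧸ pCore p G) →
      ∀ T : Sylow p G, IsCoatom (T : Subgroup G) → (inducedFunctor W (T : Subgroup G)).Normal)
    (S : Sylow p G)
    (hN : HasNormalPComplement p
      (Subgroup.normalizer (inducedFunctor W (S : Subgroup G) : Set G))) :
    HasNormalPComplement p G := by
  classical
  by_contra hG
  have hS := sylIn_top S
  have hWf := isConjugacyFunctor_induced (G := G) hW
  have hproper : ∀ H : Subgroup G, H ≠ ⊤ → ∀ R : Subgroup G, SylIn p R H →
      HasNormalPComplement p
        ((H ⊓ Subgroup.normalizer (inducedFunctor W R : Set G) : Subgroup G)) →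
      HasNormalPComplement p H := by
    intro H hH R hR h
    obtain ⟨T, hT⟩ := hR.exists_sylow_subgroupOf
    refine hsub H hH T ?_
    have hRT : (T : Subgroup H).map H.subtype = R := by
      rw [hT, Subgroup.map_subgroupOf_eq_of_le hR.le]
    have e : (inducedFunctor W (T : Subgroup H)).map H.subtype = inducedFunctor W R := by
      rw [← inducedFunctor_map_of_injOn hW H.subtype H.subtype_injective.injOn T.isPGroup', hRT]
    have e2 : (Subgroup.normalizer (inducedFunctor W (T : Subgroup H) : Set H)).map H.subtype =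
        H ⊓ Subgroup.normalizer (inducedFunctor W R : Set G) := by
      have := map_normalizer_inf H.subtype H.subtype_injective (inducedFunctor W (T : Subgroup H))
      rwa [top_inf_eq, Subgroup.range_subtype, e] at this
    rw [← e2] at h
    exact hnpc_of_equiv (Subgroup.equivMapOfInjective _ H.subtype H.subtype_injective).symm h
  have hover : ∀ H : Subgroup G, (S : Subgroup G) ≤ H → H ≠ ⊤ → HasNormalPComplement p H :=
    fun H hSH hH => hproper H hH S (hS.mono hSH le_top) (hnpc_sub inf_le_right hN)
  -- choose a bad normalizer with largest Sylow subgroup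
  obtain ⟨U₀, hU₀p, hU₀ne, hU₀⟩ := exists_not_hnpc_normalizer hG
  obtain ⟨R₀, hR₀⟩ := exists_sylIn (p := p) (Subgroup.normalizer (U₀ : Set G))
  obtain ⟨k, ⟨R, ⟨hRp, U, hUp, hUne, hU, hRN⟩, hk⟩, hmax⟩ :
      ∃ k, (∃ R : Subgroup G, (IsPGroup p R ∧ ∃ U : Subgroup G, IsPGroup p U ∧ U ≠ ⊥ ∧
        ¬ HasNormalPComplement p (Subgroup.normalizer (U : Set G)) ∧
        SylIn p R (Subgroup.normalizer (U : Set G))) ∧ Nat.card R = k) ∧
      ∀ R : Subgroup G, (IsPGroup p R ∧ ∃ U : Subgroup G, IsPGroup p U ∧ U ≠ ⊥ ∧
        ¬ HasNormalPComplement p (Subgroup.normalizer (U : Set G)) ∧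
        SylIn p R (Subgroup.normalizer (U : Set G))) → Nat.card R ≤ k := by
    have hne : ({R : Subgroup G | IsPGroup p R ∧ ∃ U : Subgroup G, IsPGroup p U ∧ U ≠ ⊥ ∧
        ¬ HasNormalPComplement p (Subgroup.normalizer (U : Set G)) ∧
        SylIn p R (Subgroup.normalizer (U : Set G))}).Nonempty :=
      ⟨R₀, hR₀.isPGroup, U₀, hU₀p, hU₀ne, hU₀, hR₀⟩
    obtain ⟨R, hR, hmax⟩ := Set.exists_max_image _ (fun R : Subgroup G => Nat.card R)
      (Set.toFinite _) hne
    exact ⟨_, ⟨R, hR, rfl⟩, hmax⟩
  subst hk
  obtain ⟨c, -, hcR⟩ := hS.conj_le hRp le_top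
  have hU' : ¬ HasNormalPComplement p (Subgroup.normalizer (cj U c : Set G)) := fun h => hU (by
    rw [← cj_normalizer] at h
    exact hnpc_of_equiv (Subgroup.equivMapOfInjective _ _ (MulAut.conj c).injective).symm h)
  have hR' : SylIn p (cj R c) (Subgroup.normalizer (cj U c : Set G)) := by
    rw [← cj_normalizer]; exact hRN.cj c
  have hUne' : cj U c ≠ ⊥ := fun h => hUne (by rw [← cj_cj_inv U c, h, cj_bot])
  set U' := cj U c
  set R' := cj R c
  by_cases htop : Subgroup.normalizer (U' : Set G) = ⊤
  swap
  · by_cases hRS : R' = S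
    · exact hU' (hover _ (hRS ▸ hR'.le) htop)
    have hR'ne : R' ≠ ⊥ := fun hb => hUne' (le_bot_iff.1 (by
      obtain ⟨m, -, hm⟩ := hR'.conj_le (isPGroup_cj hUp c) Subgroup.le_normalizer
      have hm' := cj_mono hm m⁻¹
      rw [cj_cj_inv, hb, cj_bot] at hm'
      exact hm'))
    refine hU' (hproper _ htop R' hR' (hnpc_sub inf_le_right ?_))
    by_contra hV
    set V := inducedFunctor W R'
    obtain ⟨R₂, hR₂, hge⟩ := exists_sylIn_ge
      (Q := (S : Subgroup G) ⊓ Subgroup.normalizer (V : Set G)) (S.isPGroup'.to_inf_left)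
      (inf_le_right (b := Subgroup.normalizer (V : Set G)))
    have hle := hmax R₂ ⟨hR₂.isPGroup, V, hR'.isPGroup.to_le (inducedFunctor_le W R'),
      (hWf R' hR'.isPGroup).2.1 hR'ne, hV, hR₂⟩
    have hlt : R' < (S : Subgroup G) ⊓ Subgroup.normalizer (V : Set G) :=
      lt_of_lt_of_le (SylIn.normalizer_growth (p := p) hcR hRS S.isPGroup')
        (inf_le_inf_left _ (conjFunctor_normalizer_le hWf hR'.isPGroup))
    have h1 : Nat.card R' < Nat.card ((S : Subgroup G) ⊓ Subgroup.normalizer (V : Set G) :
        Subgroup G) := by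
      by_contra hcon'
      exact hlt.ne (Subgroup.eq_of_le_of_card_ge hlt.le (by omega))
    have h2 := Subgroup.card_le_of_le hge
    rw [show Nat.card R' = Nat.card R from card_cj R c] at h1
    omega
  haveI : U'.Normal := Subgroup.normalizer_eq_top_iff.1 htop
  have hQne : pCore p G ≠ ⊥ := fun h =>
    hUne' (le_bot_iff.1 (h ▸ le_pCore (isPGroup_cj hUp c)))
  have hQS : pCore p G ≤ (S : Subgroup G) := pCore_le_sylow S
  -- no normal p'-subgroup
  have h0 : pPrimeCore p G = ⊥ := by
    by_contra hne
    set N := pPrimeCore p G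
    set π := QuotientGroup.mk' N
    obtain ⟨T, hT⟩ := (sylIn_map_mk (N := N) hS).exists_sylow
    refine hG (hnpc_of_quotient N (card_pPrimeCore_coprime p G) (hquot N hne T ?_))
    rw [hT, inducedFunctor_map_of_injOn hW π
      (injOn_mk_of_coprime (card_pPrimeCore_coprime p G) S.isPGroup') S.isPGroup']
    refine hnpc_sub (fun y hy => ?_) (hnpc_map π _ hN)
    obtain ⟨x, hx, he⟩ := exists_lift_normalizer (card_pPrimeCore_coprime p G)
      (S.isPGroup'.to_le (inducedFunctor_le W _)) hy
    exact ⟨x, hx, he⟩
  have hSQ : (S : Subgroup G) ≠ pCore p G := fun h => hG (by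
    haveI : (S : Subgroup G).Normal := h ▸ inferInstance
    have h1 : Subgroup.normalizer (inducedFunctor W (S : Subgroup G) : Set G) = ⊤ :=
      top_le_iff.1 ((Subgroup.normalizer_eq_top (H := (S : Subgroup G))).ge.trans
        (conjFunctor_normalizer_le hWf S.isPGroup'))
    rw [h1] at hN
    exact hnpc_of_equiv Subgroup.topEquiv hN)
  -- the quotient by the p-core
  have hquotQ : HasNormalPComplement p (G ⧸ pCore p G) := by
    set Q := pCore p G with hQdef
    set π := QuotientGroup.mk' Q
    obtain ⟨T, hT⟩ := (sylIn_map_mk (N := Q) hS).exists_sylow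
    refine hquot Q hQne T ?_
    rw [hT]
    have hW2 := isConjugacyFunctor_induced (G := G ⧸ Q) hW
    set V₀ := inducedFunctor W ((S : Subgroup G).map π)
    set L := (Subgroup.normalizer (V₀ : Set (G ⧸ Q))).comap π
    have hL' : L.map π = Subgroup.normalizer (V₀ : Set (G ⧸ Q)) :=
      Subgroup.map_comap_eq_self_of_surjective (QuotientGroup.mk'_surjective Q) _
    rw [← hL']
    refine hnpc_map π L (hover L (fun x hx =>
      sylow_le_normalizer_functor hW2 (S.isPGroup'.map π) ⟨x, hx, rfl⟩) fun htop' => ?_)
    have hn : Subgroup.normalizer (V₀ : Set (G ⧸ Q)) = ⊤ := by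
      rw [← hL', htop', Subgroup.map_top_of_surjective π (QuotientGroup.mk'_surjective Q)]
    haveI : V₀.Normal := Subgroup.normalizer_eq_top_iff.1 hn
    have h2 := le_pCore (p := p) ((S.isPGroup'.map π).to_le (inducedFunctor_le W _) :
      IsPGroup p V₀)
    rw [pCore_quotient_eq_bot, le_bot_iff] at h2
    have h3 : (S : Subgroup G).map π = ⊥ := by
      by_contra hne
      exact (hW2 _ (S.isPGroup'.map π)).2.1 hne h2
    refine hSQ (le_antisymm ?_ hQS)
    rwa [← QuotientGroup.ker_mk' Q, ← Subgroup.map_eq_bot_iff]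
  have hcentr : Subgroup.centralizer (pCore p G : Set G) ≤ pCore p G := by
    set Q := pCore p G with hQdef
    set C := Subgroup.centralizer (Q : Set G)
    haveI hCn : C.Normal := Subgroup.normal_centralizer (H := Q)
    set π := QuotientGroup.mk' Q
    set K := (pResidual p (G ⧸ Q)).comap π
    set D := C ⊓ K
    -- `Q ⊓ C` is a central Sylow subgroup of `D`
    have hD : SylIn p (Q ⊓ C) D := by
      have hQK : SylIn p Q K := by
        refine ⟨fun x hx => ?_, isPGroup_pCore p G, ?_⟩
        · simp [K, π, (QuotientGroup.eq_one_iff x).2 hx]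
        · have h := Subgroup.relIndex_ker (f := π) (K := K)
          rw [QuotientGroup.ker_mk', Subgroup.map_comap_eq_self_of_surjective
            (QuotientGroup.mk'_surjective Q)] at h
          rw [h]
          exact coprime_card_iff_not_dvd.1 (hnpc_iff.1 hquotQ)
      haveI : D.Normal := inferInstance
      have h := hQK.inf_normal (N := D) inf_le_right (le_top.trans
        (by rw [Subgroup.normalizer_eq_top]))
      rwa [show Q ⊓ D = Q ⊓ C by
        rw [show D = C ⊓ K from rfl, inf_comm C K, ← inf_assoc, inf_eq_left.2 hQK.le]] at h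
    obtain ⟨P, hP⟩ := hD.exists_sylow_subgroupOf
    have hDn : HasNormalPComplement p D := by
      refine hnpc_of_normalizer_le_centralizer P fun x _ => ?_
      rw [Subgroup.mem_centralizer_iff]
      intro y hy
      replace hy : y ∈ (P : Subgroup D) := hy
      rw [hP] at hy
      exact Subtype.ext (Subgroup.mem_centralizer_iff.1 x.2.1 y hy.1)
    haveI : D.Normal := inferInstance
    haveI : ((pResidual p D).map D.subtype).Normal := ConjAct.normal_of_characteristic_of_normal
    have h1 : (pResidual p D).map D.subtype ≤ pPrimeCore p G := le_pPrimeCore (by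
      rw [Subgroup.card_map_of_injective D.subtype_injective]; exact hnpc_iff.1 hDn)
    rw [h0, le_bot_iff, Subgroup.map_eq_bot_iff_of_injective _ D.subtype_injective] at h1
    have hq : IsPGroup p (G ⧸ K) := by
      intro y
      obtain ⟨x, rfl⟩ := QuotientGroup.mk_surjective y
      obtain ⟨j, hj⟩ := isPGroup_quotient_pResidual (p := p) (G := G ⧸ Q) (QuotientGroup.mk (π x))
      refine ⟨j, ?_⟩
      rw [← QuotientGroup.mk_pow, QuotientGroup.eq_one_iff] at hj ⊢
      rw [Subgroup.mem_comap, map_pow]; exact hj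
    have hDp : IsPGroup p D := fun x => by
      obtain ⟨j, hj⟩ := (isPGroup_quotient_pResidual (p := p) (G := D)) (QuotientGroup.mk x)
      refine ⟨j, ?_⟩
      rwa [← QuotientGroup.mk_pow, QuotientGroup.eq_one_iff, h1, Subgroup.mem_bot] at hj
    refine le_pCore fun x => ?_
    obtain ⟨j, hj⟩ := hq (QuotientGroup.mk (x : G))
    rw [← QuotientGroup.mk_pow, QuotientGroup.eq_one_iff] at hj
    obtain ⟨i, hi⟩ := hDp ⟨(x : G) ^ p ^ j, ⟨pow_mem x.2 _, hj⟩⟩
    refine ⟨j + i, Subtype.ext ?_⟩
    have h2 := congrArg Subtype.val hi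
    simpa [pow_add, pow_mul] using h2
  -- the Sylow subgroup is maximal
  have hcoatom : IsCoatom (S : Subgroup G) := by
    refine ⟨fun h => hG ?_, fun H hH => ?_⟩
    · have h1 : IsPGroup p G := fun g => by
        obtain ⟨j, hj⟩ := S.isPGroup' ⟨g, h ▸ Subgroup.mem_top g⟩
        exact ⟨j, congrArg Subtype.val hj⟩
      refine hnpc_of_coprime_normal_pgroup_quotient (N := ⊥) (by simp) (h1.to_quotient ⊥)
    · by_contra hHtop
      have hHn := hover H hH.le hHtop
      refine hH.not_ge ?_
      obtain ⟨P, hP⟩ := (hS.mono hH.le le_top).exists_sylow_subgroupOf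
      have hres : pResidual p H = ⊥ := by
        rw [eq_bot_iff]
        intro x hx
        have hxc : (x : G) ∈ Subgroup.centralizer (pCore p G : Set G) := by
          rw [Subgroup.mem_centralizer_iff]
          intro q hq
          have hq' : (⟨q, hH.le (hQS hq)⟩ : H) ∈ ((pCore p G).subgroupOf H : Subgroup H) := hq
          have := hnpc_centralize hHn (Q := (pCore p G).subgroupOf H)
            ((isPGroup_pCore p G).comap_of_injective _ H.subtype_injective)
            (g := x) (by rw [Subgroup.normalizer_eq_top]; trivial) ((hnpc_mem_iff hHn).1 hx)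
          exact congrArg Subtype.val (Subgroup.mem_centralizer_iff.1 this _ hq')
        rw [Subgroup.mem_bot, ← orderOf_eq_one_iff]
        obtain ⟨j, hj⟩ := IsPGroup.iff_orderOf.1 (isPGroup_pCore p G) ⟨_, hcentr hxc⟩
        rw [Subgroup.orderOf_mk, Subgroup.orderOf_coe] at hj
        exact Nat.eq_one_of_dvd_coprimes (((hnpc_mem_iff hHn).1 hx).pow_right j) dvd_rfl
          (hj ▸ dvd_rfl)
      have htop2 := pResidual_sup_sylow P
      rw [hres, bot_sup_eq, hP, Subgroup.subgroupOf_eq_top] at htop2
      exact htop2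
  have hnorm := hcon hcentr hquotQ S hcoatom
  haveI := hnorm
  rw [Subgroup.normalizer_eq_top] at hN
  exact hG (hnpc_of_equiv Subgroup.topEquiv hN)

theorem hnpc_of_functor_sections (hW : IsCharPFunctor.{u} p W)
    (hloc : ∀ (X : Type u) [Group X] [Finite X], Involves X G →
      Subgroup.centralizer (pCore p X : Set X) ≤ pCore p X →
      HasNormalPComplement p (X ⧸ pCore p X) →
      ∀ T : Sylow p X, IsCoatom (T : Subgroup X) → (inducedFunctor W (T : Subgroup X)).Normal)
    (X : Type u) [Group X] [Finite X] (hX : Involves X G) (S : Sylow p X)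
    (hN : HasNormalPComplement p
      (Subgroup.normalizer (inducedFunctor W (S : Subgroup X) : Set X))) :
    HasNormalPComplement p X := by
  suffices H : ∀ (n : ℕ) (X : Type u) [Group X] [Finite X], Involves X G → Nat.card X = n →
      ∀ S : Sylow p X, HasNormalPComplement p
        (Subgroup.normalizer (inducedFunctor W (S : Subgroup X) : Set X)) →
      HasNormalPComplement p X from H _ X hX rfl S hN
  intro n
  induction n using Nat.strong_induction_on with
  | _ n IH =>
    intro X _ _ hX hn S hS
    refine hnpc_of_functor_step hW (fun H hH => ?_) (fun N _ hN => ?_) (hloc X hX) S hS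
    · refine IH _ (hn ▸ ?_) H (involves_subgroup hX H) rfl
      exact lt_of_le_of_ne (Subgroup.card_le_card_group H)
        fun h => hH (Subgroup.eq_top_of_card_eq H h)
    · refine IH _ (hn ▸ ?_) (X ⧸ N)
        (involves_surjective hX (QuotientGroup.mk' N) (QuotientGroup.mk'_surjective N)) rfl
      rw [Subgroup.card_eq_card_quotient_mul_card_subgroup N]
      exact lt_mul_of_one_lt_right Nat.card_pos ((Subgroup.one_lt_card_iff_ne_bot N).2 hN)

/-- Transport of "`W` of every Sylow subgroup is normal" along an isomorphism. -/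
theorem inducedFunctor_normal_of_equiv {X Y : Type u} [Group X] [Group Y] [Finite X] [Finite Y]
    (hW : IsCharPFunctor.{u} p W) (e : X ≃* Y) (T : Sylow p X)
    (h : (inducedFunctor W ((T : Subgroup X).map e.toMonoidHom)).Normal) :
    (inducedFunctor W (T : Subgroup X)).Normal := by
  rw [inducedFunctor_map_of_injOn hW e.toMonoidHom e.injective.injOn T.isPGroup'] at h
  have := h.comap e.toMonoidHom
  rwa [Subgroup.comap_map_eq_self_of_injective e.injective] at this

end Cfsg.Agent.Fusion
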