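import Mathlib
import Cfsg.Prelude.Def_Solvable
import Cfsg.Prelude.Def_CaseTheorems
import Cfsg.Prelude.Def_Transfer
import Cfsg.Prelude.Def_LocalEven
import Cfsg.Agent.Lib.Fusion.NPC

/-!
# Action on chief factors inside p-subgroups
-/

set_option autoImplicit false

open scoped commutatorElement

universe u

namespace Cfsg.Agent.Fusion

variable {G : Type*} [Group G]

theorem exists_mul_of_mem_sup {H N : Subgroup G} (h : H ≤ Subgroup.normalizer (N : Set G)) {x : G}
    (hx : x ∈ H ⊔ N) : ∃ a ∈ H, ∃ b ∈ N, a * b = x := by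
  have : x ∈ ((H ⊔ N : Subgroup G) : Set G) := hx
  rw [Subgroup.coe_mul_of_left_le_normalizer_right H N h] at this
  exact this

/-- The elements acting trivially on all chief factors between `Y` and `X`. -/
def trivBetween (Y X : Subgroup G) : Subgroup G where
  carrier := {g | ∀ U V : Subgroup G, IsChiefFactor U V → Y ≤ V → U ≤ X → ∀ u ∈ U, ⁅g, u⁆ ∈ V}
  one_mem' := fun U V _ _ _ u _ => by simp
  mul_mem' := fun {a b} ha hb U V hc hY hX u hu => by
    have h1 := hc.2.2.1.conj_mem _ (hb U V hc hY hX u hu) a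
    have := mul_mem h1 (ha U V hc hY hX u hu)
    simpa [commutatorElement_def, mul_assoc] using this
  inv_mem' := fun {a} ha U V hc hY hX u hu => by
    have := hc.2.2.1.conj_mem _ (inv_mem (ha U V hc hY hX u hu)) a⁻¹
    simpa [commutatorElement_def, mul_assoc] using this

instance trivBetween_normal (Y X : Subgroup G) : (trivBetween Y X).Normal :=
  ⟨fun g hg k U V hc hY hX u hu => by
    have h1 := hg U V hc hY hX _ (hc.2.1.conj_mem u hu k⁻¹)
    have := hc.2.2.1.conj_mem _ h1 k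
    simpa [commutatorElement_def, mul_assoc] using this⟩

theorem exists_chief_of_not_mem_trivBetween {Y X : Subgroup G} {g : G}
    (h : g ∉ trivBetween Y X) :
    ∃ U V : Subgroup G, IsChiefFactor U V ∧ Y ≤ V ∧ U ≤ X ∧ ¬ ⁅U, Subgroup.zpowers g⁆ ≤ V := by
  have h' : ¬ ∀ U V : Subgroup G, IsChiefFactor U V → Y ≤ V → U ≤ X → ∀ u ∈ U, ⁅g, u⁆ ∈ V := h
  push Not at h'
  obtain ⟨U, V, hc, hY, hX, u, hu, hne⟩ := h'
  refine ⟨U, V, hc, hY, hX, fun hle => hne ?_⟩
  have := inv_mem (hle (Subgroup.commutator_mem_commutator hu (Subgroup.mem_zpowers g)))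
  rwa [commutatorElement_inv] at this

variable [Finite G] {p : ℕ} [hp : Fact p.Prime]

/-- A `p'`-element trivial on `X / V` and on `V` modulo `Y` is trivial on `X` modulo `Y`. -/
theorem coprime_trivial_step {x t : G} {V Y : Subgroup G} [Y.Normal] (hV : IsPGroup p V)
    (hx : (orderOf x).Coprime p) (h1 : ⁅x, t⁆ ∈ V) (h2 : ⁅x, ⁅x, t⁆⁆ ∈ Y) : ⁅x, t⁆ ∈ Y := by
  set π := QuotientGroup.mk' Y
  rw [← QuotientGroup.ker_mk' Y, MonoidHom.mem_ker] at h2 ⊢
  set q := π ⁅x, t⁆ with hq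
  set a := π x
  set b := π t
  have hcomm : a * q = q * a := by
    rw [map_commutatorElement] at h2
    exact commutatorElement_eq_one_iff_mul_comm.1 h2
  have hqab : a * b * a⁻¹ = q * b := by
    rw [hq, map_commutatorElement, commutatorElement_def]
    show π x * π t * (π x)⁻¹ = π x * π t * (π x)⁻¹ * (π t)⁻¹ * π t
    group
  have hpow : ∀ j : ℕ, a ^ j * b * (a ^ j)⁻¹ = q ^ j * b := by
    intro j
    induction j with
    | zero => simp
    | succ j ih =>
      have hc : a * q ^ j = q ^ j * a := (Commute.pow_right hcomm j)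
      calc a ^ (j + 1) * b * (a ^ (j + 1))⁻¹ = a * (a ^ j * b * (a ^ j)⁻¹) * a⁻¹ := by
            rw [pow_succ']; group
        _ = (a * q ^ j) * b * a⁻¹ := by rw [ih]; group
        _ = q ^ j * (a * b * a⁻¹) := by rw [hc]; group
        _ = q ^ (j + 1) * b := by rw [hqab, pow_succ]; group
  have h5 := hpow (orderOf x)
  rw [show a ^ orderOf x = 1 by rw [← map_pow, pow_orderOf_eq_one, map_one]] at h5
  have h6 : q ^ orderOf x = 1 := by
    have h7 : b = q ^ orderOf x * b := by simpa using h5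
    exact mul_right_cancel (h7.symm.trans (one_mul b).symm)
  obtain ⟨i, hi⟩ := IsPGroup.iff_orderOf.1 hV ⟨_, h1⟩
  rw [Subgroup.orderOf_mk] at hi
  exact orderOf_eq_one_iff.1 (Nat.eq_one_of_dvd_coprimes (hx.pow_right i)
    (orderOf_dvd_of_pow_eq_one h6) (hi ▸ orderOf_map_dvd π _))

theorem coprime_trivBetween {Y X : Subgroup G} [Y.Normal] {x : G} (hYX : Y ≤ X) (hX : X.Normal)
    (hXp : IsPGroup p X) (hx : (orderOf x).Coprime p) (hxt : x ∈ trivBetween Y X) :
    ∀ t ∈ X, ⁅x, t⁆ ∈ Y := by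
  suffices H : ∀ (n : ℕ) (Z : Subgroup G), Nat.card Z = n → Y ≤ Z → Z ≤ X → Z.Normal →
      ∀ t ∈ Z, ⁅x, t⁆ ∈ Y from H _ X rfl hYX le_rfl hX
  intro n
  induction n using Nat.strong_induction_on with
  | _ n IH =>
    intro Z hn hYZ hZX hZn t ht
    by_cases hZY : Z = Y
    · subst hZY
      have := mul_mem (hZn.conj_mem t ht x) (inv_mem ht)
      simpa [commutatorElement_def, mul_assoc] using this
    obtain ⟨V, ⟨hVn, hYV, hVZ⟩, hmax⟩ := Set.exists_max_image
      {V : Subgroup G | V.Normal ∧ Y ≤ V ∧ V < Z} (fun V : Subgroup G => Nat.card V)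
      (Set.toFinite _) ⟨Y, inferInstance, le_rfl, lt_of_le_of_ne hYZ (Ne.symm hZY)⟩
    have hc : IsChiefFactor Z V := ⟨hVZ, hZn, hVn, fun N hN hVN hNZ => by
      rcases eq_or_lt_of_le hNZ with h | h
      · exact .inr h
      · exact .inl (Subgroup.eq_of_le_of_card_ge hVN (hmax N ⟨hN, hYV.trans hVN, h⟩)).symm⟩
    have h1 := hxt Z V hc hYV hZX t ht
    refine coprime_trivial_step (hXp.to_le (hVZ.le.trans hZX)) hx h1 ?_
    refine IH _ ?_ V rfl hYV (hVZ.le.trans hZX) hVn _ h1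
    rw [← hn]
    by_contra hcon
    exact hVZ.ne (Subgroup.eq_of_le_of_card_ge hVZ.le (by omega))

/-- The image of `trivBetween ⊥ X` modulo the centralizer of `X` is a `p`-group. -/
theorem trivBetween_le_comap_pCore {X : Subgroup G} [X.Normal] (hX : IsPGroup p X) :
    trivBetween ⊥ X ≤ (pCore p (G ⧸ Subgroup.centralizer (X : Set G))).comap
      (QuotientGroup.mk' (Subgroup.centralizer (X : Set G))) := by
  set D := trivBetween ⊥ X
  set C := Subgroup.centralizer (X : Set G)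
  set π := QuotientGroup.mk' C
  haveI : (D.map π).Normal := Subgroup.Normal.map inferInstance π (QuotientGroup.mk'_surjective C)
  refine Subgroup.map_le_iff_le_comap.1 (le_pCore ?_)
  rintro ⟨_, d, hd, rfl⟩
  obtain ⟨k, m, hm, hkm⟩ := Nat.exists_eq_pow_mul_and_not_dvd (orderOf_pos d).ne' p hp.out.ne_one
  refine ⟨k, Subtype.ext ?_⟩
  show π d ^ p ^ k = 1
  rw [← map_pow]
  refine (QuotientGroup.eq_one_iff _).2 ?_
  rw [mem_centralizer_set]
  intro t ht
  have hco : (orderOf (d ^ p ^ k)).Coprime p := by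
    rw [orderOf_pow_of_dvd (pow_ne_zero _ hp.out.ne_zero) (hkm ▸ dvd_mul_right _ _), hkm,
      Nat.mul_div_cancel_left _ (pow_pos hp.out.pos k)]
    exact ((Nat.Prime.coprime_iff_not_dvd hp.out).2 hm).symm
  have h1 := coprime_trivBetween (Y := ⊥) bot_le inferInstance hX hco (pow_mem hd _) t ht
  rw [Subgroup.mem_bot, commutatorElement_def, mul_inv_eq_one] at h1
  exact h1

/-! ### Complements of invariant subgroups in a chief factor -/

/-- `M` is a minimal `H`-invariant subgroup strictly between `V` and `U`. -/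
def IsAtomInv (H U V M : Subgroup G) : Prop :=
  V ≤ M ∧ M ≤ U ∧ M ≠ V ∧ H ≤ Subgroup.normalizer (M : Set G) ∧
    ∀ N : Subgroup G, V ≤ N → N ≤ M → N ≠ V → H ≤ Subgroup.normalizer (N : Set G) → N = M

/-- The atoms generate `U`. -/
def AtomsGenerate (H U V : Subgroup G) : Prop :=
  ∀ X : Subgroup G, V ≤ X → (∀ M, IsAtomInv H U V M → M ≤ X) → U ≤ X

omit [Finite G] in
theorem atomsGenerate_top {U V : Subgroup G} (hc : IsChiefFactor U V) :
    AtomsGenerate ⊤ U V := fun _ _ hX => by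
  refine hX U ⟨hc.1.le, le_rfl, hc.1.ne', ?_, fun N hVN hNU hne hN => ?_⟩
  · haveI := hc.2.1
    rw [Subgroup.normalizer_eq_top]
  · haveI : N.Normal := Subgroup.normalizer_eq_top_iff.1 (top_le_iff.1 hN)
    exact ((hc.2.2.2 N this hVN hNU).resolve_left hne)

theorem exists_atom_le {H U V M : Subgroup G} (hVM : V ≤ M) (hMU : M ≤ U) (hne : M ≠ V)
    (hM : H ≤ Subgroup.normalizer (M : Set G)) : ∃ m, IsAtomInv H U V m ∧ m ≤ M := by
  obtain ⟨m, ⟨h1, h2, h3, h4⟩, hmin⟩ := Set.exists_min_image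
    {m : Subgroup G | V ≤ m ∧ m ≤ M ∧ m ≠ V ∧ H ≤ Subgroup.normalizer (m : Set G)}
    (fun m : Subgroup G => Nat.card m) (Set.toFinite _) ⟨M, hVM, le_rfl, hne, hM⟩
  exact ⟨m, ⟨h1, h2.trans hMU, h3, h4, fun N hVN hN hne' hN' =>
    Subgroup.eq_of_le_of_card_ge hN (hmin N ⟨hVN, hN.trans h2, hne', hN'⟩)⟩, h2⟩

theorem atomsGenerate_of_normalized {H K U V : Subgroup G} [V.Normal] [U.Normal]
    (hHK : H ≤ K) (hKH : K ≤ Subgroup.normalizer (H : Set G)) (hg : AtomsGenerate K U V) :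
    AtomsGenerate H U V := by
  intro X hVX hX
  refine hg X hVX fun M ⟨hVM, hMU, hne, hKM, hmin⟩ => ?_
  obtain ⟨m, hm, hmM⟩ := exists_atom_le hVM hMU hne (hHK.trans hKM)
  -- conjugates of atoms are atoms
  have hconj : ∀ k ∈ K, IsAtomInv H U V (cj m k) := by
    intro k hk
    obtain ⟨a1, a2, a3, a4, a5⟩ := hm
    refine ⟨(cj_of_normal V k).ge.trans (cj_mono a1 k), (cj_mono a2 k).trans (cj_of_normal U k).le,
      fun h => a3 ?_, ?_, fun N hVN hN hne' hN' => ?_⟩
    · rw [← cj_cj_inv m k, h, cj_of_normal]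
    · have := cj_mono a4 k
      rwa [cj_eq_self (hKH hk), cj_normalizer] at this
    · have h1 : cj N k⁻¹ = m := by
        refine a5 _ ((cj_of_normal V k⁻¹).ge.trans (cj_mono hVN _)) ?_ (fun h => hne' ?_) ?_
        · exact (cj_mono hN k⁻¹).trans (cj_cj_inv m k).le
        · rw [← cj_inv_cj N k, h, cj_of_normal]
        · have := cj_mono hN' k⁻¹
          rwa [cj_eq_self (hKH (inv_mem hk)), cj_normalizer] at this
      rw [← h1, cj_inv_cj]
  set J := ⨆ k : K, cj m k
  have hJX : J ≤ X := iSup_le fun k => hX _ (hconj k k.2)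
  have hmJ : m ≤ J := (cj_one m).ge.trans (le_iSup (fun k : K => cj m k) 1)
  have hJ : J = M := by
    refine hmin J (hm.1.trans hmJ) (iSup_le fun k => ?_) (fun h => hm.2.2.1 ?_) fun k hk => ?_
    · exact (cj_mono hmM _).trans (cj_eq_self (hKM k.2)).le
    · exact le_antisymm (hmJ.trans h.le) hm.1
    · refine mem_normalizer_of_cj_le ?_
      rw [cj, Subgroup.map_iSup]
      refine iSup_le fun k' => ?_
      rw [← cj, cj_cj]
      exact le_iSup (fun k : K => cj m k) (⟨k, hk⟩ * k')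
  exact hJ ▸ hJX

theorem exists_complement_inv {H U V W : Subgroup G} [V.Normal]
    (hab : ⁅U, U⁆ ≤ V) (hgen : AtomsGenerate H U V)
    (hVW : V ≤ W) (hWU : W ≤ U) (hW : H ≤ Subgroup.normalizer (W : Set G)) :
    ∃ C, V ≤ C ∧ C ≤ U ∧ H ≤ Subgroup.normalizer (C : Set G) ∧ C ⊓ W = V ∧ U ≤ W ⊔ C := by
  have hnorm : ∀ L : Subgroup G, V ≤ L → L ≤ U → U ≤ Subgroup.normalizer (L : Set G) := by
    intro L hVL hLU
    rw [Subgroup.le_normalizer_iff_commutator_le_left]
    exact ((Subgroup.commutator_mono hLU le_rfl).trans hab).trans hVL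
  obtain ⟨C, ⟨h1, h2, h3, h4⟩, hmax⟩ := Set.exists_max_image
    {C : Subgroup G | V ≤ C ∧ C ≤ U ∧ H ≤ Subgroup.normalizer (C : Set G) ∧ C ⊓ W = V}
    (fun C : Subgroup G => Nat.card C) (Set.toFinite _)
    ⟨V, le_rfl, hVW.trans hWU, by rw [Subgroup.normalizer_eq_top]; exact le_top,
      inf_eq_left.2 hVW⟩
  refine ⟨C, h1, h2, h3, h4, hgen _ (hVW.trans le_sup_left) fun M ⟨a1, a2, a3, a4, a5⟩ => ?_⟩
  by_contra hM
  have hinf : M ⊓ (W ⊔ C) = V := by
    by_contra hne
    refine hM ((a5 _ (le_inf a1 (hVW.trans le_sup_left)) inf_le_left hne ?_).ge.trans inf_le_right)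
    intro h hh
    rw [mem_normalizer_iff_cj, cj_inf, cj_sup, cj_eq_self (a4 hh), cj_eq_self (hW hh),
      cj_eq_self (h3 hh)]
  have hCM : C ⊔ M = C := by
    refine (Subgroup.eq_of_le_of_card_ge le_sup_left (hmax _ ⟨h1.trans le_sup_left, sup_le h2 a2,
      fun h hh => ?_, ?_⟩)).symm
    · rw [mem_normalizer_iff_cj, cj_sup, cj_eq_self (a4 hh), cj_eq_self (h3 hh)]
    · refine le_antisymm ?_ (le_inf (h1.trans le_sup_left) hVW)
      rintro w ⟨hw, hwW⟩
      obtain ⟨c, hc, m, hm, rfl⟩ := exists_mul_of_mem_sup (h2.trans (hnorm M a1 a2)) hw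
      have hmV : m ∈ V := hinf.le ⟨hm, by
        have := mul_mem (Subgroup.mem_sup_right (S := W) (inv_mem hc))
          (Subgroup.mem_sup_left (T := C) hwW)
        rwa [inv_mul_cancel_left] at this⟩
      exact h4.le ⟨mul_mem hc (h1 hmV), hwW⟩
  exact hM ((hCM ▸ le_sup_right (a := C)).trans le_sup_right)

end Cfsg.Agent.Fusion
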