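import Mathlib

/-!
# Fixed points when a set of elements acts with degree less than `p`
-/

set_option autoImplicit false

namespace Cfsg.Agent.Fusion

open Polynomial in
theorem geom_eq_pow_add_mul (p : ℕ) [Fact p.Prime] : ∃ Q : Polynomial ℤ,
    ∑ i ∈ Finset.range p, X ^ i = (X - 1) ^ (p - 1) + C (p : ℤ) * Q := by
  have hmap : ((∑ i ∈ Finset.range p, X ^ i : Polynomial ℤ) - (X - 1) ^ (p - 1)).map
      (Int.castRingHom (ZMod p)) = 0 := by
    have hX : (X - 1 : Polynomial (ZMod p)) ≠ 0 := by simpa using X_sub_C_ne_zero (1 : ZMod p)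
    rw [Polynomial.map_sub, Polynomial.map_sum, sub_eq_zero]
    simp only [Polynomial.map_pow, Polynomial.map_sub, Polynomial.map_X, Polynomial.map_one]
    refine mul_right_cancel₀ hX ?_
    rw [geom_sum_mul, ← pow_succ, Nat.sub_add_cancel (Fact.out : p.Prime).one_le, sub_pow_char,
      one_pow]
  have hdvd : C (p : ℤ) ∣ (∑ i ∈ Finset.range p, X ^ i : Polynomial ℤ) - (X - 1) ^ (p - 1) := by
    rw [C_dvd_iff_dvd_coeff]
    intro i
    rw [← ZMod.intCast_zmod_eq_zero_iff_dvd]
    have := congrArg (fun P : Polynomial (ZMod p) => P.coeff i) hmap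
    simpa only [Polynomial.coeff_map, Polynomial.coeff_zero, eq_intCast] using this
  obtain ⟨Q, hQ⟩ := hdvd
  exact ⟨Q, by rw [← hQ]; ring⟩

variable {K A : Type*} [Group K] [AddCommGroup A] [DistribMulAction K A]

/-- An additive subgroup invariant under the acting group. -/
def InvSub (K : Type*) {A : Type*} [Group K] [AddCommGroup A] [DistribMulAction K A]
    (U : AddSubgroup A) : Prop :=
  ∀ k : K, ∀ u ∈ U, k • u ∈ U

variable {p : ℕ}

theorem geom_sum_mem [Fact p.Prime] {U V : AddSubgroup A} {d : K}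
    (hU : ∀ u ∈ U, d • u ∈ U) (hp : ∀ u ∈ U, p • u ∈ V) {y : A} (hy : y ∈ U)
    (hd : (fun z => d • z - z)^[p - 1] y ∈ V) : ∑ i ∈ Finset.range p, d ^ i • y ∈ V := by
  obtain ⟨Q, hQ⟩ := geom_eq_pow_add_mul p
  set e : AddMonoid.End A := DistribMulAction.toAddMonoidEnd K A d
  have he : ∀ z, e z = d • z := fun z => rfl
  have hpow : ∀ (i : ℕ) z, (e ^ i) z = d ^ i • z := fun i z => by
    rw [← map_pow]; rfl
  have h4 : Polynomial.aeval e Q y ∈ U := by
    clear hQ
    induction Q using Polynomial.induction_on' with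
    | add P R hP hR => rw [map_add]; exact add_mem hP hR
    | monomial i a =>
      rw [Polynomial.aeval_monomial]
      show (algebraMap ℤ (AddMonoid.End A) a) ((e ^ i) y) ∈ U
      have h5 : (e ^ i) y ∈ U := by
        induction i with
        | zero => simpa using hy
        | succ i ih => rw [pow_succ']; exact hU _ ih
      simpa using zsmul_mem h5 a
  have h1 := congrArg (fun R : Polynomial ℤ => (Polynomial.aeval e R) y) hQ
  simp only [map_sum, map_add, map_mul, map_pow, map_sub, Polynomial.aeval_X, map_one,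
    Polynomial.aeval_C] at h1
  have h2 : (∑ i ∈ Finset.range p, e ^ i) y = ∑ i ∈ Finset.range p, d ^ i • y := by
    exact (map_sum (AddMonoidHom.eval y : (A →+ A) →+ A) (fun i => e ^ i) _).trans
      (Finset.sum_congr rfl fun i _ => hpow i y)
  have h3 : ((e - 1) ^ (p - 1)) y = (fun z => d • z - z)^[p - 1] y := by
    rw [AddMonoid.End.coe_pow]
    rfl
  rw [← h2, h1]
  refine add_mem (h3 ▸ hd) ?_
  show (algebraMap ℤ (AddMonoid.End A) (p : ℤ)) (Polynomial.aeval e Q y) ∈ V
  simpa using hp _ h4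

variable [hp : Fact p.Prime]

theorem nsmul_mem_of_minimal {U V : AddSubgroup A} (hA : ∀ a : A, ∃ k, p ^ k • a = 0)
    (hlt : V < U) (hUi : InvSub K U) (hVi : InvSub K V)
    (hmin : ∀ N : AddSubgroup A, InvSub K N → V ≤ N → N ≤ U → N = V ∨ N = U) :
    ∀ u ∈ U, p • u ∈ V := by
  let N : AddSubgroup A :=
    { carrier := {u | u ∈ U ∧ p • u ∈ V}
      zero_mem' := ⟨zero_mem _, by simp⟩
      add_mem' := fun {a b} ha hb => ⟨add_mem ha.1 hb.1, by rw [smul_add]; exact add_mem ha.2 hb.2⟩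
      neg_mem' := fun {a} ha => ⟨neg_mem ha.1, by rw [smul_neg]; exact neg_mem ha.2⟩ }
  have hNi : InvSub K N := fun k u hu => ⟨hUi k u hu.1, by
    rw [← smul_comm]; exact hVi k _ hu.2⟩
  have hne : N ≠ V := by
    obtain ⟨u, hu, huV⟩ := SetLike.exists_of_lt hlt
    obtain ⟨k, hk⟩ := hA u
    intro hNV
    have : ∀ j, p ^ j • u ∈ V → u ∈ V := by
      intro j
      induction j with
      | zero => simp
      | succ j ih =>
        intro h
        refine ih (hNV.le ⟨AddSubgroup.nsmul_mem _ hu _, ?_⟩)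
        rwa [← mul_smul, ← pow_succ']
    exact huV (this k (hk ▸ zero_mem V))
  intro u hu
  exact (((hmin N hNi (fun v hv => ⟨hlt.le hv, AddSubgroup.nsmul_mem _ hv _⟩)
    fun x hx => hx.1).resolve_left hne).ge hu).2

variable [Finite K]

theorem sum_orbits_mem {U V : AddSubgroup A} {Ω : Type*} [MulAction K Ω] [DecidableEq Ω]
    (D : Set K) (hD : IsPGroup p (Subgroup.closure D))
    (hgeom : ∀ d ∈ D, ∀ y ∈ U, ∑ i ∈ Finset.range p, d ^ i • y ∈ V)
    (f : Ω → A) (hfU : ∀ ω, f ω ∈ U) (hf : ∀ (k : K) ω, f (k • ω) = k • f ω)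
    (S : Finset Ω) (hS : ∀ k ∈ Subgroup.closure D, ∀ ω ∈ S, k • ω ∈ S)
    (hmove : ∀ ω ∈ S, ∃ d ∈ D, d • ω ≠ ω) : ∑ ω ∈ S, f ω ∈ V := by
  classical
  set W0 := Subgroup.closure D
  induction hn : S.card using Nat.strong_induction_on generalizing S with
  | _ n IH =>
  rcases S.eq_empty_or_nonempty with rfl | ⟨ω, hω⟩
  · simp
  haveI : Fintype W0 := Fintype.ofFinite _
  haveI : Group.IsNilpotent W0 := hD.isNilpotent
  set O : Finset Ω := Finset.univ.image fun w : W0 => (w : K) • ω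
  have hOS : O ⊆ S := fun a ha => by
    obtain ⟨w, -, rfl⟩ := Finset.mem_image.1 ha
    exact hS _ w.2 ω hω
  have hωO : ω ∈ O := Finset.mem_image.2 ⟨1, Finset.mem_univ _, by simp⟩
  rw [← Finset.sum_sdiff hOS]
  refine add_mem (IH _ ?_ (S \ O) (fun a ha => hmove a (Finset.mem_sdiff.1 ha).1) ?_ rfl) ?_
  · exact hn ▸ Finset.card_lt_card (Finset.sdiff_ssubset hOS ⟨ω, hωO⟩)
  · intro k hk a ha
    obtain ⟨haS, haO⟩ := Finset.mem_sdiff.1 ha
    refine Finset.mem_sdiff.2 ⟨hS k hk a haS, fun h => haO ?_⟩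
    obtain ⟨w, -, hw⟩ := Finset.mem_image.1 h
    refine Finset.mem_image.2 ⟨⟨k, hk⟩⁻¹ * w, Finset.mem_univ _, ?_⟩
    show (k⁻¹ * (w : K)) • ω = a
    rw [mul_smul, hw, inv_smul_smul]
  -- a single orbit
  obtain ⟨R', hR', hstab⟩ : ∃ R' : Subgroup W0, IsCoatom R' ∧ MulAction.stabilizer W0 ω ≤ R' := by
    rcases eq_top_or_exists_le_coatom (MulAction.stabilizer W0 ω) with h | h
    · obtain ⟨d, hd, hne⟩ := hmove ω hω
      exact absurd (h.ge (Subgroup.mem_top ⟨d, Subgroup.subset_closure hd⟩)) hne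
    · exact h
  haveI : R'.Normal :=
    Subgroup.NormalizerCondition.normal_of_coatom R' Group.normalizerCondition_of_isNilpotent hR'
  obtain ⟨d, hd, hdR⟩ : ∃ d : W0, (d : K) ∈ D ∧ d ∉ R' := by
    by_contra hcon
    push Not at hcon
    refine hR'.1 (top_le_iff.1 fun w _ => ?_)
    have hle : W0 ≤ R'.map W0.subtype := (Subgroup.closure_le _).2 fun x hx =>
      ⟨⟨x, Subgroup.subset_closure hx⟩, hcon ⟨x, Subgroup.subset_closure hx⟩ hx, rfl⟩
    obtain ⟨y, hy, hyw⟩ := hle w.2
    exact Subtype.ext hyw ▸ hy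
  have hcop : ∀ m : ℕ, ¬ p ∣ m → d ^ m ∉ R' := by
    intro m hm h
    obtain ⟨k, hk⟩ := hD d
    obtain ⟨a, b, hab⟩ := Nat.isCoprime_iff_coprime.2
      ((((Nat.Prime.coprime_iff_not_dvd hp.out).2 hm).pow_left k).symm)
    refine hdR ?_
    have h1 : d = (d ^ m) ^ a * (d ^ p ^ k) ^ b := by
      rw [← zpow_natCast d m, ← zpow_natCast d (p ^ k), ← zpow_mul, ← zpow_mul, ← zpow_add,
        mul_comm (m : ℤ), mul_comm ((p ^ k : ℕ) : ℤ), hab, zpow_one]
    rw [h1, hk, one_zpow, mul_one]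
    exact zpow_mem h a
  have hdec : ∀ w : W0, ∃ i : ℤ, ∃ r ∈ R', w = d ^ i * r := by
    intro w
    have htop : R' ⊔ Subgroup.zpowers d = ⊤ := hR'.2 _ (lt_of_le_of_ne le_sup_left fun h =>
      hdR (h ▸ Subgroup.mem_sup_right (Subgroup.mem_zpowers d)))
    obtain ⟨r, hr, z, hz, he⟩ := Subgroup.mem_sup_of_normal_left.1 (htop.ge (Subgroup.mem_top w))
    obtain ⟨i, rfl⟩ := Subgroup.mem_zpowers_iff.1 hz
    refine ⟨i, (d ^ i)⁻¹ * r * d ^ i, ?_, by rw [← he]; group⟩
    have := (inferInstance : R'.Normal).conj_mem r hr (d ^ i)⁻¹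
    simpa using this
  have hdp : d ^ p ∈ R' := by
    by_contra hcon
    have htop : R' ⊔ Subgroup.zpowers (d ^ p) = ⊤ := hR'.2 _ (lt_of_le_of_ne le_sup_left fun h =>
      hcon (h ▸ Subgroup.mem_sup_right (Subgroup.mem_zpowers _)))
    obtain ⟨r, hr, z, hz, he⟩ := Subgroup.mem_sup_of_normal_left.1 (htop.ge (Subgroup.mem_top d))
    obtain ⟨i, rfl⟩ := Subgroup.mem_zpowers_iff.1 hz
    have h1 : d ^ (1 - (p : ℤ) * i) ∈ R' := by
      rw [zpow_sub, zpow_one, zpow_mul, zpow_natCast]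
      nth_rewrite 1 [← he]
      simpa using hr
    have h2 : ¬ p ∣ (1 - (p : ℤ) * i).natAbs := by
      rw [← Int.natCast_dvd]
      intro h
      have := dvd_add h (dvd_mul_right (p : ℤ) i)
      rw [sub_add_cancel] at this
      exact hp.out.not_dvd_one (Int.natCast_dvd_natCast.1 this)
    refine hcop _ h2 ?_
    rcases Int.natAbs_eq (1 - (p : ℤ) * i) with e | e
    · rwa [e, zpow_natCast] at h1
    · rw [e, zpow_neg, zpow_natCast] at h1
      exact inv_mem_iff.1 h1
  haveI : Fintype R' := Fintype.ofFinite _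
  set O' : Finset Ω := Finset.univ.image fun r : R' => ((r : W0) : K) • ω
  have hsum : ∑ a ∈ O, f a = ∑ i ∈ Finset.range p, (d : K) ^ i • ∑ o ∈ O', f o := by
    rw [show (∑ i ∈ Finset.range p, (d : K) ^ i • ∑ o ∈ O', f o) =
        ∑ q ∈ Finset.range p ×ˢ O', f ((d : K) ^ q.1 • q.2) by
      rw [Finset.sum_product]
      simp only [Finset.smul_sum, hf]]
    refine (Finset.sum_bij (fun q _ => (d : K) ^ q.1 • q.2) (fun q hq => ?_) (fun q hq q' hq' h => ?_)
      (fun a ha => ?_) (fun _ _ => rfl)).symm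
    · obtain ⟨r, -, hr⟩ := Finset.mem_image.1 (Finset.mem_product.1 hq).2
      refine Finset.mem_image.2 ⟨d ^ q.1 * r, Finset.mem_univ _, ?_⟩
      rw [← hr, Subgroup.coe_mul, SubmonoidClass.coe_pow, mul_smul]
    · obtain ⟨h1, h2⟩ := Finset.mem_product.1 hq
      obtain ⟨h1', h2'⟩ := Finset.mem_product.1 hq'
      obtain ⟨r, -, hr⟩ := Finset.mem_image.1 h2
      obtain ⟨r', -, hr'⟩ := Finset.mem_image.1 h2'
      rw [Finset.mem_range] at h1 h1'
      have hst : (d ^ q'.1 * r')⁻¹ * (d ^ q.1 * r) ∈ MulAction.stabilizer W0 ω := by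
        rw [MulAction.mem_stabilizer_iff, mul_smul, inv_smul_eq_iff]
        show ((d ^ q.1 * r : W0) : K) • ω = ((d ^ q'.1 * r' : W0) : K) • ω
        rw [Subgroup.coe_mul, Subgroup.coe_mul, SubmonoidClass.coe_pow, SubmonoidClass.coe_pow,
          mul_smul, mul_smul, hr, hr']
        exact h
      have hR := hstab hst
      rw [mul_inv_rev, mul_assoc] at hR
      have hR2 : (d ^ q'.1)⁻¹ * d ^ q.1 ∈ R' := by
        have := R'.mul_mem (R'.mul_mem r'.2 hR) (R'.inv_mem r.2)
        simpa [mul_assoc] using this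
      have hi : q.1 = q'.1 := by
        by_contra hne
        rcases Nat.lt_or_gt_of_ne hne with hl | hl
        · obtain ⟨c, hc⟩ := Nat.exists_eq_add_of_le hl.le
          refine hcop c (Nat.not_dvd_of_pos_of_lt (by omega) (by omega)) (inv_mem_iff.1 ?_)
          rw [hc, pow_add] at hR2
          simpa [mul_assoc] using hR2
        · obtain ⟨c, hc⟩ := Nat.exists_eq_add_of_le hl.le
          refine hcop c (Nat.not_dvd_of_pos_of_lt (by omega) (by omega)) ?_
          rwa [hc, pow_add, inv_mul_cancel_left] at hR2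
      refine Prod.ext hi ?_
      simp only [hi] at h
      exact smul_left_cancel _ h
    · obtain ⟨w, -, rfl⟩ := Finset.mem_image.1 ha
      obtain ⟨i, r, hr, rfl⟩ := hdec w
      have hpos : (0 : ℤ) < (p : ℤ) := by exact_mod_cast hp.out.pos
      obtain ⟨j, hj⟩ := Int.eq_ofNat_of_zero_le (Int.emod_nonneg i hpos.ne')
      have hjp : j < p := by
        have := Int.emod_lt_of_pos i hpos
        rw [hj] at this
        exact_mod_cast this
      refine ⟨(j, (((d ^ p) ^ (i / (p : ℤ)) * r : W0) : K) • ω), Finset.mem_product.2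
        ⟨Finset.mem_range.2 hjp, Finset.mem_image.2 ⟨⟨_, mul_mem (zpow_mem hdp _) hr⟩,
          Finset.mem_univ _, rfl⟩⟩, ?_⟩
      have hsplit : d ^ i = d ^ j * (d ^ p) ^ (i / (p : ℤ)) := by
        rw [← zpow_natCast d j, ← hj, ← zpow_natCast d p, ← zpow_mul, ← zpow_add,
          Int.emod_add_mul_ediv]
      show (d : K) ^ j • _ = _
      rw [← SubmonoidClass.coe_pow, smul_smul, ← Subgroup.coe_mul, ← mul_assoc, ← hsplit]
  rw [hsum]
  exact hgeom _ hd _ (AddSubgroup.sum_mem _ fun o _ => hfU o)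

/-- If the elements of `D` act with degree less than `p` on the factors, then fixed points of a
subgroup `M` of index prime to `p` are fixed, provided `D` fixes only the coset `M`. -/
theorem fixed_of_small_degree [Finite A] (hA : ∀ a : A, ∃ k, p ^ k • a = 0) (M : Subgroup K)
    (hM : ¬ p ∣ M.index) (D : Set K) (hD : IsPGroup p (Subgroup.closure D))
    (hDM : ∀ d ∈ D, d ∈ M)
    (hfix : ∀ k : K, (∀ d ∈ D, k⁻¹ * d * k ∈ M) → k ∈ M)
    (hdeg : ∀ U V : AddSubgroup A, V < U → InvSub K U → InvSub K V →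
      (∀ N : AddSubgroup A, InvSub K N → V ≤ N → N ≤ U → N = V ∨ N = U) →
      ∀ d ∈ D, ∀ y ∈ U, (fun z => d • z - z)^[p - 1] y ∈ V)
    {x : A} (hx : ∀ m ∈ M, m • x = x) : ∀ k : K, k • x = x := by
  classical
  haveI : Fintype (K ⧸ M) := Fintype.ofFinite _
  let f : A → K ⧸ M → A := fun z ω => ω.out • z
  have hfk : ∀ (z : A), (∀ m ∈ M, m • z = z) → ∀ (k : K) ω, f z (k • ω) = k • f z ω := by
    intro z hz k ω
    have h1 : ((k • ω).out : K ⧸ M) = ((k * ω.out : K) : K ⧸ M) := by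
      rw [QuotientGroup.out_eq', ← smul_eq_mul, ← MulAction.Quotient.smul_coe,
        QuotientGroup.out_eq']
    rw [QuotientGroup.eq] at h1
    show (k • ω).out • z = k • ω.out • z
    conv_lhs => rw [← hz _ h1]
    rw [smul_smul, smul_smul, mul_inv_cancel_left]
  have hsum : ∀ (z : A), (∀ m ∈ M, m • z = z) → ∀ k : K,
      k • (∑ ω : K ⧸ M, f z ω) = ∑ ω : K ⧸ M, f z ω := by
    intro z hz k
    rw [Finset.smul_sum]
    simp only [← hfk z hz]
    exact Fintype.sum_equiv (MulAction.toPerm k) _ _ fun _ => rfl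
  set n := M.index
  set w := n • x - ∑ ω : K ⧸ M, f x ω with hwdef
  have hw : ∀ m ∈ M, m • w = w := fun m hm => by
    rw [hwdef, smul_sub, hsum x hx, smul_comm, hx m hm]
  have hw0 : ∑ ω : K ⧸ M, f w ω = 0 := by
    have : ∀ ω : K ⧸ M, f w ω = n • f x ω - ∑ ω : K ⧸ M, f x ω := fun ω => by
      show ω.out • (n • x - _) = _
      rw [smul_sub, hsum x hx, smul_comm]
    simp only [this, Finset.sum_sub_distrib, ← Finset.smul_sum, Finset.sum_const,
      Finset.card_univ]
    rw [← Nat.card_eq_fintype_card, ← Subgroup.index_eq_card, sub_self]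
  have hwz : w = 0 := by
    by_contra hne
    set U := AddSubgroup.closure (Set.range fun k : K => k • w)
    have hUi : InvSub K U := by
      intro k u hu
      induction hu using AddSubgroup.closure_induction with
      | mem v hv =>
        obtain ⟨l, rfl⟩ := hv
        exact AddSubgroup.subset_closure ⟨k * l, mul_smul k l w⟩
      | zero => rw [smul_zero]; exact zero_mem _
      | add a b _ _ ha hb => rw [smul_add]; exact add_mem ha hb
      | neg a _ ha => rw [smul_neg]; exact neg_mem ha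
    have hwU : w ∈ U := AddSubgroup.subset_closure ⟨1, one_smul K w⟩
    obtain ⟨V, ⟨hVi, hVU⟩, hmax⟩ := Set.exists_max_image
      {V : AddSubgroup A | InvSub K V ∧ V < U} (fun V : AddSubgroup A => Nat.card V)
      (Set.toFinite _) ⟨⊥, fun k u hu => by simp [AddSubgroup.mem_bot.1 hu],
        bot_lt_iff_ne_bot.2 fun h => hne (AddSubgroup.mem_bot.1 (h ▸ hwU))⟩
    have hwV : w ∉ V := fun h => hVU.not_ge ((AddSubgroup.closure_le V).2 (by
      rintro _ ⟨k, rfl⟩
      exact hVi k w h))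
    have hmin : ∀ N : AddSubgroup A, InvSub K N → V ≤ N → N ≤ U → N = V ∨ N = U := by
      intro N hN hVN hNU
      rcases eq_or_lt_of_le hNU with h | h
      · exact .inr h
      · refine .inl (SetLike.coe_injective (Set.Finite.eq_of_subset_of_card_le (Set.toFinite _)
          (SetLike.coe_subset_coe.2 hVN) (hmax N ⟨hN, h⟩))).symm
    have hgeom : ∀ d ∈ D, ∀ y ∈ U, ∑ i ∈ Finset.range p, d ^ i • y ∈ V := fun d hd y hy =>
      geom_sum_mem (hUi d) (nsmul_mem_of_minimal hA hVU hUi hVi hmin) hy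
        (hdeg U V hVU hUi hVi hmin d hd y hy)
    have hcl : Subgroup.closure D ≤ M := (Subgroup.closure_le M).2 hDM
    have h1 : ∑ ω ∈ (Finset.univ : Finset (K ⧸ M)).erase ((1 : K) : K ⧸ M), f w ω ∈ V := by
      refine sum_orbits_mem D hD hgeom (f w) (fun ω => hUi _ w hwU) (hfk w hw) _ ?_ ?_
      · intro k hk ω hω
        refine Finset.mem_erase.2 ⟨fun h => (Finset.mem_erase.1 hω).1 ?_, Finset.mem_univ _⟩
        rw [← inv_smul_smul k ω, h, MulAction.Quotient.smul_coe, QuotientGroup.eq]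
        simpa using M.inv_mem (M.inv_mem (hcl hk))
      · intro ω hω
        by_contra hcon
        push Not at hcon
        refine (Finset.mem_erase.1 hω).1 ?_
        rw [← QuotientGroup.out_eq' ω, QuotientGroup.eq, mul_one]
        refine inv_mem (hfix _ fun d hd => ?_)
        have h := hcon d hd
        rw [← QuotientGroup.out_eq' ω, MulAction.Quotient.smul_coe, QuotientGroup.eq] at h
        have := M.inv_mem h
        simpa [mul_assoc] using this
    have h2 : f w ((1 : K) : K ⧸ M) = w := by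
      obtain ⟨m, hm⟩ := QuotientGroup.mk_out_eq_mul M (1 : K)
      show ((1 : K) : K ⧸ M).out • w = w
      rw [hm, one_mul]
      exact hw _ m.2
    rw [← Finset.add_sum_erase _ _ (Finset.mem_univ ((1 : K) : K ⧸ M)), h2] at hw0
    exact hwV ((AddSubgroup.add_mem_cancel_right _ h1).1 (hw0 ▸ zero_mem V))
  intro k
  have h1 : n • (k • x - x) = 0 := by
    rw [smul_sub, ← smul_comm, sub_eq_zero.1 hwz, hsum x hx, sub_self]
  obtain ⟨j, hj⟩ := hA (k • x - x)
  have h2 : (Nat.gcd n (p ^ j)) • (k • x - x) = 0 := gcd_nsmul_eq_zero.2 ⟨h1, hj⟩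
  rw [Nat.Coprime.gcd_eq_one (((Nat.Prime.coprime_iff_not_dvd hp.out).2 hM).symm.pow_right j),
    one_smul, sub_eq_zero] at h2
  exact h2

end Cfsg.Agent.Fusion
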