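import Mathlib
import Cfsg.Prelude.Def_PLocal
import Cfsg.Agent.Lib.Fusion.SmallDegree
import Cfsg.Agent.Lib.Fusion.Basic

/-!
# Elements of degree less than `p` normalizing an abelian group of order prime to `p`
-/

set_option autoImplicit false

open scoped commutatorElement

namespace Cfsg.Agent.Fusion

/-- Dedekind's argument: a relation between powers of `u` forces the induced automorphism of a
reduced commutative ring to be trivial. -/
theorem automorphism_trivial_of_relation {R S : Type*} [Ring R] [CommRing S] [IsReduced S] {p : ℕ}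
    [hp : Fact p.Prime] (ι : S →+* R) (hι : Function.Injective ι) (u : R) (σ : ℕ → S → S)
    (hsum : ∑ i ∈ Finset.range p, u ^ i = 0) (hσu : ∀ i x, u ^ i * ι x = ι (σ i x) * u ^ i)
    (hσ0 : ∀ x, σ 0 x = x) (hσadd : ∀ i j x, σ (i + j) x = σ i (σ j x))
    (hσp : ∀ k x, σ (p * k) x = x) : ∀ x, σ 1 x = x := by
  classical
  have key : ∀ (x : ℕ → S) (k : ℕ),
      ∑ i ∈ Finset.range p, ι (∏ j ∈ Finset.Icc 1 k, (σ i (x j) - σ j (x j))) * u ^ i = 0 := by
    intro x k
    induction k with
    | zero => simpa using hsum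
    | succ k ih =>
      have h2 : ∀ i, ι (∏ j ∈ Finset.Icc 1 (k + 1), (σ i (x j) - σ j (x j))) * u ^ i =
          ι (∏ j ∈ Finset.Icc 1 k, (σ i (x j) - σ j (x j))) * u ^ i * ι (x (k + 1)) -
          ι (σ (k + 1) (x (k + 1))) *
            (ι (∏ j ∈ Finset.Icc 1 k, (σ i (x j) - σ j (x j))) * u ^ i) := by
        intro i
        rw [Finset.prod_Icc_succ_top (by omega)]
        set c : S := ∏ j ∈ Finset.Icc 1 k, (σ i (x j) - σ j (x j))
        rw [mul_sub, map_sub, mul_comm c (σ (k + 1) (x (k + 1))), map_mul, map_mul, sub_mul,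
          mul_assoc (ι c), ← hσu, mul_assoc, mul_assoc]
      simp only [h2, Finset.sum_sub_distrib, ← Finset.sum_mul, ← Finset.mul_sum, ih, zero_mul,
        mul_zero, sub_zero]
  have hprod : ∀ x : ℕ → S, ∏ j ∈ Finset.Icc 1 (p - 1), (σ 0 (x j) - σ j (x j)) = 0 := by
    intro x
    have h := key x (p - 1)
    rw [Finset.sum_eq_single_of_mem 0 (Finset.mem_range.2 hp.out.pos) ?_, pow_zero, mul_one] at h
    · exact hι (h.trans (map_zero ι).symm)
    · intro i hi hi0
      rw [Finset.prod_eq_zero (Finset.mem_Icc.2 ⟨Nat.one_le_iff_ne_zero.2 hi0,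
        Nat.le_sub_one_of_lt (Finset.mem_range.1 hi)⟩) (sub_self _), map_zero, zero_mul]
  intro x
  rw [← sub_eq_zero]
  refine (isNilpotent_iff_eq_zero).1 (nilpotent_iff_mem_prime.2 fun P hP => ?_)
  by_cases hall : ∃ j ∈ Finset.Icc 1 (p - 1), ∀ y : S, y - σ j y ∈ P
  · obtain ⟨j, hj, hy⟩ := hall
    rw [Finset.mem_Icc] at hj
    have hit : ∀ k (y : S), y - σ (j * k) y ∈ P := by
      intro k
      induction k with
      | zero => intro y; rw [Nat.mul_zero, hσ0, sub_self]; exact P.zero_mem
      | succ k ih =>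
        intro y
        have := P.add_mem (ih y) (hy (σ (j * k) y))
        rw [sub_add_sub_cancel, ← hσadd, show j + j * k = j * (k + 1) by ring] at this
        exact this
    obtain ⟨k, -, hk⟩ := Nat.exists_mul_mod_eq_one_of_coprime
      ((Nat.Prime.coprime_iff_not_dvd hp.out).2
        (Nat.not_dvd_of_pos_of_lt (by omega) (by omega : j < p))).symm hp.out.one_lt
    have h1 := hit k x
    rw [show j * k = 1 + p * (j * k / p) by rw [← hk]; exact (Nat.mod_add_div _ _).symm,
      hσadd, hσp] at h1
    have := P.neg_mem h1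
    rwa [neg_sub] at this
  · push Not at hall
    choose! y hy using hall
    exfalso
    have hmem : ∏ j ∈ Finset.Icc 1 (p - 1), (σ 0 (y j) - σ j (y j)) ∈ P :=
      (hprod y).symm ▸ P.zero_mem
    obtain ⟨j, hj, hjP⟩ := (hP.prod_mem_iff).1 hmem
    rw [hσ0] at hjP
    exact hy j hj hjP

/-- In characteristic `p`, a unit of degree less than `p` commutes with a set of commuting
elements of order prime to `p` that it normalizes. -/
theorem degree_commute {R : Type*} [Ring R] {p : ℕ} [hp : Fact p.Prime] [CharP R p] (u : Rˣ)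
    {A : Set R} {N : ℕ} (hu : ((u : R) - 1) ^ (p - 1) = 0) (hN : N.Coprime p)
    (hA : ∀ a ∈ A, a ^ N = 1) (hcomm : ∀ a ∈ A, ∀ b ∈ A, a * b = b * a)
    (hinv : ∀ a ∈ A, (u : R) * a * ((u⁻¹ : Rˣ) : R) ∈ A) :
    ∀ a ∈ A, (u : R) * a = a * u := by
  have hsum : ∑ i ∈ Finset.range p, (u : R) ^ i = 0 := by
    obtain ⟨Q, hQ⟩ := geom_eq_pow_add_mul p
    have h1 := congrArg (Polynomial.aeval (u : R)) hQ
    simp only [map_sum, map_add, map_mul, map_pow, map_sub, Polynomial.aeval_X, map_one,
      map_natCast] at h1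
    rw [h1, hu, CharP.cast_eq_zero, zero_mul, add_zero]
  have hσ : ∀ (i : ℕ) (x : R), x ∈ Subring.closure A →
      (u : R) ^ i * x * ((u⁻¹ : Rˣ) : R) ^ i ∈ Subring.closure A := by
    intro i
    induction i with
    | zero => intro x hx; simpa using hx
    | succ i ih =>
      intro x hx
      have h := ih x hx
      suffices hs : ∀ y ∈ Subring.closure A, (u : R) * y * ((u⁻¹ : Rˣ) : R) ∈ Subring.closure A by
        have h2 := hs _ h
        rw [pow_succ', pow_succ]
        simpa [mul_assoc] using h2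
      intro y hy
      induction hy using Subring.closure_induction with
      | mem a ha => exact Subring.subset_closure (hinv a ha)
      | zero => simp
      | one => simp
      | add a b _ _ ha hb => rw [mul_add, add_mul]; exact add_mem ha hb
      | neg a _ ha => rw [mul_neg, neg_mul]; exact neg_mem ha
      | mul a b _ _ ha hb =>
        have h3 := mul_mem ha hb
        simpa [mul_assoc] using h3
  have hup : (u : R) ^ p = 1 := by
    have h := geom_sum_mul (u : R) p
    rw [hsum, zero_mul] at h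
    exact (sub_eq_zero.1 h.symm)
  obtain ⟨m, hm0, hm⟩ : ∃ m, 0 < m ∧ p ^ m ≡ 1 [MOD N] := ⟨N.totient,
    Nat.totient_pos.2 (Nat.pos_of_ne_zero fun h => hp.out.ne_one (by subst h; simpa using hN)),
    Nat.ModEq.pow_totient hN.symm⟩
  letI : CommRing (Subring.closure A) :=
    Subring.closureCommRingOfComm fun a ha b hb => hcomm a ha b hb
  have hcl : ∀ a ∈ Subring.closure A, ∀ b ∈ Subring.closure A, Commute a b := fun a ha b hb =>
    (congrArg Subtype.val (mul_comm (⟨a, ha⟩ : Subring.closure A) ⟨b, hb⟩) : a * b = b * a)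
  have hfix : ∀ x ∈ Subring.closure A, x ^ p ^ m = x := by
    intro x hx
    induction hx using Subring.closure_induction with
    | mem a ha =>
      rw [← pow_mod_orderOf, show p ^ m % orderOf a = 1 % orderOf a from
        hm.of_dvd (orderOf_dvd_of_pow_eq_one (hA a ha)), pow_mod_orderOf, pow_one]
    | zero => exact zero_pow (pow_ne_zero _ hp.out.ne_zero)
    | one => exact one_pow _
    | add a b ha' hb' ha hb =>
      rw [add_pow_char_pow_of_commute (p := p) (h := hcl a ha' b hb'), ha, hb]
    | neg a _ ha =>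
      have h := sub_pow_char_pow_of_commute (p := p) (n := m) (h := Commute.zero_left a)
      rwa [zero_pow (pow_ne_zero _ hp.out.ne_zero), zero_sub, zero_sub, ha] at h
    | mul a b ha' hb' ha hb => rw [(hcl a ha' b hb').mul_pow, ha, hb]
  haveI : IsReduced (Subring.closure A) := ⟨fun x ⟨k, hk⟩ => by
    have hk' : (x : R) ^ k = 0 := (map_pow (Subring.closure A).subtype x k).symm.trans
      ((congrArg (Subring.closure A).subtype hk).trans (map_zero _))
    have hit : ∀ j, (x : R) ^ (p ^ m) ^ j = x := by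
      intro j
      induction j with
      | zero => rw [pow_zero, pow_one]
      | succ j ih => rw [pow_succ, pow_mul, ih, hfix _ x.2]
    refine Subtype.ext ?_
    show (x : R) = 0
    rw [← hit k]
    exact pow_eq_zero_of_le
      ((Nat.lt_pow_self (n := k) (Nat.one_lt_pow hm0.ne' hp.out.one_lt)).le) hk'⟩
  have key := automorphism_trivial_of_relation (S := Subring.closure A)
    (Subring.closure A).subtype Subtype.val_injective (u : R)
    (fun i x => ⟨_, hσ i x x.2⟩) hsum ?_ ?_ ?_ ?_
  · intro a ha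
    have h := congrArg Subtype.val (key ⟨a, Subring.subset_closure ha⟩)
    change (u : R) ^ 1 * a * ((u⁻¹ : Rˣ) : R) ^ 1 = a at h
    rw [pow_one, pow_one] at h
    calc (u : R) * a = (u : R) * a * (((u⁻¹ : Rˣ) : R) * (u : R)) := by
          rw [← Units.val_mul, inv_mul_cancel, Units.val_one, mul_one]
      _ = (u : R) * a * ((u⁻¹ : Rˣ) : R) * (u : R) := by simp only [mul_assoc]
      _ = a * u := by rw [h]
  · intro i x
    show _ = (u : R) ^ i * (x : R) * ((u⁻¹ : Rˣ) : R) ^ i * (u : R) ^ i
    rw [mul_assoc _ (((u⁻¹ : Rˣ) : R) ^ i), ← Units.val_pow_eq_pow_val, ← Units.val_pow_eq_pow_val,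
      ← Units.val_mul, inv_pow, inv_mul_cancel, Units.val_one, mul_one]
    rfl
  · intro x; exact Subtype.ext (by simp)
  · intro i j x
    refine Subtype.ext ?_
    show (u : R) ^ (i + j) * (x : R) * ((u⁻¹ : Rˣ) : R) ^ (i + j) =
      (u : R) ^ i * ((u : R) ^ j * (x : R) * ((u⁻¹ : Rˣ) : R) ^ j) * ((u⁻¹ : Rˣ) : R) ^ i
    rw [pow_add, add_comm i j, pow_add]
    simp only [mul_assoc]
  · intro k x
    refine Subtype.ext ?_
    show (u : R) ^ (p * k) * (x : R) * ((u⁻¹ : Rˣ) : R) ^ (p * k) = x
    have h1 : (u : R) ^ (p * k) = 1 := by rw [pow_mul, hup, one_pow]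
    have h2 : ((u⁻¹ : Rˣ) : R) ^ (p * k) = 1 := by
      have h3 : ((u ^ (p * k))⁻¹ : Rˣ) = 1 := by
        rw [inv_eq_one]
        exact Units.ext (by rw [Units.val_pow_eq_pow_val, h1, Units.val_one])
      rw [← Units.val_pow_eq_pow_val, inv_pow, h3, Units.val_one]
    rw [h1, h2, one_mul, mul_one]

variable {H : Type*} [Group H] {p : ℕ} [hp : Fact p.Prime]

/-- The group form of `degree_commute`. -/
theorem commutator_mem_centralizer_of_degree {P : Subgroup H} [P.Normal]
    (hab : ∀ x ∈ P, ∀ y ∈ P, x * y = y * x) (hexp : ∀ x ∈ P, x ^ p = 1) {g : H} {K : Subgroup H}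
    [K.Normal] {N : ℕ} (hq : iterCommutator P (Subgroup.zpowers g) (p - 1) = ⊥)
    (hN : N.Coprime p) (hKn : ∀ a ∈ K, a ^ N ∈ Subgroup.centralizer (P : Set H))
    (hKc : ∀ a ∈ K, ∀ b ∈ K, ⁅a, b⁆ ∈ Subgroup.centralizer (P : Set H)) {a : H} (ha : a ∈ K) :
    ⁅g, a⁆ ∈ Subgroup.centralizer (P : Set H) := by
  rcases eq_or_ne P ⊥ with rfl | hP
  · rw [mem_centralizer_set]
    intro t ht
    simp [Subgroup.mem_bot.1 ht, commutatorElement_def, mul_assoc]
  letI : CommGroup P := { (inferInstance : Group P) with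
    mul_comm := fun x y => Subtype.ext (hab x x.2 y y.2) }
  let ψ : H →* AddMonoid.End (Additive P) :=
    { toFun := fun h => MonoidHom.toAdditive (MulAut.conjNormal h : MulAut P).toMonoidHom
      map_one' := by
        refine DFunLike.ext _ _ fun x => ?_
        show Additive.ofMul ((MulAut.conjNormal (1 : H)) x.toMul) = x
        rw [map_one]; rfl
      map_mul' := fun h k => by
        refine DFunLike.ext _ _ fun x => ?_
        show Additive.ofMul ((MulAut.conjNormal (h * k)) x.toMul) =
          Additive.ofMul ((MulAut.conjNormal h) ((MulAut.conjNormal k) x.toMul))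
        rw [map_mul]; rfl }
  have hψ : ∀ (h : H) (x : Additive P), (((ψ h) x).toMul : H) = h * (x.toMul : H) * h⁻¹ :=
    fun h x => MulAut.conjNormal_apply _ _
  have hker : ∀ h : H, ψ h = 1 ↔ h ∈ Subgroup.centralizer (P : Set H) := by
    intro h
    rw [mem_centralizer_set]
    constructor
    · intro he t ht
      have := hψ h (Additive.ofMul ⟨t, ht⟩)
      rw [he] at this
      exact this.symm
    · exact fun he => DFunLike.ext _ _ fun x =>
        Additive.toMul.injective (Subtype.ext ((hψ h x).trans (he _ x.toMul.2)))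
  haveI : Nontrivial P := (Subgroup.nontrivial_iff_ne_bot P).2 hP
  have hp0 : (p : AddMonoid.End (Additive P)) = 0 := by
    refine DFunLike.ext _ _ fun x => ?_
    rw [AddMonoid.End.natCast_apply]
    exact Additive.toMul.injective (Subtype.ext (by simpa using hexp _ x.toMul.2))
  haveI : Nontrivial (AddMonoid.End (Additive P)) := by
    obtain ⟨x, hx⟩ := exists_ne (0 : Additive P)
    exact ⟨⟨1, 0, fun h => hx (DFunLike.congr_fun h x)⟩⟩
  haveI : CharP (AddMonoid.End (Additive P)) p := by
    obtain ⟨c, hc⟩ := CharP.exists (AddMonoid.End (Additive P))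
    have hd : c ∣ p := (CharP.cast_eq_zero_iff _ c p).1 hp0
    rcases (Nat.dvd_prime hp.out).1 hd with rfl | rfl
    · exact absurd rfl (CharP.char_ne_one (AddMonoid.End (Additive P)) 1)
    · exact hc
  let v : (AddMonoid.End (Additive P))ˣ :=
    { val := ψ g
      inv := ψ g⁻¹
      val_inv := by rw [← map_mul, mul_inv_cancel, map_one]
      inv_val := by rw [← map_mul, inv_mul_cancel, map_one] }
  have hv : ((v : AddMonoid.End (Additive P)) - 1) ^ (p - 1) = 0 := by
    refine DFunLike.ext _ _ fun x => ?_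
    suffices h : ∀ n, (((((v : AddMonoid.End (Additive P)) - 1) ^ n) x).toMul : H) ∈
        iterCommutator P (Subgroup.zpowers g) n from
      Additive.toMul.injective (Subtype.ext (Subgroup.mem_bot.1 (hq.le (h (p - 1)))))
    intro n
    induction n with
    | zero => exact x.toMul.2
    | succ n ih =>
      rw [pow_succ']
      set y := (((v : AddMonoid.End (Additive P)) - 1) ^ n) x
      show ((((ψ g) y - y).toMul : P) : H) ∈
        ⁅iterCommutator P (Subgroup.zpowers g) n, Subgroup.zpowers g⁆
      rw [toMul_sub, Subgroup.coe_div, hψ, div_eq_mul_inv, ← commutatorElement_def,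
        Subgroup.commutator_comm]
      exact Subgroup.commutator_mem_commutator (Subgroup.mem_zpowers g) ih
  have := degree_commute v (A := ψ '' K) hv hN
    (by rintro _ ⟨b, hb, rfl⟩; rw [← map_pow]; exact (hker _).2 (hKn b hb))
    (by
      rintro _ ⟨b, hb, rfl⟩ _ ⟨c, hc, rfl⟩
      rw [← map_mul, ← map_mul, show b * c = ⁅b, c⁆ * (c * b) by rw [commutatorElement_def]; group,
        map_mul, (hker _).2 (hKc b hb c hc), one_mul])
    (by
      rintro _ ⟨b, hb, rfl⟩
      refine ⟨g * b * g⁻¹, (inferInstance : K.Normal).conj_mem b hb g, ?_⟩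
      show ψ (g * b * g⁻¹) = ψ g * ψ b * ψ g⁻¹
      rw [map_mul, map_mul])
    (ψ a) ⟨a, ha, rfl⟩
  refine (hker _).1 ?_
  change ψ g * ψ a = ψ a * ψ g at this
  rw [commutatorElement_def, map_mul, map_mul, map_mul, this, mul_assoc (ψ a), ← map_mul,
    mul_inv_cancel, map_one, mul_one, ← map_mul, mul_inv_cancel, map_one]

end Cfsg.Agent.Fusion
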