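import Mathlib
import Cfsg.Prelude.Def_PLocal
import Cfsg.Prelude.Def_LocalEven
import Cfsg.Agent.Lib.Fusion.KInf

/-!
# Iterated commutators on chief factors
-/

set_option autoImplicit false

open scoped commutatorElement

namespace Cfsg.Agent.Fusion

variable {G : Type*} [Group G]

theorem iter_mono {A B C : Subgroup G} (h : A ≤ B) :
    ∀ n, iterCommutator A C n ≤ iterCommutator B C n
  | 0 => h
  | n + 1 => Subgroup.commutator_mono (iter_mono h n) le_rfl

theorem iter_normalized {A C : Subgroup G} (h : C ≤ Subgroup.normalizer (A : Set G)) :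
    ∀ n, C ≤ Subgroup.normalizer (iterCommutator A C n : Set G)
  | 0 => h
  | n + 1 => Subgroup.normalizer_commutator_ge_right _ C

theorem iter_antitone {A C : Subgroup G} (h : C ≤ Subgroup.normalizer (A : Set G)) {m n : ℕ}
    (hmn : m ≤ n) : iterCommutator A C n ≤ iterCommutator A C m := by
  induction hmn with
  | refl => exact le_rfl
  | step _ ih =>
    exact (Subgroup.le_normalizer_iff_commutator_le_left.1 (iter_normalized h _)).trans ih

theorem iter_le_normal {A C N : Subgroup G} [N.Normal] (h : A ≤ N) :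
    ∀ n, iterCommutator A C n ≤ N
  | 0 => h
  | n + 1 => (Subgroup.commutator_mono (iter_le_normal h n) le_rfl).trans
      (Subgroup.commutator_le_left N C)

theorem commutator_sup_normal_le {A C N : Subgroup G} [hN : N.Normal] :
    ⁅A ⊔ N, C⁆ ≤ ⁅A, C⁆ ⊔ N := by
  have h : (⁅A ⊔ N, C⁆).map (QuotientGroup.mk' N) ≤ (⁅A, C⁆).map (QuotientGroup.mk' N) := by
    rw [Subgroup.map_commutator, Subgroup.map_commutator, Subgroup.map_sup,
      (Subgroup.map_eq_bot_iff _).2 (QuotientGroup.ker_mk' N).ge, sup_bot_eq]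
  rwa [Subgroup.map_le_iff_le_comap, Subgroup.comap_map_eq, QuotientGroup.ker_mk'] at h

theorem iter_sup_normal_le {A C N : Subgroup G} [N.Normal] :
    ∀ n, iterCommutator (A ⊔ N) C n ≤ iterCommutator A C n ⊔ N
  | 0 => le_rfl
  | n + 1 => (Subgroup.commutator_mono (iter_sup_normal_le n) le_rfl).trans commutator_sup_normal_le

/-- The three subgroup lemma modulo a normal subgroup. -/
theorem three_subgroup_normal {A B C M : Subgroup G} [M.Normal] (h1 : ⁅⁅B, C⁆, A⁆ ≤ M)
    (h2 : ⁅⁅C, A⁆, B⁆ ≤ M) : ⁅⁅A, B⁆, C⁆ ≤ M := by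
  rw [← QuotientGroup.ker_mk' M, ← Subgroup.map_eq_bot_iff, Subgroup.map_commutator,
    Subgroup.map_commutator] at h1 h2 ⊢
  exact Subgroup.commutator_commutator_eq_bot_of_rotate h1 h2

/-- The three subgroup lemma modulo a subgroup normalized by all three subgroups. -/
theorem three_subgroup {A B C M : Subgroup G} (hA : A ≤ Subgroup.normalizer (M : Set G))
    (hB : B ≤ Subgroup.normalizer (M : Set G)) (hC : C ≤ Subgroup.normalizer (M : Set G))
    (h1 : ⁅⁅B, C⁆, A⁆ ≤ M) (h2 : ⁅⁅C, A⁆, B⁆ ≤ M) : ⁅⁅A, B⁆, C⁆ ≤ M := by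
  set N := Subgroup.normalizer (M : Set G)
  haveI : (M.subgroupOf N).Normal := Subgroup.normal_in_normalizer
  have hf : Function.Injective N.subtype := N.subtype_injective
  have e : ∀ {X Y Z : Subgroup G}, X ≤ N → Y ≤ N → Z ≤ N →
      (⁅⁅X.subgroupOf N, Y.subgroupOf N⁆, Z.subgroupOf N⁆).map N.subtype = ⁅⁅X, Y⁆, Z⁆ := by
    intro X Y Z hX hY hZ
    rw [Subgroup.map_commutator, Subgroup.map_commutator, Subgroup.map_subgroupOf_eq_of_le hX,
      Subgroup.map_subgroupOf_eq_of_le hY, Subgroup.map_subgroupOf_eq_of_le hZ]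
  have := three_subgroup_normal (A := A.subgroupOf N) (B := B.subgroupOf N) (C := C.subgroupOf N)
    (M := M.subgroupOf N) (Subgroup.map_le_iff_le_comap.1 ((e hB hC hA).le.trans h1))
    (Subgroup.map_le_iff_le_comap.1 ((e hC hA hB).le.trans h2))
  rw [← e hA hB hC]
  exact Subgroup.map_le_iff_le_comap.2 this

variable [Finite G] {p : ℕ} [hp : Fact p.Prime]

/-- A normal `p`-subgroup centralizes each chief factor inside it. -/
theorem chief_centralized {P U V : Subgroup G} [P.Normal] (hP : IsPGroup p P)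
    (hc : IsChiefFactor U V) (hU : U ≤ P) : ⁅U, P⁆ ≤ V := by
  obtain ⟨hlt, hUn, hVn, hmin⟩ := hc
  haveI := hUn
  haveI := hVn
  let N : Subgroup G :=
    { carrier := {x | x ∈ U ∧ ∀ y ∈ P, ⁅x, y⁆ ∈ V}
      one_mem' := ⟨one_mem _, fun y _ => by simp⟩
      mul_mem' := fun {a b} ha hb => ⟨mul_mem ha.1 hb.1, fun y hy => by
        have := mul_mem (hVn.conj_mem _ (hb.2 y hy) a) (ha.2 y hy)
        simpa [commutatorElement_def, mul_assoc] using this⟩
      inv_mem' := fun {a} ha => ⟨inv_mem ha.1, fun y hy => by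
        have := hVn.conj_mem _ (inv_mem (ha.2 y hy)) a⁻¹
        simpa [commutatorElement_def, mul_assoc] using this⟩ }
  have hN : N.Normal := ⟨fun x hx k => ⟨hUn.conj_mem x hx.1 k, fun y hy => by
    have := hVn.conj_mem _ (hx.2 _ ((inferInstance : P.Normal).conj_mem y hy k⁻¹)) k
    simpa [commutatorElement_def, mul_assoc] using this⟩⟩
  have hVN : V ≤ N := fun v hv => ⟨hlt.le hv, fun y _ => by
    have := mul_mem hv (hVn.conj_mem _ (inv_mem hv) y)
    simpa [commutatorElement_def, mul_assoc] using this⟩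
  have hne : N ≠ V := by
    haveI : Group.IsNilpotent P := hP.isNilpotent
    obtain ⟨x, hx, hxV, h⟩ := exists_fixed_mod (N := V.subgroupOf P) (C := U.subgroupOf P)
      (Q := (⊤ : Subgroup P)) (by rw [Subgroup.normalizer_eq_top]) (fun h =>
        hlt.not_ge fun u hu => h (x := ⟨u, hU hu⟩) hu)
    intro hNV
    exact hxV (hNV.le ⟨hx, fun y hy => h ⟨y, hy⟩ trivial⟩)
  have hNU : N = U := (hmin N hN hVN fun x hx => hx.1).resolve_left hne
  exact Subgroup.commutator_le.2 fun u hu y hy => (hNU.ge hu).2 y hy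

omit hp in
theorem exists_chief_top {Z : Subgroup G} (hZn : Z.Normal) (hZ : Z ≠ ⊥) :
    ∃ Z1, IsChiefFactor Z Z1 := by
  obtain ⟨V, ⟨hVn, hVZ⟩, hmax⟩ := Set.exists_max_image
    {V : Subgroup G | V.Normal ∧ V < Z} (fun V : Subgroup G => Nat.card V)
    (Set.toFinite _) ⟨⊥, inferInstance, bot_lt_iff_ne_bot.2 hZ⟩
  exact ⟨V, hVZ, hZn, hVn, fun N hN hVN hNZ => by
    rcases eq_or_lt_of_le hNZ with h | h
    · exact .inr h
    · exact .inl (Subgroup.eq_of_le_of_card_ge hVN (hmax N ⟨hN, h⟩)).symm⟩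

/-- A bound on the action on `P` from bounds on a self-centralizing characteristic subgroup. -/
theorem iter_chief_of_critical (P : Subgroup G) [P.Normal] (hP : IsPGroup p P) (Q : Subgroup G)
    [Q.Normal] (hQP : Q ≤ P) (hcomm : ⁅P, Q⁆ ≤ zOf Q)
    (hC : P ⊓ Subgroup.centralizer (Q : Set G) = zOf Q)
    (g : G) (i j : ℕ) (hi : 1 ≤ i) (hj : 1 ≤ j)
    (hQi : ∀ U V : Subgroup G, IsChiefFactor U V → U ≤ Q →
      iterCommutator U (Subgroup.zpowers g) i ≤ V)
    (hZj : ∀ U V : Subgroup G, IsChiefFactor U V → U ≤ zOf Q →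
      iterCommutator U (Subgroup.zpowers g) j ≤ V)
    {U V : Subgroup G} (hUV : IsChiefFactor U V) (hU : U ≤ P) :
    iterCommutator U (Subgroup.zpowers g) (i + j - 1) ≤ V := by
  set Y := Subgroup.zpowers g with hY
  obtain ⟨hlt, hUn, hVn, hmin⟩ := hUV
  haveI := hUn
  haveI := hVn
  have hnorm : ∀ X : Subgroup G, X.Normal → Y ≤ Subgroup.normalizer (X : Set G) := fun X hX =>
    le_top.trans (Subgroup.normalizer_eq_top (H := X)).ge
  obtain ⟨U0, ⟨hU0n, hU0U, hU0V⟩, hU0min⟩ := Set.exists_min_image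
    {W : Subgroup G | W.Normal ∧ W ≤ U ∧ ¬ W ≤ V} (fun W : Subgroup G => Nat.card W)
    (Set.toFinite _) ⟨U, hUn, le_rfl, hlt.not_ge⟩
  haveI := hU0n
  have hsub : ∀ W : Subgroup G, W.Normal → W ≤ U0 → W ≠ U0 → W ≤ V := fun W hW hle hne => by
    by_contra hWV
    exact hne (Subgroup.eq_of_le_of_card_ge hle (hU0min W ⟨hW, hle.trans hU0U, hWV⟩))
  have hsup : U = U0 ⊔ V := ((hmin _ inferInstance le_sup_right (sup_le hU0U hlt.le)).resolve_left
    fun h => hU0V (sup_eq_right.1 h)).symm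
  suffices h : iterCommutator U0 Y (i + j - 1) ≤ V by
    rw [hsup]; exact (iter_sup_normal_le _).trans (sup_le h le_rfl)
  have hU0P : U0 ≤ P := hU0U.trans hU
  by_cases hU0Z : U0 ≤ zOf Q
  · obtain ⟨W, hW⟩ := exists_chief_top hU0n fun h => hU0V (h.le.trans bot_le)
    exact (iter_antitone (hnorm U0 hU0n) (by omega)).trans
      ((hZj U0 W hW hU0Z).trans (hsub W hW.2.2.1 hW.1.le hW.1.ne))
  set Zl := ⁅U0, Q⁆
  have hZl : Zl ≠ ⊥ := fun h => hU0Z ((le_inf hU0P
    (Subgroup.commutator_eq_bot_iff_le_centralizer.1 h)).trans hC.le)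
  have hZlZ : Zl ≤ zOf Q := (Subgroup.commutator_mono hU0P le_rfl).trans hcomm
  obtain ⟨Zl1, hcZ⟩ := exists_chief_top (inferInstance : Zl.Normal) hZl
  haveI := hcZ.2.2.1
  obtain ⟨Qk, ⟨hQkn, hQkQ, hQknot⟩, hQkmin⟩ := Set.exists_min_image
    {W : Subgroup G | W.Normal ∧ W ≤ Q ∧ ¬ ⁅U0, W⁆ ≤ Zl1} (fun W : Subgroup G => Nat.card W)
    (Set.toFinite _) ⟨Q, inferInstance, le_rfl, fun h => hcZ.1.not_ge h⟩
  haveI := hQkn
  obtain ⟨Qk1, hcQ⟩ := exists_chief_top hQkn fun h => hQknot (by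
    rw [h, Subgroup.commutator_bot_right]; exact bot_le)
  have hQk1 : ⁅U0, Qk1⁆ ≤ Zl1 := by
    by_contra hcon
    exact hcQ.1.ne (Subgroup.eq_of_le_of_card_ge hcQ.1.le
      (hQkmin Qk1 ⟨hcQ.2.2.1, hcQ.1.le.trans hQkQ, hcon⟩))
  have hQstep : iterCommutator Qk Y i ≤ Qk1 := hQi Qk Qk1 hcQ hQkQ
  have hZstep : iterCommutator Zl Y j ≤ Zl1 := hZj Zl Zl1 hcZ hZlZ
  let M : ℕ → Subgroup G := fun c => iterCommutator Zl Y c ⊔ Zl1
  have hMle : ∀ c, M c ≤ Zl := fun c => sup_le (iter_le_normal le_rfl c) hcZ.1.le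
  have hMsucc : ∀ c, ⁅M c, Y⁆ ≤ M (c + 1) := fun c => commutator_sup_normal_le
  have hManti : ∀ {c d}, c ≤ d → M d ≤ M c := fun h =>
    sup_le_sup_right (iter_antitone (hnorm Zl inferInstance) h) _
  have hMnorm : ∀ c, U0 ≤ Subgroup.normalizer (M c : Set G) ∧
      Qk ≤ Subgroup.normalizer (M c : Set G) ∧ Y ≤ Subgroup.normalizer (M c : Set G) := by
    intro c
    refine ⟨?_, ?_, ?_⟩ <;> rw [Subgroup.le_normalizer_iff_commutator_le_left]
    · exact ((Subgroup.commutator_mono (hMle c) hU0P).trans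
        (chief_centralized hP hcZ (hZlZ.trans (inf_le_left.trans hQP)))).trans le_sup_right
    · refine le_trans ?_ bot_le
      rw [le_bot_iff, Subgroup.commutator_eq_bot_iff_le_centralizer]
      exact ((hMle c).trans (hZlZ.trans inf_le_right)).trans (Subgroup.centralizer_le hQkQ)
    · exact (hMsucc c).trans (hManti (Nat.le_succ c))
  have key : ∀ a b, ⁅iterCommutator U0 Y a, iterCommutator Qk Y b⁆ ≤ M (a + b + 1 - i) := by
    intro a
    induction a with
    | zero =>
      intro b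
      rcases Nat.lt_or_ge b i with hb | hb
      · rw [show 0 + b + 1 - i = 0 by omega]
        exact (Subgroup.commutator_mono le_rfl ((iter_le_normal le_rfl b).trans hQkQ)).trans
          le_sup_left
      · exact ((Subgroup.commutator_mono le_rfl
          ((iter_antitone (hnorm Qk hQkn) hb).trans hQstep)).trans hQk1).trans le_sup_right
    | succ a ih =>
      intro b
      refine three_subgroup (((iter_le_normal le_rfl a)).trans (hMnorm _).1) (hMnorm _).2.2
        ((iter_le_normal le_rfl b).trans (hMnorm _).2.1) ?_ ?_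
      · rw [Subgroup.commutator_comm Y, Subgroup.commutator_comm _ (iterCommutator U0 Y a)]
        refine (ih (b + 1)).trans (hManti (by omega))
      · rw [Subgroup.commutator_comm (iterCommutator Qk Y b)]
        exact (Subgroup.commutator_mono (ih b) le_rfl).trans
          ((hMsucc _).trans (hManti (by omega)))
  have hfin : ⁅iterCommutator U0 Y (i + j - 1), Qk⁆ ≤ Zl1 :=
    (key (i + j - 1) 0).trans (sup_le ((iter_antitone (hnorm Zl inferInstance)
      (by omega)).trans hZstep) le_rfl)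
  let K : Subgroup G :=
    { carrier := {x | x ∈ U0 ∧ ∀ y ∈ Qk, ⁅x, y⁆ ∈ Zl1}
      one_mem' := ⟨one_mem _, fun y _ => by simp⟩
      mul_mem' := fun {a b} ha hb => ⟨mul_mem ha.1 hb.1, fun y hy => by
        have := mul_mem (hcZ.2.2.1.conj_mem _ (hb.2 y hy) a) (ha.2 y hy)
        simpa [commutatorElement_def, mul_assoc] using this⟩
      inv_mem' := fun {a} ha => ⟨inv_mem ha.1, fun y hy => by
        have := hcZ.2.2.1.conj_mem _ (inv_mem (ha.2 y hy)) a⁻¹
        simpa [commutatorElement_def, mul_assoc] using this⟩ }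
  have hK : K.Normal := ⟨fun x hx k => ⟨hU0n.conj_mem x hx.1 k, fun y hy => by
    have := hcZ.2.2.1.conj_mem _ (hx.2 _ (hQkn.conj_mem y hy k⁻¹)) k
    simpa [commutatorElement_def, mul_assoc] using this⟩⟩
  have hKne : K ≠ U0 := fun h =>
    hQknot (Subgroup.commutator_le.2 fun x hx y hy => (h.ge hx).2 y hy)
  exact fun x hx => hsub K hK (fun y hy => hy.1) hKne
    ⟨iter_le_normal le_rfl _ hx, fun y hy => hfin (Subgroup.commutator_mem_commutator hx hy)⟩

end Cfsg.Agent.Fusion
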