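import Mathlib
import Cfsg.Prelude.Def_ConjugacyFunctors
import Cfsg.Agent.Lib.Fusion.KInf
import Cfsg.Agent.Lib.Fusion.Sections

/-!
# The K-infinity subgroups under injective homomorphisms
-/

set_option autoImplicit false

universe u

namespace Cfsg.Agent.Fusion

variable {P H : Type*} [Group P] [Group H] (f : H →* P) (hf : Function.Injective f)

include hf

theorem map_centralizer_inf (B C : Subgroup H) :
    (C ⊓ Subgroup.centralizer (B : Set H)).map f =
      C.map f ⊓ Subgroup.centralizer (B.map f : Set P) := by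
  ext y
  constructor
  · rintro ⟨x, ⟨hx1, hx2⟩, rfl⟩
    refine ⟨⟨x, hx1, rfl⟩, ?_⟩
    rintro _ ⟨b, hb, rfl⟩
    rw [← map_mul, ← map_mul, hx2 b hb]
  · rintro ⟨⟨x, hx1, rfl⟩, hx2⟩
    refine ⟨x, ⟨hx1, fun b hb => hf ?_⟩, rfl⟩
    rw [map_mul, map_mul]
    exact hx2 _ ⟨b, hb, rfl⟩

theorem le_centralizer_map_iff {A B : Subgroup H} :
    A.map f ≤ Subgroup.centralizer (B.map f : Set P) ↔ A ≤ Subgroup.centralizer (B : Set H) := by
  rw [← inf_eq_left, ← map_centralizer_inf f hf B A,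
    (Subgroup.map_injective hf).eq_iff, inf_eq_left]

theorem le_normalizer_map_iff {A B : Subgroup H} :
    A.map f ≤ Subgroup.normalizer (B.map f : Set P) ↔ A ≤ Subgroup.normalizer (B : Set H) := by
  rw [Subgroup.le_normalizer_iff_commutator_le_left, Subgroup.le_normalizer_iff_commutator_le_left,
    ← Subgroup.map_commutator, Subgroup.map_le_map_iff_of_injective hf]

theorem classTwo_map_iff {B : Subgroup H} :
    B.map f ∈ classTwoSubgroups P ↔ B ∈ classTwoSubgroups H := by
  show ⁅B.map f, B.map f⁆ ≤ _ ↔ ⁅B, B⁆ ≤ _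
  rw [← Subgroup.map_commutator, le_centralizer_map_iff f hf]

theorem upper_map_iff {B R : Subgroup H} :
    B.map f ∈ kUpperStarFamily (R.map f) ↔ B ∈ kUpperStarFamily R := by
  show _ ∧ ⁅B.map f, R.map f⁆ ≤ B.map f ⊓ _ ↔ _ ∧ ⁅B, R⁆ ≤ B ⊓ _
  rw [classTwo_map_iff f hf, ← Subgroup.map_commutator, ← map_centralizer_inf f hf,
    Subgroup.map_le_map_iff_of_injective hf]

theorem lower_map_iff {B R : Subgroup H} :
    B.map f ∈ kLowerStarFamily (R.map f) ↔ B ∈ kLowerStarFamily R := by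
  have hb : ∀ X : Subgroup H, X.map f = ⊥ ↔ X = ⊥ := fun X =>
    Subgroup.map_eq_bot_iff_of_injective X hf
  constructor
  · rintro ⟨h1, h2, h3⟩
    refine ⟨(classTwo_map_iff f hf).1 h1, (le_normalizer_map_iff f hf).1 h2,
      fun A hA hAR hBA e1 e2 => ?_⟩
    have := h3 (A.map f) ((classTwo_map_iff f hf).2 hA) (Subgroup.map_mono hAR)
      ((le_normalizer_map_iff f hf).2 hBA)
      (by rw [← Subgroup.map_commutator, ← Subgroup.map_commutator, e1, Subgroup.map_bot])
      (by rw [← map_centralizer_inf f hf, ← Subgroup.map_commutator, ← Subgroup.map_commutator, e2,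
        Subgroup.map_bot])
    rwa [← Subgroup.map_commutator, ← map_centralizer_inf f hf,
      Subgroup.map_le_map_iff_of_injective hf] at this
  · rintro ⟨h1, h2, h3⟩
    refine ⟨(classTwo_map_iff f hf).2 h1, (le_normalizer_map_iff f hf).2 h2,
      fun A' hA hAR hBA e1 e2 => ?_⟩
    obtain ⟨A, rfl⟩ : ∃ A : Subgroup H, A.map f = A' := by
      refine ⟨A'.comap f, Subgroup.map_comap_eq_self (hAR.trans ?_)⟩
      rintro _ ⟨x, _, rfl⟩
      exact ⟨x, rfl⟩
    rw [← Subgroup.map_commutator, ← map_centralizer_inf f hf,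
      Subgroup.map_le_map_iff_of_injective hf]
    refine h3 A ((classTwo_map_iff f hf).1 hA) ((Subgroup.map_le_map_iff_of_injective hf).1 hAR)
      ((le_normalizer_map_iff f hf).1 hBA) ?_ ?_
    · rwa [← Subgroup.map_commutator, ← Subgroup.map_commutator, hb] at e1
    · rwa [← map_centralizer_inf f hf, ← Subgroup.map_commutator, ← Subgroup.map_commutator,
        hb] at e2

theorem map_sSup_lower (R : Subgroup H) :
    (sSup (kLowerStarFamily R)).map f =
      sSup {B : Subgroup P | B ∈ kLowerStarFamily (R.map f) ∧ B ≤ f.range} := by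
  refine le_antisymm ?_ (sSup_le ?_)
  · rw [Subgroup.map_le_iff_le_comap]
    exact sSup_le fun B hB => Subgroup.map_le_iff_le_comap.1 (le_sSup
      ⟨(lower_map_iff f hf).2 hB, f.range_eq_map.symm ▸ Subgroup.map_mono le_top⟩)
  · rintro B ⟨hB, hr⟩
    rw [← Subgroup.map_comap_eq_self hr] at hB ⊢
    exact Subgroup.map_mono (le_sSup ((lower_map_iff f hf).1 hB))

theorem map_sSup_upper (R : Subgroup H) :
    (sSup (kUpperStarFamily R)).map f =
      sSup {B : Subgroup P | B ∈ kUpperStarFamily (R.map f) ∧ B ≤ f.range} := by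
  refine le_antisymm ?_ (sSup_le ?_)
  · rw [Subgroup.map_le_iff_le_comap]
    exact sSup_le fun B hB => Subgroup.map_le_iff_le_comap.1 (le_sSup
      ⟨(upper_map_iff f hf).2 hB, f.range_eq_map.symm ▸ Subgroup.map_mono le_top⟩)
  · rintro B ⟨hB, hr⟩
    rw [← Subgroup.map_comap_eq_self hr] at hB ⊢
    exact Subgroup.map_mono (le_sSup ((upper_map_iff f hf).1 hB))

theorem map_kSeq_of_surjective (hs : Function.Surjective f) (n : ℕ) :
    (kSeqOdd H n).map f = kSeqOdd P n ∧ (kSeqEven H n).map f = kSeqEven P n := by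
  have hE : ∀ R : Subgroup H, (sSup (kLowerStarFamily R)).map f =
      sSup (kLowerStarFamily (R.map f)) := fun R => by
    rw [map_sSup_lower f hf, MonoidHom.range_eq_top.2 hs]; simp
  have hU : ∀ R : Subgroup H, (sSup (kUpperStarFamily R)).map f =
      sSup (kUpperStarFamily (R.map f)) := fun R => by
    rw [map_sSup_upper f hf, MonoidHom.range_eq_top.2 hs]; simp
  induction n with
  | zero =>
    have h0 : (kSeqOdd H 0).map f = kSeqOdd P 0 := Subgroup.map_top_of_surjective f hs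
    exact ⟨h0, (hE _).trans (by rw [h0]; rfl)⟩
  | succ n ih =>
    have h1 : (kSeqOdd H (n + 1)).map f = kSeqOdd P (n + 1) := by
      rw [kSeqOdd_succ, kSeqOdd_succ, hU, ih.2]
    exact ⟨h1, (hE _).trans (by rw [h1]; rfl)⟩

/-- The squeeze between the K-sequences of a group and of a subgroup containing them. -/
theorem map_kInf_of_le [Finite P] [Finite H]
    (hQ : ∀ n : ℕ, kSeqEven P n ≤ f.range ∧ kSeqOdd P (n + 1) ≤ f.range) :
    (kInfLower H).map f = kInfLower P ∧ (kInfUpper H).map f = kInfUpper P := by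
  have key : ∀ n : ℕ, (kSeqEven P n ≤ (kSeqEven H n).map f ∧
      (kSeqEven H n).map f ≤ kSeqEven P (n + 1)) ∧
      (kSeqOdd P (n + 2) ≤ (kSeqOdd H (n + 1)).map f ∧
        (kSeqOdd H (n + 1)).map f ≤ kSeqOdd P (n + 1)) := by
    have hstep : ∀ n : ℕ, kSeqOdd P (n + 1) ≤ (kSeqOdd H n).map f →
        (kSeqOdd H n).map f ≤ kSeqOdd P n →
        (kSeqEven P n ≤ (kSeqEven H n).map f ∧ (kSeqEven H n).map f ≤ kSeqEven P (n + 1)) ∧
        (kSeqOdd P (n + 2) ≤ (kSeqOdd H (n + 1)).map f ∧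
          (kSeqOdd H (n + 1)).map f ≤ kSeqOdd P (n + 1)) := by
      intro n hlo hhi
      have hE1 : kSeqEven P n ≤ (kSeqEven H n).map f := by
        rw [kSeqEven, kSeqEven, map_sSup_lower f hf]
        exact sSup_le_sSup fun B hB => ⟨kLowerStar_anti hhi hB, (le_sSup hB).trans (hQ n).1⟩
      have hE2 : (kSeqEven H n).map f ≤ kSeqEven P (n + 1) := by
        rw [kSeqEven, kSeqEven, map_sSup_lower f hf]
        exact sSup_le_sSup fun B hB => kLowerStar_anti hlo hB.1
      refine ⟨⟨hE1, hE2⟩, ?_, ?_⟩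
      · rw [kSeqOdd_succ, kSeqOdd_succ, map_sSup_upper f hf]
        exact sSup_le_sSup fun B hB => ⟨kUpperStar_anti hE2 hB,
          (le_sSup hB).trans (hQ (n + 1)).2⟩
      · rw [kSeqOdd_succ, kSeqOdd_succ, map_sSup_upper f hf]
        exact sSup_le_sSup fun B hB => kUpperStar_anti hE1 hB.1
    intro n
    induction n with
    | zero =>
      exact hstep 0 ((hQ 0).2.trans (f.range_eq_map.le)) le_top
    | succ n ih => exact hstep (n + 1) ih.2.1 ih.2.2
  obtain ⟨a, ha⟩ := exists_stable (P := P)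
  obtain ⟨b, hb⟩ := exists_stable (P := H)
  set m := max a b + 1
  have hma : a ≤ m := (le_max_left a b).trans (Nat.le_succ _)
  have hmb : b ≤ m := (le_max_right a b).trans (Nat.le_succ _)
  obtain ⟨⟨h1, h2⟩, h3, h4⟩ := key m
  rw [(ha m hma).1, (hb m hmb).1] at h1
  rw [(ha (m + 1) (by omega)).1, (hb m hmb).1] at h2
  rw [(ha (m + 2) (by omega)).2, (hb (m + 1) (by omega)).2] at h3
  rw [(ha (m + 1) (by omega)).2, (hb (m + 1) (by omega)).2] at h4
  exact ⟨le_antisymm h2 h1, le_antisymm h4 h3⟩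

end Cfsg.Agent.Fusion

namespace Cfsg.Agent.Fusion

theorem isCharPFunctor_kInfLower (p : ℕ) [Fact p.Prime] :
    IsCharPFunctor.{u} p kInfLower := by
  refine ⟨fun Q _ _ hQ _ h => ?_, fun Q R _ _ _ _ φ => ?_⟩
  · haveI : Group.IsNilpotent Q := hQ.isNilpotent
    haveI := hQ.center_nontrivial
    exact (Subgroup.nontrivial_iff_ne_bot _).1 ‹_› (le_bot_iff.1 (h ▸ center_le_kInfLower))
  · rw [kInfLower, kInfLower, Subgroup.map_iSup]
    exact iSup_congr fun n => (map_kSeq_of_surjective φ.toMonoidHom φ.injective φ.surjective n).2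

theorem isCharPFunctor_kInfUpper (p : ℕ) [Fact p.Prime] :
    IsCharPFunctor.{u} p kInfUpper := by
  refine ⟨fun Q _ _ hQ _ h => ?_, fun Q R _ _ _ _ φ => ?_⟩
  · haveI : Group.IsNilpotent Q := hQ.isNilpotent
    haveI := hQ.center_nontrivial
    exact (Subgroup.nontrivial_iff_ne_bot _).1 ‹_› (le_bot_iff.1 (h ▸ center_le_kInfUpper))
  · rw [kInfUpper, kInfUpper, Subgroup.map_iInf _ φ.injective]
    exact iInf_congr fun n => (map_kSeq_of_surjective φ.toMonoidHom φ.injective φ.surjective n).1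

end Cfsg.Agent.Fusion
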