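import Mathlib
import Cfsg.Prelude.Def_ConjugacyFunctors
import Cfsg.Prelude.Def_LocalEven
import Cfsg.Prelude.Def_PLocal
import Cfsg.Agent.Lib.Fusion.KInfMap
import Cfsg.Agent.Lib.Fusion.ChiefAction

/-!
# Members of the K-infinity families and a critical subgroup of the p-core
-/

set_option autoImplicit false

open scoped commutatorElement

namespace Cfsg.Agent.Fusion

variable {G : Type*} [Group G]

/-- A subgroup of the `p`-core with the properties of a critical subgroup. -/
structure CriticalIn (p : ℕ) (A : Subgroup G) : Prop where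
  normal : A.Normal
  le : A ≤ pCore p G
  classTwo : ⁅A, A⁆ ≤ Subgroup.centralizer (A : Set G)
  comm : ⁅pCore p G, A⁆ ≤ zOf A
  faithful : ∀ φ : MulAut ↥(pCore p G), (orderOf φ).Coprime p →
    (∀ a : ↥(pCore p G), (a : G) ∈ A → φ a = a) → φ = 1

/-- The conclusion about a single element. -/
def KWitness (p : ℕ) (S A : Subgroup G) (g : G) : Prop :=
  g ∈ S ∧ g ∉ pCore p G ∧ iterCommutator A (Subgroup.zpowers g) 3 ≤ zOf A ∧
    ⁅⁅zOf A, Subgroup.zpowers g⁆, Subgroup.zpowers g⁆ = ⊥ ∧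
    (Subgroup.centralizer (pCore p G : Set G) ≤ pCore p G → ∃ U V : Subgroup G, IsChiefFactor U V ∧
      U ≤ A ∧ ⁅⁅U, Subgroup.zpowers g⁆, Subgroup.zpowers g⁆ ≤ V ∧ ¬ ⁅U, Subgroup.zpowers g⁆ ≤ V)

theorem zOf_normal {A : Subgroup G} [A.Normal] : (zOf A).Normal :=
  haveI := Subgroup.normal_centralizer (H := A)
  Subgroup.normal_inf_normal A _

theorem commutator_zOf_self (B : Subgroup G) : ⁅zOf B, B⁆ = ⊥ :=
  Subgroup.commutator_eq_bot_iff_le_centralizer.2 inf_le_right

theorem commutator_self_le (B : Subgroup G) : ⁅B, B⁆ ≤ B :=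
  Subgroup.le_normalizer_iff_commutator_le_left.1 Subgroup.le_normalizer

variable {p : ℕ} {A : Subgroup G}

theorem CriticalIn.zOf_le_pCore (hA : CriticalIn p A) : zOf A ≤ pCore p G :=
  inf_le_left.trans hA.le

theorem CriticalIn.derived_le (hA : CriticalIn p A) : ⁅A, A⁆ ≤ zOf A :=
  le_inf (commutator_self_le A) hA.classTwo

theorem CriticalIn.core_centralizes_derived (hA : CriticalIn p A) :
    pCore p G ≤ Subgroup.centralizer ((⁅A, A⁆ : Subgroup G) : Set G) := by
  rw [Subgroup.le_centralizer_iff, ← Subgroup.commutator_eq_bot_iff_le_centralizer]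
  have h1 : ⁅⁅pCore p G, A⁆, A⁆ = ⊥ :=
    le_bot_iff.1 ((Subgroup.commutator_mono hA.comm le_rfl).trans (commutator_zOf_self A).le)
  have h2 : ⁅⁅A, pCore p G⁆, A⁆ = ⊥ := by rw [Subgroup.commutator_comm A]; exact h1
  exact Subgroup.commutator_commutator_eq_bot_of_rotate h2 h1

variable [Finite G] [hp : Fact p.Prime]

theorem CriticalIn.isPGroup (hA : CriticalIn p A) : IsPGroup p A :=
  (isPGroup_pCore p G).to_le hA.le

theorem CriticalIn.triv_le (hA : CriticalIn p A)
    (hC : Subgroup.centralizer (pCore p G : Set G) ≤ pCore p G) :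
    trivBetween ⊥ (zOf A) ⊓ trivBetween (zOf A) A ≤ pCore p G := by
  haveI := hA.normal
  haveI : (zOf A).Normal := zOf_normal
  set T := pCore p G
  refine le_pCore fun d => ?_
  obtain ⟨k, m, hm, hkm⟩ := Nat.exists_eq_pow_mul_and_not_dvd (orderOf_pos (d : G)).ne' p hp.out.ne_one
  refine ⟨k, Subtype.ext ?_⟩
  set x : G := (d : G) ^ p ^ k with hxdef
  show x = 1
  have hco : (orderOf x).Coprime p := by
    rw [hxdef, orderOf_pow_of_dvd (pow_ne_zero _ hp.out.ne_zero) (hkm ▸ dvd_mul_right _ _), hkm,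
      Nat.mul_div_cancel_left _ (pow_pos hp.out.pos k)]
    exact ((Nat.Prime.coprime_iff_not_dvd hp.out).2 hm).symm
  have hx1 : x ∈ trivBetween ⊥ (zOf A) := pow_mem d.2.1 _
  have hx2 : x ∈ trivBetween (zOf A) A := pow_mem d.2.2 _
  have hzp : IsPGroup p (zOf A) := hA.isPGroup.to_inf_left
  have hfix : ∀ a ∈ A, x * a * x⁻¹ = a := by
    intro a ha
    have h1 := coprime_trivBetween (Y := zOf A) inf_le_left inferInstance hA.isPGroup hco hx2 a ha
    have h2 := coprime_trivBetween (Y := ⊥) bot_le inferInstance hzp hco hx1 _ h1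
    have h3 := coprime_trivial_step (Y := ⊥) hzp hco h1 h2
    rwa [Subgroup.mem_bot, commutatorElement_def, mul_inv_eq_one] at h3
  set φ : MulAut T := MulAut.conjNormal x
  have hφ : φ = 1 := hA.faithful φ (hco.coprime_dvd_left (orderOf_map_dvd _ x))
    fun a ha => Subtype.ext ((MulAut.conjNormal_apply x a).trans (hfix a ha))
  have hxT : x ∈ T := hC (mem_centralizer_set.2 fun t ht => by
    have := congrArg (fun ψ : MulAut T => ((ψ ⟨t, ht⟩ : T) : G)) hφ
    simpa [φ, MulAut.conjNormal_apply] using this)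
  obtain ⟨i, hi⟩ := IsPGroup.iff_orderOf.1 (isPGroup_pCore p G) ⟨x, hxT⟩
  rw [Subgroup.orderOf_mk] at hi
  exact orderOf_eq_one_iff.1 (Nat.eq_one_of_dvd_coprimes (hco.pow_right i) dvd_rfl (hi ▸ dvd_rfl))

theorem CriticalIn.witness_of_quadratic (hA : CriticalIn p A) {S : Subgroup G} {g : G}
    (hgS : g ∈ S) (hgT : g ∉ pCore p G)
    (h1 : ⁅⁅A, Subgroup.zpowers g⁆, Subgroup.zpowers g⁆ ≤ zOf A)
    (h2 : ⁅⁅zOf A, Subgroup.zpowers g⁆, Subgroup.zpowers g⁆ = ⊥) : KWitness p S A g := by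
  haveI := hA.normal
  haveI : (zOf A).Normal := zOf_normal
  refine ⟨hgS, hgT, ?_, h2, fun hC => ?_⟩
  · exact (Subgroup.commutator_mono h1 le_rfl).trans (Subgroup.commutator_le_left _ _)
  · have : ¬ (g ∈ trivBetween ⊥ (zOf A) ∧ g ∈ trivBetween (zOf A) A) :=
      fun h => hgT (hA.triv_le hC h)
    rw [not_and_or] at this
    rcases this with h | h
    · obtain ⟨U, V, hc, -, hU, hne⟩ := exists_chief_of_not_mem_trivBetween h
      exact ⟨U, V, hc, hU.trans inf_le_left,
        (Subgroup.commutator_mono (Subgroup.commutator_mono hU le_rfl) le_rfl).trans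
          (h2.le.trans bot_le), hne⟩
    · obtain ⟨U, V, hc, hV, hU, hne⟩ := exists_chief_of_not_mem_trivBetween h
      exact ⟨U, V, hc, hU,
        (Subgroup.commutator_mono (Subgroup.commutator_mono hU le_rfl) le_rfl).trans
          (h1.trans hV), hne⟩

theorem CriticalIn.upper_member (hA : CriticalIn p A) {S R B : Subgroup G} (hBS : B ≤ S)
    (hAR : A ≤ R) (hB : B ∈ kUpperStarFamily R) (hBT : ¬ B ≤ pCore p G) :
    ∃ g, KWitness p S A g := by
  obtain ⟨g, hgB, hgT⟩ := SetLike.not_le_iff_exists.1 hBT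
  have hZ : Subgroup.zpowers g ≤ B := Subgroup.zpowers_le.2 hgB
  have h0 : ⁅⁅A, Subgroup.zpowers g⁆, Subgroup.zpowers g⁆ = ⊥ := by
    refine le_bot_iff.1 ?_
    calc ⁅⁅A, Subgroup.zpowers g⁆, Subgroup.zpowers g⁆ ≤ ⁅⁅A, B⁆, B⁆ :=
          Subgroup.commutator_mono (Subgroup.commutator_mono le_rfl hZ) hZ
      _ ≤ ⁅zOf B, B⁆ := Subgroup.commutator_mono (by
          rw [Subgroup.commutator_comm]
          exact (Subgroup.commutator_mono le_rfl hAR).trans hB.2) le_rfl
      _ = ⊥ := commutator_zOf_self B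
  exact ⟨g, hA.witness_of_quadratic (hBS hgB) hgT (h0.le.trans bot_le) (le_bot_iff.1
    ((Subgroup.commutator_mono (Subgroup.commutator_mono inf_le_left le_rfl) le_rfl).trans h0.le))⟩

theorem CriticalIn.mem_upper (hA : CriticalIn p A) {R : Subgroup G} (hR : R ≤ pCore p G) :
    A ∈ kUpperStarFamily R :=
  ⟨hA.classTwo, by
    rw [Subgroup.commutator_comm]
    exact (Subgroup.commutator_mono hR le_rfl).trans hA.comm⟩

theorem CriticalIn.mem_lower (hA : CriticalIn p A) {S R : Subgroup G} (hRS : R ≤ S)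
    (hno : ∀ g, ¬ KWitness p S A g) : A ∈ kLowerStarFamily R := by
  haveI := hA.normal
  refine ⟨hA.classTwo, le_top.trans (Subgroup.normalizer_eq_top (H := A)).ge,
    fun A1 hA1 hA1R hAn e1 e2 => ?_⟩
  by_cases h : A1 ≤ pCore p G
  · rw [Subgroup.commutator_comm]
    exact (Subgroup.commutator_mono h le_rfl).trans hA.comm
  obtain ⟨g, hg, hgT⟩ := SetLike.not_le_iff_exists.1 h
  have hZ : Subgroup.zpowers g ≤ A1 := Subgroup.zpowers_le.2 hg
  refine absurd (hA.witness_of_quadratic (hRS (hA1R hg)) hgT ?_ ?_) (hno g)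
  · refine (Subgroup.commutator_mono (Subgroup.commutator_mono le_rfl hZ) hZ).trans ?_
    refine le_inf ?_ ?_
    · exact (Subgroup.commutator_mono (Subgroup.commutator_le_left A A1) le_rfl).trans
        (Subgroup.commutator_le_left A A1)
    · refine (Subgroup.commutator_mono
        (Subgroup.le_normalizer_iff_commutator_le_right.1 hAn) le_rfl).trans ?_
      rw [Subgroup.le_centralizer_iff]
      exact Subgroup.commutator_eq_bot_iff_le_centralizer.1 e1
  · exact le_bot_iff.1 ((Subgroup.commutator_mono (Subgroup.commutator_mono le_rfl hZ) hZ).trans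
      e2.le)

theorem atomsGenerate_of_le_pCore {E H U V : Subgroup G} [E.Normal] (hc : IsChiefFactor U V)
    (hEH : E ≤ H) (hH : H ≤ (pCore p (G ⧸ E)).comap (QuotientGroup.mk' E)) :
    AtomsGenerate H U V := by
  haveI := hc.2.1
  haveI := hc.2.2.1
  set π := QuotientGroup.mk' E
  set K := (pCore p (G ⧸ E)).comap π
  suffices H' : ∀ (n : ℕ) (H : Subgroup G), Nat.card K - Nat.card H = n → E ≤ H → H ≤ K →
      AtomsGenerate H U V from H' _ H rfl hEH hH
  intro n
  induction n using Nat.strong_induction_on with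
  | _ n IH =>
    intro H hn hEH hHK
    by_cases hKH : H = K
    · subst hKH
      exact atomsGenerate_of_normalized le_top
        (by rw [Subgroup.normalizer_eq_top]) (atomsGenerate_top hc)
    set N := K ⊓ Subgroup.normalizer (H : Set G)
    have hHN : H ≤ N := le_inf hHK Subgroup.le_normalizer
    have hlt : H < N := by
      have hHcomap : (H.map π).comap π = H := by
        rw [QuotientGroup.comap_map_mk', sup_eq_right.2 hEH]
      have h1 : H.map π ≤ pCore p (G ⧸ E) := Subgroup.map_le_iff_le_comap.2 hHK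
      have h2 : H.map π ≠ pCore p (G ⧸ E) := fun h => hKH (by
        rw [← hHcomap, h])
      have h3 := SylIn.normalizer_growth (p := p) h1 h2 (isPGroup_pCore p (G ⧸ E))
      refine lt_of_le_of_ne hHN fun h => h3.ne ?_
      have h4 : (pCore p (G ⧸ E) ⊓ Subgroup.normalizer (H.map π : Set (G ⧸ E))).comap π = H := by
        rw [Subgroup.comap_inf, Subgroup.comap_normalizer_eq_of_surjective _
          (QuotientGroup.mk'_surjective E), hHcomap]
        exact h.symm
      exact Subgroup.comap_injective (QuotientGroup.mk'_surjective E) (hHcomap.trans h4.symm)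
    have hcard : Nat.card H < Nat.card N := by
      by_contra hcon
      exact hlt.ne (Subgroup.eq_of_le_of_card_ge hlt.le (by omega))
    have hle : Nat.card N ≤ Nat.card K := Subgroup.card_le_of_le (inf_le_left : N ≤ K)
    exact atomsGenerate_of_normalized hHN inf_le_right
      (IH (Nat.card K - Nat.card N) (hn ▸ Nat.sub_lt_sub_left (hcard.trans_le hle) hcard) N rfl (hEH.trans hHN) inf_le_left)

theorem CriticalIn.lower_member (hA : CriticalIn p A) {S R B : Subgroup G}
    (hBS : B ≤ S) (hAR : A ≤ R) (hB : B ∈ kLowerStarFamily R)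
    (hBT : ¬ B ≤ pCore p G) : ∃ g, KWitness p S A g := by
  haveI := hA.normal
  haveI : (zOf A).Normal := zOf_normal
  set T := pCore p G
  obtain ⟨g₀, hg₀, hg₀T⟩ := SetLike.not_le_iff_exists.1 hBT
  have hAB : ⁅A, B⁆ ≤ A ⊓ B :=
    le_inf (Subgroup.commutator_le_left A B)
      (Subgroup.le_normalizer_iff_commutator_le_right.1 (hAR.trans hB.2.1))
  have hABB : ⁅⁅A, B⁆, B⁆ ≤ A ⊓ zOf B :=
    le_inf ((Subgroup.commutator_mono (hAB.trans inf_le_left) le_rfl).trans
      (Subgroup.commutator_le_left A B))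
      ((Subgroup.commutator_mono (hAB.trans inf_le_right) le_rfl).trans
        (le_inf (commutator_self_le B) hB.1))
  have hquad : ⁅⁅zOf A, B⁆, B⁆ = ⊥ := by
    have h1 : ⁅B, zOf A⁆ ≤ zOf B := hB.2.2 (zOf A)
      ((Subgroup.commutator_le_left _ _).trans (Subgroup.le_centralizer_iff.1
        (inf_le_right.trans (Subgroup.centralizer_le inf_le_left))))
      (inf_le_left.trans hAR) (le_top.trans (Subgroup.normalizer_eq_top (H := zOf A)).ge)
      (le_bot_iff.1 ((Subgroup.commutator_mono le_rfl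
        ((Subgroup.commutator_mono (inf_le_left : zOf A ≤ A) le_rfl).trans
          (Subgroup.commutator_comm A (zOf A) ▸ (commutator_zOf_self A).le))).trans
        (Subgroup.commutator_bot_right B).le))
      (le_bot_iff.1 ((Subgroup.commutator_mono (Subgroup.commutator_le_right _ _)
        (inf_le_left : zOf A ≤ A)).trans (commutator_zOf_self A).le))
    refine le_bot_iff.1 ((Subgroup.commutator_mono ?_ le_rfl).trans (commutator_zOf_self B).le)
    rwa [Subgroup.commutator_comm]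
  have hbase : ∀ g ∈ B, iterCommutator A (Subgroup.zpowers g) 3 ≤ zOf A ∧
      ⁅⁅zOf A, Subgroup.zpowers g⁆, Subgroup.zpowers g⁆ = ⊥ := by
    intro g hg
    have hZ : Subgroup.zpowers g ≤ B := Subgroup.zpowers_le.2 hg
    refine ⟨?_, le_bot_iff.1
      ((Subgroup.commutator_mono (Subgroup.commutator_mono le_rfl hZ) hZ).trans hquad.le)⟩
    refine le_trans ?_ (bot_le (a := zOf A))
    show ⁅⁅⁅A, Subgroup.zpowers g⁆, Subgroup.zpowers g⁆, Subgroup.zpowers g⁆ ≤ ⊥
    refine (Subgroup.commutator_mono (Subgroup.commutator_mono (Subgroup.commutator_mono le_rfl hZ)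
      hZ) hZ).trans ?_
    exact (Subgroup.commutator_mono (hABB.trans inf_le_right) le_rfl).trans
      (commutator_zOf_self B).le
  by_cases hC : Subgroup.centralizer (T : Set G) ≤ T
  swap
  · exact ⟨g₀, hBS hg₀, hg₀T, (hbase g₀ hg₀).1, (hbase g₀ hg₀).2, fun h => absurd h hC⟩
  by_cases hzT : zOf B ≤ T
  swap
  · obtain ⟨z, hz, hzT'⟩ := SetLike.not_le_iff_exists.1 hzT
    refine ⟨z, hA.witness_of_quadratic (hBS hz.1) hzT' ?_ (hbase z hz.1).2⟩
    refine le_trans ?_ (bot_le (a := zOf A))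
    refine (Subgroup.commutator_mono ((Subgroup.commutator_mono le_rfl
      (Subgroup.zpowers_le.2 hz.1)).trans (hAB.trans inf_le_right))
      (Subgroup.zpowers_le.2 hz)).trans ?_
    rw [Subgroup.commutator_comm, commutator_zOf_self]
  set E := Subgroup.centralizer ((⁅A, A⁆ : Subgroup G) : Set G)
  haveI : (⁅A, A⁆ : Subgroup G).Normal := Subgroup.commutator_normal A A
  haveI hEn : E.Normal := Subgroup.normal_centralizer (H := (⁅A, A⁆ : Subgroup G))
  set K := (pCore p (G ⧸ E)).comap (QuotientGroup.mk' E)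
  by_cases hBK : B ≤ K
  swap
  · obtain ⟨g, hg, hgK⟩ := SetLike.not_le_iff_exists.1 hBK
    have hgT : g ∉ T := fun h => hgK (by
      have h1 : g ∈ E := hA.core_centralizes_derived h
      simp [K, (QuotientGroup.eq_one_iff g).2 h1])
    refine ⟨g, hBS hg, hgT, (hbase g hg).1, (hbase g hg).2, fun _ => ?_⟩
    obtain ⟨U, V, hc, -, hU, hne⟩ := exists_chief_of_not_mem_trivBetween
      (fun h => hgK (trivBetween_le_comap_pCore (hA.isPGroup.to_le (commutator_self_le A)) h))
    exact ⟨U, V, hc, hU.trans (commutator_self_le A),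
      (Subgroup.commutator_mono (Subgroup.commutator_mono (hU.trans hA.derived_le) le_rfl)
        le_rfl).trans ((hbase g hg).2.le.trans bot_le), hne⟩
  refine ⟨g₀, hBS hg₀, hg₀T, (hbase g₀ hg₀).1, (hbase g₀ hg₀).2, fun _ => ?_⟩
  have hnot : ¬ (g₀ ∈ trivBetween ⊥ (zOf A) ∧ g₀ ∈ trivBetween (zOf A) A) :=
    fun h => hg₀T (hA.triv_le hC h)
  rw [not_and_or] at hnot
  rcases hnot with h | h
  · obtain ⟨U, V, hc, -, hU, hne⟩ := exists_chief_of_not_mem_trivBetween h
    exact ⟨U, V, hc, hU.trans inf_le_left,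
      (Subgroup.commutator_mono (Subgroup.commutator_mono hU le_rfl) le_rfl).trans
        ((hbase g₀ hg₀).2.le.trans bot_le), hne⟩
  obtain ⟨U, V, hc, hV, hU, hne⟩ := exists_chief_of_not_mem_trivBetween h
  refine ⟨U, V, hc, hU, ?_, hne⟩
  haveI := hc.2.1
  haveI := hc.2.2.1
  -- the subgroup of elements whose commutators with `A` are fixed by `B`
  have hA'c : ∀ a ∈ A, ∀ c ∈ A, ∀ d ∈ A, d * ⁅a, c⁆ * d⁻¹ = ⁅a, c⁆ := fun a ha c hc' d hd => by
    have := Subgroup.mem_centralizer_iff.1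
      (hA.classTwo (Subgroup.commutator_mem_commutator ha hc')) d hd
    rw [this, mul_inv_cancel_right]
  let W : Subgroup G :=
    { carrier := {a | a ∈ A ∧ ∀ c ∈ A, ⁅a, c⁆ ∈ Subgroup.centralizer (B : Set G)}
      one_mem' := ⟨one_mem A, fun c _ => by simp⟩
      mul_mem' := fun {a b} ha hb => ⟨mul_mem ha.1 hb.1, fun c hc' => by
        have e : ⁅a * b, c⁆ = ⁅b, c⁆ * ⁅a, c⁆ := by
          calc ⁅a * b, c⁆ = a * ⁅b, c⁆ * a⁻¹ * ⁅a, c⁆ := by
                simp [commutatorElement_def, mul_assoc]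
            _ = _ := by rw [hA'c b hb.1 c hc' a ha.1]
        rw [e]
        exact mul_mem (hb.2 c hc') (ha.2 c hc')⟩
      inv_mem' := fun {a} ha => ⟨inv_mem ha.1, fun c hc' => by
        have e : ⁅a⁻¹, c⁆ = ⁅a, c⁆⁻¹ := by
          calc ⁅a⁻¹, c⁆ = a⁻¹ * ⁅a, c⁆⁻¹ * a := by simp [commutatorElement_def, mul_assoc]
            _ = a⁻¹ * (a * ⁅a, c⁆⁻¹ * a⁻¹) * a := by
              rw [show a * ⁅a, c⁆⁻¹ * a⁻¹ = ⁅a, c⁆⁻¹ by
                rw [← conj_inv, hA'c a ha.1 c hc' a ha.1]]
            _ = _ := by group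
        rw [e]
        exact inv_mem (ha.2 c hc')⟩ }
  have hWA : W ≤ A := fun a ha => ha.1
  have hWnorm : ∀ h : G, (∀ x ∈ ⁅A, A⁆, x ∈ Subgroup.centralizer (B : Set G) →
      h * x * h⁻¹ ∈ Subgroup.centralizer (B : Set G)) → h ∈ Subgroup.normalizer (W : Set G) := by
    intro h hh
    refine mem_normalizer_of_cj_le ?_
    rintro _ ⟨a, ha, rfl⟩
    refine ⟨hA.normal.conj_mem a ha.1 h, fun c hc' => ?_⟩
    have hc'' : h⁻¹ * c * h ∈ A := hA.normal.conj_mem' c hc' h
    have := hh _ (Subgroup.commutator_mem_commutator ha.1 hc'') (ha.2 _ hc'')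
    simpa [commutatorElement_def, mul_assoc] using this
  have hBW : B ≤ Subgroup.normalizer (W : Set G) := fun b hb => hWnorm b fun x _ hx => by
    rw [Subgroup.mem_centralizer_iff.1 hx b hb, mul_inv_cancel_right]; exact hx
  have hEW : E ≤ Subgroup.normalizer (W : Set G) := fun e he => hWnorm e fun x hx hxB => by
    rw [← Subgroup.mem_centralizer_iff.1 he x hx, mul_inv_cancel_right]; exact hxB
  have hWB : ⁅B, W⁆ ≤ zOf B := by
    refine hB.2.2 W ?_ (hWA.trans hAR) hBW ?_ ?_
    · exact ((Subgroup.commutator_mono hWA hWA).trans hA.classTwo).trans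
        (Subgroup.centralizer_le hWA)
    · rw [Subgroup.commutator_eq_bot_iff_le_centralizer, Subgroup.le_centralizer_iff,
        Subgroup.commutator_le]
      exact fun a ha c hc' => ha.2 c (hWA hc')
    · refine le_bot_iff.1 ((Subgroup.commutator_mono
        (Subgroup.commutator_mono hzT hWA) hWA).trans ?_)
      exact (Subgroup.commutator_mono hA.comm le_rfl).trans (commutator_zOf_self A).le
  have hzW : A ⊓ zOf B ≤ W := by
    rintro x ⟨hxA, hxB⟩
    refine ⟨hxA, fun c hc' => ?_⟩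
    rw [mem_centralizer_set]
    intro b hb
    replace hb : b ∈ B := hb
    have hbc : ⁅b, c⁆ ∈ A ⊓ B := by
      have := hAB (Subgroup.commutator_mem_commutator hc' hb)
      rw [← commutatorElement_inv]; exact inv_mem this
    have hxb : b * x * b⁻¹ = x := by
      rw [Subgroup.mem_centralizer_iff.1 hxB.2 b hb, mul_inv_cancel_right]
    have hxd : ⁅x, ⁅b, c⁆⁆ = 1 := commutatorElement_eq_one_iff_mul_comm.2
      (Subgroup.mem_centralizer_iff.1 hxB.2 _ hbc.2).symm
    have key : b * ⁅x, c⁆ * b⁻¹ = ⁅x, c⁆ := by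
      calc b * ⁅x, c⁆ * b⁻¹ = ⁅b * x * b⁻¹, b * c * b⁻¹⁆ := by
            simp [commutatorElement_def, mul_assoc]
        _ = ⁅x, ⁅b, c⁆ * c⁆ := by rw [hxb]; simp [commutatorElement_def, mul_assoc]
        _ = ⁅x, ⁅b, c⁆⁆ * (⁅b, c⁆ * ⁅x, c⁆ * ⁅b, c⁆⁻¹) := by
            simp [commutatorElement_def, mul_assoc]
        _ = ⁅x, c⁆ := by rw [hxd, one_mul, hA'c x hxA c hc' _ hbc.1]
    calc ⁅x, c⁆ * b * ⁅x, c⁆⁻¹ = ⁅x, c⁆ * (b * ⁅x, c⁆⁻¹ * b⁻¹) * b := by group
      _ = b := by rw [← conj_inv, key]; group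
  set H := E ⊔ B
  have hgen : AtomsGenerate H U V := atomsGenerate_of_le_pCore (p := p) hc le_sup_left
    (sup_le (fun e he => by simp [(QuotientGroup.eq_one_iff e).2 he]) hBK)
  have hab : ⁅U, U⁆ ≤ V := ((Subgroup.commutator_mono hU hU).trans hA.derived_le).trans hV
  set Wu := (W ⊓ U) ⊔ V
  have hHWu : H ≤ Subgroup.normalizer (Wu : Set G) := by
    intro h hh
    have hhW : h ∈ Subgroup.normalizer (W : Set G) := (sup_le hEW hBW) hh
    rw [mem_normalizer_iff_cj, cj_sup, cj_inf, cj_eq_self hhW, cj_of_normal, cj_of_normal]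
  obtain ⟨C, hVC, hCU, hHC, hCW, hUC⟩ := exists_complement_inv hab hgen le_sup_right
    (sup_le inf_le_right hc.1.le) hHWu
  set π := QuotientGroup.mk' V
  set Z1 := U ⊓ (Subgroup.centralizer ((B.map π : Subgroup (G ⧸ V)) : Set (G ⧸ V))).comap π
  have hZ1 : ∀ y ∈ U, (∀ b ∈ B, ⁅y, b⁆ ∈ V) → y ∈ Z1 := by
    intro y hy h
    refine Subgroup.mem_inf.2 ⟨hy, ?_⟩
    rw [Subgroup.mem_comap, Subgroup.mem_centralizer_iff]
    rintro _ ⟨b, hb, rfl⟩
    refine (commutatorElement_eq_one_iff_mul_comm.1 ?_).symm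
    rw [← map_commutatorElement]
    exact (QuotientGroup.eq_one_iff _).2 (h b hb)
  have hZ1V : ⁅Z1, B⁆ ≤ V := by
    rw [Subgroup.commutator_le]
    intro y hy b hb
    rw [← QuotientGroup.ker_mk' V, MonoidHom.mem_ker, map_commutatorElement]
    exact commutatorElement_eq_one_iff_mul_comm.2
      (Subgroup.mem_centralizer_iff.1 hy.2 _ ⟨b, hb, rfl⟩).symm
  have hVZ1 : V ≤ Z1 := fun v hv => hZ1 v (hc.1.le hv) fun b _ => by
    have := mul_mem hv (hc.2.2.1.conj_mem _ (inv_mem hv) b)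
    simpa [commutatorElement_def, mul_assoc] using this
  have hUZ1 : U ≤ Subgroup.normalizer (Z1 : Set G) := by
    rw [Subgroup.le_normalizer_iff_commutator_le_left]
    exact ((Subgroup.commutator_mono inf_le_left le_rfl).trans hab).trans hVZ1
  have hW1 : ⁅W ⊓ U, B⁆ ≤ Z1 := by
    intro y hy
    have hyB : y ∈ zOf B := hWB (by
      rw [Subgroup.commutator_comm]
      exact Subgroup.commutator_mono inf_le_left le_rfl hy)
    refine hZ1 y ((Subgroup.commutator_le_left U B) (Subgroup.commutator_mono inf_le_right le_rfl hy))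
      fun b hb => ?_
    rw [commutatorElement_eq_one_iff_mul_comm.2 (Subgroup.mem_centralizer_iff.1 hyB.2 b hb).symm]
    exact one_mem V
  have hC1 : ⁅C, B⁆ ≤ Z1 := by
    have hCB : ⁅C, B⁆ ≤ C :=
      Subgroup.le_normalizer_iff_commutator_le_left.1 ((le_sup_right : B ≤ H).trans hHC)
    intro y hy
    refine hZ1 y (hCU (hCB hy)) fun b hb => ?_
    have h1 : ⁅y, b⁆ ∈ ⁅⁅C, B⁆, B⁆ := Subgroup.commutator_mem_commutator hy hb
    have h2 : ⁅y, b⁆ ∈ C := ((Subgroup.commutator_mono hCB le_rfl).trans hCB) h1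
    have h3 : ⁅y, b⁆ ∈ A ⊓ zOf B := hABB
      (Subgroup.commutator_mono (Subgroup.commutator_mono (hCU.trans hU) le_rfl) le_rfl h1)
    exact hCW.le ⟨h2, Subgroup.mem_sup_left ⟨hzW h3, hCU h2⟩⟩
  have hU1 : ⁅U, B⁆ ≤ Z1 := by
    refine (Subgroup.commutator_mono hUC le_rfl).trans (commutator_sup_le ?_ hC1
      ((sup_le (sup_le inf_le_right hc.1.le) hCU).trans hUZ1))
    refine commutator_sup_le hW1 ?_ ((sup_le inf_le_right hc.1.le).trans hUZ1)
    exact (Subgroup.commutator_le_left V B).trans hVZ1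
  exact (Subgroup.commutator_mono (Subgroup.commutator_mono le_rfl (Subgroup.zpowers_le.2 hg₀))
    (Subgroup.zpowers_le.2 hg₀)).trans ((Subgroup.commutator_mono hU1 le_rfl).trans hZ1V)

end Cfsg.Agent.Fusion
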