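import Mathlib
import Cfsg.Agent.Lib.Fusion.KInfFamilies
import Cfsg.Agent.Lib.Fusion.Reduction

/-!
# Non-normal K-infinity subgroups give elements with small commutators
-/

set_option autoImplicit false

universe u

namespace Cfsg.Agent.Fusion

variable {G : Type u} [Group G] [Finite G] {p : ℕ} [hp : Fact p.Prime]

theorem kInf_normal_of_no_witness {S : Subgroup G} (hS : SylIn p S ⊤) {A : Subgroup G}
    (hA : CriticalIn p A) (hno : ∀ g, ¬ KWitness p S A g) :
    (inducedFunctor kInfLower S).Normal ∧ (inducedFunctor kInfUpper S).Normal := by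
  set T := pCore p G
  have hTS : T ≤ S := pCore_le_sylIn hS
  have hAS : A ≤ S := hA.le.trans hTS
  have hf : Function.Injective S.subtype := S.subtype_injective
  set A₀ := A.subgroupOf S
  have hA₀ : A₀.map S.subtype = A := Subgroup.map_subgroupOf_eq_of_le hAS
  have hE : ∀ n, A₀ ≤ kSeqOdd S n →
      (kSeqEven S n).map S.subtype ≤ T ∧ A₀ ≤ kSeqEven S n := by
    intro n hn
    have hR : A ≤ (kSeqOdd S n).map S.subtype := hA₀ ▸ Subgroup.map_mono hn
    refine ⟨?_, le_sSup ?_⟩
    · rw [Subgroup.map_le_iff_le_comap]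
      refine sSup_le fun B hB => Subgroup.map_le_iff_le_comap.1 ?_
      by_contra hBT
      obtain ⟨g, hg⟩ := hA.lower_member (Subgroup.map_subtype_le B) hR
        ((lower_map_iff S.subtype hf).2 hB) hBT
      exact hno g hg
    · rw [← lower_map_iff S.subtype hf, hA₀]
      exact hA.mem_lower (Subgroup.map_subtype_le _) hno
  have hO : ∀ n, A₀ ≤ kSeqOdd S n := by
    intro n
    induction n with
    | zero => exact le_top
    | succ n ih =>
      rw [kSeqOdd_succ]
      refine le_sSup ?_
      rw [← upper_map_iff S.subtype hf, hA₀]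
      exact hA.mem_upper (hE n ih).1
  have hU : ∀ n, (kSeqOdd S (n + 1)).map S.subtype ≤ T := by
    intro n
    rw [kSeqOdd_succ, Subgroup.map_le_iff_le_comap]
    refine sSup_le fun B hB => Subgroup.map_le_iff_le_comap.1 ?_
    by_contra hBT
    obtain ⟨g, hg⟩ := hA.upper_member (Subgroup.map_subtype_le B)
      (hA₀ ▸ Subgroup.map_mono (hE n (hO n)).2) ((upper_map_iff S.subtype hf).2 hB) hBT
    exact hno g hg
  set f := Subgroup.inclusion hTS
  have hrange : ∀ X : Subgroup S, X.map S.subtype ≤ T → X ≤ f.range := fun X hX x hx =>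
    ⟨⟨x, hX ⟨x, hx, rfl⟩⟩, Subtype.ext rfl⟩
  obtain ⟨hlo, hup⟩ := map_kInf_of_le f (Subgroup.inclusion_injective hTS)
    (fun n => ⟨hrange _ (hE n (hO n)).1, hrange _ (hU n)⟩)
  have hsub : S.subtype.comp f = T.subtype := rfl
  have hTp : IsPGroup p T := isPGroup_pCore p G
  constructor
  · show ((kInfLower S).map S.subtype).Normal
    rw [← hlo, Subgroup.map_map, hsub]
    haveI : (kInfLower T).Characteristic := Subgroup.characteristic_iff_map_eq.2 fun e =>
      (isCharPFunctor_kInfLower p).2 T T hTp e
    exact ConjAct.normal_of_characteristic_of_normal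
  · show ((kInfUpper S).map S.subtype).Normal
    rw [← hup, Subgroup.map_map, hsub]
    haveI : (kInfUpper T).Characteristic := Subgroup.characteristic_iff_map_eq.2 fun e =>
      (isCharPFunctor_kInfUpper p).2 T T hTp e
    exact ConjAct.normal_of_characteristic_of_normal

theorem exists_kWitness {S : Subgroup G} (hS : SylIn p S ⊤) {A : Subgroup G} (hA : CriticalIn p A)
    (hK : ¬ (inducedFunctor kInfLower S).Normal ∨ ¬ (inducedFunctor kInfUpper S).Normal) :
    ∃ g, KWitness p S A g := by
  by_contra h
  push Not at h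
  have := kInf_normal_of_no_witness hS hA h
  tauto

end Cfsg.Agent.Fusion
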