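import Mathlib
import Cfsg.Prelude.Def_LocalEven
import Cfsg.Agent.Lib.Fusion.ChiefCommutator
import Cfsg.Agent.Lib.Fusion.Critical
import Cfsg.Agent.Lib.Fusion.KInfWitness

/-!
# Quadratic action on chief factors and stability
-/

set_option autoImplicit false

open scoped commutatorElement

universe u

namespace Cfsg.Agent.Fusion

/-- A normal subgroup inducing a `p`-group on a minimal normal `p`-subgroup centralizes it. -/
theorem centralizes_of_minimal {H : Type*} [Group H] [Finite H] {p : ℕ} [hp : Fact p.Prime]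
    {P D : Subgroup H} [P.Normal] (hP : IsPGroup p P) (hP1 : P ≠ ⊥)
    (hmin : ∀ N : Subgroup H, N.Normal → N ≤ P → N = ⊥ ∨ N = P) [hD : D.Normal]
    (hDp : ∀ d ∈ D, ∃ k, d ^ p ^ k ∈ Subgroup.centralizer (P : Set H)) :
    D ≤ Subgroup.centralizer (P : Set H) := by
  set f : D →* MulAut P := (MulAut.conjNormal : H →* MulAut P).comp D.subtype
  have happ : ∀ (d : D) (x : P), (f d x : H) = (d : H) * x * (d : H)⁻¹ := fun d x =>
    MulAut.conjNormal_apply _ _
  have hr : IsPGroup p f.range := by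
    rintro ⟨_, d, rfl⟩
    obtain ⟨k, hk⟩ := hDp d d.2
    refine ⟨k, Subtype.ext ?_⟩
    show f d ^ p ^ k = 1
    rw [← map_pow]
    ext x
    rw [happ, SubmonoidClass.coe_pow, MulAut.one_apply]
    exact mem_centralizer_set.1 hk x x.2
  have hdvd : p ∣ Nat.card P := by
    obtain ⟨n, hn⟩ := IsPGroup.iff_card.1 hP
    rcases n with - | n
    · exact absurd (Subgroup.card_eq_one.1 (by simpa using hn)) hP1
    · exact hn ▸ dvd_pow_self p (Nat.succ_ne_zero n)
  obtain ⟨b, hb, hne⟩ := hr.exists_fixed_point_of_prime_dvd_card_of_fixed_point P hdvd (a := 1)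
    fun φ => map_one (φ : MulAut P)
  have hn : (P ⊓ Subgroup.centralizer (D : Set H)).Normal :=
    haveI := Subgroup.normal_centralizer (H := D)
    Subgroup.normal_inf_normal _ _
  rcases hmin _ hn inf_le_left with h | h
  · refine absurd (Subtype.ext ?_) hne
    refine (Subgroup.mem_bot.1 (h.le ⟨b.2, ?_⟩)).symm
    intro d hd
    have h1 : (f ⟨d, hd⟩ b : H) = b := congrArg Subtype.val (hb ⟨f ⟨d, hd⟩, ⟨d, hd⟩, rfl⟩)
    rw [happ] at h1
    calc d * (b : H) = (d * b * d⁻¹) * d := by group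
      _ = b * d := by rw [h1]
  · exact Subgroup.le_centralizer_iff.1 (inf_eq_left.1 h)

variable {G : Type*} [Group G] [Finite G] {p : ℕ} [hp : Fact p.Prime]

/-- A quadratic nontrivial action on a chief `p`-factor gives a quotient that is not stable. -/
theorem exists_not_stable {U V : Subgroup G} (hc : IsChiefFactor U V) (hU : IsPGroup p U) {g : G}
    (h2 : ⁅⁅U, Subgroup.zpowers g⁆, Subgroup.zpowers g⁆ ≤ V)
    (h1 : ¬ ⁅U, Subgroup.zpowers g⁆ ≤ V) :
    ∃ (N : Subgroup G) (_ : N.Normal), ¬ IsNormalizerPStable p (G ⧸ N) := by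
  obtain ⟨hlt, hUn, hVn, hmin⟩ := hc
  haveI := hUn
  refine ⟨V, hVn, fun hst => h1 ?_⟩
  set π := QuotientGroup.mk' V
  have hπ : Function.Surjective π := QuotientGroup.mk'_surjective V
  haveI hPn : (U.map π).Normal := hUn.map π hπ
  have hker : π.ker = V := QuotientGroup.ker_mk' V
  have hzp : ∀ x : G, (Subgroup.zpowers x).map π = Subgroup.zpowers (π x) := fun x =>
    MonoidHom.map_zpowers π x
  have hle : ∀ X : Subgroup G, X ≤ V → X.map π = ⊥ := fun X hX =>
    (Subgroup.map_eq_bot_iff _).2 (hX.trans hker.ge)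
  have hq : ⁅⁅U.map π, Subgroup.zpowers (π g)⁆, Subgroup.zpowers (π g)⁆ = ⊥ := by
    rw [← hzp, ← Subgroup.map_commutator, ← Subgroup.map_commutator]
    exact hle _ h2
  set N := Subgroup.normalizer (U.map π : Set (G ⧸ V))
  have hN : N = ⊤ := Subgroup.normalizer_eq_top (U.map π)
  have hg := hst (U.map π) (hU.map π) (π g) (hN.ge trivial) hq
  set C := Subgroup.centralizer (U.map π : Set (G ⧸ V))
  set D := ((pCore p (N ⧸ C.subgroupOf N)).comap (QuotientGroup.mk' _)).map N.subtype
  haveI : D.Normal := Subgroup.Normal.map inferInstance N.subtype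
    fun x => ⟨⟨x, hN.ge trivial⟩, rfl⟩
  have hP1 : U.map π ≠ ⊥ := fun h => hlt.not_ge (((Subgroup.map_eq_bot_iff U).1 h).trans hker.le)
  have hPmin : ∀ M : Subgroup (G ⧸ V), M.Normal → M ≤ U.map π → M = ⊥ ∨ M = U.map π := by
    intro M hM hMU
    have hback : (M.comap π).map π = M := Subgroup.map_comap_eq_self_of_surjective hπ M
    refine (hmin _ (hM.comap π) (hker.ge.trans (Subgroup.ker_le_comap π M)) ?_).imp (fun h => ?_)
      (fun h => by rw [← hback, h])
    · refine (Subgroup.comap_mono hMU).trans ?_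
      rw [Subgroup.comap_map_eq, hker]
      exact sup_le le_rfl hlt.le
    · rw [← hback, h]
      exact hle V le_rfl
  have hDC : D ≤ C := centralizes_of_minimal (hU.map π) hP1 hPmin fun d hd => by
    obtain ⟨n, hn, rfl⟩ := hd
    obtain ⟨k, hk⟩ := isPGroup_pCore p _ ⟨_, hn⟩
    refine ⟨k, ?_⟩
    have : (QuotientGroup.mk' (C.subgroupOf N)) (n ^ p ^ k) = 1 := by
      rw [map_pow]; exact congrArg Subtype.val hk
    have h' := (QuotientGroup.eq_one_iff (n ^ p ^ k)).1 this
    exact Subgroup.mem_subgroupOf.1 h'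
  have hgC : π g ∈ C := hDC ⟨⟨π g, hN.ge trivial⟩, hg, rfl⟩
  rw [← hker, ← Subgroup.map_eq_bot_iff, Subgroup.map_commutator, hzp,
    Subgroup.commutator_eq_bot_iff_le_centralizer, Subgroup.le_centralizer_iff,
    Subgroup.zpowers_le]
  exact hgC

/-- The `p`-core contains a critical subgroup in the sense of `CriticalIn`. -/
theorem exists_criticalIn :
    ∃ A : Subgroup G, CriticalIn p A ∧
      pCore p G ⊓ Subgroup.centralizer (A : Set G) = zOf A := by
  set T := pCore p G
  have hT : IsPGroup p T := isPGroup_pCore p G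
  obtain ⟨H, hc, hpow, hcomm, hC⟩ := exists_critical hT
  haveI := hc
  have hz : ∀ x : T, x ∈ zOf H → (x : G) ∈ zOf (H.map T.subtype) := fun x hx => by
    refine ⟨⟨x, hx.1, rfl⟩, ?_⟩
    rintro _ ⟨y, hy, rfl⟩
    exact congrArg Subtype.val (hx.2 y hy)
  have hcomm' : ⁅T, H.map T.subtype⁆ ≤ zOf (H.map T.subtype) := by
    rw [Subgroup.commutator_le]
    rintro t ht _ ⟨y, hy, rfl⟩
    have hmem : ⁅(⟨t, ht⟩ : T), y⁆ ∈ zOf H := by
      have h := Subgroup.commutator_mem_commutator (H₁ := (⊤ : Subgroup T)) (H₂ := H)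
        (Subgroup.mem_top ⟨t, ht⟩) hy
      rw [Subgroup.commutator_comm] at h
      exact hcomm h
    exact hz _ hmem
  refine ⟨H.map T.subtype, ⟨ConjAct.normal_of_characteristic_of_normal, Subgroup.map_subtype_le H,
    ((Subgroup.commutator_mono (Subgroup.map_subtype_le H) le_rfl).trans hcomm').trans inf_le_right,
    hcomm', fun φ hφ hfix => aut_eq_one_of_fix hT hC φ hφ fun x hx => hfix x ⟨x, hx, rfl⟩⟩, ?_⟩
  refine le_antisymm ?_ (inf_le_inf_right _ (Subgroup.map_subtype_le H))
  rintro x ⟨hxT, hx⟩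
  exact ⟨⟨⟨x, hxT⟩, hC (fun y hy => Subtype.ext (hx _ ⟨y, hy, rfl⟩)), rfl⟩, hx⟩

/-- A non-normal K-infinity subgroup gives an element acting with small degree on the `p`-core. -/
theorem exists_kInf_element {G : Type u} [Group G] [Finite G] {S : Subgroup G} (hS : SylIn p S ⊤)
    (hK : ¬ (inducedFunctor kInfLower S).Normal ∨ ¬ (inducedFunctor kInfUpper S).Normal) :
    ∃ g : G, g ∈ S ∧ g ∉ pCore p G ∧
      (∀ U V : Subgroup G, IsChiefFactor U V → U ≤ pCore p G →
        iterCommutator U (Subgroup.zpowers g) 4 ≤ V) ∧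
      ⁅⁅pCore p G ⊓ Subgroup.centralizer (pCore p G : Set G), Subgroup.zpowers g⁆,
        Subgroup.zpowers g⁆ = ⊥ ∧
      (Subgroup.centralizer (pCore p G : Set G) ≤ pCore p G →
        ∃ (N : Subgroup G) (_ : N.Normal), ¬ IsNormalizerPStable p (G ⧸ N)) := by
  obtain ⟨A, hA, hA4⟩ := exists_criticalIn (G := G) (p := p)
  haveI := hA.normal
  haveI : (zOf A).Normal := zOf_normal
  obtain ⟨g, hgS, hgT, h3, h2, hch⟩ := exists_kWitness hS hA hK
  refine ⟨g, hgS, hgT, fun U V hc hU => ?_, ?_, fun hC => ?_⟩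
  · refine iter_chief_of_critical (pCore p G) (isPGroup_pCore p G) A hA.le hA.comm hA4 g 3 2
      (by omega) (by omega) (fun U V hc hU => ?_) (fun U V hc hU => ?_) hc hU
    · haveI := hc.2.1
      haveI := hc.2.2.1
      have hle : iterCommutator U (Subgroup.zpowers g) 3 ≤ U ⊓ zOf A :=
        le_inf (iter_le_normal le_rfl 3) ((iter_mono hU 3).trans h3)
      rcases hc.2.2.2 ((U ⊓ zOf A) ⊔ V) inferInstance le_sup_right
        (sup_le inf_le_left hc.1.le) with h | h
      · exact hle.trans (le_sup_left.trans h.le)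
      · refine (iter_mono h.ge 3).trans ((iter_sup_normal_le 3).trans (sup_le ?_ le_rfl))
        refine (iter_mono inf_le_right 3).trans ((Subgroup.commutator_mono h2.le le_rfl).trans ?_)
        rw [Subgroup.commutator_bot_left]; exact bot_le
    · exact (iter_mono hU 2).trans (h2.le.trans bot_le)
  · refine le_bot_iff.1 ((Subgroup.commutator_mono (Subgroup.commutator_mono ?_ le_rfl)
      le_rfl).trans h2.le)
    exact (inf_le_inf_left _ (Subgroup.centralizer_le hA.le)).trans hA4.le
  · obtain ⟨U, V, hc, hU, h2', hne⟩ := hch hC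
    exact exists_not_stable hc (hA.isPGroup.to_le hU) h2' hne

end Cfsg.Agent.Fusion
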