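import Mathlib
import Cfsg.Agent.Lib.Fusion.Basic

/-!
# A quadratic element normalizing an abelian group of order prime to `p`
-/

set_option autoImplicit false

open scoped commutatorElement

namespace Cfsg.Agent.Fusion

/-- In characteristic `p > 2`, a quadratic unit commutes with an element of order prime to `p`
whose conjugates by it commute. -/
theorem quadratic_commute {R : Type*} [Ring R] {p : ℕ} [hp : Fact p.Prime] [CharP R p] (hp2 : p ≠ 2)
    {e a : R} {N : ℕ} (he : e * e = 0) (hN : N.Coprime p) (ha : a ^ N = 1)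
    (h1 : Commute a ((1 + e) * a * (1 - e))) (h2 : Commute a ((1 - e) * a * (1 + e)))
    (h12 : Commute ((1 + e) * a * (1 - e)) ((1 - e) * a * (1 + e))) :
    (1 + e) * a = a * (1 + e) := by
  have hpos : 0 < N := by
    rcases N.eq_zero_or_pos with h | h
    · subst h; simp [hp.out.ne_one] at hN
    · exact h
  obtain ⟨m, hm0, hm⟩ : ∃ m, 0 < m ∧ p ^ m ≡ 1 [MOD N] :=
    ⟨N.totient, Nat.totient_pos.2 hpos, Nat.ModEq.pow_totient hN.symm⟩
  have hpow : ∀ z : R, z ^ N = 1 → z ^ p ^ m = z := fun z hz => by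
    rw [← pow_mod_orderOf, show p ^ m % orderOf z = 1 % orderOf z from
      hm.of_dvd (orderOf_dvd_of_pow_eq_one hz), pow_mod_orderOf, pow_one]
  have hu : (1 + e) * (1 - e) = 1 := by
    rw [mul_sub, mul_one, add_mul, one_mul, he]; abel
  have hv : (1 - e) * (1 + e) = 1 := by
    rw [mul_add, mul_one, sub_mul, one_mul, he]; abel
  have conjpow : ∀ u v : R, v * u = 1 → u * v = 1 → ∀ (z : R) (k : ℕ),
      (u * z * v) ^ k = u * z ^ k * v := by
    intro u v hvu huv z k
    induction k with
    | zero => simp [huv]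
    | succ k ih =>
      calc (u * z * v) ^ (k + 1) = u * z ^ k * (v * u) * z * v := by
            rw [pow_succ, ih]; simp only [mul_assoc]
        _ = u * z ^ (k + 1) * v := by rw [hvu, mul_one, pow_succ]; simp only [mul_assoc]
  set a1 := (1 + e) * a * (1 - e) with ha1
  set a2 := (1 - e) * a * (1 + e) with ha2
  have ha1N : a1 ^ N = 1 := by rw [ha1, conjpow _ _ hv hu, ha, mul_one, hu]
  have ha2N : a2 ^ N = 1 := by rw [ha2, conjpow _ _ hu hv, ha, mul_one, hv]
  have hnil : ∀ z : R, z * z = 0 → z ^ p ^ m = 0 := fun z hz => by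
    obtain ⟨c, hc⟩ : ∃ c, p ^ m = c + 2 := Nat.exists_eq_add_of_le'
      (hp.out.two_le.trans (Nat.le_self_pow hm0.ne' p))
    rw [hc, pow_add, sq, hz, mul_zero]
  have hx2 : a1 + a2 - (a + a) = -(e * a * e + e * a * e) := by
    rw [ha1, ha2]; noncomm_ring
  have heae : e * a * e = 0 := by
    have hsq : (a1 + a2 - (a + a)) * (a1 + a2 - (a + a)) = 0 := by
      rw [hx2]
      have : e * a * e * (e * a * e) = 0 := by
        calc e * a * e * (e * a * e) = e * a * (e * e) * a * e := by simp only [mul_assoc]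
          _ = 0 := by rw [he]; simp
      rw [neg_mul_neg, add_mul, mul_add, this]; simp
    have hz : a1 + a2 - (a + a) = 0 := by
      have h := hnil _ hsq
      rwa [sub_pow_char_pow_of_commute (p := p) (h := ((h1.symm.add_left h2.symm)).add_right
          (h1.symm.add_left h2.symm)),
        add_pow_char_pow_of_commute (p := p) (h := h12), add_pow_char_pow_of_commute (p := p) (h := Commute.refl a),
        hpow _ ha1N, hpow _ ha2N, hpow _ ha] at h
    rw [hx2, neg_eq_zero, ← two_mul] at hz
    have h2u : IsUnit (2 : R) := by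
      have : ((2 : ℕ) : R) = 2 := Nat.cast_ofNat
      rw [← this, CharP.isUnit_natCast_iff hp.out]
      exact fun hd => hp2 ((Nat.prime_dvd_prime_iff_eq hp.out Nat.prime_two).1 hd)
    exact h2u.mul_right_eq_zero.1 hz
  have ha1e : a1 - a = e * a - a * e := by
    have : (1 + e) * a * (1 - e) = a + e * a - a * e - e * a * e := by noncomm_ring
    rw [ha1, this, heae]; abel
  have heaae : e * (a * a) * e = 0 := by
    calc e * (a * a) * e = (e * a - a * e) * a * e + a * (e * a * e) := by noncomm_ring
      _ = a * (e * a - a * e) * e + a * (e * a * e) := by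
          rw [show (e * a - a * e) * a = a * (e * a - a * e) by
            rw [← ha1e]; exact (h1.symm.sub_left (Commute.refl a)).eq]
      _ = a * (e * a * e) + a * (e * a * e) - a * a * (e * e) := by noncomm_ring
      _ = 0 := by rw [heae, he]; simp
  have hy : a1 - a = 0 := by
    have hsq : (a1 - a) * (a1 - a) = 0 := by
      rw [ha1e]
      calc (e * a - a * e) * (e * a - a * e) =
          (e * a * e) * a - e * (a * a) * e - a * (e * e) * a + a * (e * a * e) := by noncomm_ring
        _ = 0 := by rw [heae, heaae, he]; simp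
    have h := hnil _ hsq
    rwa [sub_pow_char_pow_of_commute (p := p) (h := h1.symm), hpow _ ha1N, hpow _ ha] at h
  have h3 : a1 = a := sub_eq_zero.1 hy
  calc (1 + e) * a = a1 * (1 + e) := by rw [ha1, mul_assoc, hv, mul_one]
    _ = _ := by rw [h3]

variable {H : Type*} [Group H] {p : ℕ} [hp : Fact p.Prime]

/-- The group form of `quadratic_commute`. -/
theorem commutator_mem_centralizer_of_quadratic (hp2 : p ≠ 2) {P : Subgroup H} [P.Normal]
    (hab : ∀ x ∈ P, ∀ y ∈ P, x * y = y * x) (hexp : ∀ x ∈ P, x ^ p = 1) {g a : H} {N : ℕ}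
    (hq : ⁅⁅P, Subgroup.zpowers g⁆, Subgroup.zpowers g⁆ = ⊥)
    (hN : N.Coprime p) (ha : a ^ N ∈ Subgroup.centralizer (P : Set H))
    (h1 : ⁅a, g * a * g⁻¹⁆ ∈ Subgroup.centralizer (P : Set H))
    (h2 : ⁅a, g⁻¹ * a * g⁆ ∈ Subgroup.centralizer (P : Set H))
    (h12 : ⁅g * a * g⁻¹, g⁻¹ * a * g⁆ ∈ Subgroup.centralizer (P : Set H)) :
    ⁅g, a⁆ ∈ Subgroup.centralizer (P : Set H) := by
  rcases eq_or_ne P ⊥ with rfl | hP
  · rw [mem_centralizer_set]
    intro t ht
    simp [Subgroup.mem_bot.1 ht, commutatorElement_def, mul_assoc]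
  letI : CommGroup P := { (inferInstance : Group P) with
    mul_comm := fun x y => Subtype.ext (hab x x.2 y y.2) }
  let ψ : H →* AddMonoid.End (Additive P) :=
    { toFun := fun h => MonoidHom.toAdditive (MulAut.conjNormal h : MulAut P).toMonoidHom
      map_one' := by
        refine DFunLike.ext _ _ fun x => ?_
        show Additive.ofMul ((MulAut.conjNormal (1 : H)) x.toMul) = x
        rw [map_one]; rfl
      map_mul' := fun h k => by
        refine DFunLike.ext _ _ fun x => ?_
        show Additive.ofMul ((MulAut.conjNormal (h * k)) x.toMul) =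
          Additive.ofMul ((MulAut.conjNormal h) ((MulAut.conjNormal k) x.toMul))
        rw [map_mul]; rfl }
  have hψ : ∀ (h : H) (x : Additive P), (((ψ h) x).toMul : H) = h * (x.toMul : H) * h⁻¹ :=
    fun h x => MulAut.conjNormal_apply _ _
  have hker : ∀ h : H, ψ h = 1 ↔ h ∈ Subgroup.centralizer (P : Set H) := by
    intro h
    rw [mem_centralizer_set]
    constructor
    · intro he t ht
      have := hψ h (Additive.ofMul ⟨t, ht⟩)
      rw [he] at this
      exact this.symm
    · exact fun he => DFunLike.ext _ _ fun x =>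
        Additive.toMul.injective (Subtype.ext ((hψ h x).trans (he _ x.toMul.2)))
  haveI : Nontrivial P := (Subgroup.nontrivial_iff_ne_bot P).2 hP
  have hp0 : (p : AddMonoid.End (Additive P)) = 0 := by
    refine DFunLike.ext _ _ fun x => ?_
    rw [AddMonoid.End.natCast_apply]
    exact Additive.toMul.injective (Subtype.ext (by simpa using hexp _ x.toMul.2))
  haveI : Nontrivial (AddMonoid.End (Additive P)) := by
    obtain ⟨x, hx⟩ := exists_ne (0 : Additive P)
    exact ⟨⟨1, 0, fun h => hx (DFunLike.congr_fun h x)⟩⟩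
  haveI : CharP (AddMonoid.End (Additive P)) p := by
    obtain ⟨c, hc⟩ := CharP.exists (AddMonoid.End (Additive P))
    have hd : c ∣ p := (CharP.cast_eq_zero_iff _ c p).1 hp0
    rcases (Nat.dvd_prime hp.out).1 hd with rfl | rfl
    · exact absurd rfl (CharP.char_ne_one (AddMonoid.End (Additive P)) 1)
    · exact hc
  set e := ψ g - 1 with hedef
  have hee : e * e = 0 := by
    refine DFunLike.ext _ _ fun x => ?_
    have key : ∀ y : Additive P, (((e y).toMul : P) : H) = ⁅g, (y.toMul : H)⁆ := fun y => by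
      rw [hedef]
      show ((((ψ g) y - y).toMul : P) : H) = _
      rw [toMul_sub, Subgroup.coe_div, hψ, commutatorElement_def, div_eq_mul_inv]
    refine Additive.toMul.injective (Subtype.ext ?_)
    show (((e (e x)).toMul : P) : H) = 1
    rw [key, ← inv_inj, inv_one, commutatorElement_inv, ← Subgroup.mem_bot, ← hq]
    refine Subgroup.commutator_mem_commutator ?_ (Subgroup.mem_zpowers g)
    rw [key, ← inv_mem_iff, commutatorElement_inv]
    exact Subgroup.commutator_mem_commutator x.toMul.2 (Subgroup.mem_zpowers g)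
  have hg1 : ψ g = 1 + e := by rw [hedef]; abel
  have hgi : ψ g⁻¹ = 1 - e := by
    have h : ψ g⁻¹ * ψ g = 1 := by rw [← map_mul, inv_mul_cancel, map_one]
    calc ψ g⁻¹ = ψ g⁻¹ * ((1 + e) * (1 - e)) := by
          rw [show (1 + e) * (1 - e) = 1 by rw [mul_sub, mul_one, add_mul, one_mul, hee]; abel,
            mul_one]
      _ = 1 - e := by rw [← mul_assoc, ← hg1, h, one_mul]
  have hcomm : ∀ x y : H, ⁅x, y⁆ ∈ Subgroup.centralizer (P : Set H) → Commute (ψ x) (ψ y) := by
    intro x y h
    show ψ x * ψ y = ψ y * ψ x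
    rw [← map_mul, ← map_mul, show x * y = ⁅x, y⁆ * (y * x) by rw [commutatorElement_def]; group,
      map_mul, (hker _).2 h, one_mul]
  have hconj1 : ψ (g * a * g⁻¹) = (1 + e) * ψ a * (1 - e) := by
    rw [map_mul, map_mul, hg1, hgi]
  have hconj2 : ψ (g⁻¹ * a * g) = (1 - e) * ψ a * (1 + e) := by
    rw [map_mul, map_mul, hg1, hgi]
  have := quadratic_commute hp2 hee hN (by rw [← map_pow]; exact (hker _).2 ha)
    (hconj1 ▸ hcomm _ _ h1) (hconj2 ▸ hcomm _ _ h2) (hconj1 ▸ hconj2 ▸ hcomm _ _ h12)
  rw [← hg1] at this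
  refine (hker _).1 ?_
  rw [commutatorElement_def, map_mul, map_mul, map_mul, this, mul_assoc (ψ a), ← map_mul, mul_inv_cancel,
    map_one, mul_one, ← map_mul, mul_inv_cancel, map_one]

end Cfsg.Agent.Fusion
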