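import Mathlib
import Cfsg.Prelude.Def_PLocal

/-!
# Images of commutator chains and centres
-/

set_option autoImplicit false

open scoped commutatorElement

namespace Cfsg.Agent.Fusion

variable {G : Type*} [Group G]

theorem iterCommutator_map {H G' : Type*} [Group H] [Group G'] (f : H →* G') (U V : Subgroup H) :
    ∀ n, (iterCommutator U V n).map f = iterCommutator (U.map f) (V.map f) n
  | 0 => rfl
  | n + 1 => by
    show (⁅iterCommutator U V n, V⁆).map f = ⁅iterCommutator (U.map f) (V.map f) n, V.map f⁆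
    rw [Subgroup.map_commutator, iterCommutator_map f U V n]

theorem map_subtype_inf_centralizer (H : Subgroup G) (X : Subgroup H) :
    (X ⊓ Subgroup.centralizer (X : Set H)).map H.subtype =
      X.map H.subtype ⊓ Subgroup.centralizer (X.map H.subtype : Set G) := by
  ext x
  constructor
  · rintro ⟨y, hy, rfl⟩
    refine ⟨⟨y, hy.1, rfl⟩, ?_⟩
    rintro _ ⟨z, hz, rfl⟩
    exact congrArg Subtype.val (hy.2 z hz)
  · rintro ⟨⟨y, hy, rfl⟩, hc⟩
    exact ⟨y, ⟨hy, fun z hz => Subtype.ext (hc _ ⟨z, hz, rfl⟩)⟩, rfl⟩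

end Cfsg.Agent.Fusion
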