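import Mathlib
import Cfsg.Agent.Lib.Fusion.QuadraticCoprime
import Cfsg.Agent.Lib.Fusion.DegreeCoprime
import Cfsg.Agent.Lib.Fusion.SubgroupMap
import Cfsg.Agent.Lib.Fusion.NotStable
import Cfsg.Agent.Lib.Fusion.NPC
import Cfsg.Agent.Lib.Fusion.Reduction

/-!
# Groups with a maximal Sylow subgroup and a normal complement modulo the core
-/

set_option autoImplicit false

open scoped commutatorElement

universe u

namespace Cfsg.Agent.Fusion

theorem pow_prime_eq_one_of_minimal {Y : Type*} [Group Y] [Finite Y] {p : ℕ} [hp : Fact p.Prime]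
    {P : Subgroup Y} [P.Normal] (hP : IsPGroup p P) (hP1 : P ≠ ⊥)
    (hmin : ∀ N : Subgroup Y, N.Normal → N ≤ P → N = ⊥ ∨ N = P)
    (hab : ∀ x ∈ P, ∀ y ∈ P, x * y = y * x) : ∀ x ∈ P, x ^ p = 1 := by
  let M : Subgroup Y :=
    { carrier := {x | x ∈ P ∧ x ^ p = 1}
      one_mem' := ⟨one_mem _, one_pow p⟩
      mul_mem' := fun {a b} ha hb => ⟨mul_mem ha.1 hb.1, by
        rw [Commute.mul_pow (hab a ha.1 b hb.1), ha.2, hb.2, one_mul]⟩
      inv_mem' := fun {a} ha => ⟨inv_mem ha.1, by rw [inv_pow, ha.2, inv_one]⟩ }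
  have hM : M.Normal := ⟨fun x hx k => ⟨(inferInstance : P.Normal).conj_mem x hx.1 k, by
    rw [conj_pow, hx.2, mul_one, mul_inv_cancel]⟩⟩
  rcases hmin M hM (fun x hx => hx.1) with h | h
  · exfalso
    haveI : Fintype P := Fintype.ofFinite _
    have hdvd : p ∣ Nat.card P := by
      obtain ⟨m, hm⟩ := IsPGroup.iff_card.1 hP
      rcases m with - | m
      · exact absurd (Subgroup.card_eq_one.1 (by simpa using hm)) hP1
      · exact hm ▸ dvd_pow_self p (Nat.succ_ne_zero m)
    obtain ⟨x, hx⟩ := exists_prime_orderOf_dvd_card' p hdvd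
    have hxM : (x : Y) ∈ M := ⟨x.2, by
      rw [← SubmonoidClass.coe_pow, ← hx, pow_orderOf_eq_one]; rfl⟩
    rw [h, Subgroup.mem_bot] at hxM
    have hx1 : x = 1 := Subtype.ext hxM
    rw [hx1, orderOf_one] at hx
    exact hp.out.ne_one hx.symm
  · exact fun x hx => (h.ge hx).2

theorem quadratic_pow_centralizes {Y : Type*} [Group Y] {p : ℕ}
    {P : Subgroup Y} {g x : Y} (hq : ⁅⁅P, Subgroup.zpowers g⁆, Subgroup.zpowers g⁆ = ⊥)
    (hab : ∀ x ∈ P, ∀ y ∈ P, x * y = y * x) (hexp : ∀ x ∈ P, x ^ p = 1)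
    (hgP : g ∈ Subgroup.normalizer (P : Set Y)) (hx : x ∈ P) : g ^ p * x * (g ^ p)⁻¹ = x := by
  have := hab
  have h1 : ⁅g, x⁆ ∈ ⁅P, Subgroup.zpowers g⁆ := by
    rw [Subgroup.commutator_comm]
    exact Subgroup.commutator_mem_commutator (Subgroup.mem_zpowers g) hx
  have hqP : ⁅g, x⁆ ∈ P :=
    (Subgroup.le_normalizer_iff_commutator_le_left.1 (Subgroup.zpowers_le.2 hgP)) h1
  have hgq : Commute g ⁅g, x⁆ := Subgroup.mem_centralizer_iff.1
    (Subgroup.commutator_eq_bot_iff_le_centralizer.1 hq h1) g (Subgroup.mem_zpowers g)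
  set q := ⁅g, x⁆ with hqdef
  have hge : g * x * g⁻¹ = q * x := by rw [hqdef, commutatorElement_def]; group
  have hpow : ∀ k : ℕ, g ^ k * x * (g ^ k)⁻¹ = q ^ k * x := by
    intro k
    induction k with
    | zero => simp
    | succ k ih =>
      calc g ^ (k + 1) * x * (g ^ (k + 1))⁻¹ = g * (g ^ k * x * (g ^ k)⁻¹) * g⁻¹ := by
            rw [pow_succ']; group
        _ = (g * q ^ k) * x * g⁻¹ := by rw [ih]; group
        _ = q ^ k * (g * x * g⁻¹) := by rw [(hgq.pow_right k).eq]; group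
        _ = q ^ (k + 1) * x := by rw [hge, pow_succ]; group
  rw [hpow p, hexp q hqP, one_mul]

theorem centralizes_minimal_of_layer {Y : Type*} [Group Y] [Finite Y] {p : ℕ} [hp : Fact p.Prime]
    {P K T : Subgroup Y} [P.Normal] [K.Normal] (hP : IsPGroup p P) (hP1 : P ≠ ⊥)
    (hmin : ∀ N : Subgroup Y, N.Normal → N ≤ P → N = ⊥ ∨ N = P)
    (hT : IsPGroup p T) (hKT : K ⊔ T = ⊤) {g : Y} (hg : g ∈ T)
    (hga : ∀ a ∈ K, ⁅g, a⁆ ∈ Subgroup.centralizer (P : Set Y)) :
    g ∈ Subgroup.centralizer (P : Set Y) := by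
  set C := Subgroup.centralizer (P : Set Y)
  haveI hCn : C.Normal := Subgroup.normal_centralizer (H := P)
  set π := QuotientGroup.mk' C
  set D0 := (Subgroup.centralizer (K.map π : Set (Y ⧸ C))).comap π
  haveI : (K.map π).Normal :=
    Subgroup.Normal.map inferInstance π (QuotientGroup.mk'_surjective C)
  haveI : (Subgroup.centralizer (K.map π : Set (Y ⧸ C))).Normal :=
    Subgroup.normal_centralizer (H := K.map π)
  haveI : D0.Normal := Subgroup.Normal.comap inferInstance π
  set D := D0 ⊓ (T ⊔ C)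
  have hCD : C ≤ D := le_inf (fun c hc => by
    rw [Subgroup.mem_comap, show π c = 1 from (QuotientGroup.eq_one_iff c).2 hc]
    exact one_mem _) le_sup_right
  have hgD : g ∈ D := by
    refine ⟨?_, Subgroup.mem_sup_left hg⟩
    refine Subgroup.mem_centralizer_iff.2 ?_
    rintro _ ⟨a, ha, rfl⟩
    have h3 : π ⁅g, a⁆ = 1 := (QuotientGroup.eq_one_iff _).2 (hga a ha)
    rw [map_commutatorElement] at h3
    exact (commutatorElement_eq_one_iff_mul_comm.1 h3).symm
  haveI : D.Normal := by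
    refine Subgroup.normalizer_eq_top_iff.1 (top_le_iff.1 (hKT.ge.trans (sup_le ?_ ?_)))
    · intro k hk
      refine mem_normalizer_of_cj_le ?_
      rintro _ ⟨x, hx, rfl⟩
      have h1 : ⁅k, x⁆ ∈ C := by
        refine (QuotientGroup.eq_one_iff _).1 ?_
        show π ⁅k, x⁆ = 1
        rw [map_commutatorElement]
        exact commutatorElement_eq_one_iff_mul_comm.2
          (Subgroup.mem_centralizer_iff.1 hx.1 (π k) ⟨k, hk, rfl⟩)
      show k * x * k⁻¹ ∈ D
      have := D.mul_mem (hCD h1) hx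
      simpa [commutatorElement_def, mul_assoc] using this
    · intro t ht
      rw [mem_normalizer_iff_cj, cj_inf, cj_sup, cj_eq_self_of_mem ht, cj_of_normal D0,
        cj_of_normal C]
  refine centralizes_of_minimal hP hP1 hmin (D := D) (fun d hd => ?_) hgD
  obtain ⟨t, ht, c, hc, rfl⟩ := Subgroup.mem_sup_of_normal_right.1 hd.2
  obtain ⟨k, hk⟩ := hT ⟨t, ht⟩
  refine ⟨k, (QuotientGroup.eq_one_iff _).1 ?_⟩
  show π ((t * c) ^ p ^ k) = 1
  rw [map_pow, map_mul, show π c = 1 from (QuotientGroup.eq_one_iff c).2 hc, mul_one, ← map_pow,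
    show t ^ p ^ k = 1 from congrArg Subtype.val hk, map_one]

theorem quadratic_centralizes_minimal {Y : Type*} [Group Y] [Finite Y] {p : ℕ} [hp : Fact p.Prime]
    (hp2 : p ≠ 2) {P K T : Subgroup Y} [P.Normal] [K.Normal] (hP : IsPGroup p P) (hP1 : P ≠ ⊥)
    (hmin : ∀ N : Subgroup Y, N.Normal → N ≤ P → N = ⊥ ∨ N = P)
    (hab : ∀ x ∈ P, ∀ y ∈ P, x * y = y * x) (hexp : ∀ x ∈ P, x ^ p = 1)
    (hT : IsPGroup p T) (hKT : K ⊔ T = ⊤) {n : ℕ} (hn : n.Coprime p)
    (hKc : ∀ a ∈ K, ∀ b ∈ K, ⁅a, b⁆ ∈ Subgroup.centralizer (P : Set Y))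
    (hKn : ∀ a ∈ K, a ^ n ∈ Subgroup.centralizer (P : Set Y))
    {g : Y} (hg : g ∈ T) (hq : ⁅⁅P, Subgroup.zpowers g⁆, Subgroup.zpowers g⁆ = ⊥) :
    g ∈ Subgroup.centralizer (P : Set Y) := by
  refine centralizes_minimal_of_layer hP hP1 hmin hT hKT hg fun a ha => ?_
  have hconj : ∀ y : Y, y * a * y⁻¹ ∈ K := fun y => (inferInstance : K.Normal).conj_mem a ha y
  have h1 : g * a * g⁻¹ ∈ K := hconj g
  have h2 : g⁻¹ * a * g ∈ K := by simpa using hconj g⁻¹
  exact commutator_mem_centralizer_of_quadratic hp2 hab hexp hq hn (hKn a ha)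
    (hKc _ ha _ h1) (hKc _ ha _ h2) (hKc _ h1 _ h2)

variable {X : Type u} [Group X] [Finite X] {p : ℕ} [hp : Fact p.Prime]

/-- A group with a normal `p`-complement and a maximal Sylow subgroup has abelian complement. -/
theorem pResidual_commutes {T : Subgroup X} (hT : SylIn p T ⊤) (hco : IsCoatom T)
    (h : HasNormalPComplement p X) :
    ∀ a ∈ pResidual p X, ∀ b ∈ pResidual p X, a * b = b * a := by
  set K := pResidual p X
  obtain ⟨P, hP⟩ := hT.exists_sylow
  have hsup : K ⊔ T = ⊤ := hP ▸ pResidual_sup_sylow P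
  have hK : (Nat.card K).Coprime p := hnpc_iff.1 h
  have hdisj : ∀ x ∈ K, x ∈ T → x = 1 := fun x hxK hxT => by
    obtain ⟨k, hk⟩ := IsPGroup.iff_orderOf.1 hT.isPGroup ⟨x, hxT⟩
    rw [Subgroup.orderOf_mk] at hk
    exact orderOf_eq_one_iff.1 (Nat.eq_one_of_dvd_coprimes (hK.pow_right k)
      (Subgroup.orderOf_mk x hxK ▸ orderOf_dvd_natCard _) (hk ▸ dvd_rfl))
  rcases eq_or_ne K ⊥ with hbot | hne
  · intro a ha b _
    rw [hbot, Subgroup.mem_bot] at ha
    simp [ha]
  obtain ⟨q, hq, hqd⟩ := Nat.exists_prime_and_dvd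
    (n := Nat.card K) (fun h1 => hne (Subgroup.card_eq_one.1 h1))
  haveI := Fact.mk hq
  obtain ⟨R, hR⟩ := exists_sylIn (p := q) K
  have hR1 : R ≠ ⊥ := fun h1 => hR.not_dvd (by
    rw [h1, Subgroup.relIndex_bot_left]; exact hqd)
  set N := Subgroup.normalizer (R : Set X)
  have hKN : N ⊔ K = ⊤ := top_le_iff.1 fun x _ => by
    obtain ⟨n, hn, hnx⟩ := frattini_conj hR (H := ⊤) (by rw [Subgroup.normalizer_eq_top])
      (Subgroup.mem_top x)
    have := Subgroup.mul_mem_sup (inv_mem hn) hnx (S := K) (T := N)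
    rw [inv_mul_cancel_left, sup_comm] at this
    exact this
  obtain ⟨j, hj⟩ := IsPGroup.iff_card.1 hT.isPGroup
  have hdvd : p ^ j ∣ Nat.card N := by
    have h1 : Nat.card X ∣ Nat.card N * Nat.card K := by
      rw [← Subgroup.card_top (G := X), ← hKN]; exact card_sup_dvd K N
    exact (Nat.Coprime.dvd_of_dvd_mul_right (hK.symm.pow_left j)
      ((hj ▸ Subgroup.card_subgroup_dvd_card T).trans h1))
  obtain ⟨T1, hT1⟩ := Sylow.exists_subgroup_card_pow_prime p (G := N) hdvd
  have hT1X : IsPGroup p (T1.map N.subtype) :=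
    IsPGroup.of_card (n := j) (by rw [Subgroup.card_map_of_injective N.subtype_injective, hT1])
  obtain ⟨c, -, hc⟩ := (hT.of_card_ge hT1X le_top
    (by rw [Subgroup.card_map_of_injective N.subtype_injective, hT1, hj])).conj_eq hT
  have hTR : T ≤ Subgroup.normalizer (cj R c : Set X) := by
    rw [← cj_normalizer, ← hc]
    exact cj_mono (Subgroup.map_subtype_le T1) c
  have hRK : cj R c ≤ K := (cj_mono hR.le c).trans (cj_of_normal K c).le
  have hR'1 : cj R c ≠ ⊥ := fun h1 => hR1 (by rw [← cj_cj_inv R c, h1, cj_bot])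
  have hKR : K ≤ cj R c := by
    have htop : cj R c ⊔ T = ⊤ := hco.2 _ (lt_of_le_of_ne le_sup_right fun h1 => hR'1
      (le_bot_iff.1 fun x hx => Subgroup.mem_bot.2
        (hdisj x (hRK hx) (h1 ▸ Subgroup.mem_sup_left hx))))
    intro x hx
    have hx' : x ∈ T ⊔ cj R c := by rw [sup_comm, htop]; trivial
    obtain ⟨t, ht, r, hr, rfl⟩ := exists_mul_of_mem_sup hTR hx'
    have : t ∈ K := by
      have := K.mul_mem hx (K.inv_mem (hRK hr))
      rwa [mul_inv_cancel_right] at this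
    rw [hdisj t this ht, one_mul]
    exact hr
  have hKq : IsPGroup q K := (isPGroup_cj hR.isPGroup c).to_le hKR
  haveI : Nontrivial K := (Subgroup.nontrivial_iff_ne_bot K).2 hne
  haveI := hKq.center_nontrivial
  set Z := (Subgroup.center K).map K.subtype
  haveI : Z.Normal := ConjAct.normal_of_characteristic_of_normal
  have hZK : Z ≤ K := Subgroup.map_subtype_le _
  have hZ1 : Z ≠ ⊥ := fun h1 => (Subgroup.nontrivial_iff_ne_bot _).1 inferInstance
    ((Subgroup.map_eq_bot_iff_of_injective _ K.subtype_injective).1 h1)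
  have htop : Z ⊔ T = ⊤ := hco.2 _ (lt_of_le_of_ne le_sup_right fun h1 => hZ1
    (le_bot_iff.1 fun x hx => Subgroup.mem_bot.2
      (hdisj x (hZK hx) (h1 ▸ Subgroup.mem_sup_left hx))))
  have hKZ : K ≤ Z := by
    intro x hx
    obtain ⟨z, hz, t, ht, rfl⟩ := Subgroup.mem_sup_of_normal_left.1 (htop.ge (Subgroup.mem_top x))
    have : t ∈ K := by
      have := K.mul_mem (K.inv_mem (hZK hz)) hx
      rwa [inv_mul_cancel_left] at this
    rw [hdisj t this ht, mul_one]
    exact hz
  intro a ha b hb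
  obtain ⟨a', ha', rfl⟩ := hKZ ha
  exact (congrArg Subtype.val (Subgroup.mem_center_iff.1 ha' ⟨b, hb⟩)).symm

/-- With a maximal Sylow subgroup and a normal complement modulo the core, elements of degree less
than `p` centralize the chief factors in the core. -/
theorem coatom_chief_degree (hq : HasNormalPComplement p (X ⧸ pCore p X)) {T : Subgroup X}
    (hT : SylIn p T ⊤) (hco : IsCoatom T) {U V : Subgroup X} (hc : IsChiefFactor U V)
    (hUQ : U ≤ pCore p X) {g : X} (hgT : g ∈ T)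
    (hdeg : iterCommutator U (Subgroup.zpowers g) (p - 1) ≤ V) :
    ⁅U, Subgroup.zpowers g⁆ ≤ V := by
  obtain ⟨hlt, hUn, hVn, hmin⟩ := hc
  haveI := hUn
  set Q := pCore p X
  have hQT : Q ≤ T := pCore_le_sylIn hT
  have hcen : ⁅U, Q⁆ ≤ V := chief_centralized (isPGroup_pCore p X) ⟨hlt, hUn, hVn, hmin⟩ hUQ
  set ρ := QuotientGroup.mk' Q
  have hρ : Function.Surjective ρ := QuotientGroup.mk'_surjective Q
  have hcomapT : (T.map ρ).comap ρ = T := by
    rw [QuotientGroup.comap_map_mk', sup_eq_right.2 hQT]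
  have hco' : IsCoatom (T.map ρ) := ⟨fun h => hco.1 (by rw [← hcomapT, h, Subgroup.comap_top]),
    fun L hL => by
      have h3 : (L.comap ρ) = ⊤ := hco.2 _ (lt_of_le_of_ne
        (hcomapT.ge.trans (Subgroup.comap_mono hL.le)) fun h => hL.ne
          (Subgroup.comap_injective hρ (hcomapT.trans h)))
      exact Subgroup.comap_injective hρ (h3.trans (Subgroup.comap_top ρ).symm)⟩
  have habel := pResidual_commutes (T := T.map ρ) (sylIn_map_mk (N := Q) hT) hco' hq
  obtain ⟨P0, hP0⟩ := (sylIn_map_mk (N := Q) hT).exists_sylow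
  set K := (pResidual p (X ⧸ Q)).comap ρ
  have hKT : K ⊔ T = ⊤ := by
    refine top_le_iff.1 fun x _ => ?_
    have h3 : ρ x ∈ pResidual p (X ⧸ Q) ⊔ T.map ρ := by
      rw [← hP0, pResidual_sup_sylow]; trivial
    have h4 : x ∈ ((K.map ρ) ⊔ T.map ρ).comap ρ := by
      rw [Subgroup.map_comap_eq_self_of_surjective hρ]; exact h3
    rw [← Subgroup.map_sup, Subgroup.comap_map_eq, QuotientGroup.ker_mk'] at h4
    exact (sup_le le_rfl (hQT.trans le_sup_right)) h4
  set π := QuotientGroup.mk' V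
  have hπ : Function.Surjective π := QuotientGroup.mk'_surjective V
  haveI : (U.map π).Normal := hUn.map π hπ
  haveI : K.Normal := Subgroup.Normal.comap inferInstance ρ
  haveI : (K.map π).Normal := Subgroup.Normal.map inferInstance π hπ
  have hker : π.ker = V := QuotientGroup.ker_mk' V
  have hQc : ∀ y ∈ Q, π y ∈ Subgroup.centralizer (U.map π : Set (X ⧸ V)) := by
    intro y hy
    refine Subgroup.mem_centralizer_iff.2 ?_
    rintro _ ⟨u, hu, rfl⟩
    exact commutatorElement_eq_one_iff_mul_comm.1 (by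
      rw [← map_commutatorElement]
      exact (QuotientGroup.eq_one_iff _).2 (hcen (Subgroup.commutator_mem_commutator hu hy)))
  have hab : ∀ x ∈ U.map π, ∀ y ∈ U.map π, x * y = y * x := by
    rintro x hx _ ⟨u, hu, rfl⟩
    exact (Subgroup.mem_centralizer_iff.1 (hQc u (hUQ hu)) x hx)
  have hPmin : ∀ M : Subgroup (X ⧸ V), M.Normal → M ≤ U.map π → M = ⊥ ∨ M = U.map π := by
    intro M hM hMU
    have hback : (M.comap π).map π = M := Subgroup.map_comap_eq_self_of_surjective hπ M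
    refine (hmin _ (hM.comap π) (hker.ge.trans (Subgroup.ker_le_comap π M)) ?_).imp (fun h => ?_)
      (fun h => by rw [← hback, h])
    · refine (Subgroup.comap_mono hMU).trans ?_
      rw [Subgroup.comap_map_eq, hker]
      exact sup_le le_rfl hlt.le
    · rw [← hback, h]
      exact (Subgroup.map_eq_bot_iff _).2 hker.ge
  have hUp : IsPGroup p (U.map π) := ((isPGroup_pCore p X).to_le hUQ).map π
  have hP1 : U.map π ≠ ⊥ := fun h =>
    hlt.not_ge (((Subgroup.map_eq_bot_iff U).1 h).trans hker.le)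
  have hexp : ∀ x ∈ U.map π, x ^ p = 1 := pow_prime_eq_one_of_minimal hUp hP1 hPmin hab
  have hgC : π g ∈ Subgroup.centralizer (U.map π : Set (X ⧸ V)) := by
    refine centralizes_minimal_of_layer hUp hP1 hPmin (hT.isPGroup.map π)
      (K := K.map π) (by rw [← Subgroup.map_sup, hKT, Subgroup.map_top_of_surjective π hπ])
      ⟨g, hgT, rfl⟩ fun a ha => ?_
    refine commutator_mem_centralizer_of_degree hab hexp (K := K.map π) ?_ (hnpc_iff.1 hq) ?_ ?_ ha
    · rw [← MonoidHom.map_zpowers, ← iterCommutator_map]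
      exact (Subgroup.map_eq_bot_iff _).2 (hdeg.trans hker.ge)
    · rintro _ ⟨a, ha, rfl⟩
      rw [← map_pow]
      refine hQc _ ((QuotientGroup.eq_one_iff _).1 ?_)
      show ρ (a ^ _) = 1
      rw [map_pow]
      exact congrArg Subtype.val (pow_card_eq_one' (x := (⟨ρ a, ha⟩ : pResidual p (X ⧸ Q))))
    · rintro _ ⟨a, ha, rfl⟩ _ ⟨b, hb, rfl⟩
      rw [← map_commutatorElement]
      refine hQc _ ((QuotientGroup.eq_one_iff _).1 ?_)
      show ρ ⁅a, b⁆ = 1
      rw [map_commutatorElement]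
      exact commutatorElement_eq_one_iff_mul_comm.2 (habel _ ha _ hb)
  rw [← hker, ← Subgroup.map_eq_bot_iff, Subgroup.map_commutator, MonoidHom.map_zpowers,
    Subgroup.commutator_eq_bot_iff_le_centralizer, Subgroup.le_centralizer_iff,
    Subgroup.zpowers_le]
  exact hgC

/-- The lower K-infinity subgroup of a maximal Sylow subgroup is normal in a constrained group
with a normal complement modulo the core. -/
theorem kInf_normal_of_coatom (hp2 : p ≠ 2)
    (hC : Subgroup.centralizer (pCore p X : Set X) ≤ pCore p X)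
    (hq : HasNormalPComplement p (X ⧸ pCore p X)) {T : Subgroup X} (hT : SylIn p T ⊤)
    (hco : IsCoatom T) : (inducedFunctor kInfLower T).Normal := by
  by_contra hn
  obtain ⟨A, hA, -⟩ := exists_criticalIn (G := X) (p := p)
  obtain ⟨g, hgT, -, -, -, hch⟩ := exists_kWitness hT hA (Or.inl hn)
  obtain ⟨U, V, hc, hUA, h2, h1⟩ := hch hC
  haveI := hc.2.1
  refine h1 (coatom_chief_degree hq hT hco hc (hUA.trans hA.le) hgT ?_)
  refine (iter_antitone (m := 2) (le_top.trans (Subgroup.normalizer_eq_top (H := U)).ge) ?_).trans h2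
  have := hp.out.two_le
  omega

end Cfsg.Agent.Fusion
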