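import Mathlib
import Cfsg.Agent.Lib.Fusion.CoatomNPC
import Cfsg.Agent.Lib.Fusion.ChiefAction

/-!
# Stability of groups with an abelian complement between two p-layers
-/

set_option autoImplicit false

open scoped commutatorElement

universe u

namespace Cfsg.Agent.Fusion

/-- A normal `p`-subgroup `Q`, an abelian `p'`-layer `K / Q` and a `p`-group on top. -/
def IsAbelianLayered (p : ℕ) (X : Type u) [Group X] : Prop :=
  ∃ (Q K : Subgroup X) (n : ℕ), Q.Normal ∧ K.Normal ∧ IsPGroup p Q ∧ n.Coprime p ∧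
    (∀ a ∈ K, ∀ b ∈ K, ⁅a, b⁆ ∈ Q) ∧ (∀ a ∈ K, a ^ n ∈ Q) ∧ ∀ x : X, ∃ j, x ^ p ^ j ∈ K

variable {p : ℕ} {X Y : Type u} [Group X] [Group Y]

theorem IsAbelianLayered.surjective (h : IsAbelianLayered p X) (f : X →* Y)
    (hf : Function.Surjective f) : IsAbelianLayered p Y := by
  obtain ⟨Q, K, n, hQ, hK, hQp, hn, hc, hpow, htop⟩ := h
  refine ⟨Q.map f, K.map f, n, hQ.map f hf, hK.map f hf, hQp.map f, hn, ?_, ?_, fun y => ?_⟩
  · rintro _ ⟨a, ha, rfl⟩ _ ⟨b, hb, rfl⟩
    exact ⟨_, hc a ha b hb, map_commutatorElement f a b⟩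
  · rintro _ ⟨a, ha, rfl⟩
    exact ⟨_, hpow a ha, map_pow f a n⟩
  · obtain ⟨x, rfl⟩ := hf y
    obtain ⟨j, hj⟩ := htop x
    exact ⟨j, _, hj, map_pow f x _⟩

theorem IsAbelianLayered.injective (h : IsAbelianLayered p X) (f : Y →* X)
    (hf : Function.Injective f) : IsAbelianLayered p Y := by
  obtain ⟨Q, K, n, hQ, hK, hQp, hn, hc, hpow, htop⟩ := h
  refine ⟨Q.comap f, K.comap f, n, hQ.comap f, hK.comap f, hQp.comap_of_injective f hf, hn,
    fun a ha b hb => ?_, fun a ha => ?_, fun y => ?_⟩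
  · rw [Subgroup.mem_comap, map_commutatorElement]
    exact hc _ ha _ hb
  · rw [Subgroup.mem_comap, map_pow]
    exact hpow _ ha
  · obtain ⟨j, hj⟩ := htop (f y)
    exact ⟨j, by rw [Subgroup.mem_comap, map_pow]; exact hj⟩

theorem IsAbelianLayered.of_involves (h : IsAbelianLayered p X) {Z : Type u} [Group Z]
    (hZ : Involves Z X) : IsAbelianLayered p Z := by
  obtain ⟨H, f, hf⟩ := involves_exists_surjective hZ
  exact (h.injective H.subtype H.subtype_injective).surjective f hf

theorem IsAbelianLayered.stable [Finite X] [hp : Fact p.Prime] (hp2 : p ≠ 2)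
    (h : IsAbelianLayered p X) : IsNormalizerPStable p X := by
  intro P hP g hg hq
  set N := Subgroup.normalizer (P : Set X)
  obtain ⟨Q, K, n, hQ, hK, hQp, hn, hc, hpow, htop⟩ := h.injective N.subtype N.subtype_injective
  haveI := hQ
  set P' := P.subgroupOf N
  haveI : P'.Normal := Subgroup.normal_in_normalizer
  have hP' : IsPGroup p P' := hP.comap_subtype
  set g' : N := ⟨g, hg⟩
  have hq' : ⁅⁅P', Subgroup.zpowers g'⁆, Subgroup.zpowers g'⁆ = ⊥ := by
    apply Subgroup.map_injective N.subtype_injective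
    rw [Subgroup.map_commutator, Subgroup.map_commutator, Subgroup.map_bot,
      MonoidHom.map_zpowers, Subgroup.map_subgroupOf_eq_of_le Subgroup.le_normalizer]
    exact hq
  have hmem : g' ∈ trivBetween ⊥ P' := by
    intro U V hch _ hU u hu
    obtain ⟨hlt, hUn, hVn, hmin⟩ := hch
    haveI := hUn
    set π := QuotientGroup.mk' V
    have hπ : Function.Surjective π := QuotientGroup.mk'_surjective V
    haveI : (U.map π).Normal := hUn.map π hπ
    haveI : (K.map π).Normal := hK.map π hπ
    have hker : π.ker = V := QuotientGroup.ker_mk' V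
    have hPQ : IsPGroup p (P' ⊔ Q : Subgroup N) := hP'.to_sup_of_normal_right hQp
    have hcen : ∀ y ∈ P' ⊔ Q, π y ∈ Subgroup.centralizer (U.map π : Set (N ⧸ V)) := by
      intro y hy
      refine Subgroup.mem_centralizer_iff.2 ?_
      rintro _ ⟨v, hv, rfl⟩
      exact commutatorElement_eq_one_iff_mul_comm.1 (by
        rw [← map_commutatorElement]
        exact (QuotientGroup.eq_one_iff _).2 (chief_centralized hPQ ⟨hlt, hUn, hVn, hmin⟩
          (hU.trans le_sup_left) (Subgroup.commutator_mem_commutator hv hy)))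
    have hUp : IsPGroup p (U.map π) := (hP'.to_le hU).map π
    have hP1 : U.map π ≠ ⊥ := fun h =>
      hlt.not_ge (((Subgroup.map_eq_bot_iff U).1 h).trans hker.le)
    have hPmin : ∀ M : Subgroup (N ⧸ V), M.Normal → M ≤ U.map π → M = ⊥ ∨ M = U.map π := by
      intro M hM hMU
      have hback : (M.comap π).map π = M := Subgroup.map_comap_eq_self_of_surjective hπ M
      refine (hmin _ (hM.comap π) (hker.ge.trans (Subgroup.ker_le_comap π M)) ?_).imp (fun h => ?_)
        (fun h => by rw [← hback, h])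
      · refine (Subgroup.comap_mono hMU).trans ?_
        rw [Subgroup.comap_map_eq, hker]
        exact sup_le le_rfl hlt.le
      · rw [← hback, h]
        exact (Subgroup.map_eq_bot_iff _).2 hker.ge
    have hab : ∀ x ∈ U.map π, ∀ y ∈ U.map π, x * y = y * x := by
      rintro x hx _ ⟨v, hv, rfl⟩
      exact Subgroup.mem_centralizer_iff.1 (hcen v (Subgroup.mem_sup_left (hU hv))) x hx
    have hexp : ∀ x ∈ U.map π, x ^ p = 1 :=
      pow_prime_eq_one_of_minimal hUp hP1 hPmin hab
    -- replace `g'` by its `p`-part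
    obtain ⟨T⟩ : Nonempty (Sylow p N) := inferInstance
    obtain ⟨k, m, hm, hkm⟩ :=
      Nat.exists_eq_pow_mul_and_not_dvd (orderOf_pos g').ne' p hp.out.ne_one
    have hm0 : m ≠ 0 := fun h0 => hm (by simp [h0])
    have hgp : IsPGroup p (Subgroup.zpowers (g' ^ m)) := IsPGroup.of_card (n := k) (by
      rw [Nat.card_zpowers, orderOf_pow_of_dvd hm0 (hkm ▸ dvd_mul_left _ _), hkm,
        Nat.mul_div_cancel _ (Nat.pos_of_ne_zero hm0)])
    obtain ⟨T, hT⟩ := hgp.exists_le_sylow
    have hKT : K.map π ⊔ (T : Subgroup N).map π = ⊤ := by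
      rw [← Subgroup.map_sup]
      suffices h : K ⊔ (T : Subgroup N) = ⊤ by rw [h, Subgroup.map_top_of_surjective π hπ]
      haveI := hK
      have h1 : IsPGroup p (N ⧸ K) := fun y => by
        obtain ⟨x, rfl⟩ := QuotientGroup.mk_surjective y
        obtain ⟨j, hj⟩ := htop x
        exact ⟨j, by rw [← QuotientGroup.mk_pow]; exact (QuotientGroup.eq_one_iff _).2 hj⟩
      rw [← Subgroup.index_eq_one]
      obtain ⟨j, hj⟩ := IsPGroup.iff_card.1 h1
      rw [← Subgroup.index_eq_card] at hj
      refine Nat.eq_one_of_dvd_coprimes (a := (T : Subgroup N).index) (b := p ^ j) ?_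
        (Subgroup.index_dvd_of_le le_sup_right) (hj ▸ Subgroup.index_dvd_of_le le_sup_left)
      exact (((Nat.Prime.coprime_iff_not_dvd hp.out).2 T.not_dvd_index).symm).pow_right j
    have hquad : ∀ z ∈ Subgroup.zpowers g',
        ⁅⁅U.map π, Subgroup.zpowers (π z)⁆, Subgroup.zpowers (π z)⁆ = ⊥ := by
      intro z hz
      rw [← MonoidHom.map_zpowers, ← Subgroup.map_commutator, ← Subgroup.map_commutator]
      refine (Subgroup.map_eq_bot_iff _).2 ?_
      exact ((Subgroup.commutator_mono (Subgroup.commutator_mono hU (Subgroup.zpowers_le.2 hz))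
        (Subgroup.zpowers_le.2 hz)).trans hq'.le).trans bot_le
    have hgm := quadratic_centralizes_minimal hp2 hUp hP1 hPmin hab hexp (T.isPGroup'.map π)
      hKT hn ?_ ?_ (g := π (g' ^ m)) ⟨_, hT (Subgroup.mem_zpowers _), rfl⟩
      (hquad _ (pow_mem (Subgroup.mem_zpowers g') m))
    · -- `g' ^ p` also centralizes
      have hgP : π g' ^ p ∈ Subgroup.centralizer (U.map π : Set (N ⧸ V)) := by
        rw [mem_centralizer_set]
        intro x hx
        exact quadratic_pow_centralizes (hquad g' (Subgroup.mem_zpowers g')) hab hexp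
          (by rw [Subgroup.normalizer_eq_top]; trivial) hx
      rw [map_pow] at hgm
      obtain ⟨a, b, hab'⟩ := Nat.isCoprime_iff_coprime.2 ((Nat.Prime.coprime_iff_not_dvd hp.out).2 hm)
      have hmem : π g' ∈ Subgroup.centralizer (U.map π : Set (N ⧸ V)) := by
        have h3 := mul_mem (zpow_mem hgP a) (zpow_mem hgm b)
        rwa [← zpow_natCast, ← zpow_natCast, ← zpow_mul, ← zpow_mul, ← zpow_add,
          mul_comm (p : ℤ), mul_comm (m : ℤ), hab', zpow_one] at h3
      refine (QuotientGroup.eq_one_iff _).1 ?_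
      show π ⁅g', u⁆ = 1
      rw [map_commutatorElement]
      exact commutatorElement_eq_one_iff_mul_comm.2
        (Subgroup.mem_centralizer_iff.1 hmem (π u) ⟨u, hu, rfl⟩).symm
    · rintro _ ⟨a, ha, rfl⟩ _ ⟨b, hb, rfl⟩
      rw [← map_commutatorElement]
      exact hcen _ (Subgroup.mem_sup_right (hc a ha b hb))
    · rintro _ ⟨a, ha, rfl⟩
      rw [← map_pow]
      exact hcen _ (Subgroup.mem_sup_right (hpow a ha))
  have := trivBetween_le_comap_pCore hP' hmem
  have hC : Subgroup.centralizer (P' : Set N) = (Subgroup.centralizer (P : Set X)).subgroupOf N := by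
    ext x
    rw [Subgroup.mem_subgroupOf, Subgroup.mem_centralizer_iff, Subgroup.mem_centralizer_iff]
    exact ⟨fun h y hy => congrArg Subtype.val (h ⟨y, Subgroup.le_normalizer hy⟩ hy),
      fun h y hy => Subtype.ext (h y hy)⟩
  have e := map_pCore_equiv (p := p) (QuotientGroup.quotientMulEquivOfEq hC)
  rw [← e]
  exact ⟨_, this, rfl⟩

end Cfsg.Agent.Fusion
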