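import Cfsg.Agent.Lib.Fusion.ZJApply
import Cfsg.Agent.Lib.Fusion.StableSmall
import Cfsg.Agent.Lib.Fusion.NPCFunctor
import Cfsg.Agent.Lib.Fusion.Reduction

/-!
# Consequences of the ZJ theorem: normal `p`-complements and control of fusion
-/

set_option autoImplicit false

open scoped commutatorElement

universe u

namespace Cfsg.Agent.Fusion

variable {p : ℕ} [hp : Fact p.Prime]

theorem isAbelianLayered_of_coatom {X : Type u} [Group X] [Finite X]
    (hq : HasNormalPComplement p (X ⧸ pCore p X)) {T : Subgroup X} (hT : SylIn p T ⊤)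
    (hco : IsCoatom T) : IsAbelianLayered p X := by
  set Q := pCore p X
  set ρ := QuotientGroup.mk' Q
  have hρ : Function.Surjective ρ := QuotientGroup.mk'_surjective Q
  have hcomapT : (T.map ρ).comap ρ = T := by
    rw [QuotientGroup.comap_map_mk', sup_eq_right.2 (pCore_le_sylIn hT)]
  have hco' : IsCoatom (T.map ρ) := ⟨fun h => hco.1 (by rw [← hcomapT, h, Subgroup.comap_top]),
    fun L hL => by
      have h3 : (L.comap ρ) = ⊤ := hco.2 _ (lt_of_le_of_ne
        (hcomapT.ge.trans (Subgroup.comap_mono hL.le)) fun h => hL.ne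
          (Subgroup.comap_injective hρ (hcomapT.trans h)))
      exact Subgroup.comap_injective hρ (h3.trans (Subgroup.comap_top ρ).symm)⟩
  have hab := pResidual_commutes (sylIn_map_mk (N := Q) hT) hco' hq
  refine ⟨Q, (pResidual p (X ⧸ Q)).comap ρ, Nat.card (pResidual p (X ⧸ Q)), inferInstance,
    Subgroup.Normal.comap inferInstance ρ, isPGroup_pCore p X, hnpc_iff.1 hq,
    fun a ha b hb => (QuotientGroup.eq_one_iff _).1 ?_, fun a ha => (QuotientGroup.eq_one_iff _).1 ?_,
    fun x => ?_⟩
  · show ρ ⁅a, b⁆ = 1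
    rw [map_commutatorElement]
    exact commutatorElement_eq_one_iff_mul_comm.2 (hab _ ha _ hb)
  · show ρ (a ^ _) = 1
    rw [map_pow]
    exact congrArg Subtype.val (pow_card_eq_one' (x := (⟨ρ a, ha⟩ : pResidual p (X ⧸ Q))))
  · obtain ⟨j, hj⟩ := isPGroup_quotient_pResidual (p := p) (G := X ⧸ Q) (QuotientGroup.mk (ρ x))
    refine ⟨j, ?_⟩
    rw [← QuotientGroup.mk_pow, QuotientGroup.eq_one_iff] at hj
    rw [Subgroup.mem_comap, map_pow]
    exact hj

variable {W : ∀ (Q : Type u) [Group Q], Subgroup Q} {G : Type u} [Group G] [Finite G]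

/-- A functor which is normal in constrained stable groups detects normal `p`-complements. -/
theorem hnpc_of_stable_normal (hp2 : p ≠ 2) (hW : IsCharPFunctor.{u} p W)
    (hn : ∀ (X : Type u) [Group X] [Finite X],
      Subgroup.centralizer (pCore p X : Set X) ≤ pCore p X →
      (∀ (P : Subgroup X) [P.Normal], IsPGroup p P → IsPStableOn p P) →
      ∀ T : Sylow p X, (inducedFunctor W (T : Subgroup X)).Normal)
    (S : Sylow p G)
    (hN : HasNormalPComplement p
      (Subgroup.normalizer (inducedFunctor W (S : Subgroup G) : Set G))) :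
    HasNormalPComplement p G :=
  hnpc_of_functor_sections hW (G := G) (fun X _ _ _ hc hq T hT =>
    hn X hc (fun P _ hP => isPStableOn_of_normalizerPStable
      ((isAbelianLayered_of_coatom hq (sylIn_top T) hT).stable hp2) P hP) T)
    G involves_refl S hN

/-- A functor which is normal in constrained stable groups controls strong fusion, given
stability in all sections. -/
theorem controlsFusion_of_stable_normal (hW : IsCharPFunctor.{u} p W)
    (hn : ∀ (X : Type u) [Group X] [Finite X],
      Subgroup.centralizer (pCore p X : Set X) ≤ pCore p X →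
      (∀ (P : Subgroup X) [P.Normal], IsPGroup p P → IsPStableOn p P) →
      ∀ T : Sylow p X, (inducedFunctor W (T : Subgroup X)).Normal)
    (hst : ∀ (X : Type u) [Group X] [Finite X], Involves X G →
      Subgroup.centralizer (pCore p X : Set X) ≤ pCore p X →
      ∀ (P : Subgroup X) [P.Normal], IsPGroup p P → IsPStableOn p P)
    (S : Sylow p G) (A : Set G) (hA : A ⊆ (S : Subgroup G)) (g : G)
    (hg : (fun a => g * a * g⁻¹) '' A ⊆ (S : Subgroup G)) :
    ∃ x ∈ Subgroup.normalizer (inducedFunctor W (S : Subgroup G) : Set G),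
      ∀ a ∈ A, g * a * g⁻¹ = x * a * x⁻¹ := by
  have h𝓦 : ∀ W' ∈ ({W} : Set (∀ (Q : Type u) [Group Q], Subgroup Q)),
      IsCharPFunctor.{u} p W' := by
    rintro W' hW'; rw [Set.mem_singleton_iff.1 hW']; exact hW
  have hfam := familyFus_sections h𝓦 (G := G) (fun X _ _ hX hc => by
    obtain ⟨T⟩ : Nonempty (Sylow p X) := inferInstance
    refine (familyFus_iff _).2 ⟨_, sylIn_top T, fun B h _ hB hhB => ?_⟩
    haveI := hn X hc (hst X hX hc) T
    exact fus_step hB ⟨_, ⟨W, rfl, rfl⟩, trivial, by rw [Subgroup.normalizer_eq_top]; trivial⟩ hhB)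
    G involves_refl
  rw [Set.image_singleton] at hfam
  obtain ⟨T₀, hT₀, hf⟩ := (familyFus_iff _).1 hfam
  have hf' := hf.sylow (fun W' hW' => by
    rw [Set.mem_singleton_iff.1 hW']; exact isConjugacyFunctor_induced hW) hT₀ (sylIn_top S)
  obtain ⟨x, hx, he⟩ := (famFusAt_singleton _ _ _).1 hf' A g trivial hA hg
  exact ⟨x, hx.2, fun a ha => (he a ha).symm⟩

theorem centerThompsonAOf_normal {X : Type u} [Group X] [Finite X] (hp2 : p ≠ 2)
    (hc : Subgroup.centralizer (pCore p X : Set X) ≤ pCore p X)
    (hst : ∀ (P : Subgroup X) [P.Normal], IsPGroup p P → IsPStableOn p P) (T : Sylow p X) :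
    (inducedFunctor wZA (T : Subgroup X)).Normal := by
  rw [inducedFunctor_wZA, ← zFam_comm_eq]
  exact zFam_normal replFamily_comm hp2 hc hst T

theorem centerThompsonOf_normal {X : Type u} [Group X] [Finite X] (hp2 : p ≠ 2)
    (hc : Subgroup.centralizer (pCore p X : Set X) ≤ pCore p X)
    (hst : ∀ (P : Subgroup X) [P.Normal], IsPGroup p P → IsPStableOn p P) (T : Sylow p X) :
    (inducedFunctor (wZE p) (T : Subgroup X)).Normal := by
  rw [inducedFunctor_wZE, ← zElem_eq]
  exact zElem_normal hp2 hc hst T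

end Cfsg.Agent.Fusion
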