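import Cfsg.Prelude.Def_Local
import Cfsg.Agent.Lib.Fusion.ZJControl

/-!
# `p`-stable and `p`-constrained groups modulo the `p'`-core
-/

set_option autoImplicit false

open scoped commutatorElement

universe u

namespace Cfsg.Agent.Fusion

variable {G : Type u} [Group G] [Finite G] {p : ℕ} [hp : Fact p.Prime]

/-- A quadratic element of order prime to `p` centralizes a normal `p`-subgroup. -/
theorem mem_centralizer_of_quadratic_coprime {V : Subgroup G} [V.Normal] (hV : IsPGroup p V) {x : G}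
    (hx : (orderOf x).Coprime p) (hq : ⁅⁅V, Subgroup.zpowers x⁆, Subgroup.zpowers x⁆ = ⊥) :
    x ∈ Subgroup.centralizer (V : Set G) := by
  rw [mem_centralizer_set]
  intro v hv
  set q := ⁅x, v⁆ with hqdef
  have hqc : q ∈ ⁅V, Subgroup.zpowers x⁆ := by
    rw [Subgroup.commutator_comm]
    exact Subgroup.commutator_mem_commutator (Subgroup.mem_zpowers x) hv
  have hqV : q ∈ V := Subgroup.commutator_le_left _ _ hqc
  have hxq : Commute x q := Subgroup.mem_centralizer_iff.1
    (Subgroup.commutator_eq_bot_iff_le_centralizer.1 hq hqc) x (Subgroup.mem_zpowers x)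
  have hpow : ∀ j : ℕ, x ^ j * v * (x ^ j)⁻¹ = q ^ j * v := by
    intro j
    induction j with
    | zero => simp
    | succ j ih =>
      calc x ^ (j + 1) * v * (x ^ (j + 1))⁻¹ = x * (x ^ j * v * (x ^ j)⁻¹) * x⁻¹ := by
            rw [pow_succ']; group
        _ = (x * q ^ j) * v * x⁻¹ := by rw [ih]; group
        _ = q ^ j * (x * v * x⁻¹) := by rw [(hxq.pow_right j).eq]; group
        _ = q ^ (j + 1) * v := by
            rw [show x * v * x⁻¹ = q * v by rw [hqdef, commutatorElement_def]; group, pow_succ]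
            group
  have h5 := hpow (orderOf x)
  rw [pow_orderOf_eq_one, inv_one, mul_one, one_mul] at h5
  have h6 : q ^ orderOf x = 1 := by
    have := h5.symm; rwa [mul_eq_right] at this
  obtain ⟨i, hi⟩ := hV ⟨q, hqV⟩
  have hi' : q ^ p ^ i = 1 := congrArg Subtype.val hi
  have h7 := pow_gcd_eq_one.2 ⟨h6, hi'⟩
  rw [Nat.Coprime.pow_right i hx, pow_one] at h7
  rw [show x * v * x⁻¹ = q * v by rw [hqdef, commutatorElement_def]; group, h7, one_mul]

/-- It is enough to test `p`-stability on `p`-elements. -/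
theorem isPStableOn_of_pElements {V : Subgroup G} [V.Normal] (hV : IsPGroup p V)
    (h : ∀ a : G, (∃ k : ℕ, a ^ p ^ k = 1) →
      ⁅⁅V, Subgroup.zpowers a⁆, Subgroup.zpowers a⁆ = ⊥ →
      (QuotientGroup.mk a : G ⧸ Subgroup.centralizer (V : Set G)) ∈
        pCore p (G ⧸ Subgroup.centralizer (V : Set G))) : IsPStableOn p V := by
  intro a ha
  obtain ⟨k, m, hm, hkm⟩ :=
    Nat.exists_eq_pow_mul_and_not_dvd (orderOf_pos a).ne' p hp.out.ne_one
  have hm' : Nat.Coprime (p ^ k) m := ((Nat.Prime.coprime_iff_not_dvd hp.out).2 hm).pow_left k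
  obtain ⟨α, β, hαβ⟩ := Nat.isCoprime_iff_coprime.2 hm'
  set a₁ := a ^ ((β * m : ℤ))
  set a₂ := a ^ ((α * (p ^ k : ℕ) : ℤ))
  have hmul : a₁ * a₂ = a := by
    rw [← zpow_add, add_comm, hαβ, zpow_one]
  have hmem₁ : Subgroup.zpowers a₁ ≤ Subgroup.zpowers a :=
    Subgroup.zpowers_le.2 (zpow_mem (Subgroup.mem_zpowers a) _)
  have hmem₂ : Subgroup.zpowers a₂ ≤ Subgroup.zpowers a :=
    Subgroup.zpowers_le.2 (zpow_mem (Subgroup.mem_zpowers a) _)
  have h₁ : a₁ ^ p ^ k = 1 := by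
    rw [← zpow_natCast, ← zpow_mul,
      show β * (m : ℤ) * ((p ^ k : ℕ) : ℤ) = ((p ^ k * m : ℕ) : ℤ) * β by push_cast; ring,
      ← hkm, zpow_mul, zpow_natCast, pow_orderOf_eq_one, one_zpow]
  have h₂ : a₂ ^ m = 1 := by
    rw [← zpow_natCast, ← zpow_mul,
      show α * ((p ^ k : ℕ) : ℤ) * (m : ℤ) = ((p ^ k * m : ℕ) : ℤ) * α by push_cast; ring,
      ← hkm, zpow_mul, zpow_natCast, pow_orderOf_eq_one, one_zpow]
  have hc₂ : a₂ ∈ Subgroup.centralizer (V : Set G) := by
    refine mem_centralizer_of_quadratic_coprime hV ?_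
      (le_bot_iff.1 ((Subgroup.commutator_mono (Subgroup.commutator_mono le_rfl hmem₂) hmem₂).trans
        ha.le))
    exact (((Nat.Prime.coprime_iff_not_dvd hp.out).2 hm).symm).coprime_dvd_left
      (orderOf_dvd_of_pow_eq_one h₂)
  rw [← hmul, QuotientGroup.mk_mul, (QuotientGroup.eq_one_iff a₂).2 hc₂, mul_one]
  exact h a₁ ⟨k, h₁⟩ (le_bot_iff.1
    ((Subgroup.commutator_mono (Subgroup.commutator_mono le_rfl hmem₁) hmem₁).trans ha.le))

/-- A `p`-stable group acts stably on the normal `p`-subgroups of its quotient by the `p'`-core. -/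
theorem isPStableOn_quotient_of_isPStable (hs : IsPStable p G)
    (P₀ : Subgroup (G ⧸ pPrimeCore p G)) [P₀.Normal] (hP₀ : IsPGroup p P₀) :
    IsPStableOn p P₀ := by
  set K := pPrimeCore p G
  set π := QuotientGroup.mk' K
  have hπ : Function.Surjective π := QuotientGroup.mk'_surjective K
  have hK : (Nat.card K).Coprime p := card_pPrimeCore_coprime p G
  refine isPStableOn_of_pElements hP₀ fun a ha hq => ?_
  obtain ⟨S₀⟩ : Nonempty (Sylow p G) := inferInstance
  have hza : IsPGroup p (Subgroup.zpowers a) := by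
    obtain ⟨k, hk⟩ := ha
    obtain ⟨j, -, hj⟩ := (Nat.dvd_prime_pow hp.out).1 (orderOf_dvd_of_pow_eq_one hk)
    exact IsPGroup.of_card (n := j) (by rw [Nat.card_zpowers, hj])
  obtain ⟨T₀, hT₀, haT₀⟩ := exists_sylIn_ge hza (le_top (a := Subgroup.zpowers a))
  obtain ⟨x, -, hx⟩ := (sylIn_map_mk (N := K) (sylIn_top S₀)).conj_eq hT₀
  obtain ⟨x₀, rfl⟩ := hπ x
  set T := cj (S₀ : Subgroup G) x₀
  have hT : SylIn p T ⊤ := (sylIn_top S₀).cj' (by rw [Subgroup.normalizer_eq_top]; trivial)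
  have hTmap : T.map π = T₀ := by
    rw [← hx]
    show ((S₀ : Subgroup G).map (MulAut.conj x₀).toMonoidHom).map π = _
    show _ = ((S₀ : Subgroup G).map π).map (MulAut.conj (π x₀)).toMonoidHom
    rw [Subgroup.map_map, Subgroup.map_map]
    congr 1
  obtain ⟨g, hgT, rfl⟩ := hTmap.ge (haT₀ (Subgroup.mem_zpowers a))
  set P := T ⊓ P₀.comap π
  have hPsub : P.map π = P₀ := by
    refine le_antisymm ((Subgroup.map_mono inf_le_right).trans (Subgroup.map_comap_le _ _)) ?_
    intro y hy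
    obtain ⟨S₁, hS₁⟩ := hT₀.exists_sylow
    obtain ⟨t, ht, rfl⟩ : y ∈ T.map π := by
      rw [hTmap, ← hS₁]; exact hP₀.le_sylow_of_normal S₁ hy
    exact ⟨t, ⟨ht, hy⟩, rfl⟩
  have hPp : IsPGroup p P := hT.isPGroup.to_inf_left
  have hA : IsPGroup p (Subgroup.zpowers g) :=
    hT.isPGroup.to_le (Subgroup.zpowers_le.2 hgT)
  have hAP : ∀ b ∈ Subgroup.zpowers g, ∀ z ∈ P, b * z * b⁻¹ ∈ P := fun b hb z hz => by
    refine ⟨show b * z * b⁻¹ ∈ T from mul_mem (mul_mem (Subgroup.zpowers_le.2 hgT hb) hz.1)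
      (inv_mem (Subgroup.zpowers_le.2 hgT hb)), ?_⟩
    show π (b * z * b⁻¹) ∈ P₀
    rw [map_mul, map_mul, map_inv]
    exact (inferInstance : P₀.Normal).conj_mem _ hz.2 _
  have hPle : P ≤ pPrimePCore p G := fun z hz =>
    le_pCore (p := p) hP₀ (show π z ∈ P₀ from hz.2)
  have hKP : K ⊔ P = P₀.comap π := by
    rw [← hPsub, QuotientGroup.comap_map_mk']
  have hn : (K ⊔ P).Normal := by rw [hKP]; infer_instance
  have hgN : g ∈ Subgroup.normalizer (P : Set G) := by
    refine mem_normalizer_of_cj_le ?_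
    rintro _ ⟨z, hz, rfl⟩
    exact hAP g (Subgroup.mem_zpowers g) z hz
  have hzN : Subgroup.zpowers g ≤ Subgroup.normalizer (P : Set G) := Subgroup.zpowers_le.2 hgN
  have hquad : ⁅⁅P, Subgroup.zpowers g⁆, Subgroup.zpowers g⁆ = ⊥ := by
    have h1 : ⁅P, Subgroup.zpowers g⁆ ≤ P :=
      Subgroup.le_normalizer_iff_commutator_le_left.1 hzN
    have h2 : ⁅⁅P, Subgroup.zpowers g⁆, Subgroup.zpowers g⁆ ≤ P :=
      (Subgroup.commutator_mono h1 le_rfl).trans h1
    have h3 : ⁅⁅P, Subgroup.zpowers g⁆, Subgroup.zpowers g⁆ ≤ K := by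
      rw [← QuotientGroup.ker_mk' K, ← Subgroup.map_eq_bot_iff, Subgroup.map_commutator,
        Subgroup.map_commutator, MonoidHom.map_zpowers]
      exact (congrArg (fun X => ⁅⁅X, Subgroup.zpowers (π g)⁆, Subgroup.zpowers (π g)⁆) hPsub).trans hq
    exact le_bot_iff.1 ((le_inf h3 h2).trans (coprime_inf_pGroup hK hPp).le)
  have hmem : (QuotientGroup.mk (s := (Subgroup.centralizer (P : Set G)).subgroupOf
      (Subgroup.normalizer (P : Set G))) (⟨g, hgN⟩ : ↥(Subgroup.normalizer (P : Set G)))) ∈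
      pCore p _ :=
    hs.2.2 (Subgroup.zpowers g) P hA hPp hAP hPle hn hquad
      ⟨⟨g, hgN⟩, Subgroup.mem_zpowers g, rfl⟩
  obtain ⟨D, hDN, hND, hDp, hgD⟩ := (mem_pCore_automizer_iff P g hgN).1 hmem
  set C := Subgroup.centralizer (P₀ : Set (G ⧸ K))
  haveI : (D.map π).Normal := by
    refine ⟨fun y hy z => ?_⟩
    obtain ⟨d, hd, rfl⟩ := hy
    obtain ⟨n, hn', rfl⟩ := exists_lift_normalizer hK hPp (y := z)
      (by rw [hPsub, Subgroup.normalizer_eq_top]; trivial)
    exact ⟨n * d * n⁻¹, (Subgroup.mem_normalizer_iff.1 (hND hn') d).1 hd,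
      by rw [map_mul, map_mul, map_inv]⟩
  haveI : ((D.map π).map (QuotientGroup.mk' C)).Normal :=
    Subgroup.Normal.map inferInstance _ (QuotientGroup.mk'_surjective C)
  refine le_pCore (N := (D.map π).map (QuotientGroup.mk' C)) ?_ ⟨π g, ⟨g, hgD, rfl⟩, rfl⟩
  rintro ⟨_, _, ⟨d, hd, rfl⟩, rfl⟩
  obtain ⟨k, hk⟩ := hDp d hd
  refine ⟨k, Subtype.ext (show QuotientGroup.mk' C (π d) ^ p ^ k = 1 from ?_)⟩
  rw [← map_pow]
  refine (QuotientGroup.eq_one_iff _).2 (mem_centralizer_set.2 fun y hy => ?_)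
  obtain ⟨z, hz, rfl⟩ := hPsub.ge hy
  rw [← map_pow, ← map_inv, ← map_mul, ← map_mul, mem_centralizer_set.1 hk z hz]

/-- A `p`-constrained group modulo its `p'`-core contains the centralizer of its `p`-core. -/
theorem centralizer_pCore_quotient_le (hc : IsPConstrained p G) :
    Subgroup.centralizer (pCore p (G ⧸ pPrimeCore p G) : Set (G ⧸ pPrimeCore p G)) ≤
      pCore p (G ⧸ pPrimeCore p G) := by
  set K := pPrimeCore p G
  set π := QuotientGroup.mk' K
  have hK : (Nat.card K).Coprime p := card_pPrimeCore_coprime p G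
  set M := pPrimePCore p G
  obtain ⟨P⟩ : Nonempty (Sylow p M) := inferInstance
  set Q := (P : Subgroup M).map M.subtype
  have hQ : SylIn p Q M := sylIn_map M P
  have hQmap : Q.map π = pCore p (G ⧸ K) := by
    have hle : Q.map π ≤ pCore p (G ⧸ K) :=
      (Subgroup.map_mono hQ.le).trans (Subgroup.map_comap_le _ _)
    have hsyl : SylIn p (Q.map π) (pCore p (G ⧸ K)) := by
      refine ⟨hle, hQ.isPGroup.map π, fun hd => hQ.not_dvd ?_⟩
      have e : M.map π = pCore p (G ⧸ K) :=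
        Subgroup.map_comap_eq_self_of_surjective (QuotientGroup.mk'_surjective K) _
      rw [← e] at hd
      refine hd.trans ?_
      rw [Subgroup.relIndex_map_map, QuotientGroup.ker_mk',
        sup_eq_left.2 (show K ≤ M from le_trans (QuotientGroup.ker_mk' K).ge
          (Subgroup.ker_le_comap π _))]
      exact Subgroup.relIndex_dvd_of_le_left _ le_sup_left
    exact (hsyl.eq_of_le (isPGroup_pCore p _) hle le_rfl).symm
  intro y hy
  obtain ⟨x, hx, rfl⟩ := exists_lift_normalizer hK hQ.isPGroup (y := y) (by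
    rw [hQmap, Subgroup.normalizer_eq_top]; trivial)
  have hxc : x ∈ Subgroup.centralizer (Q : Set G) := by
    refine mem_centralizer_set.2 fun q hq => ?_
    refine injOn_mk_of_coprime hK hQ.isPGroup
      ((Subgroup.mem_normalizer_iff.1 hx q).1 hq) hq ?_
    show π (x * q * x⁻¹) = π q
    rw [map_mul, map_mul, map_inv]
    exact mem_centralizer_set.1 hy (π q) (hQmap ▸ ⟨q, hq, rfl⟩)
  exact hc P hxc

end Cfsg.Agent.Fusion
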