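import Cfsg.Agent.Lib.Fusion.Reduction
import Cfsg.Agent.Lib.Fusion.PStableQuotient

/-!
# The subgroup `O_{p',p}` and `p`-constraint
-/

set_option autoImplicit false

namespace Cfsg.Agent.Fusion

variable {G : Type*} [Group G] [Finite G] {p : ℕ} [hp : Fact p.Prime]

theorem pPrimePCore_normal : (Cfsg.pPrimePCore p G).Normal := by
  unfold Cfsg.pPrimePCore; infer_instance

theorem pPrimeCore_le_pPrimePCore : Cfsg.pPrimeCore p G ≤ Cfsg.pPrimePCore p G :=
  le_trans (QuotientGroup.ker_mk' _).ge (Subgroup.ker_le_comap _ _)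

theorem map_pPrimePCore : (Cfsg.pPrimePCore p G).map (QuotientGroup.mk' (Cfsg.pPrimeCore p G)) =
    Cfsg.pCore p (G ⧸ Cfsg.pPrimeCore p G) :=
  Subgroup.map_comap_eq_self_of_surjective (QuotientGroup.mk'_surjective _) _

theorem map_sylIn_pPrimePCore {Q : Subgroup G} (hQ : SylIn p Q (Cfsg.pPrimePCore p G)) :
    Q.map (QuotientGroup.mk' (Cfsg.pPrimeCore p G)) = Cfsg.pCore p (G ⧸ Cfsg.pPrimeCore p G) := by
  set π := QuotientGroup.mk' (Cfsg.pPrimeCore p G)
  have hle : Q.map π ≤ Cfsg.pCore p (G ⧸ Cfsg.pPrimeCore p G) :=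
    (Subgroup.map_mono hQ.le).trans (Subgroup.map_comap_le _ _)
  have hsyl : SylIn p (Q.map π) (Cfsg.pCore p (G ⧸ Cfsg.pPrimeCore p G)) := by
    refine ⟨hle, hQ.isPGroup.map π, fun hd => hQ.not_dvd ?_⟩
    rw [← map_pPrimePCore (p := p) (G := G)] at hd
    refine hd.trans ?_
    rw [Subgroup.relIndex_map_map, QuotientGroup.ker_mk', sup_eq_left.2 pPrimeCore_le_pPrimePCore]
    exact Subgroup.relIndex_dvd_of_le_left _ le_sup_left
  exact (hsyl.eq_of_le (isPGroup_pCore p _) hle le_rfl).symm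

theorem sup_pPrimeCore_of_sylIn {Q : Subgroup G} (hQ : SylIn p Q (Cfsg.pPrimePCore p G)) :
    Q ⊔ Cfsg.pPrimeCore p G = Cfsg.pPrimePCore p G := by
  refine le_antisymm (sup_le hQ.le pPrimeCore_le_pPrimePCore) fun x hx => ?_
  have hx' : QuotientGroup.mk' (Cfsg.pPrimeCore p G) x ∈ Q.map (QuotientGroup.mk' (Cfsg.pPrimeCore p G)) := by
    rw [map_sylIn_pPrimePCore hQ, ← map_pPrimePCore]
    exact Subgroup.mem_map_of_mem _ hx
  rw [← Subgroup.mem_comap, Subgroup.comap_map_eq, QuotientGroup.ker_mk'] at hx'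
  exact hx'

theorem isPConstrained_iff : Cfsg.IsPConstrained p G ↔
    Subgroup.centralizer (Cfsg.pCore p (G ⧸ Cfsg.pPrimeCore p G) : Set (G ⧸ Cfsg.pPrimeCore p G)) ≤
      Cfsg.pCore p (G ⧸ Cfsg.pPrimeCore p G) := by
  refine ⟨fun h => centralizer_pCore_quotient_le h, fun h P x hx => ?_⟩
  have hQ := sylIn_map (Cfsg.pPrimePCore p G) P
  refine Subgroup.mem_comap.2 (h ?_)
  rw [← map_sylIn_pPrimePCore hQ, Subgroup.mem_centralizer_iff]
  rintro _ ⟨q, hq, rfl⟩
  rw [← map_mul, ← map_mul, Subgroup.mem_centralizer_iff.1 hx q hq]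

theorem isPConstrained_iff_of_core_eq_bot (h : Cfsg.pPrimeCore p G = ⊥) :
    Cfsg.IsPConstrained p G ↔ Subgroup.centralizer (Cfsg.pCore p G : Set G) ≤ Cfsg.pCore p G := by
  let e : G ⧸ Cfsg.pPrimeCore p G ≃* G :=
    (QuotientGroup.quotientMulEquivOfEq h).trans QuotientGroup.quotientBot
  rw [isPConstrained_iff]
  exact ⟨fun hh => centralizer_pCore_equiv e.symm hh, fun hh => centralizer_pCore_equiv e hh⟩

end Cfsg.Agent.Fusion

namespace Cfsg.Agent.Fusion

theorem centralizer_pCore_le_of_normal_sylow {G : Type*} [Group G] [Finite G] {p : ℕ}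
    [hp : Fact p.Prime] (h0 : Cfsg.pPrimeCore p G = ⊥) {S : Subgroup G} (hS : SylIn p S ⊤) [S.Normal] :
    Subgroup.centralizer (Cfsg.pCore p G : Set G) ≤ Cfsg.pCore p G := by
  have hSO : Cfsg.pCore p G = S := le_antisymm (pCore_le_sylIn hS) (le_pCore hS.isPGroup)
  rw [hSO]
  set C := Subgroup.centralizer (S : Set G) with hC
  haveI : C.Normal := Subgroup.normal_centralizer
  have hSC : SylIn p (S ⊓ C) C := hS.inf_normal le_top (by rw [Subgroup.normalizer_eq_top])
  have hn : Cfsg.HasNormalPComplement p ↥C := by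
    obtain ⟨P⟩ : Nonempty (Sylow p C) := inferInstance
    refine hnpc_of_normalizer_le_centralizer P fun c _ => ?_
    obtain ⟨x, hx, he⟩ := hSC.conj_eq (sylIn_map C P)
    refine Subgroup.mem_centralizer_iff.2 fun y hy => Subtype.ext ?_
    have hy' : (y : G) ∈ cj (S ⊓ C) x := he.symm ▸ Subgroup.mem_map_of_mem _ hy
    have hyS : (y : G) ∈ S := (cj_of_normal S x) ▸ cj_mono inf_le_left x hy'
    exact Subgroup.mem_centralizer_iff.1 c.2 _ hyS
  rw [hnpc_iff] at hn
  have hbot : (Cfsg.pResidual p ↥C).map C.subtype = ⊥ := by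
    haveI : ((Cfsg.pResidual p ↥C).map C.subtype).Normal := inferInstance
    refine eq_bot_iff.2 (h0 ▸ le_pPrimeCore ?_)
    rwa [Subgroup.card_map_of_injective C.subtype_injective]
  rw [Subgroup.map_eq_bot_iff_of_injective _ C.subtype_injective] at hbot
  have hCp : IsPGroup p ↥C := (isPGroup_quotient_pResidual (p := p) (G := C)).of_equiv
    ((QuotientGroup.quotientMulEquivOfEq hbot).trans QuotientGroup.quotientBot)
  exact (le_pCore hCp).trans_eq hSO

end Cfsg.Agent.Fusion
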