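import Mathlib
import Cfsg.Prelude.Def_Transfer
import Cfsg.Agent.Lib.Fusion.NPC

/-!
# Central extensions split by transfer, and Frattini-embedded normal subgroups
-/

set_option autoImplicit false

universe u

namespace Cfsg.Agent.Fusion

/-- Gaschütz's splitting theorem for a central subgroup: a retraction of a Hall-type supplement
extends. -/
theorem exists_retraction {E A : Type*} [Group E] [Finite E] [CommGroup A] (ι : A →* E)
    (hι : ∀ a e, ι a * e = e * ι a) (S : Subgroup E) (hS : ∀ a, ι a ∈ S) (θ : S →* A)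
    (hθ : ∀ a, θ ⟨ι a, hS a⟩ = a) (hcop : (Nat.card A).Coprime S.index) :
    ∃ φ : E →* A, ∀ a, φ (ι a) = a := by
  have hV : ∀ a, MonoidHom.transfer θ (ι a) = a ^ S.index := by
    intro a
    rw [MonoidHom.transfer_eq_pow θ (ι a) (fun k g₀ _ => by
      rw [← map_pow, mul_assoc, hι, inv_mul_cancel_left])]
    refine (congrArg θ (?_ : _ = (⟨ι a, hS a⟩ : S) ^ S.index)).trans (by rw [map_pow, hθ])
    exact Subtype.ext rfl
  let e : A ≃* A := MulEquiv.ofBijective (powMonoidHom S.index) (powCoprime hcop).bijective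
  refine ⟨e.symm.toMonoidHom.comp (MonoidHom.transfer θ), fun a => ?_⟩
  show e.symm (MonoidHom.transfer θ (ι a)) = a
  rw [hV]
  exact e.symm_apply_apply a

variable {G : Type u} [Group G] [Finite G] {p : ℕ} [hp : Fact p.Prime]

theorem transfer_central {A : Type*} [CommGroup A] {S : Subgroup G} (θ : S →* A) {z : G}
    (hzS : z ∈ S) (hz : z ∈ Subgroup.center G) :
    MonoidHom.transfer θ z = θ ⟨z, hzS⟩ ^ S.index := by
  rw [MonoidHom.transfer_eq_pow θ z (fun k g₀ _ => by
    rw [mul_assoc, ← Subgroup.mem_center_iff.1 (pow_mem hz k) g₀, inv_mul_cancel_left])]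
  rw [← map_pow]
  rfl

theorem exists_normal_index_p_above {X : Type*} [Group X] [Finite X] (hX : IsPGroup p X)
    {N : Subgroup X} [N.Normal] (hN : N ≠ ⊤) : ∃ M : Subgroup X, N ≤ M ∧ M.index = p := by
  obtain ⟨n, hn⟩ := IsPGroup.iff_card.1 (hX.to_quotient N)
  have hn0 : n ≠ 0 := by
    rintro rfl
    rw [pow_zero, ← Subgroup.index_eq_card, Subgroup.index_eq_one] at hn
    exact hN hn
  obtain ⟨m, rfl⟩ : ∃ m, n = m + 1 := ⟨n - 1, by omega⟩
  obtain ⟨C, hC⟩ := Sylow.exists_subgroup_card_pow_prime (G := X ⧸ N) p (n := m)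
    (hn ▸ pow_dvd_pow p (Nat.le_succ m))
  refine ⟨C.comap (QuotientGroup.mk' N), fun x hx => ?_, ?_⟩
  · simp [(QuotientGroup.eq_one_iff x).2 hx]
  · rw [Subgroup.index_comap_of_surjective _ (QuotientGroup.mk'_surjective N)]
    have := C.card_mul_index
    rw [hC, hn, pow_succ] at this
    exact Nat.eq_of_mul_eq_mul_left (pow_pos hp.out.pos m) this

/-- A normal subgroup without `p`-quotient meeting a Sylow subgroup inside its Frattini subgroup
meets it trivially (a weak form of Tate's theorem). -/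
theorem inf_sylow_eq_bot_of_frattini {H : Type u} [Group H] [Finite H] (K : Subgroup H) [K.Normal]
    (hK : pResidual p K = ⊤) (P : Sylow p H) (hKP : K ⊔ (P : Subgroup H) = ⊤)
    (hM : ∀ M : Subgroup P, M.index = p → K.subgroupOf P ≤ M) :
    K ⊓ (P : Subgroup H) = ⊥ := by
  by_contra hne
  set Q : Subgroup P := K.subgroupOf P
  have hQne : Q ≠ ⊥ := fun h => hne (by
    rw [← Subgroup.subgroupOf_map_subtype]
    exact (congrArg (Subgroup.map (P : Subgroup H).subtype) h).trans (Subgroup.map_bot _))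
  haveI : Group.IsNilpotent P := P.isPGroup'.isNilpotent
  set Q1 : Subgroup P := ⁅Q, (⊤ : Subgroup P)⁆
  have hQ1 : Q1 ≤ Q := Subgroup.commutator_le_left _ _
  have hQ1n : Q1.subgroupOf Q ≠ ⊤ := fun h =>
    hQne (eq_bot_of_le_commutator_top (Subgroup.subgroupOf_eq_top.1 h))
  obtain ⟨X', hX', hX'i⟩ := exists_normal_index_p_above (p := p)
    (P.isPGroup'.to_subgroup Q) hQ1n
  set X : Subgroup P := X'.map Q.subtype
  have hXQ : X ≤ Q := Subgroup.map_subtype_le _
  have hQ1X : Q1 ≤ X := fun x hx => ⟨⟨x, hQ1 hx⟩, hX' hx, rfl⟩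
  have hcomm : ∀ x ∈ Q, ∀ g : P, x * g * x⁻¹ * g⁻¹ ∈ X := fun x hx g => hQ1X (by
    have := Subgroup.commutator_mem_commutator hx (Subgroup.mem_top g)
    rwa [commutatorElement_def] at this)
  haveI hXn : X.Normal := ⟨fun x hx g => by
    have := mul_mem (inv_mem (hcomm x (hXQ hx) g)) hx
    simpa [mul_assoc] using this⟩
  set π : P →* P ⧸ X := QuotientGroup.mk' X
  set Z : Subgroup (P ⧸ X) := Q.map π
  have hZc : ∀ z ∈ Z, ∀ e : P ⧸ X, z * e = e * z := by
    rintro _ ⟨x, hx, rfl⟩ e
    obtain ⟨g, rfl⟩ := QuotientGroup.mk'_surjective X e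
    have h0 : π (x * g * x⁻¹ * g⁻¹) = 1 := (QuotientGroup.eq_one_iff _).2 (hcomm x hx g)
    simp only [map_mul, map_inv] at h0
    exact mul_inv_eq_iff_eq_mul.1 (mul_inv_eq_one.1 h0)
  letI : CommGroup Z :=
    { (inferInstance : Group Z) with mul_comm := fun a b => Subtype.ext (hZc a a.2 b) }
  have hZcard : Nat.card Z = p := by
    have hX2 : X.subgroupOf Q = X' :=
      Subgroup.comap_map_eq_self_of_injective Q.subtype_injective _
    rw [← Subgroup.relIndex_ker, QuotientGroup.ker_mk', Subgroup.relIndex, hX2, hX'i]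
  let ρ : P →* H ⧸ K := (QuotientGroup.mk' K).comp (P : Subgroup H).subtype
  have hρX : X ≤ ρ.ker := fun x hx => (QuotientGroup.eq_one_iff (x : H)).2 (hXQ hx)
  let α : P ⧸ X →* H ⧸ K := QuotientGroup.lift X ρ hρX
  have hαπ : ∀ x : P, α (π x) = QuotientGroup.mk (x : H) := fun x => rfl
  have hαker : ∀ e, α e = 1 → e ∈ Z := by
    intro e he
    obtain ⟨g, rfl⟩ := QuotientGroup.mk'_surjective X e
    exact ⟨g, (QuotientGroup.eq_one_iff (g : H)).1 he, rfl⟩
  have hαZ : ∀ z : Z, α z = 1 := by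
    rintro ⟨_, x, hx, rfl⟩
    exact (QuotientGroup.eq_one_iff (x : H)).2 hx
  have hαs : Function.Surjective α := by
    intro a
    obtain ⟨h, rfl⟩ := QuotientGroup.mk_surjective a
    obtain ⟨k, hk, x, hx, rfl⟩ := Subgroup.mem_sup_of_normal_left.1 (hKP ▸ Subgroup.mem_top h)
    exact ⟨π ⟨x, hx⟩, by simp [hαπ, QuotientGroup.mk_mul, (QuotientGroup.eq_one_iff k).2 hk]⟩
  let F : Subgroup (H × (P ⧸ X)) :=
    { carrier := {w | QuotientGroup.mk w.1 = α w.2}
      one_mem' := by simp
      mul_mem' := fun {a b} (ha : _ = _) (hb : _ = _) => by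
        show QuotientGroup.mk (a.1 * b.1) = α (a.2 * b.2)
        rw [map_mul, QuotientGroup.mk_mul, ha, hb]
      inv_mem' := fun {a} (ha : _ = _) => by
        show QuotientGroup.mk a.1⁻¹ = α a.2⁻¹
        rw [map_inv, QuotientGroup.mk_inv, ha] }
  let ι : Z →* F :=
    { toFun := fun z => ⟨(1, z), (hαZ z).symm⟩
      map_one' := rfl
      map_mul' := fun a b => Subtype.ext (Prod.ext (one_mul 1).symm rfl) }
  let fstF : F →* H := (MonoidHom.fst H (P ⧸ X)).comp F.subtype
  have hfst : Function.Surjective fstF := by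
    intro h
    obtain ⟨e, he⟩ := hαs (QuotientGroup.mk h)
    exact ⟨⟨(h, e), he.symm⟩, rfl⟩
  let S : Subgroup F := (P : Subgroup H).comap fstF
  have hmemZ : ∀ w : S, (w : F).1.2 * (π ⟨(w : F).1.1, w.2⟩)⁻¹ ∈ Z := by
    intro w
    refine hαker _ ?_
    rw [map_mul, map_inv, hαπ, mul_inv_eq_one]
    exact (w : F).2.symm
  let θ : S →* Z :=
    { toFun := fun w => ⟨_, hmemZ w⟩
      map_one' := Subtype.ext (by
        show (1 : P ⧸ X) * (π 1)⁻¹ = 1
        simp)
      map_mul' := fun v w => Subtype.ext (by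
        show ((v : F).1.2 * (w : F).1.2) * (π (⟨(v : F).1.1, v.2⟩ * ⟨(w : F).1.1, w.2⟩))⁻¹ = _
        rw [map_mul, mul_inv_rev, mul_assoc, ← mul_assoc ((w : F).1.2),
          hZc _ (hmemZ w), ← mul_assoc]
        rfl) }
  obtain ⟨φ, hφ⟩ := exists_retraction ι
    (fun a e => Subtype.ext (Prod.ext (by simp [ι]) (hZc a a.2 _)))
    S (fun a => (P : Subgroup H).one_mem) θ
    (fun a => Subtype.ext (by
      show (a : P ⧸ X) * (π 1)⁻¹ = a
      simp))
    (by
      rw [hZcard, Subgroup.index_comap_of_surjective _ hfst, hp.out.coprime_iff_not_dvd]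
      exact P.not_dvd_index)
  let d : P →* F :=
    { toFun := fun x => ⟨((x : H), π x), (hαπ x).symm⟩
      map_one' := rfl
      map_mul' := fun _ _ => rfl }
  let j : K →* F :=
    { toFun := fun k => ⟨((k : H), 1), by
        show QuotientGroup.mk (k : H) = α 1
        rw [map_one]; exact (QuotientGroup.eq_one_iff _).2 k.2⟩
      map_one' := rfl
      map_mul' := fun a b => Subtype.ext (Prod.ext rfl (one_mul 1).symm) }
  have hj : φ.comp j = 1 := by
    rw [← MonoidHom.ker_eq_top_iff, eq_top_iff, ← hK]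
    refine (Subgroup.closure_le _).2 fun k hk => ?_
    rw [SetLike.mem_coe, MonoidHom.mem_ker, ← orderOf_eq_one_iff]
    exact Nat.eq_one_of_dvd_coprimes hk (orderOf_map_dvd _ k)
      ((orderOf_dvd_natCard _).trans hZcard.dvd)
  have hδ : ∀ x ∈ Q, ((φ (d x) : Z) : P ⧸ X) = π x := by
    intro x hx
    have h1 : d x = j ⟨(x : H), hx⟩ * ι ⟨π x, ⟨x, hx, rfl⟩⟩ :=
      Subtype.ext (Prod.ext (mul_one (x : H)).symm (one_mul (π x)).symm)
    rw [h1, map_mul, hφ, show φ (j ⟨(x : H), hx⟩) = 1 from DFunLike.congr_fun hj _, one_mul]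
  have hsurj : Function.Surjective (φ.comp d) := by
    rintro ⟨_, x, hx, rfl⟩
    exact ⟨x, Subtype.ext (hδ x hx)⟩
  have hle := hM (φ.comp d).ker (by
    rw [Subgroup.index_ker, MonoidHom.range_eq_top.2 hsurj, Subgroup.card_top, hZcard])
  obtain ⟨z, hz⟩ : ∃ z : Z, z ≠ 1 := by
    by_contra hall
    push Not at hall
    have : Subsingleton Z := ⟨fun a b => by rw [hall a, hall b]⟩
    rw [Nat.card_of_subsingleton (1 : Z)] at hZcard
    exact hp.out.ne_one hZcard.symm
  obtain ⟨_, x, hx, rfl⟩ := z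
  refine hz (Subtype.ext ?_)
  exact (hδ x hx).symm.trans (congrArg Subtype.val (MonoidHom.mem_ker.1 (hle hx)))

theorem hnpc_normal_of_frattini (N : Subgroup G) [N.Normal] (P : Sylow p G)
    (h : N ⊓ (P : Subgroup G) ≤ (frattini P).map (P : Subgroup G).subtype) :
    HasNormalPComplement p N := by
  set K : Subgroup G := (pResidual p N).map N.subtype
  have hKN : K ≤ N := Subgroup.map_subtype_le _
  haveI : K.Normal := ConjAct.normal_of_characteristic_of_normal
  set H := K ⊔ (P : Subgroup G)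
  set P' : Sylow p H := P.subtype le_sup_right
  set K' : Subgroup H := K.subgroupOf H
  have hKK : Nat.card K' = Nat.card K :=
    Nat.card_congr (Subgroup.subgroupOfEquivOfLe le_sup_left).toEquiv
  let e : pResidual p N ≃* K' :=
    ((pResidual p N).equivMapOfInjective N.subtype N.subtype_injective).trans
      (Subgroup.subgroupOfEquivOfLe (le_sup_left : K ≤ H)).symm
  have hres : pResidual p K' = ⊤ := by
    rw [← map_pResidual_of_surjective e.toMonoidHom e.surjective, pResidual_pResidual]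
    exact Subgroup.map_top_of_surjective _ e.surjective
  have hP' : (P' : Subgroup H) = (P : Subgroup G).subgroupOf H := rfl
  have hbot : K' ⊓ (P' : Subgroup H) = ⊥ := by
    refine inf_sylow_eq_bot_of_frattini K' hres P' ?_ ?_
    · rw [hP', ← Subgroup.subgroupOf_sup le_sup_left le_sup_right, Subgroup.subgroupOf_self]
    · intro M hM x hx
      let ψ : (P : Subgroup G) ≃* P' := (Subgroup.subgroupOfEquivOfLe
        (le_sup_right : (P : Subgroup G) ≤ H)).symm
      have hcoatom : IsCoatom (M.comap ψ.toMonoidHom) := by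
        have hi : (M.comap ψ.toMonoidHom).index = p :=
          (Subgroup.index_comap_of_surjective _ ψ.surjective).trans hM
        refine ⟨fun h1 => hp.out.ne_one (by rw [← hi, h1, Subgroup.index_top]), fun L hL => ?_⟩
        rw [← Subgroup.index_eq_one]
        have h2 := Subgroup.relIndex_mul_index hL.le
        rw [hi] at h2
        rcases (Nat.dvd_prime hp.out).1 (Dvd.intro _ h2) with h3 | h3
        · exact absurd (Subgroup.relIndex_eq_one.1 h3) hL.not_ge
        · rw [h3] at h2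
          exact (Nat.mul_eq_left hp.out.ne_zero).1 h2
      have hxP : ((x : H) : G) ∈ (P : Subgroup G) := x.2
      obtain ⟨y, hy, hyx⟩ := h ⟨hKN hx, hxP⟩
      have h4 := (frattini_le_coatom hcoatom) hy
      have h5 : ψ y = x := Subtype.ext (Subtype.ext hyx)
      exact h5 ▸ h4
  rw [hnpc_iff]
  have hK'c : (Nat.card K').Coprime p := by
    rw [coprime_card_iff_not_dvd]
    intro hdvd
    obtain ⟨k, hk⟩ := exists_prime_orderOf_dvd_card' p hdvd
    have hpk : IsPGroup p (Subgroup.zpowers (k : H)) :=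
      IsPGroup.of_card (n := 1) (by rw [Nat.card_zpowers, Subgroup.orderOf_coe, hk, pow_one])
    obtain ⟨c, -, hc⟩ := (sylIn_top P').conj_le hpk le_top
    have hmem : c * (k : H) * c⁻¹ ∈ K' ⊓ (P' : Subgroup H) :=
      ⟨(inferInstance : K'.Normal).conj_mem _ k.2 c,
        hc (conj_mem_cj (Subgroup.mem_zpowers _))⟩
    rw [hbot, Subgroup.mem_bot, mul_inv_eq_one] at hmem
    have : (k : H) = 1 := by simpa using hmem
    rw [← Subgroup.orderOf_coe, this, orderOf_one] at hk
    exact hp.out.ne_one hk.symm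
  rwa [Nat.card_congr e.symm.toEquiv] at hK'c

end Cfsg.Agent.Fusion
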