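import Mathlib
import Cfsg.Agent.Lib.Fusion.Basic
import Cfsg.Agent.Lib.Fusion.NPC
import Cfsg.Agent.Lib.Fusion.TransferSplit

/-!
# Hall subgroups: conjugacy of abelian ones, complements, nilpotent groups
-/

set_option autoImplicit false

universe u

namespace Cfsg.Agent.Fusion

variable {G : Type u} [Group G] [Finite G]

theorem isHall_sylow {H : Subgroup G} (hH : (Nat.card H).Coprime H.index) {q : ℕ} [Fact q.Prime]
    {Q : Subgroup G} (hQ : SylIn q Q H) (hq : q ∣ Nat.card H) : SylIn q Q ⊤ := by
  refine ⟨le_top, hQ.isPGroup, ?_⟩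
  rw [Subgroup.relIndex_top_right, ← Subgroup.relIndex_mul_index hQ.le]
  intro h
  rcases (Nat.Prime.dvd_mul Fact.out).1 h with h1 | h1
  · exact hQ.not_dvd h1
  · exact (Fact.out : q.Prime).ne_one (Nat.eq_one_of_dvd_coprimes hH hq h1)

/-- A normal Sylow subgroup of `H` contains the `q`-subgroups of `H`. -/
theorem le_of_normal_sylIn {H Q R : Subgroup G} {q : ℕ} [Fact q.Prime] (hQ : SylIn q Q H)
    (hn : H ≤ Subgroup.normalizer (Q : Set G)) (hR : IsPGroup q R) (hRH : R ≤ H) : R ≤ Q := by
  obtain ⟨c, hc, hcR⟩ := hQ.conj_le hR hRH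
  have h1 := cj_mono hcR c⁻¹
  rwa [cj_cj_inv, cj_eq_self (inv_mem (hn hc))] at h1

/-- Abelian Hall subgroups of equal order are conjugate. -/
theorem abelianHall_conj {H K : Subgroup G} (hH : (Nat.card H).Coprime H.index)
    (hHK : Nat.card K = Nat.card H) (hHa : H ≤ Subgroup.centralizer (H : Set G))
    (hKa : K ≤ Subgroup.centralizer (K : Set G)) : ∃ g, cj K g = H := by
  classical
  have key : ∀ s : Finset ℕ, (∀ q ∈ s, q.Prime ∧ q ∣ Nat.card H) → ∃ x : G, ∀ q ∈ s, ∀ T : Subgroup G,
      T ≤ H → IsPGroup q T → T ≤ cj K x := by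
    intro s
    induction s using Finset.induction_on with
    | empty => exact fun _ => ⟨1, by simp⟩
    | @insert q s _ ih =>
      intro hs
      obtain ⟨x, hx⟩ := ih fun r hr => hs r (Finset.mem_insert_of_mem hr)
      obtain ⟨hq, hqd⟩ := hs q (Finset.mem_insert_self q s)
      haveI := Fact.mk hq
      have hK'a : cj K x ≤ Subgroup.centralizer (cj K x : Set G) := by
        rw [← cj_centralizer]; exact cj_mono hKa x
      set D := H ⊓ cj K x
      set X := Subgroup.centralizer (D : Set G)
      have hHX : H ≤ X := hHa.trans (Subgroup.centralizer_le (fun _ h => h.1))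
      have hKX : cj K x ≤ X := hK'a.trans (Subgroup.centralizer_le (fun _ h => h.2))
      obtain ⟨Q, hQ⟩ := exists_sylIn (p := q) H
      obtain ⟨R, hR⟩ := exists_sylIn (p := q) (cj K x)
      have hcK : Nat.card (cj K x) = Nat.card H := by rw [card_cj, hHK]
      have hKhall : (Nat.card (cj K x)).Coprime (cj K x).index := by
        have h1 := (cj K x).card_mul_index
        rw [hcK, ← H.card_mul_index] at h1
        rw [hcK, Nat.eq_of_mul_eq_mul_left Nat.card_pos h1]
        exact hH
      have hQX := (isHall_sylow hH hQ hqd).mono (hQ.le.trans hHX) le_top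
      have hRX := (isHall_sylow hKhall hR (hcK ▸ hqd)).mono (hR.le.trans hKX) le_top
      obtain ⟨c, hc, hcR⟩ := hRX.conj_eq hQX
      refine ⟨c * x, fun r hr T hT hTp => ?_⟩
      rw [← cj_cj]
      rcases Finset.mem_insert.1 hr with rfl | hr'
      · refine le_trans ?_ (cj_mono hR.le c)
        rw [hcR]
        exact le_of_normal_sylIn hQ
          ((hHa.trans (Subgroup.centralizer_le hQ.le)).trans (Subgroup.centralizer_le_normalizer _))
          hTp hT
      · intro t ht
        rw [mem_cj]
        have htD : t ∈ D := ⟨hT ht, hx r hr' T hT hTp ht⟩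
        have h1 := Subgroup.mem_centralizer_iff.1 hc t htD
        rw [mul_assoc, h1, ← mul_assoc, inv_mul_cancel, one_mul]
        exact htD.2
  obtain ⟨x, hx⟩ := key (Nat.card H).primeFactors
    (fun q hq => ⟨Nat.prime_of_mem_primeFactors hq, Nat.dvd_of_mem_primeFactors hq⟩)
  refine ⟨x, ?_⟩
  have hle : H ≤ cj K x := by
    have h1 : H ⊓ cj K x = H := by
      refine Subgroup.eq_of_le_of_card_ge inf_le_left (Nat.le_of_dvd Nat.card_pos ?_)
      rw [Nat.dvd_iff_prime_pow_dvd_dvd]
      intro q k hq hqk
      rcases Nat.eq_zero_or_pos k with rfl | hk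
      · simp
      haveI := Fact.mk hq
      obtain ⟨T, hT⟩ := Sylow.exists_subgroup_card_pow_prime (G := H) q hqk
      have h2 : T.map H.subtype ≤ H ⊓ cj K x :=
        le_inf (Subgroup.map_subtype_le _) (hx q (Nat.mem_primeFactors.2
          ⟨hq, (dvd_pow_self q hk.ne').trans hqk, Nat.card_pos.ne'⟩) _ (Subgroup.map_subtype_le _)
          (IsPGroup.of_card (n := k) (by rw [Subgroup.card_map_of_injective H.subtype_injective, hT])))
      have h3 := Subgroup.card_dvd_of_le h2
      rwa [Subgroup.card_map_of_injective H.subtype_injective, hT] at h3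
    exact h1 ▸ inf_le_right
  exact (Subgroup.eq_of_le_of_card_ge hle (by rw [card_cj, hHK])).symm

/-- A normal subgroup of order prime to a Hall subgroup containing all elements of order prime to
it is a complement. -/
theorem isComplement'_of_hall {H M : Subgroup G} [M.Normal] (hH : (Nat.card H).Coprime H.index)
    (h1 : (Nat.card M).Coprime (Nat.card H))
    (h2 : ∀ g : G, (orderOf g).Coprime (Nat.card H) → g ∈ M) : M.IsComplement' H := by
  refine Subgroup.isComplement'_of_coprime ?_ h1
  have h3 : Nat.card M ∣ H.index := by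
    refine h1.dvd_of_dvd_mul_left ?_
    rw [H.card_mul_index]
    exact Subgroup.card_subgroup_dvd_card M
  have h4 : H.index ∣ Nat.card M := by
    rw [Nat.dvd_iff_prime_pow_dvd_dvd]
    intro q k hq hqk
    haveI := Fact.mk hq
    rcases Nat.eq_zero_or_pos k with rfl | hk
    · simp
    obtain ⟨T, hT⟩ := Sylow.exists_subgroup_card_pow_prime (G := G) q
      (hqk.trans H.index_dvd_card)
    have hle : T ≤ M := fun t ht => by
      refine h2 t ?_
      have h5 : orderOf t ∣ q ^ k := hT ▸ (Subgroup.orderOf_mk t ht ▸ orderOf_dvd_natCard _)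
      refine Nat.Coprime.coprime_dvd_left h5 ?_
      exact ((hH.symm.coprime_dvd_left ((dvd_pow_self q hk.ne').trans hqk))).pow_left k
    exact hT ▸ Subgroup.card_dvd_of_le hle
  rw [Nat.dvd_antisymm h3 h4, mul_comm]
  exact H.card_mul_index

theorem hnpc_of_isNilpotent {p : ℕ} [hp : Fact p.Prime] [Group.IsNilpotent G] :
    HasNormalPComplement p G := by
  obtain ⟨P⟩ : Nonempty (Sylow p G) := inferInstance
  refine hnpc_of_centralize (sylIn_top P) fun Q hQ g _ hg => ?_
  refine Subgroup.centralizer_le (s := (Q : Set G)) (t := (P : Set G)) hQ ?_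
  have hn : ∀ (q : ℕ) [Fact q.Prime] (R : Sylow q G), (R : Subgroup G).Normal := fun q _ R =>
    ((Group.isNilpotent_of_finite_tfae (G := G)).out 0 3
      (a := Group.IsNilpotent G)
      (b := ∀ (q : ℕ) (_ : Fact q.Prime) (R : Sylow q G), (R : Subgroup G).Normal)).1
      ‹Group.IsNilpotent G› q ‹_› R
  haveI := hn p P
  set C := Subgroup.centralizer (P : Set G)
  haveI : C.Normal := Subgroup.normal_centralizer (H := (P : Subgroup G))
  have hindex : (orderOf g).Coprime C.index := by
    refine Nat.coprime_of_dvd' fun q hq hqg hqC => ?_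
    exfalso
    haveI := Fact.mk hq
    have hne : q ≠ p := fun h =>
      hq.ne_one (Nat.eq_one_of_dvd_coprimes hg hqg (h ▸ dvd_rfl))
    obtain ⟨R⟩ : Nonempty (Sylow q G) := inferInstance
    haveI := hn q R
    have hRC : (R : Subgroup G) ≤ C := by
      intro r hr
      rw [Subgroup.mem_centralizer_iff]
      intro x hx
      exact (Subgroup.commute_of_normal_of_disjoint _ _ (hn q R) (hn p P)
        (IsPGroup.disjoint_of_ne _ _ hne _ _ R.isPGroup' P.isPGroup') r x hr hx).symm.eq
    exact R.not_dvd_index (hqC.trans (Subgroup.index_dvd_of_le hRC))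
  rw [← QuotientGroup.eq_one_iff, ← orderOf_eq_one_iff]
  exact Nat.eq_one_of_dvd_coprimes hindex (orderOf_map_dvd (QuotientGroup.mk' C) g)
    ((orderOf_dvd_natCard _).trans (Subgroup.index_eq_card C).symm.dvd)

end Cfsg.Agent.Fusion
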