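import Mathlib

/-!
# The `p`-th power map in groups of small class
-/

set_option autoImplicit false

open scoped commutatorElement

namespace Cfsg.Agent.Fusion

variable {R : Type*} [Group R] {p : ℕ}

private theorem choose_succ_two (n : ℕ) : (n + 1).choose 2 = n.choose 2 + n := by
  rw [Nat.choose_succ_succ, Nat.choose_one_right, add_comm]

theorem mul_pow_class_three {x y u a b : R} (h1 : y * x = x * y * u) (h2 : u * x = x * u * a)
    (h3 : u * y = y * u * b) (ha : ∀ g : R, a * g = g * a) (hb : ∀ g : R, b * g = g * b) (n : ℕ) :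
    (x * y) ^ n = x ^ n * y ^ n * u ^ n.choose 2 * a ^ n.choose 3 *
      b ^ (2 * n.choose 3 + n.choose 2) := by
  have hu : ∀ k : ℕ, u ^ k * x = x * u ^ k * a ^ k := by
    intro k
    induction k with
    | zero => simp
    | succ k ih =>
      calc u ^ (k + 1) * x = u * (u ^ k * x) := by rw [pow_succ']; group
        _ = (u * x) * u ^ k * a ^ k := by rw [ih]; group
        _ = x * u * (a * u ^ k) * a ^ k := by rw [h2]; group
        _ = x * u ^ (k + 1) * a ^ (k + 1) := by rw [ha, pow_succ', pow_succ' a]; group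
  have hv : ∀ k : ℕ, u ^ k * y = y * u ^ k * b ^ k := by
    intro k
    induction k with
    | zero => simp
    | succ k ih =>
      calc u ^ (k + 1) * y = u * (u ^ k * y) := by rw [pow_succ']; group
        _ = (u * y) * u ^ k * b ^ k := by rw [ih]; group
        _ = y * u * (b * u ^ k) * b ^ k := by rw [h3]; group
        _ = y * u ^ (k + 1) * b ^ (k + 1) := by rw [hb, pow_succ', pow_succ' b]; group
  have hy' : ∀ k : ℕ, u * y ^ k = y ^ k * u * b ^ k := by
    intro k
    induction k with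
    | zero => simp
    | succ k ih =>
      calc u * y ^ (k + 1) = u * y ^ k * y := by rw [pow_succ]; group
        _ = y ^ k * u * (b ^ k * y) := by rw [ih]; group
        _ = y ^ k * (u * y) * b ^ k := by rw [((show Commute b y from hb y).pow_left k).eq]; group
        _ = y ^ (k + 1) * u * b ^ (k + 1) := by rw [h3, pow_succ, pow_succ' b]; group
  have hyx : ∀ k : ℕ, y ^ k * x = x * y ^ k * u ^ k * b ^ k.choose 2 := by
    intro k
    induction k with
    | zero => simp
    | succ k ih =>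
      calc y ^ (k + 1) * x = y * (y ^ k * x) := by rw [pow_succ']; group
        _ = (y * x) * y ^ k * u ^ k * b ^ k.choose 2 := by rw [ih]; group
        _ = x * y * (u * y ^ k) * u ^ k * b ^ k.choose 2 := by rw [h1]; group
        _ = x * y * y ^ k * u * (b ^ k * u ^ k) * b ^ k.choose 2 := by rw [hy']; group
        _ = x * y ^ (k + 1) * u ^ (k + 1) * b ^ (k + 1).choose 2 := by
          rw [((show Commute b (u ^ k) from hb _).pow_left k).eq, choose_succ_two, pow_succ', pow_succ' u,
            pow_add, ((Commute.refl b).pow_pow (k.choose 2) k).eq]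
          group
  induction n with
  | zero => simp [Nat.choose]
  | succ n ih =>
    have hA : ∀ (k : ℕ) (g : R), a ^ k * g = g * a ^ k := fun k g => ((show Commute a g from ha g).pow_left k).eq
    have hB : ∀ (k : ℕ) (g : R), b ^ k * g = g * b ^ k := fun k g => ((show Commute b g from hb g).pow_left k).eq
    have e3 : (n + 1).choose 3 = n.choose 2 + n.choose 3 := Nat.choose_succ_succ n 2
    generalize hC : n.choose 2 = C at ih e3
    generalize hD : n.choose 3 = D at ih e3
    have e2 : (n + 1).choose 2 = n + C := by rw [choose_succ_two, hC, add_comm]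
    calc (x * y) ^ (n + 1) = x ^ n * y ^ n * u ^ C * (a ^ D * b ^ (2 * D + C) * (x * y)) := by
          rw [pow_succ, ih]; group
      _ = x ^ n * y ^ n * (u ^ C * x) * y * (a ^ D * b ^ (2 * D + C)) := by
          rw [mul_assoc (a ^ D), hB, ← mul_assoc (a ^ D), hA]; group
      _ = x ^ n * (y ^ n * x) * u ^ C * (a ^ C * y) * (a ^ D * b ^ (2 * D + C)) := by rw [hu]; group
      _ = x ^ n * x * y ^ n * u ^ n * (b ^ n.choose 2 * u ^ C * y) * (a ^ C * (a ^ D * b ^ (2 * D + C))) := by
          rw [hyx, hA]; group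
      _ = x ^ n * x * y ^ n * (u ^ (n + C) * y) * (b ^ C * (a ^ C * (a ^ D * b ^ (2 * D + C)))) := by
          rw [hC, mul_assoc (b ^ C), hB, pow_add]; group
      _ = x ^ (n + 1) * y ^ (n + 1) * u ^ (n + C) * (b ^ (n + C) * (b ^ C * (a ^ C * (a ^ D * b ^ (2 * D + C))))) := by
          rw [hv, pow_succ, pow_succ]; group
      _ = _ := by
          rw [e2, e3]
          have : b ^ (n + C) * (b ^ C * (a ^ C * (a ^ D * b ^ (2 * D + C)))) =
              a ^ (C + D) * b ^ (2 * (C + D) + (n + C)) := by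
            rw [← mul_assoc (a ^ C), ← pow_add, ← mul_assoc (b ^ C), ← hA, mul_assoc (a ^ (C + D)),
              ← mul_assoc (b ^ (n + C)), ← hA, mul_assoc (a ^ (C + D)), ← pow_add, ← pow_add]
            congr 2
            ring
          rw [this]
          group

variable [hp : Fact p.Prime]

/-- The hypotheses under which the `p`-th power map is computed by binomial coefficients. -/
def SmallClass (p : ℕ) (R : Type*) [Group R] : Prop :=
  (p ≠ 2 ∧ ⁅commutator R, (⊤ : Subgroup R)⁆ = ⊥) ∨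
    (3 < p ∧ ⁅⁅commutator R, (⊤ : Subgroup R)⁆, (⊤ : Subgroup R)⁆ = ⊥)

theorem exists_collect (h : SmallClass p R) (x y : R) : ∃ u a b : R, u ∈ commutator R ∧
    a ∈ commutator R ∧ b ∈ commutator R ∧
    y * x = x * y * u ∧ u * x = x * u * a ∧ u * y = y * u * b ∧
    (∀ g, a * g = g * a) ∧ (∀ g, b * g = g * b) ∧ (p ≠ 2) ∧
    ((a = 1 ∧ b = 1) ∨ 3 < p) := by
  have hu : ⁅y⁻¹, x⁻¹⁆ ∈ commutator R :=
    commutator_def R ▸ Subgroup.commutator_mem_commutator (Subgroup.mem_top _) (Subgroup.mem_top _)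
  refine ⟨⁅y⁻¹, x⁻¹⁆, ⁅⁅y⁻¹, x⁻¹⁆⁻¹, x⁻¹⁆, ⁅⁅y⁻¹, x⁻¹⁆⁻¹, y⁻¹⁆, hu, ?_, ?_, ?_, ?_, ?_, ?_⟩
  · exact commutator_def R ▸ Subgroup.commutator_mem_commutator (Subgroup.mem_top _) (Subgroup.mem_top _)
  · exact commutator_def R ▸ Subgroup.commutator_mem_commutator (Subgroup.mem_top _) (Subgroup.mem_top _)
  · simp only [commutatorElement_def]; group
  · simp only [commutatorElement_def]; group
  · simp only [commutatorElement_def]; group
  have hmem : ∀ z : R, ⁅⁅y⁻¹, x⁻¹⁆⁻¹, z⁆ ∈ ⁅commutator R, (⊤ : Subgroup R)⁆ := fun z =>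
    Subgroup.commutator_mem_commutator (inv_mem hu) (Subgroup.mem_top z)
  rcases h with ⟨hp2, h2⟩ | ⟨hp3, h3⟩
  · have h1 : ∀ z : R, ⁅⁅y⁻¹, x⁻¹⁆⁻¹, z⁆ = 1 := fun z => Subgroup.mem_bot.1 (h2 ▸ hmem z)
    refine ⟨fun g => ?_, fun g => ?_, hp2, Or.inl ⟨h1 _, h1 _⟩⟩ <;> rw [h1, one_mul, mul_one]
  · have h1 : ∀ z g : R, ⁅⁅y⁻¹, x⁻¹⁆⁻¹, z⁆ * g = g * ⁅⁅y⁻¹, x⁻¹⁆⁻¹, z⁆ := fun z g =>
      commutatorElement_eq_one_iff_mul_comm.1
        (Subgroup.mem_bot.1 (h3 ▸ Subgroup.commutator_mem_commutator (hmem z) (Subgroup.mem_top g)))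
    exact ⟨h1 _, h1 _, by omega, Or.inr hp3⟩

theorem pow_eq_of_collect (hp2 : p ≠ 2) {u a b : R} (hu : u ^ p = 1) (ha : a ^ p = 1) (hb : b ^ p = 1)
    (hcase : (a = 1 ∧ b = 1) ∨ 3 < p) :
    u ^ p.choose 2 * a ^ p.choose 3 * b ^ (2 * p.choose 3 + p.choose 2) = 1 := by
  have h2 : p ∣ p.choose 2 :=
    hp.out.dvd_choose_self (by omega) (lt_of_le_of_ne hp.out.two_le (Ne.symm hp2))
  obtain ⟨k, hk⟩ := h2
  rw [hk, pow_mul, hu, one_pow, one_mul]
  rcases hcase with ⟨rfl, rfl⟩ | h3
  · rw [one_pow, one_pow, one_mul]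
  · obtain ⟨m, hm⟩ := hp.out.dvd_choose_self (k := 3) (by omega) h3
    rw [hm, show 2 * (p * m) + p * k = p * (2 * m + k) by ring, pow_mul, pow_mul, ha, hb, one_pow, one_pow,
      one_mul]

theorem mul_pow_eq_one (h : SmallClass p R) {x y : R} (hx : x ^ p = 1) (hy : y ^ p = 1) :
    (x * y) ^ p = 1 := by
  obtain ⟨u, a, b, -, -, -, h1, h2, h3, ha, hb, hp2, hcase⟩ := exists_collect h x y
  have key := mul_pow_class_three h1 h2 h3 ha hb
  have hA : ∀ k : ℕ, u * x ^ k = x ^ k * u * a ^ k := by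
    intro k
    induction k with
    | zero => simp
    | succ k ih =>
      calc u * x ^ (k + 1) = u * x ^ k * x := by rw [pow_succ]; group
        _ = x ^ k * u * (a ^ k * x) := by rw [ih]; group
        _ = x ^ k * (u * x) * a ^ k := by rw [((show Commute a x from ha x).pow_left k).eq]; group
        _ = x ^ (k + 1) * u * a ^ (k + 1) := by rw [h2, pow_succ, pow_succ' a]; group
  have hB : ∀ k : ℕ, u * y ^ k = y ^ k * u * b ^ k := by
    intro k
    induction k with
    | zero => simp
    | succ k ih =>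
      calc u * y ^ (k + 1) = u * y ^ k * y := by rw [pow_succ]; group
        _ = y ^ k * u * (b ^ k * y) := by rw [ih]; group
        _ = y ^ k * (u * y) * b ^ k := by rw [((show Commute b y from hb y).pow_left k).eq]; group
        _ = y ^ (k + 1) * u * b ^ (k + 1) := by rw [h3, pow_succ, pow_succ' b]; group
  have hap : a ^ p = 1 := by
    have := hA p
    rw [hx, one_mul, mul_one] at this
    exact mul_eq_left.1 this.symm
  have hbp : b ^ p = 1 := by
    have := hB p
    rw [hy, one_mul, mul_one] at this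
    exact mul_eq_left.1 this.symm
  have hY : ∀ k : ℕ, y ^ k * x = x * y ^ k * u ^ k * b ^ k.choose 2 := by
    intro k
    induction k with
    | zero => simp
    | succ k ih =>
      calc y ^ (k + 1) * x = y * (y ^ k * x) := by rw [pow_succ']; group
        _ = (y * x) * y ^ k * u ^ k * b ^ k.choose 2 := by rw [ih]; group
        _ = x * y * (u * y ^ k) * u ^ k * b ^ k.choose 2 := by rw [h1]; group
        _ = x * y * y ^ k * u * (b ^ k * u ^ k) * b ^ k.choose 2 := by rw [hB]; group
        _ = x * y ^ (k + 1) * u ^ (k + 1) * b ^ (k + 1).choose 2 := by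
          rw [((show Commute b (u ^ k) from hb _).pow_left k).eq, choose_succ_two, pow_succ', pow_succ' u,
            pow_add, ((Commute.refl b).pow_pow (k.choose 2) k).eq]
          group
  have hup : u ^ p = 1 := by
    have := hY p
    obtain ⟨k, hk⟩ : p ∣ p.choose 2 :=
      hp.out.dvd_choose_self (by omega) (lt_of_le_of_ne hp.out.two_le (Ne.symm hp2))
    rw [hy, one_mul, mul_one, hk, pow_mul, hbp, one_pow, mul_one] at this
    exact mul_eq_left.1 this.symm
  rw [key, hx, hy, one_mul, one_mul]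
  exact pow_eq_of_collect hp2 hup hap hbp hcase

theorem pow_eq_one_of_mem_closure (h : SmallClass p R) {g : R}
    (hg : g ∈ Subgroup.closure {x : R | x ^ p = 1}) : g ^ p = 1 := by
  induction hg using Subgroup.closure_induction with
  | mem x hx => exact hx
  | one => exact one_pow _
  | mul x y _ _ hx hy => exact mul_pow_eq_one h hx hy
  | inv x _ hx => rw [inv_pow, hx, inv_one]

theorem mul_pow_of_derived (h : SmallClass p R)
    (hder : commutator R ≤ Subgroup.closure {x : R | x ^ p = 1}) (x y : R) :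
    (x * y) ^ p = x ^ p * y ^ p := by
  obtain ⟨u, a, b, hu, ha', hb', h1, h2, h3, ha, hb, hp2, hcase⟩ := exists_collect h x y
  rw [mul_pow_class_three h1 h2 h3 ha hb, mul_assoc (x ^ p * y ^ p), mul_assoc (x ^ p * y ^ p),
    pow_eq_of_collect hp2 (pow_eq_one_of_mem_closure h (hder hu)) (pow_eq_one_of_mem_closure h (hder ha'))
      (pow_eq_one_of_mem_closure h (hder hb')) hcase, mul_one]

end Cfsg.Agent.Fusion
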