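import Cfsg.Prelude.Def_CaseTheorems
import Cfsg.Agent.Lib.Fusion.AlperinOmega
import Cfsg.Agent.Lib.Fusion.KInf
import Cfsg.Agent.Lib.Fusion.SmallClassPow
import Cfsg.Agent.Lib.Solv.Cores

/-!
# `p`-groups without elementary abelian subgroups of order `p³`
-/

set_option autoImplicit false
set_option linter.style.haveILetI false

open scoped commutatorElement

namespace Cfsg.Agent.Fusion

variable {P : Type*} [Group P] [Finite P] {p : ℕ} [hp : Fact p.Prime]

/-- A step in a chief series of a `p`-group. -/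
theorem exists_normal_step (hP : IsPGroup p P) (M T : Subgroup P) [M.Normal] [T.Normal] (hlt : M < T) :
    ∃ M' : Subgroup P, M'.Normal ∧ M ≤ M' ∧ M' ≤ T ∧ Nat.card M' = Nat.card M * p := by
  classical
  haveI : Group.IsNilpotent P := hP.isNilpotent
  obtain ⟨t, htT, htM, htc⟩ := exists_fixed_mod (N := M) (C := T) (Q := ⊤)
    (by rw [Subgroup.normalizer_eq_top]) (not_le_of_gt hlt)
  obtain ⟨a, ha⟩ := hP t
  have hex : ∃ j, t ^ p ^ j ∈ M := ⟨a, ha ▸ one_mem M⟩
  have h0 : Nat.find hex ≠ 0 := fun e => htM (by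
    have := Nat.find_spec hex
    rwa [e, pow_zero, pow_one] at this)
  set u := t ^ p ^ (Nat.find hex - 1)
  have huM : u ∉ M := Nat.find_min hex (Nat.sub_lt (Nat.pos_of_ne_zero h0) one_pos)
  have hup : u ^ p ∈ M := by
    rw [← pow_mul, ← pow_succ, Nat.sub_add_cancel (Nat.pos_of_ne_zero h0)]
    exact Nat.find_spec hex
  have huc : ∀ g : P, ⁅u, g⁆ ∈ M := fun g => by
    rw [← QuotientGroup.eq_one_iff, ← QuotientGroup.mk'_apply, map_commutatorElement, map_pow,
      commutatorElement_eq_one_iff_commute]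
    refine Commute.pow_left ?_ _
    rw [← commutatorElement_eq_one_iff_commute, ← map_commutatorElement]
    exact (QuotientGroup.eq_one_iff _).2 (htc g trivial)
  refine ⟨M ⊔ Subgroup.zpowers u, ⟨fun z hz g => ?_⟩, le_sup_left,
    sup_le hlt.le (Subgroup.zpowers_le.2 (pow_mem htT _)), ?_⟩
  · obtain ⟨m, hm, _, ⟨i, rfl⟩, rfl⟩ := Subgroup.mem_sup_of_normal_left.1 hz
    rw [show g * (m * u ^ i) * g⁻¹ = (g * m * g⁻¹) * (g * u * g⁻¹) ^ i by rw [conj_zpow]; group,
      show g * u * g⁻¹ = (⁅u, g⁆)⁻¹ * u by rw [commutatorElement_def]; group]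
    exact mul_mem (Subgroup.mem_sup_left (Subgroup.Normal.conj_mem inferInstance m hm g)) (zpow_mem
      (mul_mem (Subgroup.mem_sup_left (inv_mem (huc g))) (Subgroup.mem_sup_right (Subgroup.mem_zpowers u))) i)
  · let π := QuotientGroup.mk' M
    have h1 : Nat.card ((M ⊔ Subgroup.zpowers u).map π) = p := by
      rw [Subgroup.map_sup, QuotientGroup.map_mk'_self, bot_sup_eq, MonoidHom.map_zpowers, Nat.card_zpowers]
      exact orderOf_eq_prime (by rw [← map_pow]; exact (QuotientGroup.eq_one_iff _).2 hup)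
        (fun h => huM ((QuotientGroup.eq_one_iff u).1 h))
    rw [← Subgroup.relIndex_bot_left, ← Subgroup.relIndex_comap, MonoidHom.comap_bot, QuotientGroup.ker_mk'] at h1
    have h2 := Subgroup.relIndex_mul_relIndex ⊥ M (M ⊔ Subgroup.zpowers u) bot_le le_sup_left
    rw [h1, Subgroup.relIndex_bot_left, Subgroup.relIndex_bot_left] at h2
    exact h2.symm

theorem exists_normal_le_of_card (hP : IsPGroup p P) (N : Subgroup P) [N.Normal] (k : ℕ) (hk : p ^ k ≤ Nat.card N) :
    ∃ M : Subgroup P, M.Normal ∧ M ≤ N ∧ Nat.card M = p ^ k := by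
  induction k with
  | zero => exact ⟨⊥, inferInstance, bot_le, by rw [Subgroup.card_bot, pow_zero]⟩
  | succ k ih =>
    obtain ⟨M, hMn, hMN, hM⟩ := ih ((Nat.pow_le_pow_right hp.out.pos (Nat.le_succ k)).trans hk)
    haveI := hMn
    have hlt : M < N := lt_of_le_of_ne hMN fun e => by
      rw [← e, hM, pow_succ] at hk
      have h3 := Nat.mul_le_mul_left (p ^ k) hp.out.two_le
      have h4 := pow_pos hp.out.pos k
      omega
    obtain ⟨M', h1, -, h2, h3⟩ := exists_normal_step hP M N hlt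
    exact ⟨M', h1, h2, by rw [h3, hM, pow_succ]⟩

omit hp in
/-- A normal subgroup of order `p` of a `p`-group is central. -/
theorem le_center_of_card_prime [Fact p.Prime] (hP : IsPGroup p P) (Z : Subgroup P) [Z.Normal]
    (hZ : Nat.card Z ≤ p) : Z ≤ Subgroup.center P := by
  haveI : Group.IsNilpotent P := hP.isNilpotent
  by_cases hZ1 : Z = ⊥
  · rw [hZ1]; exact bot_le
  obtain ⟨w, hwZ, hw1, hwc⟩ := exists_fixed_mod (N := (⊥ : Subgroup P)) (C := Z) (Q := ⊤)
    (by rw [Subgroup.normalizer_eq_top]) (fun h => hZ1 (le_bot_iff.1 h))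
  have hwcen : w ∈ Subgroup.center P := Subgroup.mem_center_iff.2 fun g =>
    (commutatorElement_eq_one_iff_mul_comm.1 (Subgroup.mem_bot.1 (hwc g trivial))).symm
  have hwo : orderOf w ≠ 1 := fun h => hw1 (Subgroup.mem_bot.2 (orderOf_eq_one_iff.1 h))
  obtain ⟨j, hj⟩ := (IsPGroup.iff_orderOf.1 hP) w
  have hp' : p ∣ orderOf w := by
    rcases j with _ | j
    · exact absurd (by simpa using hj) hwo
    · rw [hj]; exact dvd_pow_self p (Nat.succ_ne_zero j)
  have hle : Nat.card Z ≤ Nat.card (Subgroup.zpowers w) := by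
    rw [Nat.card_zpowers]; exact hZ.trans (Nat.le_of_dvd (orderOf_pos w) hp')
  rw [← Subgroup.eq_of_le_of_card_ge (Subgroup.zpowers_le.2 hwZ) hle]
  exact Subgroup.zpowers_le.2 hwcen

/-- The centralizer of a normal elementary abelian subgroup of order at most `p²` has index at most `p`. -/
theorem index_centralizer_le_of_small (hP : IsPGroup p P) (A : Subgroup P) [A.Normal]
    (_hA : IsMulCommutative A) (hAc : Nat.card A ≤ p ^ 2) :
    (Subgroup.centralizer (A : Set P)).index ≤ p := by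
  obtain ⟨j, hj⟩ := (hP.to_subgroup A).exists_card_eq
  rcases Nat.lt_or_ge j 2 with hlt | hge
  · have h1 : A ≤ Subgroup.center P := le_center_of_card_prime hP A (by
      rw [hj]; exact (Nat.pow_le_pow_right hp.out.pos (show j ≤ 1 by omega)).trans (pow_one p).le)
    have h2 : Subgroup.centralizer (A : Set P) = ⊤ := eq_top_iff.2 fun g _ =>
      Subgroup.mem_centralizer_iff.2 fun a ha => (Subgroup.mem_center_iff.1 (h1 ha) g).symm
    rw [h2, Subgroup.index_top]; exact hp.out.one_lt.le
  obtain ⟨Z, hZn, hZA, hZc⟩ := exists_normal_le_of_card hP A 1 (by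
    rw [hj]; exact Nat.pow_le_pow_right hp.out.pos (show 1 ≤ j by omega))
  haveI := hZn
  rw [pow_one] at hZc
  have hjeq : j = 2 := by
    by_contra hne
    have := Nat.pow_lt_pow_right hp.out.one_lt (show 2 < j by omega)
    omega
  have hZle : Z ≤ Subgroup.center P := le_center_of_card_prime hP Z hZc.le
  have hlt : Z < A := lt_of_le_of_ne hZA fun e => by
    rw [e, hj, hjeq] at hZc
    have := Nat.pow_lt_pow_right hp.out.one_lt (show 1 < 2 by norm_num)
    rw [pow_one] at this
    omega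
  obtain ⟨a, haA, haZ⟩ := SetLike.exists_of_lt hlt
  have hquo : ∀ g : P, ⁅a, g⁆ ∈ Z := by
    intro g
    let π := QuotientGroup.mk' Z
    haveI : (A.map π).Normal := Subgroup.Normal.map inferInstance π (QuotientGroup.mk'_surjective Z)
    have hc : Nat.card (A.map π) ≤ p := by
      rw [← Subgroup.relIndex_bot_left, ← Subgroup.relIndex_comap, MonoidHom.comap_bot, QuotientGroup.ker_mk']
      have h2 := Subgroup.relIndex_mul_relIndex ⊥ Z A bot_le hZA
      rw [Subgroup.relIndex_bot_left, Subgroup.relIndex_bot_left, hZc] at h2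
      rw [hj, hjeq, sq] at h2
      exact (Nat.eq_of_mul_eq_mul_left hp.out.pos h2).le
    have h3 := le_center_of_card_prime (hP.to_quotient Z) (A.map π) hc ⟨a, haA, rfl⟩
    rw [← QuotientGroup.eq_one_iff, ← QuotientGroup.mk'_apply, map_commutatorElement,
      commutatorElement_eq_one_iff_mul_comm]
    exact (Subgroup.mem_center_iff.1 h3 _).symm
  let f : P →* Z := MonoidHom.mk' (fun g => ⟨⁅a, g⁆, hquo g⟩) fun g h => Subtype.ext (by
    show ⁅a, g * h⁆ = ⁅a, g⁆ * ⁅a, h⁆
    rw [show ⁅a, g * h⁆ = ⁅a, g⁆ * (g * ⁅a, h⁆ * g⁻¹) by simp only [commutatorElement_def]; group,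
      Subgroup.mem_center_iff.1 (hZle (hquo h)) g, mul_inv_cancel_right])
  have hker : f.ker ≤ Subgroup.centralizer (A : Set P) := by
    intro g hg
    have hga : a * g = g * a := commutatorElement_eq_one_iff_mul_comm.1 (congrArg Subtype.val hg)
    have hA' : A = Z ⊔ Subgroup.zpowers a := by
      refine (Subgroup.eq_of_le_of_card_ge (sup_le hZA (Subgroup.zpowers_le.2 haA)) ?_).symm
      obtain ⟨i, hi⟩ := (hP.to_subgroup (Z ⊔ Subgroup.zpowers a : Subgroup P)).exists_card_eq
      have hgt : Z < Z ⊔ Subgroup.zpowers a := lt_of_le_of_ne le_sup_left fun e =>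
        haZ (e.symm.le (Subgroup.mem_sup_right (Subgroup.mem_zpowers a)))
      have h5 : Nat.card Z < Nat.card (Z ⊔ Subgroup.zpowers a : Subgroup P) := by
        by_contra hcon
        exact hgt.ne (Subgroup.eq_of_le_of_card_ge hgt.le (by omega))
      have hi2 : 2 ≤ i := by
        by_contra hcon
        have := Nat.pow_le_pow_right hp.out.pos (show i ≤ 1 by omega)
        rw [pow_one] at this
        omega
      rw [hj, hjeq, hi]
      exact Nat.pow_le_pow_right hp.out.pos hi2
    rw [hA']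
    refine Subgroup.mem_centralizer_iff.2 fun x hx => ?_
    obtain ⟨z, hz, _, ⟨i, rfl⟩, rfl⟩ := Subgroup.mem_sup_of_normal_left.1 hx
    exact (((show Commute z g from (Subgroup.mem_center_iff.1 (hZle hz) g).symm).mul_left
      ((show Commute a g from hga).zpow_left i))).eq
  calc (Subgroup.centralizer (A : Set P)).index ≤ f.ker.index :=
        Nat.le_of_dvd (Nat.pos_of_ne_zero (Subgroup.index_ne_zero_of_finite)) (Subgroup.index_dvd_of_le hker)
    _ = Nat.card f.range := Subgroup.index_ker f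
    _ ≤ Nat.card Z := Subgroup.card_le_card_group f.range
    _ = p := hZc

omit hp in
theorem exists_max_normal_elementary :
    ∃ A : Subgroup P, A.Normal ∧ IsMulCommutative A ∧ (∀ a ∈ A, a ^ p ^ 1 = 1) ∧
      ∀ B : Subgroup P, B.Normal → IsMulCommutative B → (∀ b ∈ B, b ^ p ^ 1 = 1) → A ≤ B → B = A := by
  obtain ⟨A, ⟨hn, hc, he⟩, hmax⟩ := Set.exists_max_image
    {A : Subgroup P | A.Normal ∧ IsMulCommutative A ∧ ∀ a ∈ A, a ^ p ^ 1 = 1} (fun A : Subgroup P => Nat.card A)
    (Set.toFinite _) ⟨⊥, inferInstance, ⟨⟨fun a b => Subsingleton.elim _ _⟩⟩,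
      fun a ha => by rw [Subgroup.mem_bot.1 ha, one_pow]⟩
  exact ⟨A, hn, hc, he, fun B h1 h2 h3 hAB => (Subgroup.eq_of_le_of_card_ge hAB (hmax B ⟨h1, h2, h3⟩)).symm⟩

/-- Without normal elementary abelian subgroups of order `p³` there are no elementary abelian subgroups of order `p³`. -/
theorem card_le_of_no_normal_rank_three (hp2 : p ≠ 2) (hP : IsPGroup p P)
    (h : ∀ A : Subgroup P, A.Normal → IsMulCommutative A → (∀ a ∈ A, a ^ p = 1) → Nat.card A ≠ p ^ 3)
    (E : Subgroup P) (hE : IsMulCommutative E) (hEe : ∀ e ∈ E, e ^ p = 1) : Nat.card E ≤ p ^ 2 := by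
  obtain ⟨A, hAn, hAc, hAe, hmax⟩ := exists_max_normal_elementary (P := P) (p := p)
  haveI := hAn
  have hA2 : Nat.card A ≤ p ^ 2 := by
    by_contra hgt
    obtain ⟨j, hj⟩ := (hP.to_subgroup A).exists_card_eq
    have hj3 : 3 ≤ j := by
      by_contra hcon
      exact hgt (hj ▸ Nat.pow_le_pow_right hp.out.pos (by omega))
    obtain ⟨M, hMn, hMA, hM⟩ := exists_normal_le_of_card hP A 3 (hj ▸ Nat.pow_le_pow_right hp.out.pos hj3)
    refine h M hMn ⟨⟨fun a b => Subtype.ext ?_⟩⟩ (fun a ha => by simpa using hAe a (hMA ha)) hM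
    exact congrArg (fun z : A => (z : P)) (hAc.1.comm ⟨a, hMA a.2⟩ ⟨b, hMA b.2⟩)
  have hsub : E ⊓ Subgroup.centralizer (A : Set P) ≤ A := fun x hx =>
    mem_of_maximal_normal_abelian_exponent hP 1 (by simpa using hp2) A hAc hAe hmax x hx.2
      (by simpa using hEe x hx.1)
  obtain ⟨j, hj⟩ := (hP.to_subgroup E).exists_card_eq
  rw [hj]
  refine Nat.pow_le_pow_right hp.out.pos ?_
  by_contra hj3
  have h1 : Nat.card E ≤ Nat.card (E ⊓ Subgroup.centralizer (A : Set P) : Subgroup P) * p := by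
    have h2 := Subgroup.relIndex_mul_relIndex ⊥ (E ⊓ Subgroup.centralizer (A : Set P)) E bot_le inf_le_left
    rw [Subgroup.relIndex_bot_left, Subgroup.relIndex_bot_left, Subgroup.inf_relIndex_left] at h2
    rw [← h2]
    refine Nat.mul_le_mul_left _ (le_trans ?_ (index_centralizer_le_of_small hP A hAc hA2))
    exact Nat.le_of_dvd (Nat.pos_of_ne_zero Subgroup.index_ne_zero_of_finite) (Subgroup.relIndex_dvd_index_of_normal _ _)
  have h3 : p ^ 3 ≤ Nat.card E := hj ▸ Nat.pow_le_pow_right hp.out.pos (by omega)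
  have h4 : Nat.card (E ⊓ Subgroup.centralizer (A : Set P) : Subgroup P) ≤ Nat.card A := Subgroup.card_le_of_le hsub
  have h5 : p ^ 2 ≤ Nat.card (E ⊓ Subgroup.centralizer (A : Set P) : Subgroup P) := by
    refine Nat.le_of_mul_le_mul_right ?_ hp.out.pos
    calc p ^ 2 * p = p ^ 3 := (pow_succ p 2).symm
      _ ≤ Nat.card E := h3
      _ ≤ _ := h1
  have hAE : A ≤ E := (Subgroup.eq_of_le_of_card_ge hsub (by omega)).ge.trans inf_le_left
  have hEA : E ≤ A := le_trans (le_inf le_rfl fun e he => Subgroup.mem_centralizer_iff.2 fun a ha =>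
    congrArg (fun z : E => (z : P)) (hE.1.comm ⟨a, hAE ha⟩ ⟨e, he⟩)) hsub
  have := Subgroup.card_le_of_le hEA
  have := Nat.pow_lt_pow_right hp.out.one_lt (show 2 < 3 by norm_num)
  omega

/-- A group of exponent `p` and rank at most two has order at most `p³`. -/
theorem card_le_of_exponent_rank_two (hp2 : p ≠ 2) (hP : IsPGroup p P) (he : ∀ x : P, x ^ p = 1)
    (hrk : Cfsg.PRankLE p 2 P) : Nat.card P ≤ p ^ 3 := by
  obtain ⟨A, hAn, hAc, hAe, hmax⟩ := exists_max_normal_elementary (P := P) (p := p)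
  haveI := hAn
  have hCA : Subgroup.centralizer (A : Set P) ≤ A := fun x hx =>
    mem_of_maximal_normal_abelian_exponent hP 1 (by simpa using hp2) A hAc hAe hmax x hx (by simpa using he x)
  have hA2 : Nat.card A ≤ p ^ 2 := hrk A hAc fun a _ => he a
  calc Nat.card P = Nat.card (Subgroup.centralizer (A : Set P)) * (Subgroup.centralizer (A : Set P)).index :=
        (Subgroup.card_mul_index _).symm
    _ ≤ p ^ 2 * p := Nat.mul_le_mul ((Subgroup.card_le_of_le hCA).trans hA2)
        (index_centralizer_le_of_small hP A hAc hA2)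
    _ = p ^ 3 := (pow_succ p 2).symm

theorem closure_card_le_three {H : Type*} [Group H] [Finite H] (hp2 : p ≠ 2) (hH : IsPGroup p H)
    (hrk : Cfsg.PRankLE p 2 H) (D : Subgroup H) (hD : ∀ z ∈ D, z ^ p = 1) : Nat.card D ≤ p ^ 3 := by
  refine card_le_of_exponent_rank_two hp2 (hH.to_subgroup D) (fun x => Subtype.ext (hD x x.2)) ?_
  intro A hA hAe
  have h := hrk (A.map D.subtype) ⟨⟨fun a b => Subtype.ext ?_⟩⟩ ?_
  · rwa [Subgroup.card_map_of_injective D.subtype_injective] at h
  · obtain ⟨a', ha', hae⟩ := a.2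
    obtain ⟨b', hb', hbe⟩ := b.2
    show (a : H) * b = b * a
    rw [← hae, ← hbe]
    exact congrArg (fun z : A => ((z : D) : H)) (hA.1.comm ⟨a', ha'⟩ ⟨b', hb'⟩)
  · rintro _ ⟨a, ha, rfl⟩
    exact hD a a.2

theorem smallClass_of_card_le (hp3 : 3 < p) (hP : IsPGroup p P) (hc : Nat.card P ≤ p ^ 4) : SmallClass p P := by
  haveI : Group.IsNilpotent P := hP.isNilpotent
  refine Or.inr ⟨hp3, ?_⟩
  set L : ℕ → Subgroup P := fun k => (⊤ : Subgroup P).lowerCentralSeries k
  have hL : ∀ k, L (k + 1) = ⁅L k, ⊤⁆ := fun k => rfl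
  obtain ⟨K, hK⟩ := Subgroup.nilpotent_iff_lowerCentralSeries.1 (inferInstance : Group.IsNilpotent P)
  have hanti : ∀ k, L (k + 1) ≤ L k := fun k => by
    haveI : (L k).Normal := inferInstance
    rw [hL]; exact Subgroup.commutator_le_left _ _
  have hstab : ∀ k, L (k + 1) = L k → L k = ⊥ := by
    intro k h
    have : ∀ j, L (k + j) = L k := by
      intro j
      induction j with
      | zero => rfl
      | succ j ih => rw [show k + (j + 1) = (k + j) + 1 by omega, hL, ih, ← hL, h]
    have h2 : L (k + K) ≤ L K := antitone_nat_of_succ_le (f := L) hanti (by omega)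
    rw [this K, show L K = ⊥ from hK] at h2
    exact le_bot_iff.1 h2
  have hdrop : ∀ k, L (k + 1) ≠ ⊥ → Nat.card (L (k + 1)) * p ≤ Nat.card (L k) := by
    intro k hne
    have hlt : L (k + 1) < L k := lt_of_le_of_ne (hanti k) fun e => hne (e.trans (hstab k e))
    haveI : (L k).Normal := inferInstance
    haveI : (L (k + 1)).Normal := inferInstance
    obtain ⟨M', -, -, h2, h3⟩ := exists_normal_step hP (L (k + 1)) (L k) hlt
    exact h3 ▸ Subgroup.card_le_of_le h2
  -- the abelianization is not cyclic unless the group is abelian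
  by_contra hne
  have h3 : L 3 ≠ ⊥ := fun h => hne (by
    have e : ⁅⁅commutator P, (⊤ : Subgroup P)⁆, (⊤ : Subgroup P)⁆ = L 3 := by rw [commutator_def]; rfl
    rw [e, h])
  have h2 : L 2 ≠ ⊥ := fun h => h3 (le_bot_iff.1 (h ▸ hanti 2))
  have h1 : L 1 ≠ ⊥ := fun h => h2 (le_bot_iff.1 (h ▸ hanti 1))
  have c3 : p ≤ Nat.card (L 3) := by
    obtain ⟨j, hj⟩ := (hP.to_subgroup (L 3)).exists_card_eq
    rcases j with _ | j
    · exact absurd (Subgroup.card_eq_one.1 (by simpa using hj)) h3
    · rw [hj]; exact Nat.le_self_pow (Nat.succ_ne_zero j) p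
  have c1 : p ^ 3 ≤ Nat.card (L 1) := by
    calc p ^ 3 = p * p * p := by ring
      _ ≤ Nat.card (L 3) * p * p := Nat.mul_le_mul_right p (Nat.mul_le_mul_right p c3)
      _ ≤ Nat.card (L 2) * p := Nat.mul_le_mul_right p (hdrop 2 h3)
      _ ≤ Nat.card (L 1) := hdrop 1 h2
  haveI : (L 2).Normal := inferInstance
  have hcyc : IsCyclic (P ⧸ L 1) := by
    obtain ⟨j, hj⟩ := (hP.to_quotient (L 1)).exists_card_eq
    have hle : j ≤ 1 := by
      by_contra hcon
      have hj2 : p ^ 2 ≤ Nat.card (P ⧸ L 1) := hj ▸ Nat.pow_le_pow_right hp.out.pos (by omega)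
      have h4 : p ^ 2 * p ^ 3 ≤ Nat.card P := by
        rw [Subgroup.card_eq_card_quotient_mul_card_subgroup (L 1)]
        exact Nat.mul_le_mul hj2 c1
      have h5 := Nat.pow_lt_pow_right hp.out.one_lt (show 4 < 5 by norm_num)
      rw [← pow_add] at h4
      norm_num at h4
      omega
    rcases Nat.le_one_iff_eq_zero_or_eq_one.1 hle with rfl | rfl
    · haveI : Subsingleton (P ⧸ L 1) := (Nat.card_eq_one_iff_unique.1 (by simpa using hj)).1
      exact inferInstance
    · exact isCyclic_of_prime_card (p := p) (by simpa using hj)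
  have hab : L 1 ≤ L 2 := by
    let π := QuotientGroup.mk' (L 2)
    have hle : L 2 ≤ L 1 := hanti 1
    let f : P ⧸ L 2 →* P ⧸ L 1 := QuotientGroup.map (L 2) (L 1) (MonoidHom.id P) hle
    have hker : f.ker ≤ Subgroup.center (P ⧸ L 2) := by
      intro y hy
      obtain ⟨x, rfl⟩ := QuotientGroup.mk'_surjective (L 2) y
      have hx : x ∈ L 1 := (QuotientGroup.eq_one_iff x).1 hy
      refine Subgroup.mem_center_iff.2 fun z => ?_
      obtain ⟨g, rfl⟩ := QuotientGroup.mk'_surjective (L 2) z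
      refine (commutatorElement_eq_one_iff_mul_comm.1 ?_).symm
      rw [← map_commutatorElement]
      exact (QuotientGroup.eq_one_iff _).2 (Subgroup.commutator_mem_commutator hx (Subgroup.mem_top g))
    rw [show L 1 = ⁅(⊤ : Subgroup P), ⊤⁆ from rfl, Subgroup.commutator_le]
    intro a _ b _
    rw [← QuotientGroup.eq_one_iff, ← QuotientGroup.mk'_apply, map_commutatorElement,
      commutatorElement_eq_one_iff_mul_comm]
    exact commutative_of_cyclic_center_quotient f hker _ _
  exact h1 (hstab 1 (le_antisymm (hanti 1) hab))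

/-- Blackburn: for `p ≥ 5` and rank at most two the elements of order `p` form a subgroup. -/
theorem omega_pow_eq_one_of_rank_two {R : Type*} [Group R] [Finite R] (hp3 : 3 < p) (hR : IsPGroup p R)
    (hrk : Cfsg.PRankLE p 2 R) {g : R} (hg : g ∈ Subgroup.closure {x : R | x ^ p = 1}) : g ^ p = 1 := by
  suffices H : ∀ n, ∀ x y : R, Nat.card (Subgroup.closure ({x, y} : Set R)) ≤ n → x ^ p = 1 → y ^ p = 1 →
      (x * y) ^ p = 1 by
    induction hg using Subgroup.closure_induction with
    | mem x hx => exact hx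
    | one => exact one_pow p
    | mul a b _ _ ha hb => exact H _ a b le_rfl ha hb
    | inv a _ ha => rw [inv_pow, ha, inv_one]
  intro n
  induction n using Nat.strong_induction_on with
  | _ n ih =>
    intro x y hle hx hy
    set H := Subgroup.closure ({x, y} : Set R) with hH
    have hxH : x ∈ H := Subgroup.subset_closure (by simp)
    have hyH : y ∈ H := Subgroup.subset_closure (by simp)
    have hHp : IsPGroup p H := hR.to_subgroup H
    suffices hfin : ((⟨x, hxH⟩ : H) * ⟨y, hyH⟩) ^ p = 1 from congrArg Subtype.val hfin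
    haveI : Group.IsNilpotent H := hHp.isNilpotent
    by_cases htop : Subgroup.zpowers (⟨x, hxH⟩ : H) = ⊤
    · obtain ⟨i, hi⟩ : (⟨y, hyH⟩ : H) ∈ Subgroup.zpowers (⟨x, hxH⟩ : H) := htop ▸ Subgroup.mem_top _
      rw [← hi, (Commute.self_zpow _ i).mul_pow, ← zpow_natCast (_ ^ i), ← zpow_mul, mul_comm, zpow_mul,
        zpow_natCast, show (⟨x, hxH⟩ : H) ^ p = 1 from Subtype.ext hx, one_zpow, one_mul]
    obtain hM' | ⟨M, hM, hxM⟩ := eq_top_or_exists_le_coatom (Subgroup.zpowers (⟨x, hxH⟩ : H))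
    · exact absurd hM' htop
    haveI : M.Normal := Subgroup.NormalizerCondition.normal_of_coatom M Group.normalizerCondition_of_isNilpotent hM
    have hsmall : ∀ a ∈ M, ∀ b ∈ M, a ^ p = 1 → b ^ p = 1 → (a * b) ^ p = 1 := by
      intro a ha b hb hap hbp
      have hlt : Nat.card (Subgroup.closure ({(a : R), (b : R)} : Set R)) < n := by
        refine lt_of_lt_of_le ?_ hle
        have hle' : Subgroup.closure ({(a : R), (b : R)} : Set R) ≤ M.map H.subtype := by
          rw [Subgroup.closure_le]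
          rintro z (rfl | rfl)
          · exact ⟨a, ha, rfl⟩
          · exact ⟨b, hb, rfl⟩
        refine lt_of_le_of_lt (Subgroup.card_le_of_le hle') ?_
        rw [Subgroup.card_map_of_injective H.subtype_injective]
        by_contra hcon
        exact hM.1 (Subgroup.eq_top_of_le_card M (not_lt.1 hcon))
      exact Subtype.ext (ih _ hlt (a : R) (b : R) le_rfl (congrArg Subtype.val hap) (congrArg Subtype.val hbp))
    let D : Subgroup H :=
      { carrier := {z | z ∈ M ∧ z ^ p = 1}
        one_mem' := ⟨one_mem _, one_pow p⟩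
        mul_mem' := fun {a b} ha hb => ⟨mul_mem ha.1 hb.1, hsmall a ha.1 b hb.1 ha.2 hb.2⟩
        inv_mem' := fun {a} ha => ⟨inv_mem ha.1, by rw [inv_pow, ha.2, inv_one]⟩ }
    haveI : D.Normal := ⟨fun z hz g => ⟨Subgroup.Normal.conj_mem inferInstance z hz.1 g, by
      rw [conj_pow, hz.2, mul_one, mul_inv_cancel]⟩⟩
    have hrkH : Cfsg.PRankLE p 2 H := by
      intro A hA hAe
      have h := hrk (A.map H.subtype) ⟨⟨fun a b => Subtype.ext ?_⟩⟩ ?_
      · rwa [Subgroup.card_map_of_injective H.subtype_injective] at h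
      · obtain ⟨a', ha', hae⟩ := a.2
        obtain ⟨b', hb', hbe⟩ := b.2
        show (a : R) * b = b * a
        rw [← hae, ← hbe]
        exact congrArg (fun z : A => ((z : H) : R)) (hA.1.comm ⟨a', ha'⟩ ⟨b', hb'⟩)
      · rintro _ ⟨a, ha, rfl⟩
        exact congrArg Subtype.val (hAe a ha)
    have hD3 := closure_card_le_three (by omega) hHp hrkH D fun z hz => hz.2
    have hgen : D ⊔ Subgroup.zpowers (⟨y, hyH⟩ : H) = ⊤ := by
      rw [eq_top_iff, ← Subgroup.map_subtype_le_map_subtype, ← MonoidHom.range_eq_map, Subgroup.range_subtype]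
      refine (Subgroup.closure_le _).2 ?_
      rintro z (rfl | rfl)
      · exact ⟨⟨_, hxH⟩, Subgroup.mem_sup_left ⟨hxM (Subgroup.mem_zpowers _), Subtype.ext hx⟩, rfl⟩
      · exact ⟨⟨_, hyH⟩, Subgroup.mem_sup_right (Subgroup.mem_zpowers _), rfl⟩
    have hcard : Nat.card H ≤ p ^ 4 := by
      rw [← Subgroup.card_top (G := H), ← hgen]
      refine (Nat.le_of_dvd (Nat.mul_pos Nat.card_pos Nat.card_pos) (Cfsg.Agent.Solv.card_sup_dvd D _)).trans ?_
      rw [Nat.card_zpowers, pow_succ p 3]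
      exact Nat.mul_le_mul hD3 (Nat.le_of_dvd hp.out.pos (orderOf_dvd_of_pow_eq_one (Subtype.ext hy)))
    exact mul_pow_eq_one (smallClass_of_card_le hp3 hHp hcard) (Subtype.ext hx) (Subtype.ext hy)

end Cfsg.Agent.Fusion
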