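import Cfsg.Prelude.Def_CaseTheorems
import Cfsg.Agent.Lib.Fusion.KInf
import Cfsg.Agent.Lib.Solv.PGroupPhi
import Cfsg.Agent.Lib.Solv.UniqueSub

/-!
# Two-groups without large normal abelian subgroups and their automorphisms of odd order
-/

set_option autoImplicit false
set_option linter.style.haveILetI false
set_option linter.unusedSectionVars false

open scoped commutatorElement

universe u

namespace Cfsg.Agent.Fusion.OddAutNoScn

variable {X : Type u} [Group X]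

theorem comm_mul_right {x y z : X} (h : ⁅x, z⁆ ∈ Subgroup.center X) : ⁅x, y * z⁆ = ⁅x, y⁆ * ⁅x, z⁆ := by
  rw [show ⁅x, y * z⁆ = ⁅x, y⁆ * (y * ⁅x, z⁆ * y⁻¹) by simp only [commutatorElement_def]; group,
    Subgroup.mem_center_iff.1 h, mul_inv_cancel_right]

theorem comm_mul_left {x y z : X} (h : ⁅y, z⁆ ∈ Subgroup.center X) : ⁅x * y, z⁆ = ⁅y, z⁆ * ⁅x, z⁆ := by
  rw [show ⁅x * y, z⁆ = (x * ⁅y, z⁆ * x⁻¹) * ⁅x, z⁆ by simp only [commutatorElement_def]; group,
    Subgroup.mem_center_iff.1 h, mul_inv_cancel_right]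

theorem sq_mul_cen {x y : X} (h : ⁅y, x⁆ ∈ Subgroup.center X) : x * y * (x * y) = x * x * (y * y) * ⁅y, x⁆ := by
  rw [show x * y * (x * y) = x * (⁅y, x⁆ * x) * (y * y) by simp only [commutatorElement_def]; group,
    ← Subgroup.mem_center_iff.1 h x, ← mul_assoc x x, mul_assoc (x * x), ← Subgroup.mem_center_iff.1 h (y * y),
    ← mul_assoc]

theorem comm_cen {n m : X} (hn : n ∈ Subgroup.center X) (hm : m ∈ Subgroup.center X) (g h : X) :
    ⁅g * n, h * m⁆ = ⁅g, h⁆ := by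
  have e : ∀ p : X, ∀ q ∈ Subgroup.center X, ⁅p, q⁆ = 1 := fun p q hq =>
    commutatorElement_eq_one_iff_mul_comm.2 (Subgroup.mem_center_iff.1 hq p)
  have e' : ∀ p : X, ∀ q ∈ Subgroup.center X, ⁅q, p⁆ = 1 := fun p q hq =>
    commutatorElement_eq_one_iff_mul_comm.2 (Subgroup.mem_center_iff.1 hq p).symm
  rw [comm_mul_left (by rw [e' _ n hn]; exact one_mem _), e' _ n hn, one_mul,
    comm_mul_right (by rw [e _ m hm]; exact one_mem _), e _ m hm, mul_one]

/-- Modulo a central subgroup of index at most four there is only one commutator. -/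
theorem comm_cases [Finite X] {N : Subgroup X} (hN : N ≤ Subgroup.center X) (hi : N.index ≤ 4)
    (hcen : ∀ g h : X, ⁅g, h⁆ ∈ Subgroup.center X) :
    ∃ c : X, ∀ g h : X, ⁅g, h⁆ = 1 ∨ ⁅g, h⁆ = c ∨ ⁅g, h⁆ = c⁻¹ := by
  classical
  by_cases hab : ∀ g h : X, g * h = h * g
  · exact ⟨1, fun g h => Or.inl (commutatorElement_eq_one_iff_mul_comm.2 (hab g h))⟩
  push Not at hab
  obtain ⟨x, y, hxy⟩ := hab
  have hc : ∀ n ∈ N, ∀ g : X, g * n = n * g := fun n hn g => Subgroup.mem_center_iff.1 (hN hn) g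
  have hrep : ∀ g : X, ∃ n ∈ N, g = 1 * n ∨ g = x * n ∨ g = y * n ∨ g = x * y * n := by
    intro g
    by_contra hg
    push Not at hg
    letI : Fintype (X ⧸ N) := Fintype.ofFinite _
    let s : Finset (X ⧸ N) := {((1 : X) : X ⧸ N), (x : X ⧸ N), (y : X ⧸ N), ((x * y : X) : X ⧸ N), (g : X ⧸ N)}
    have n1 : x ∉ N := fun h => hxy (hc x h y).symm
    have n2 : y ∉ N := fun h => hxy (hc y h x)
    have n3 : x * y ∉ N := fun h => hxy (by
      have e := hc _ h y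
      rw [← mul_assoc, mul_left_inj] at e
      exact e.symm)
    have n4 : x⁻¹ * y ∉ N := fun h => hxy (by
      have e := hc _ h x
      rw [mul_inv_cancel_left] at e
      calc x * y = x * (x * (x⁻¹ * y)) := by rw [mul_inv_cancel_left]
        _ = x * ((x⁻¹ * y) * x) := by rw [hc _ h x]
        _ = y * x := by rw [← mul_assoc, mul_inv_cancel_left])
    have n5 : y⁻¹ * (x * y) ∉ N := fun h => by
      have e := hc _ h y
      rw [mul_inv_cancel_left] at e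
      exact hxy (by
        calc x * y = y⁻¹ * (x * y) * y := e
          _ = y * (y⁻¹ * (x * y)) := (hc _ h y).symm
          _ = x * y := mul_inv_cancel_left _ _
          _ = y * x := by
            have h2 : y⁻¹ * (x * y) = x := by
              rw [← mul_left_inj y, ← e]
            rw [h2] at h
            exact absurd h n1)
    have hdiff : ∀ p q : X, p⁻¹ * q ∉ N → (p : X ⧸ N) ≠ (q : X ⧸ N) := fun p q h e => h (QuotientGroup.eq.1 e)
    have hgd : ∀ p : X, (p = 1 ∨ p = x ∨ p = y ∨ p = x * y) → (p : X ⧸ N) ≠ (g : X ⧸ N) := fun p hp =>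
      hdiff p g fun hm => by
        obtain ⟨h1, h2, h3, h4⟩ := hg _ hm
        rcases hp with rfl | rfl | rfl | rfl
        · exact h1 (mul_inv_cancel_left _ _).symm
        · exact h2 (mul_inv_cancel_left _ _).symm
        · exact h3 (mul_inv_cancel_left _ _).symm
        · exact h4 (mul_inv_cancel_left _ _).symm
    have hs : s.card = 5 := by
      simp only [s]
      rw [Finset.card_insert_of_notMem, Finset.card_insert_of_notMem, Finset.card_insert_of_notMem,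
        Finset.card_insert_of_notMem, Finset.card_singleton] <;>
        simp only [Finset.mem_insert, Finset.mem_singleton, not_or]
      · exact hgd _ (Or.inr (Or.inr (Or.inr rfl)))
      · exact ⟨hdiff _ _ n5, hgd _ (Or.inr (Or.inr (Or.inl rfl)))⟩
      · exact ⟨hdiff _ _ n4, hdiff _ _ (by rwa [inv_mul_cancel_left]), hgd _ (Or.inr (Or.inl rfl))⟩
      · exact ⟨hdiff _ _ (by rwa [inv_one, one_mul]), hdiff _ _ (by rwa [inv_one, one_mul]),
          hdiff _ _ (by rwa [inv_one, one_mul]), hgd _ (Or.inl rfl)⟩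
    have := s.card_le_univ
    rw [← Nat.card_eq_fintype_card] at this
    have h2 : Nat.card (X ⧸ N) = N.index := rfl
    omega
  refine ⟨⁅x, y⁆, fun g h => ?_⟩
  obtain ⟨n, hn, hg⟩ := hrep g
  obtain ⟨m, hm, hh⟩ := hrep h
  have r1 : ∀ a b c : X, ⁅a, b * c⁆ = ⁅a, b⁆ * ⁅a, c⁆ := fun a b c => comm_mul_right (hcen a c)
  have r2 : ∀ a b c : X, ⁅a * b, c⁆ = ⁅b, c⁆ * ⁅a, c⁆ := fun a b c => comm_mul_left (hcen b c)
  have r3 : ⁅y, x⁆ = ⁅x, y⁆⁻¹ := (commutatorElement_inv x y).symm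
  rcases hg with rfl | rfl | rfl | rfl <;> rcases hh with rfl | rfl | rfl | rfl <;>
    rw [comm_cen (hN hn) (hN hm)] <;>
    simp only [r1, r2, r3, commutatorElement_self, commutatorElement_one_left, commutatorElement_one_right, one_mul,
      mul_one, mul_inv_cancel, inv_mul_cancel, true_or, or_true]

/-- The standard hypotheses on the group and its automorphisms. -/
structure Setting (A : Subgroup (MulAut X)) : Prop where
  pgroup : IsPGroup 2 X
  odd : Odd (Nat.card A)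
  gen : Subgroup.closure {g : X | ∃ φ ∈ A, ∃ x : X, g = x⁻¹ * φ x} = ⊤

/-- Elements of a group of order four. -/
theorem four_elems [Finite X] {V : Subgroup X} (h4 : Nat.card V = 4) (hsq : ∀ v ∈ V, v * v = 1) {u w : X} (hu : u ∈ V)
    (hw : w ∈ V) (hu1 : u ≠ 1) (hw1 : w ≠ 1) (huw : u ≠ w) :
    ∀ z ∈ V, z = 1 ∨ z = u ∨ z = w ∨ z = u * w := by
  classical
  intro z hz
  by_contra h
  push Not at h
  letI : Fintype V := Fintype.ofFinite V
  have e1 : u * w ≠ 1 := fun e => huw (mul_left_cancel ((hsq u hu).trans e.symm))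
  have e2 : u * w ≠ u := fun e => hw1 (mul_left_cancel (e.trans (mul_one u).symm))
  have e3 : u * w ≠ w := fun e => hu1 (mul_right_cancel (e.trans (one_mul w).symm))
  let s : Finset V := {1, ⟨u, hu⟩, ⟨w, hw⟩, ⟨u * w, mul_mem hu hw⟩, ⟨z, hz⟩}
  have hs : s.card = 5 := by
    simp [s, Finset.card_insert_of_notMem, Subtype.ext_iff, Ne.symm hu1, Ne.symm hw1, huw, Ne.symm e1, Ne.symm e2,
      Ne.symm e3, Ne.symm h.1, Ne.symm h.2.1, Ne.symm h.2.2.1, Ne.symm h.2.2.2]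
  have := s.card_le_univ
  rw [← Nat.card_eq_fintype_card, h4] at this
  omega

namespace Setting

variable [Finite X] {A : Subgroup (MulAut X)} (S : Setting A)

include S

theorem nilpotent : Group.IsNilpotent X := S.pgroup.isNilpotent

theorem pow_card {a : MulAut X} (ha : a ∈ A) : a ^ Nat.card A = 1 :=
  congrArg Subtype.val (pow_card_eq_one' (x := (⟨a, ha⟩ : A)))

theorem le_of_conj (C : Subgroup X) (h : ∀ a ∈ A, ∀ x : X, x⁻¹ * a x ∈ C) : C = ⊤ := by
  rw [eq_top_iff, ← S.gen, Subgroup.closure_le]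
  rintro _ ⟨a, ha, x, rfl⟩
  exact h a ha x

theorem kill {M : Type*} [Group M] (f : X →* M) (h : ∀ a ∈ A, ∀ x, f (a x) = f x) (x : X) : f x = 1 :=
  MonoidHom.mem_ker.1 ((S.le_of_conj f.ker fun a ha x => by
    rw [MonoidHom.mem_ker, map_mul, map_inv, h a ha, inv_mul_cancel]).ge (Subgroup.mem_top x))

theorem fixed_coset {N : Subgroup X} [N.Normal] (hN : ∀ a ∈ A, ∀ n ∈ N, a n ∈ N) (hab : ∀ g h : X, ⁅g, h⁆ ∈ N)
    {g : X} (hg : ∀ a ∈ A, g⁻¹ * a g ∈ N) : g ∈ N := by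
  classical
  letI : Fintype A := Fintype.ofFinite A
  letI : CommGroup (X ⧸ N) := { (inferInstance : Group (X ⧸ N)) with mul_comm := Solv.quotient_mul_comm N hab }
  let f : X →* X ⧸ N := MonoidHom.mk' (fun x => ∏ a : A, QuotientGroup.mk' N ((a : MulAut X) x)) fun x y => by
    rw [← Finset.prod_mul_distrib]
    exact Finset.prod_congr rfl fun a _ => by rw [map_mul, map_mul]
  have hf := S.kill f (fun b hb x => by
    show ∏ a : A, QuotientGroup.mk' N ((a : MulAut X) (b x)) = ∏ a : A, QuotientGroup.mk' N ((a : MulAut X) x)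
    exact Fintype.prod_equiv (Equiv.mulRight (⟨b, hb⟩ : A)) _ _ fun a => rfl) g
  have e : ∀ a : A, QuotientGroup.mk' N ((a : MulAut X) g) = QuotientGroup.mk' N g := fun a =>
    (QuotientGroup.eq.2 (hg a a.2)).symm
  change ∏ a : A, QuotientGroup.mk' N ((a : MulAut X) g) = 1 at hf
  rw [Finset.prod_congr rfl (fun a _ => e a), Finset.prod_const, Finset.card_univ, ← Nat.card_eq_fintype_card] at hf
  obtain ⟨k, hk⟩ := S.pgroup g
  have h2 : QuotientGroup.mk' N g ^ 2 ^ k = 1 := by rw [← map_pow, hk, map_one]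
  have h3 := pow_gcd_eq_one.2 ⟨hf, h2⟩
  rw [Nat.Coprime.pow_right k (Nat.coprime_two_right.2 S.odd), pow_one] at h3
  exact (QuotientGroup.eq_one_iff g).1 h3

theorem fix_abelian {N : Subgroup X} (hc : ∀ x ∈ N, ∀ y ∈ N, x * y = y * x) {a : MulAut X} (ha : a ∈ A)
    (hinv : ∀ x ∈ N, a x ∈ N) (h : ∀ x ∈ N, x * x = 1 → a x = x) : ∀ x ∈ N, a x = x := by
  intro x
  induction hx : orderOf x using Nat.strong_induction_on generalizing x with
  | _ n ih =>
    subst hx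
    intro hxN
    by_cases hx1 : x = 1
    · rw [hx1, map_one]
    obtain ⟨k, hk⟩ := IsPGroup.iff_orderOf.1 S.pgroup x
    have hk0 : k ≠ 0 := fun e => hx1 (orderOf_eq_one_iff.1 (by rw [hk, e, pow_zero]))
    have hlt : orderOf (x * x) < orderOf x := by
      rw [← sq, orderOf_pow_of_dvd two_ne_zero (by rw [hk]; exact dvd_pow_self 2 hk0)]
      exact Nat.div_lt_self (orderOf_pos x) one_lt_two
    have h2 := ih _ hlt _ rfl (mul_mem hxN hxN)
    obtain ⟨z, hz⟩ : ∃ z, z = x⁻¹ * a x := ⟨_, rfl⟩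
    have hzN : z ∈ N := hz ▸ mul_mem (inv_mem hxN) (hinv x hxN)
    have hax : a x = x * z := by rw [hz, mul_inv_cancel_left]
    have hzz : z * z = 1 := by
      rw [map_mul, hax, mul_assoc x z, ← mul_assoc z, hc z hzN x hxN, mul_assoc x z, ← mul_assoc x x] at h2
      exact mul_eq_left.1 h2
    have hp : ∀ j : ℕ, (a ^ j) x = x * z ^ j := by
      intro j
      induction j with
      | zero => rw [pow_zero, pow_zero, mul_one]; rfl
      | succ j ihj =>
        rw [pow_succ', MulAut.mul_apply, ihj, map_mul, map_pow, h z hzN hzz, hax, mul_assoc, ← pow_succ']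
    have h3 := hp (Nat.card A)
    rw [S.pow_card ha, MulAut.one_apply, eq_comm, mul_eq_left] at h3
    obtain ⟨k, hk⟩ := S.odd
    rw [hk, pow_succ, pow_mul, sq, hzz, one_pow, one_mul] at h3
    rw [hax, h3, mul_one]

theorem central_of_fixed {N : Subgroup X} [N.Normal] (h : ∀ a ∈ A, ∀ n ∈ N, a n = n) : N ≤ Subgroup.center X := by
  intro n hn
  have hC : Subgroup.centralizer (N : Set X) = ⊤ := S.le_of_conj _ fun a ha x => by
    rw [Subgroup.mem_centralizer_iff]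
    intro m hm
    have h1 := h a ha (x * m * x⁻¹) (‹N.Normal›.conj_mem m hm x)
    rw [map_mul, map_mul, map_inv, h a ha m hm, mul_inv_eq_iff_eq_mul] at h1
    calc m * (x⁻¹ * a x) = x⁻¹ * (x * m * x⁻¹ * a x) := by group
      _ = x⁻¹ * a x * m := by rw [← h1, mul_assoc]
  exact Subgroup.mem_center_iff.2 fun g => (Subgroup.mem_centralizer_iff.1 (hC.ge (Subgroup.mem_top g)) n hn).symm

/-- An automorphism in `A` fixes a four-group pointwise or permutes its involutions cyclically. -/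
theorem four_key {V : Subgroup X} (h4 : Nat.card V = 4) (hsq : ∀ v ∈ V, v * v = 1) {a : MulAut X} (ha : a ∈ A)
    (hinv : ∀ v ∈ V, a v ∈ V) :
    (∀ v ∈ V, a v = v) ∨ (∀ v ∈ V, v ≠ 1 → a v ≠ v ∧ a (a v) = v * a v) := by
  have hper : ∀ w : X, a (a w) = w → a w = w := by
    intro w hw
    obtain ⟨k, hk⟩ := S.odd
    have hj : ∀ j : ℕ, (a ^ (2 * j)) w = w := by
      intro j
      induction j with
      | zero => rfl
      | succ j ih => rw [mul_add, mul_one, pow_add, MulAut.mul_apply, sq, MulAut.mul_apply, hw, ih]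
    have h := S.pow_card ha
    rw [hk, pow_succ'] at h
    have h2 := congrArg (fun f : MulAut X => f w) h
    simp only [MulAut.mul_apply, MulAut.one_apply, hj] at h2
    exact h2
  by_cases hfix : ∀ v ∈ V, v ≠ 1 → a v ≠ v
  · refine Or.inr fun v hv hv1 => ⟨hfix v hv hv1, ?_⟩
    have hav1 : a v ≠ 1 := fun e => hv1 (a.injective (e.trans (map_one a).symm))
    rcases four_elems h4 hsq hv (hinv v hv) hv1 hav1 (Ne.symm (hfix v hv hv1)) _ (hinv _ (hinv v hv)) with e | e | e | e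
    · exact absurd (a.injective (e.trans (map_one a).symm)) hav1
    · exact absurd (hper v e) (hfix v hv hv1)
    · exact absurd (a.injective e) (hfix v hv hv1)
    · exact e
  · push Not at hfix
    obtain ⟨v, hv, hv1, hav⟩ := hfix
    refine Or.inl fun w hw => ?_
    by_cases hw1 : w = 1
    · rw [hw1, map_one]
    by_cases hwv : w = v
    · rw [hwv, hav]
    rcases four_elems h4 hsq hv hw hv1 hw1 (Ne.symm hwv) _ (hinv w hw) with e | e | e | e
    · exact absurd (a.injective (e.trans (map_one a).symm)) hw1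
    · exact absurd (a.injective (e.trans hav.symm)) hwv
    · exact e
    · exact hper w (by rw [e, map_mul, hav, e, ← mul_assoc, hsq v hv, one_mul])

end Setting

/-- Adjoining an involution central modulo an elementary normal subgroup. -/
theorem adjoin {V : Subgroup X} [V.Normal] (hVc : ∀ v ∈ V, ∀ w ∈ V, v * w = w * v) (hVsq : ∀ v ∈ V, v * v = 1)
    {x : X} (hx : x * x = 1) (hxV : ∀ v ∈ V, x * v = v * x) (hxg : ∀ g : X, ⁅x, g⁆ ∈ V) :
    ∃ E : Subgroup X, E.Normal ∧ (∀ v ∈ E, ∀ w ∈ E, v * w = w * v) ∧ (∀ v ∈ E, v * v = 1) ∧ V ≤ E ∧ x ∈ E ∧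
      ∀ v ∈ E, v ∈ V ∨ x * v ∈ V := by
  have hxi : x⁻¹ = x := inv_eq_of_mul_eq_one_right hx
  have hxv : ∀ v : X, x * v ∈ V → ∃ w ∈ V, v = x * w := fun v hv =>
    ⟨x * v, hv, by rw [← mul_assoc, hx, one_mul]⟩
  let E : Subgroup X :=
    { carrier := {v | v ∈ V ∨ x * v ∈ V}
      one_mem' := Or.inl (one_mem _)
      mul_mem' := fun {p q} hp hq => by
        rcases hp with hp | hp <;> rcases hq with hq | hq
        · exact Or.inl (mul_mem hp hq)
        · refine Or.inr ?_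
          show x * (p * q) ∈ V
          rw [← mul_assoc, hxV p hp, mul_assoc]; exact mul_mem hp hq
        · refine Or.inr ?_
          show x * (p * q) ∈ V
          rw [← mul_assoc]; exact mul_mem hp hq
        · refine Or.inl ?_
          obtain ⟨w, hw, rfl⟩ := hxv p hp
          show x * w * q ∈ V
          rw [hxV w hw, mul_assoc]; exact mul_mem hw hq
      inv_mem' := fun {p} hp => by
        rcases hp with hp | hp
        · exact Or.inl (inv_mem hp)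
        · refine Or.inr ?_
          obtain ⟨w, hw, rfl⟩ := hxv p hp
          show x * (x * w)⁻¹ ∈ V
          rw [mul_inv_rev, hxi, ← mul_assoc, hxV w⁻¹ (inv_mem hw), mul_assoc, hx, mul_one]
          exact inv_mem hw }
  refine ⟨E, ⟨fun v hv g => ?_⟩, ?_, ?_, fun v hv => Or.inl hv, Or.inr (by rw [hx]; exact one_mem _), fun v hv => hv⟩
  · rcases hv with hv | hv
    · exact Or.inl (‹V.Normal›.conj_mem v hv g)
    · obtain ⟨w, hw, rfl⟩ := hxv v hv
      refine Or.inr ?_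
      rw [show x * (g * (x * w) * g⁻¹) = x * g * x * g⁻¹ * (g * w * g⁻¹) by group]
      refine mul_mem ?_ (‹V.Normal›.conj_mem w hw g)
      have := hxg g
      rwa [commutatorElement_def, hxi] at this
  · intro v hv w hw
    rcases hv with hv | hv <;> rcases hw with hw | hw
    · exact hVc v hv w hw
    · obtain ⟨b, hb, rfl⟩ := hxv w hw
      rw [← mul_assoc, ← hxV v hv, mul_assoc, hVc v hv b hb, ← mul_assoc]
    · obtain ⟨a, ha, rfl⟩ := hxv v hv
      rw [mul_assoc, hVc a ha w hw, ← mul_assoc, hxV w hw, mul_assoc]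
    · obtain ⟨a, ha, rfl⟩ := hxv v hv
      obtain ⟨b, hb, rfl⟩ := hxv w hw
      rw [mul_assoc x a, ← mul_assoc a, ← hxV a ha, mul_assoc x a, hVc a ha b hb, mul_assoc x b, ← mul_assoc b, ← hxV b hb,
        mul_assoc x b]
  · intro v hv
    rcases hv with hv | hv
    · exact hVsq v hv
    · obtain ⟨a, ha, rfl⟩ := hxv v hv
      rw [mul_assoc x a, ← mul_assoc a, ← hxV a ha, mul_assoc x a, hVsq a ha, mul_one, hx]

/-- A central four-group whose involutions `A` permutes, with no other normal involutions above it. -/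
structure Mov (A : Subgroup (MulAut X)) (V : Subgroup X) : Prop where
  set : Setting A
  cen : V ≤ Subgroup.center X
  four : Nat.card V = 4
  sq : ∀ v ∈ V, v * v = 1
  inv : ∀ a ∈ A, ∀ v ∈ V, a v ∈ V
  move : ∃ a ∈ A, ∃ v ∈ V, a v ≠ v
  small : ∀ x : X, x * x = 1 → (∀ g : X, ⁅x, g⁆ ∈ V) → x ∈ V

namespace Mov

variable [Finite X] {A : Subgroup (MulAut X)} {V : Subgroup X} (M : Mov A V)

include M

theorem normal : V.Normal :=
  ⟨fun v hv g => by rwa [Subgroup.mem_center_iff.1 (M.cen hv) g, mul_inv_cancel_right]⟩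

theorem comm {v : X} (hv : v ∈ V) (g : X) : g * v = v * g := Subgroup.mem_center_iff.1 (M.cen hv) g

theorem exists_psi : ∃ ψ ∈ A, (∀ v ∈ V, v ≠ 1 → ψ v ≠ v ∧ ψ (ψ v) = v * ψ v) ∧
    (∀ v ∈ V, ψ (ψ (ψ v)) = v) ∧ (∀ v ∈ V, v * ψ v * ψ (ψ v) = 1) ∧
    ∀ β ∈ A, ∃ i : ℕ, i < 3 ∧ ∀ v ∈ V, β v = (ψ ^ i) v := by
  obtain ⟨ψ, hψ, w, hw, hne⟩ := M.move
  have h := (M.set.four_key M.four M.sq hψ (M.inv ψ hψ)).resolve_left fun h => hne (h w hw)
  have hw1 : w ≠ 1 := fun e => hne (by rw [e, map_one])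
  refine ⟨ψ, hψ, h, fun v hv => ?_, fun v hv => ?_, fun β hβ => ?_⟩
  · by_cases hv1 : v = 1
    · simp [hv1]
    · rw [(h v hv hv1).2, map_mul, (h v hv hv1).2, M.comm (M.inv ψ hψ v hv) v, ← mul_assoc,
        M.sq _ (M.inv ψ hψ v hv), one_mul]
  · by_cases hv1 : v = 1
    · simp [hv1]
    · rw [(h v hv hv1).2]
      exact M.sq _ (mul_mem hv (M.inv ψ hψ v hv))
  · have hψw1 : ψ w ≠ 1 := fun e => hw1 (ψ.injective (e.trans (map_one ψ).symm))
    have key : ∀ i : ℕ, β w = (ψ ^ i) w → ∀ v ∈ V, β v = (ψ ^ i) v := by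
      intro i hi v hv
      have hb : (ψ ^ i)⁻¹ * β ∈ A := mul_mem (inv_mem (pow_mem hψ i)) hβ
      have hfix : ((ψ ^ i)⁻¹ * β) w = w := by rw [MulAut.mul_apply, hi, MulAut.inv_apply_self]
      rcases M.set.four_key M.four M.sq hb (M.inv _ hb) with h' | h'
      · have := congrArg (ψ ^ i) (h' v hv)
        rwa [MulAut.mul_apply, MulAut.apply_inv_self] at this
      · exact absurd hfix (h' w hw hw1).1
    rcases four_elems M.four M.sq hw (M.inv ψ hψ w hw) hw1 hψw1 (Ne.symm hne) _ (M.inv β hβ w hw) with e | e | e | e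
    · exact absurd (β.injective (e.trans (map_one β).symm)) hw1
    · exact ⟨0, by norm_num, key 0 (by rw [e]; rfl)⟩
    · exact ⟨1, by norm_num, key 1 (by rw [e, pow_one])⟩
    · exact ⟨2, by norm_num, key 2 (by rw [e, _root_.sq, MulAut.mul_apply, (h w hw hw1).2])⟩

/-- The elements which are involutions and central modulo `V`. -/
def U (M : Mov A V) : Subgroup X where
  carrier := {x | x * x ∈ V ∧ ∀ g : X, ⁅x, g⁆ ∈ V}
  one_mem' := ⟨by rw [one_mul]; exact one_mem _, fun g => by rw [commutatorElement_one_left]; exact one_mem _⟩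
  mul_mem' := fun {p q} hp hq => ⟨by
    rw [sq_mul_cen (M.cen (hq.2 p))]; exact mul_mem (mul_mem hp.1 hq.1) (hq.2 p),
    fun g => by rw [comm_mul_left (M.cen (hq.2 g))]; exact mul_mem (hq.2 g) (hp.2 g)⟩
  inv_mem' := fun {p} hp => ⟨by rw [← mul_inv_rev]; exact inv_mem hp.1, fun g => by
    haveI := M.normal
    rw [show ⁅p⁻¹, g⁆ = p⁻¹ * ⁅p, g⁆⁻¹ * p⁻¹⁻¹ by simp only [commutatorElement_def]; group]
    exact M.normal.conj_mem _ (inv_mem (hp.2 g)) _⟩

theorem mem_U {x : X} : x ∈ M.U ↔ x * x ∈ V ∧ ∀ g : X, ⁅x, g⁆ ∈ V := Iff.rfl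

theorem V_le_U : V ≤ M.U := fun v hv => ⟨by rw [M.sq v hv]; exact one_mem _, fun g => by
  rw [commutatorElement_eq_one_iff_mul_comm.2 (M.comm hv g).symm]; exact one_mem _⟩

theorem U_normal : M.U.Normal := ⟨fun x hx g => by
  rw [show g * x * g⁻¹ = ⁅x, g⁆⁻¹ * x by simp only [commutatorElement_def]; group]
  exact mul_mem (M.V_le_U (inv_mem (hx.2 g))) hx⟩

theorem U_inv {a : MulAut X} (ha : a ∈ A) {x : X} (hx : x ∈ M.U) : a x ∈ M.U :=
  ⟨by rw [← map_mul]; exact M.inv a ha _ hx.1, fun g => by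
    obtain ⟨g, rfl⟩ := a.surjective g
    rw [show ⁅a x, a g⁆ = a ⁅x, g⁆ from (map_commutatorElement a x g).symm]
    exact M.inv a ha _ (hx.2 g)⟩

theorem mem_V_of_U {x : X} (hx : x ∈ M.U) (h : x * x = 1) : x ∈ V := M.small x h hx.2

theorem exists_U_mem {C : Subgroup X} [C.Normal] (hC : ¬ C ≤ V) : ∃ x ∈ C, x ∈ M.U ∧ x ∉ V := by
  classical
  haveI := M.set.nilpotent
  haveI := M.normal
  obtain ⟨t, htC, htV, htc⟩ := exists_fixed_mod (N := V) (C := C) (Q := ⊤) (by rw [Subgroup.normalizer_eq_top]) hC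
  obtain ⟨e, he⟩ := M.set.pgroup t
  have hex : ∃ i, t ^ 2 ^ i ∈ V := ⟨e, he ▸ one_mem V⟩
  have h0 : Nat.find hex ≠ 0 := fun h => htV (by have := Nat.find_spec hex; rwa [h, pow_zero, pow_one] at this)
  have hp : ∀ i : ℕ, ∀ g : X, ⁅t ^ i, g⁆ ∈ V := by
    intro i g
    induction i with
    | zero => rw [pow_zero, commutatorElement_one_left]; exact one_mem _
    | succ i ih =>
      have h1 := htc g (Subgroup.mem_top g)
      rw [pow_succ, comm_mul_left (M.cen h1)]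
      exact mul_mem h1 ih
  refine ⟨t ^ 2 ^ (Nat.find hex - 1), pow_mem htC _, ⟨?_, hp _⟩,
    Nat.find_min hex (Nat.sub_lt (Nat.pos_of_ne_zero h0) one_pos)⟩
  rw [← pow_add, ← two_mul, ← pow_succ', Nat.sub_add_cancel (Nat.pos_of_ne_zero h0)]
  exact Nat.find_spec hex

theorem exists_U_outside (hnab : ∃ x y : X, x * y ≠ y * x) : ∃ x ∈ M.U, x ∉ V := by
  obtain ⟨x, -, hx⟩ := M.exists_U_mem (C := (⊤ : Subgroup X)) fun h => by
    obtain ⟨p, q, hpq⟩ := hnab
    exact hpq (M.comm (h (Subgroup.mem_top q)) p)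
  exact ⟨x, hx⟩

/-- If `U` is not abelian then it is the whole group. -/
theorem nonabelian_U (hUc : ¬ ∀ x ∈ M.U, ∀ y ∈ M.U, x * y = y * x) :
    (∀ g : X, g * g ∈ V) ∧ (∀ g h : X, ⁅g, h⁆ ∈ V) ∧ (∀ g : X, g * g = 1 → g ∈ V) ∧ Subgroup.center X = V ∧
      commutator X = V := by
  classical
  obtain ⟨ψ, hψ, h3, hcube, hsum, -⟩ := M.exists_psi
  push Not at hUc
  obtain ⟨x₀, hx₀, y₀, hy₀, hne₀⟩ := hUc
  have hZ : ∀ x ∈ M.U, (∀ y ∈ M.U, x * y = y * x) → x ∈ V := by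
    intro x hx hcx
    by_contra hxV
    have hxx : x * x ≠ 1 := fun e => hxV (M.mem_V_of_U hx e)
    have hcψ : ∀ z : X, (∀ y ∈ M.U, z * y = y * z) → ∀ y ∈ M.U, ψ z * y = y * ψ z := by
      intro z hz y hy
      have hy' : ψ⁻¹ y ∈ M.U := M.U_inv (inv_mem hψ) hy
      rw [← MulAut.apply_inv_self _ ψ y, ← map_mul, ← map_mul, hz _ hy']
    have hE : ∀ v ∈ V, ∃ e ∈ M.U, (∀ y ∈ M.U, e * y = y * e) ∧ e * e = v := by
      intro v hv
      obtain ⟨w, hw⟩ : ∃ w, w = x * x := ⟨_, rfl⟩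
      have hwV : w ∈ V := hw ▸ hx.1
      have hw1 : w ≠ 1 := hw ▸ hxx
      have hψw1 : ψ w ≠ 1 := fun e => hw1 (ψ.injective (e.trans (map_one ψ).symm))
      rcases four_elems M.four M.sq hwV (M.inv ψ hψ w hwV) hw1 hψw1 (Ne.symm (h3 w hwV hw1).1) v hv with e | e | e | e
      · exact ⟨1, one_mem _, fun y _ => by rw [one_mul, mul_one], by rw [e, one_mul]⟩
      · exact ⟨x, hx, hcx, by rw [e, hw]⟩
      · exact ⟨ψ x, M.U_inv hψ hx, hcψ x hcx, by rw [e, hw, map_mul]⟩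
      · exact ⟨ψ (ψ x), M.U_inv hψ (M.U_inv hψ hx), hcψ _ (hcψ x hcx),
          by rw [e, ← (h3 w hwV hw1).2, hw, map_mul, map_mul]⟩
    have hcen : ∀ y ∈ M.U, ∀ z ∈ M.U, y * z = z * y := by
      intro y hy
      obtain ⟨e, he, hec, hee⟩ := hE _ hy.1
      have hd : e⁻¹ * y ∈ V := by
        refine M.mem_V_of_U (mul_mem (inv_mem he) hy) ?_
        rw [← _root_.sq, (show Commute e y from hec y hy).inv_left.mul_pow, inv_pow, _root_.sq e, hee,
          ← _root_.sq, inv_mul_cancel]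
      intro z hz
      calc y * z = e * ((e⁻¹ * y) * z) := by rw [← mul_assoc, mul_inv_cancel_left]
        _ = e * (z * (e⁻¹ * y)) := by rw [M.comm hd z]
        _ = z * y := by rw [← mul_assoc, hec z hz, mul_assoc, mul_inv_cancel_left]
    exact hne₀ (hcen x₀ hx₀ y₀ hy₀)
  haveI := M.U_normal
  have hC : Subgroup.centralizer (M.U : Set X) ≤ V := by
    by_contra hC
    obtain ⟨x, hxC, hxU, hxV⟩ := M.exists_U_mem hC
    exact hxV (hZ x hxU fun y hy => (Subgroup.mem_centralizer_iff.1 hxC y hy).symm)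
  have hsq : ∀ g : X, g * g ∈ V := fun g => hC (Subgroup.mem_centralizer_iff.2 fun u hu => by
    refine (commutatorElement_eq_one_iff_mul_comm.1 ?_)
    rw [comm_mul_right (M.cen (hu.2 g))]
    exact M.sq _ (hu.2 g))
  have hcm : ∀ p q : X, ⁅p, q⁆ ∈ V := fun p q => by
    rw [show ⁅p, q⁆ = p * p * (p⁻¹ * q * (p⁻¹ * q)) * (q⁻¹ * q⁻¹) by rw [commutatorElement_def]; group]
    exact mul_mem (mul_mem (hsq p) (hsq _)) (hsq _)
  refine ⟨hsq, hcm, fun g hg => M.small g hg (hcm g),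
    le_antisymm (fun z hz => hZ z ⟨hsq z, hcm z⟩ fun y _ => (Subgroup.mem_center_iff.1 hz y).symm) M.cen,
    le_antisymm (by rw [commutator_def, Subgroup.commutator_le]; exact fun p _ q _ => hcm p q) ?_⟩
  have hin : ∀ p q : X, ⁅p, q⁆ ∈ commutator X := fun p q =>
    Subgroup.commutator_mem_commutator (Subgroup.mem_top p) (Subgroup.mem_top q)
  obtain ⟨c, hc⟩ : ∃ c, c = ⁅x₀, y₀⁆ := ⟨_, rfl⟩
  have hc1 : c ≠ 1 := fun e => hne₀ (commutatorElement_eq_one_iff_mul_comm.1 (hc ▸ e))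
  have hcV : c ∈ V := hc ▸ hcm _ _
  have hψc1 : ψ c ≠ 1 := fun e => hc1 (ψ.injective (e.trans (map_one ψ).symm))
  have hψc : ψ c ∈ commutator X := by
    rw [hc, show ψ ⁅x₀, y₀⁆ = ⁅ψ x₀, ψ y₀⁆ from map_commutatorElement ψ _ _]; exact hin _ _
  intro v hv
  rcases four_elems M.four M.sq hcV (M.inv ψ hψ c hcV) hc1 hψc1 (Ne.symm (h3 c hcV hc1).1) v hv with e | e | e | e
    <;> rw [e]
  · exact one_mem _
  · exact hc ▸ hin _ _
  · exact hψc
  · exact mul_mem (hc ▸ hin _ _) hψc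

/-- The case of an abelian `U`. -/
theorem abelian_U (hnab : ∃ x y : X, x * y ≠ y * x) (hUc : ∀ x ∈ M.U, ∀ y ∈ M.U, x * y = y * x)
    (hrec : letI := M.normal; ∀ (B : Subgroup (MulAut (X ⧸ V))) (W : Subgroup (X ⧸ V)), Mov B W →
      (∃ x y : X ⧸ V, x * y ≠ y * x) → (∀ g : X ⧸ V, g * g ∈ W) ∧ ∀ g h : X ⧸ V, ⁅g, h⁆ ∈ W) :
    False := by
  classical
  haveI := M.normal
  haveI := M.U_normal
  obtain ⟨ψ, hψ, h3, hcube, hsum, hall⟩ := M.exists_psi
  obtain ⟨x₀, hx₀, hx₀V⟩ := M.exists_U_outside hnab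
  have hψV : ∀ v ∈ V, ψ v ∈ V := M.inv ψ hψ
  have keyU : ∀ r ∈ M.U, ∀ u ∈ M.U, r * r = u * u → r⁻¹ * u ∈ V := by
    intro r hr u hu e
    refine M.mem_V_of_U (mul_mem (inv_mem hr) hu) ?_
    rw [← _root_.sq, (show Commute r u from hUc r hr u hu).inv_left.mul_pow, inv_pow, _root_.sq r, e, ← _root_.sq,
      inv_mul_cancel]
  obtain ⟨a, ha⟩ : ∃ a, a = x₀ := ⟨_, rfl⟩
  obtain ⟨v, hv⟩ : ∃ v, v = a * a := ⟨_, rfl⟩
  have haU : a ∈ M.U := ha ▸ hx₀
  have haV : a ∉ V := ha ▸ hx₀V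
  have hvV : v ∈ V := hv ▸ haU.1
  have hv1 : v ≠ 1 := fun e => haV (M.mem_V_of_U haU (hv ▸ e))
  obtain ⟨b, hb⟩ : ∃ b, b = ψ a := ⟨_, rfl⟩
  have hbU : b ∈ M.U := hb ▸ M.U_inv hψ haU
  have hbv : b * b = ψ v := by rw [hb, ← map_mul, hv]
  have hψv1 : ψ v ≠ 1 := fun e => hv1 (ψ.injective (e.trans (map_one ψ).symm))
  have hvne : ψ v ≠ v := (h3 v hvV hv1).1
  have hψψ : ψ (ψ v) = v * ψ v := (h3 v hvV hv1).2
  have hab : a * b * (a * b) = v * ψ v := by
    rw [mul_assoc, ← mul_assoc b, ← hUc a haU b hbU, mul_assoc a b, ← mul_assoc a a, ← hv, hbv]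
  have hfour := four_elems M.four M.sq hvV (hψV v hvV) hv1 hψv1 hvne.symm
  have hrep : ∀ u ∈ M.U, u ∈ V ∨ a⁻¹ * u ∈ V ∨ b⁻¹ * u ∈ V ∨ (a * b)⁻¹ * u ∈ V := by
    intro u hu
    rcases hfour _ hu.1 with e | e | e | e
    · exact Or.inl (M.mem_V_of_U hu e)
    · exact Or.inr (Or.inl (keyU a haU u hu (hv.symm.trans e.symm)))
    · exact Or.inr (Or.inr (Or.inl (keyU b hbU u hu (hbv.trans e.symm))))
    · exact Or.inr (Or.inr (Or.inr (keyU _ (mul_mem haU hbU) u hu (hab.trans e.symm))))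
  have hd : ∀ (h : X) (u : X), u ∈ M.U → ⁅h, u⁆ ∈ V := fun h u hu => by
    rw [← commutatorElement_inv u h]; exact inv_mem (hu.2 h)
  have hdm : ∀ (h p q : X), q ∈ M.U → ⁅h, p * q⁆ = ⁅h, p⁆ * ⁅h, q⁆ := fun h p q hq =>
    comm_mul_right (M.cen (hd h q hq))
  have hdl : ∀ (g h u : X), u ∈ M.U → ⁅g * h, u⁆ = ⁅g, u⁆ * ⁅h, u⁆ := fun g h u hu => by
    rw [comm_mul_left (M.cen (hd h u hu)), M.comm (hd h u hu) ⁅g, u⁆]
  have hdeq : ∀ (h p q : X), p⁻¹ * q ∈ V → ⁅h, p⁆ = ⁅h, q⁆ := fun h p q hpq => by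
    conv_rhs => rw [← mul_inv_cancel_left p q]
    rw [hdm h p _ (M.V_le_U hpq), commutatorElement_eq_one_iff_mul_comm.2 (M.comm hpq h), mul_one]
  have hagree : ∀ β ∈ A, ∀ σ ∈ A, (∀ z ∈ V, β z = σ z) → ∀ h : X, ∀ u ∈ M.U, ⁅β h, u⁆ = ⁅σ h, u⁆ := by
    intro β hβ σ hσ hag h u hu
    obtain ⟨w, hw⟩ : ∃ w, w = σ⁻¹ u := ⟨_, rfl⟩
    have hwU : w ∈ M.U := hw ▸ M.U_inv (inv_mem hσ) hu
    have hσw : σ w = u := by rw [hw, MulAut.apply_inv_self]
    have h1 : (β w)⁻¹ * u ∈ V := keyU _ (M.U_inv hβ hwU) u hu (by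
      rw [← map_mul, hag _ hwU.1, map_mul, hσw])
    rw [← hdeq (β h) (β w) u h1, show ⁅β h, β w⁆ = β ⁅h, w⁆ from (map_commutatorElement β h w).symm,
      hag _ (hd h w hwU), show σ ⁅h, w⁆ = ⁅σ h, σ w⁆ from map_commutatorElement σ h w, hσw]
  have hψb : ∀ h : X, ⁅ψ h, b⁆ = ψ ⁅h, a⁆ := fun h => by rw [hb]; exact (map_commutatorElement ψ h a).symm
  have hψa : ∀ h : X, ⁅ψ h, a⁆ = ψ (⁅h, a⁆ * ⁅h, b⁆) := fun h => by
    rw [← hdm h a b hbU, show ψ ⁅h, a * b⁆ = ⁅ψ h, ψ (a * b)⁆ from map_commutatorElement ψ h _]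
    refine hdeq _ _ _ (keyU a haU _ (M.U_inv hψ (mul_mem haU hbU)) ?_)
    rw [← map_mul, hab, map_mul, hψψ, ← mul_assoc, M.comm hvV (ψ v), mul_assoc, M.sq _ (hψV v hvV), mul_one, hv]
  have hψψa : ∀ h : X, ⁅ψ (ψ h), a⁆ = ψ (ψ ⁅h, b⁆) := fun h => by
    have hx := hd h a haU
    rw [hψa, hψb, hψa, ← map_mul, M.comm hx, ← mul_assoc, M.sq _ hx, one_mul]
  -- antilinearity
  have hanti : ∀ h : X, ⁅h, b⁆ = ψ (ψ ⁅h, a⁆) := by
    let f : X →* V := MonoidHom.mk'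
      (fun h => (⟨⁅h, a⁆, hd h a haU⟩ : V) * ⟨⁅ψ h, a⁆, hd _ a haU⟩ * ⟨⁅ψ (ψ h), a⁆, hd _ a haU⟩) fun g h => by
        refine Subtype.ext ?_
        show ⁅g * h, a⁆ * ⁅ψ (g * h), a⁆ * ⁅ψ (ψ (g * h)), a⁆ =
          ⁅g, a⁆ * ⁅ψ g, a⁆ * ⁅ψ (ψ g), a⁆ * (⁅h, a⁆ * ⁅ψ h, a⁆ * ⁅ψ (ψ h), a⁆)
        rw [map_mul, map_mul, hdl g h a haU, hdl _ _ a haU, hdl _ _ a haU]
        have c : ∀ k : X, ∀ g : X, Commute g ⁅k, a⁆ := fun k g => M.comm (hd k a haU) g
        rw [(c (ψ g) ⁅h, a⁆).mul_mul_mul_comm, (c (ψ (ψ g)) (⁅h, a⁆ * ⁅ψ h, a⁆)).mul_mul_mul_comm]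
    have hf := fun h => congrArg Subtype.val (M.set.kill f (fun β hβ h => by
      obtain ⟨i, hi, hag⟩ := hall β hβ
      refine Subtype.ext ?_
      show ⁅β h, a⁆ * ⁅ψ (β h), a⁆ * ⁅ψ (ψ (β h)), a⁆ = ⁅h, a⁆ * ⁅ψ h, a⁆ * ⁅ψ (ψ h), a⁆
      have e0 : ⁅β h, a⁆ = ⁅(ψ ^ i) h, a⁆ := hagree β hβ _ (pow_mem hψ i) hag h a haU
      have e1 : ⁅ψ (β h), a⁆ = ⁅ψ ((ψ ^ i) h), a⁆ := hagree (ψ * β) (mul_mem hψ hβ) (ψ * ψ ^ i)
        (mul_mem hψ (pow_mem hψ i)) (fun z hz => by simp only [MulAut.mul_apply, hag z hz]) h a haU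
      have e2 : ⁅ψ (ψ (β h)), a⁆ = ⁅ψ (ψ ((ψ ^ i) h)), a⁆ := hagree (ψ * ψ * β) (mul_mem (mul_mem hψ hψ) hβ)
        (ψ * ψ * ψ ^ i) (mul_mem (mul_mem hψ hψ) (pow_mem hψ i))
        (fun z hz => by simp only [MulAut.mul_apply, hag z hz]) h a haU
      have c : ∀ k k' : X, ⁅k, a⁆ * ⁅k', a⁆ = ⁅k', a⁆ * ⁅k, a⁆ := fun k k' => M.comm (hd k' a haU) _
      have hper : ∀ k : X, ⁅ψ (ψ (ψ k)), a⁆ = ⁅k, a⁆ := fun k =>
        hagree (ψ * ψ * ψ) (mul_mem (mul_mem hψ hψ) hψ) 1 (one_mem _) (fun z hz => hcube z hz) k a haU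
      rw [e0, e1, e2]
      interval_cases i
      · rfl
      · rw [pow_one, hper, M.comm (hd h a haU), ← mul_assoc]
      · rw [_root_.sq, MulAut.mul_apply, hper, hper, mul_assoc]
        exact M.comm (mul_mem (hd h a haU) (hd (ψ h) a haU)) _) h)
    intro h
    have h1 : ⁅h, a⁆ * ⁅ψ h, a⁆ * ⁅ψ (ψ h), a⁆ = 1 := hf h
    have hx := hd h a haU
    have hy := hd h b hbU
    rw [hψa, hψψa, map_mul, ← mul_assoc, mul_assoc _ (ψ ⁅h, b⁆)] at h1
    have h2 : ψ ⁅h, b⁆ * ψ (ψ ⁅h, b⁆) = ⁅h, b⁆ := by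
      have := hsum _ hy
      rw [mul_assoc] at this
      exact (inv_eq_of_mul_eq_one_right this).symm.trans (inv_eq_of_mul_eq_one_right (M.sq _ hy))
    have h3' : ⁅h, a⁆ * ψ ⁅h, a⁆ = ψ (ψ ⁅h, a⁆) :=
      (eq_inv_of_mul_eq_one_left (hsum _ hx)).trans (inv_eq_of_mul_eq_one_right (M.sq _ (hψV _ (hψV _ hx))))
    rw [h2, h3'] at h1
    exact (inv_eq_of_mul_eq_one_right h1).symm.trans (inv_eq_of_mul_eq_one_right (M.sq _ (hψV _ (hψV _ hx))))
  have hmid : ∀ z ∈ V, z * ψ (ψ z) = ψ z := by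
    intro z hz
    by_cases hz1 : z = 1
    · simp [hz1]
    · rw [(h3 z hz hz1).2, ← mul_assoc, M.sq z hz, one_mul]
  have hcls : ∀ (h : X) (u : X), u ∈ M.U → u ∉ V →
      (⁅h, u⁆ = ⁅h, a⁆ ∧ u * u = v) ∨ (⁅h, u⁆ = ψ (ψ ⁅h, a⁆) ∧ u * u = ψ v) ∨
        (⁅h, u⁆ = ψ ⁅h, a⁆ ∧ u * u = ψ (ψ v)) := by
    intro h u hu huV
    have hsq' : ∀ r ∈ M.U, r⁻¹ * u ∈ V → u * u = r * r := by
      intro r hr hru
      calc u * u = r * (r⁻¹ * u) * (r * (r⁻¹ * u)) := by rw [mul_inv_cancel_left]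
        _ = r * r * ((r⁻¹ * u) * (r⁻¹ * u)) := by
          rw [mul_assoc r, ← mul_assoc (r⁻¹ * u), ← M.comm hru r, mul_assoc r (r⁻¹ * u), ← mul_assoc r r]
        _ = r * r := by rw [M.sq _ hru, mul_one]
    rcases hrep u hu with e | e | e | e
    · exact absurd e huV
    · exact Or.inl ⟨(hdeq h a u e).symm, (hsq' a haU e).trans hv.symm⟩
    · exact Or.inr (Or.inl ⟨by rw [← hdeq h b u e, hanti], (hsq' b hbU e).trans hbv⟩)
    · refine Or.inr (Or.inr ⟨?_, by rw [hsq' _ (mul_mem haU hbU) e, hab, hψψ]⟩)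
      rw [← hdeq h _ u e, hdm h a b hbU, hanti, hmid _ (hd h a haU)]
  have n1 : v ≠ ψ v := hvne.symm
  have n3 : ψ v ≠ ψ (ψ v) := fun e => n1 (ψ.injective e)
  have n2 : v ≠ ψ (ψ v) := fun e => hvne ((congrArg ψ e).trans (hcube v hvV))
  have hinj : ∀ h h' : X, ∀ u ∈ M.U, u ∉ V → ⁅h, u⁆ = ⁅h', u⁆ → ⁅h, a⁆ = ⁅h', a⁆ := by
    intro h h' u hu huV e
    have hne1 : u * u ≠ 1 := fun e' => huV (M.mem_V_of_U hu e')
    rcases hcls h u hu huV with ⟨e1, q1⟩ | ⟨e1, q1⟩ | ⟨e1, q1⟩ <;>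
      rcases hcls h' u hu huV with ⟨e2, q2⟩ | ⟨e2, q2⟩ | ⟨e2, q2⟩
    all_goals first
      | exact e1.symm.trans (e.trans e2)
      | exact ψ.injective (e1.symm.trans (e.trans e2))
      | exact ψ.injective (ψ.injective (e1.symm.trans (e.trans e2)))
      | exact absurd (q1.symm.trans q2) n1
      | exact absurd (q2.symm.trans q1) n1
      | exact absurd (q1.symm.trans q2) n2
      | exact absurd (q2.symm.trans q1) n2
      | exact absurd (q1.symm.trans q2) n3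
      | exact absurd (q2.symm.trans q1) n3
  have hzero : ∀ h : X, ⁅h, a⁆ = 1 → ∀ u ∈ M.U, ⁅h, u⁆ = 1 := by
    intro h e u hu
    by_cases huV : u ∈ V
    · exact commutatorElement_eq_one_iff_mul_comm.2 (M.comm huV h)
    · rcases hcls h u hu huV with ⟨e1, -⟩ | ⟨e1, -⟩ | ⟨e1, -⟩ <;> rw [e1, e] <;> simp
  -- elements which are involutions and central in the quotient modulo `U`
  have hD : ∀ y : X, y * y ∈ V → (∀ g, ⁅y, g⁆ ∈ M.U) → y ∈ M.U := by
    intro x hx1 hx2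
    by_contra hxU
    let Dx : X → Prop := fun y => y * y ∈ V ∧ (∀ g, ⁅y, g⁆ ∈ M.U) ∧ y ∉ M.U
    have hxD : Dx x := ⟨hx1, hx2, hxU⟩
    have csq : ∀ y : X, y * y ∈ V → ∀ g, ⁅y, g⁆ ∈ M.U → ⁅y, g⁆ * ⁅y, g⁆ = ⁅y, ⁅y, g⁆⁆ := by
      intro y hy g hg
      have h1 : ⁅y * y, g⁆ = 1 := commutatorElement_eq_one_iff_mul_comm.2 (M.comm hy g).symm
      obtain ⟨c, hc⟩ : ∃ c, c = ⁅y, g⁆ := ⟨_, rfl⟩
      rw [show ⁅y * y, g⁆ = ⁅y, ⁅y, g⁆⁆ * ⁅y, g⁆ * ⁅y, g⁆ by simp only [commutatorElement_def]; group, ← hc,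
        mul_assoc] at h1
      rw [← hc] at hg ⊢
      exact ((inv_eq_of_mul_eq_one_left h1).symm.trans (inv_eq_of_mul_eq_one_right (M.sq _ hg.1))).symm
    have hnt : ∀ y, Dx y → ⁅y, a⁆ ≠ 1 := fun y hy e => hy.2.2 ⟨hy.1, fun g => M.mem_V_of_U (hy.2.1 g) (by
      rw [csq y hy.1 g (hy.2.1 g), hzero y e _ (hy.2.1 g)])⟩
    have hcomm : ∀ y y', Dx y → Dx y' → ⁅y, a⁆ ≠ ⁅y', a⁆ → ⁅y', y⁆ ∈ V := by
      intro y y' hy hy' hne
      by_contra hcV
      obtain ⟨c, hc⟩ : ∃ c, c = ⁅y, y'⁆ := ⟨_, rfl⟩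
      have hcU : c ∈ M.U := hc ▸ hy.2.1 y'
      have hcV' : c ∉ V := fun h => hcV (by rw [← commutatorElement_inv, ← hc]; exact inv_mem h)
      have h1 := csq y hy.1 y' (hy.2.1 y')
      have h2 := csq y' hy'.1 y (hy'.2.1 y)
      rw [← commutatorElement_inv y y', ← hc] at h2
      rw [← hc] at h1
      have h4 : ⁅y', c⁻¹⁆ = ⁅y', c⁆ := hdeq y' c⁻¹ c (by rw [inv_inv]; exact hcU.1)
      rw [← mul_inv_rev, inv_eq_of_mul_eq_one_right (M.sq _ hcU.1), h4] at h2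
      exact hne (hinj y y' c hcU hcV' (h1.symm.trans h2))
    have hprod : ∀ y y', Dx y → Dx y' → ⁅y, a⁆ ≠ ⁅y', a⁆ → Dx (y * y') := by
      intro y y' hy hy' hne
      have hc := hcomm y y' hy hy' hne
      refine ⟨by rw [sq_mul_cen (M.cen hc)]; exact mul_mem (mul_mem hy.1 hy'.1) hc, fun g => ?_, fun hU => ?_⟩
      · rw [show ⁅y * y', g⁆ = y * ⁅y', g⁆ * y⁻¹ * ⁅y, g⁆ by simp only [commutatorElement_def]; group]
        exact mul_mem (M.U_normal.conj_mem _ (hy'.2.1 g) y) (hy.2.1 g)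
      · have h1 : ⁅y * y', a⁆ = 1 := commutatorElement_eq_one_iff_mul_comm.2 (hUc _ hU a haU)
        rw [hdl y y' a haU] at h1
        exact hne ((eq_inv_of_mul_eq_one_left h1).trans (inv_eq_of_mul_eq_one_right (M.sq _ (hd y' a haU))))
    have hpair : ∀ y y', Dx y → Dx y' → ⁅y, a⁆ ≠ ⁅y', a⁆ → ∀ g, ⁅y, g⁆ ∈ V → ⁅y', g⁆ ∈ V := by
      intro y y' hy hy' hne g hgV
      by_contra hcV
      obtain ⟨c, hc⟩ : ∃ c, c = ⁅y', g⁆ := ⟨_, rfl⟩
      have hcU : c ∈ M.U := hc ▸ hy'.2.1 g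
      rw [← hc] at hcV
      obtain ⟨e, he⟩ : ∃ e, e = ⁅y * y', g⁆ := ⟨_, rfl⟩
      have hec : c⁻¹ * e ∈ V := by
        have h1 : e = y * c * y⁻¹ * ⁅y, g⁆ := by rw [he, hc]; simp only [commutatorElement_def]; group
        rw [h1, show c⁻¹ * (y * c * y⁻¹ * ⁅y, g⁆) = ⁅c⁻¹, y⁆ * ⁅y, g⁆ by simp only [commutatorElement_def]; group]
        exact mul_mem ((inv_mem hcU).2 y) hgV
      have hP := hprod y y' hy hy' hne
      have h1 := csq (y * y') hP.1 g (hP.2.1 g)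
      rw [← he] at h1
      have hee : e * e = c * c := by
        calc e * e = c * (c⁻¹ * e) * (c * (c⁻¹ * e)) := by rw [mul_inv_cancel_left]
          _ = c * c * ((c⁻¹ * e) * (c⁻¹ * e)) := by
            rw [mul_assoc c, ← mul_assoc (c⁻¹ * e), ← M.comm hec c, mul_assoc c (c⁻¹ * e), ← mul_assoc c c]
          _ = c * c := by rw [M.sq _ hec, mul_one]
      rw [hee, ← hdeq (y * y') c e hec, hdl y y' c hcU] at h1
      have h2 := csq y' hy'.1 g (hy'.2.1 g)
      rw [← hc] at h2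
      rw [h2] at h1
      have h3' : ⁅y, c⁆ = ⁅(1 : X), c⁆ := by rw [commutatorElement_one_left]; exact mul_eq_right.1 h1.symm
      exact hnt y hy ((hinj y 1 c hcU hcV h3').trans (commutatorElement_one_left a))
    have hindep : ∀ y y', Dx y → Dx y' → ∀ g, ⁅y, g⁆ ∈ V → ⁅y', g⁆ ∈ V := by
      intro y y' hy hy' g hg
      by_cases hne : ⁅y, a⁆ = ⁅y', a⁆
      · have hy2 : Dx (ψ y) := ⟨by rw [← map_mul]; exact hψV _ hy.1, fun g => by
            obtain ⟨g, rfl⟩ := ψ.surjective g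
            rw [show ⁅ψ y, ψ g⁆ = ψ ⁅y, g⁆ from (map_commutatorElement ψ y g).symm]
            exact M.U_inv hψ (hy.2.1 g), fun hU => hy.2.2 (by
              have := M.U_inv (inv_mem hψ) hU
              rwa [MulAut.inv_apply_self] at this)⟩
        have hd' : ⁅y, a⁆ ≠ ⁅ψ y, a⁆ := by
          rw [hψa, hanti, hmid _ (hd y a haU)]
          intro e
          obtain ⟨z, hz⟩ : ∃ z, z = ⁅y, a⁆ := ⟨_, rfl⟩
          rw [← hz] at e
          have hzV : z ∈ V := hz ▸ hd y a haU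
          have := congrArg ψ e
          rw [hcube z hzV] at this
          exact (h3 z hzV (hz ▸ hnt y hy)).1 this
        exact hpair (ψ y) y' hy2 hy' (fun e => hd' (hne.trans e.symm)) g (hpair y (ψ y) hy hy2 hd' g hg)
      · exact hpair y y' hy hy' hne g hg
    obtain ⟨g₁, hg₁⟩ : ∃ g, ⁅x, g⁆ ∉ V := by
      by_contra h
      push Not at h
      exact hxU ⟨hx1, h⟩
    let K : Subgroup X :=
      { carrier := {g | ⁅x, g⁆ ∈ V}
        one_mem' := by show ⁅x, (1 : X)⁆ ∈ V; rw [commutatorElement_one_right]; exact one_mem _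
        mul_mem' := fun {g h} hg hh => by
          show ⁅x, g * h⁆ ∈ V
          rw [comm_mul_right (M.cen hh)]
          exact mul_mem hg hh
        inv_mem' := fun {g} hg => by
          show ⁅x, g⁻¹⁆ ∈ V
          rw [show ⁅x, g⁻¹⁆ = g⁻¹ * ⁅x, g⁆⁻¹ * g⁻¹⁻¹ by simp only [commutatorElement_def]; group]
          exact M.normal.conj_mem _ (inv_mem hg) _ }
    have hKinv : ∀ β ∈ A, ∀ g, g ∈ K → β g ∈ K := by
      intro β hβ g hg
      have hy : Dx (β⁻¹ x) := ⟨by rw [← map_mul]; exact M.inv _ (inv_mem hβ) _ hx1, fun g => by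
          obtain ⟨g, rfl⟩ := (β⁻¹).surjective g
          rw [show ⁅β⁻¹ x, β⁻¹ g⁆ = β⁻¹ ⁅x, g⁆ from (map_commutatorElement β⁻¹ x g).symm]
          exact M.U_inv (inv_mem hβ) (hx2 g), fun hU => hxU (by
            have := M.U_inv hβ hU
            rwa [MulAut.apply_inv_self] at this)⟩
      have := M.inv β hβ _ (hindep x _ hxD hy g hg)
      rw [show β ⁅β⁻¹ x, g⁆ = ⁅β (β⁻¹ x), β g⁆ from map_commutatorElement β _ g, MulAut.apply_inv_self] at this
      exact this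
    have htwo : ∀ g h, g ∉ K → h ∉ K → g⁻¹ * h ∈ K := by
      intro g h hg hh
      obtain ⟨c, hc⟩ : ∃ c, c = ⁅x, g⁆ := ⟨_, rfl⟩
      obtain ⟨d, hdd⟩ : ∃ d, d = ⁅x, h⁆ := ⟨_, rfl⟩
      have hcU : c ∈ M.U := hc ▸ hx2 g
      have hdU : d ∈ M.U := hdd ▸ hx2 h
      have hcV : c ∉ V := fun e => hg (show ⁅x, g⁆ ∈ V from hc ▸ e)
      have hdV : d ∉ V := fun e => hh (show ⁅x, h⁆ ∈ V from hdd ▸ e)
      have h1 := csq x hx1 g (hx2 g)
      have h2 := csq x hx1 h (hx2 h)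
      rw [← hc] at h1
      rw [← hdd] at h2
      have hx' := hnt x hxD
      have hk : ∀ c ∈ M.U, c ∉ V → c * c = ⁅x, c⁆ → (⁅x, a⁆ = v ∧ c * c = v) ∨
          (⁅x, a⁆ = ψ (ψ v) ∧ c * c = ψ v) ∨ (⁅x, a⁆ = ψ v ∧ c * c = ψ (ψ v)) := by
        intro c hcU hcV h1
        have hzV : ⁅x, a⁆ ∈ V := hd x a haU
        rcases hcls x c hcU hcV with ⟨e1, q1⟩ | ⟨e1, q1⟩ | ⟨e1, q1⟩
        · exact Or.inl ⟨by rw [← e1, ← h1, q1], q1⟩
        · rw [q1, e1] at h1
          exact Or.inr (Or.inl ⟨((congrArg ψ h1).trans (hcube _ hzV)).symm, q1⟩)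
        · rw [q1, e1] at h1
          exact Or.inr (Or.inr ⟨(ψ.injective h1).symm, q1⟩)
      have hcd : c⁻¹ * d ∈ V := by
        refine keyU c hcU d hdU ?_
        rcases hk c hcU hcV h1 with ⟨e1, q1⟩ | ⟨e1, q1⟩ | ⟨e1, q1⟩ <;>
          rcases hk d hdU hdV h2 with ⟨e2, q2⟩ | ⟨e2, q2⟩ | ⟨e2, q2⟩ <;>
          first
            | exact q1.trans q2.symm
            | exact absurd (e1.symm.trans e2) n1
            | exact absurd (e2.symm.trans e1) n1
            | exact absurd (e1.symm.trans e2) n2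
            | exact absurd (e2.symm.trans e1) n2
            | exact absurd (e1.symm.trans e2) n3
            | exact absurd (e2.symm.trans e1) n3
      show ⁅x, g⁻¹ * h⁆ ∈ V
      rw [show ⁅x, g⁻¹ * h⁆ = g⁻¹ * (⁅x, g⁆⁻¹ * ⁅x, h⁆) * g⁻¹⁻¹ by simp only [commutatorElement_def]; group, ← hc,
        ← hdd]
      exact M.normal.conj_mem _ hcd _
    refine hg₁ ((M.set.le_of_conj K fun β hβ g => ?_).ge (Subgroup.mem_top g₁))
    by_cases hg : g ∈ K
    · exact mul_mem (inv_mem hg) (hKinv β hβ g hg)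
    · refine htwo g (β g) hg fun e => hg ?_
      have := hKinv β⁻¹ (inv_mem hβ) _ e
      rwa [MulAut.inv_apply_self] at this
  -- the quotient
  obtain ⟨π, hπ⟩ : ∃ π, π = QuotientGroup.mk' V := ⟨_, rfl⟩
  have hπs : Function.Surjective π := hπ ▸ QuotientGroup.mk'_surjective V
  have hπ1 : ∀ g : X, π g = 1 ↔ g ∈ V := fun g => by rw [hπ]; exact QuotientGroup.eq_one_iff g
  obtain ⟨W, hW⟩ : ∃ W, W = M.U.map π := ⟨_, rfl⟩
  have hWm : ∀ g : X, π g ∈ W ↔ g ∈ M.U := fun g => by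
    rw [hW]
    refine ⟨fun ⟨u, hu, hug⟩ => ?_, fun hg => ⟨g, hg, rfl⟩⟩
    have : u⁻¹ * g ∈ V := (hπ1 _).1 (by rw [map_mul, map_inv, hug, inv_mul_cancel])
    rw [← mul_inv_cancel_left u g]
    exact mul_mem hu (M.V_le_U this)
  have hmap : ∀ β ∈ A, V.map (β : X →* X) = V := fun β hβ => by
    refine Subgroup.eq_of_le_of_card_ge ?_ (Subgroup.card_map_of_injective (f := (β : X →* X)) β.injective).ge
    rintro _ ⟨z, hz, rfl⟩
    exact M.inv β hβ z hz
  let ρ : A →* MulAut (X ⧸ V) := MonoidHom.mk' (fun β => QuotientGroup.congr V V (β : MulAut X) (hmap β β.2))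
    fun β γ => MulEquiv.ext fun w => by
      obtain ⟨g, rfl⟩ := QuotientGroup.mk'_surjective V w
      rfl
  have hρ : ∀ (β : A) (g : X), ρ β (π g) = π ((β : MulAut X) g) := fun β g => by rw [hπ]; rfl
  have hU4 : Nat.card W = 4 := by
    let f : M.U →* V := MonoidHom.mk' (fun u => ⟨(u : X) * u, u.2.1⟩) fun p q => Subtype.ext (by
      show (p : X) * q * (p * q) = (p : X) * p * (q * q)
      rw [mul_assoc, ← mul_assoc (q : X), ← hUc p p.2 q q.2, mul_assoc (p : X) q, ← mul_assoc (p : X) p])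
    have hfs : Function.Surjective f := by
      rintro ⟨z, hz⟩
      rcases hfour z hz with e | e | e | e <;> subst e
      · exact ⟨1, Subtype.ext (one_mul 1)⟩
      · exact ⟨⟨a, haU⟩, Subtype.ext hv.symm⟩
      · exact ⟨⟨b, hbU⟩, Subtype.ext hbv⟩
      · exact ⟨⟨a * b, mul_mem haU hbU⟩, Subtype.ext hab⟩
    let g : M.U →* X ⧸ V := π.comp M.U.subtype
    have hk : g.ker = f.ker := by
      ext u
      rw [MonoidHom.mem_ker, MonoidHom.mem_ker]
      exact ⟨fun h => Subtype.ext (M.sq _ ((hπ1 _).1 h)),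
        fun h => (hπ1 _).2 (M.mem_V_of_U u.2 (congrArg Subtype.val h))⟩
    have hr : g.range = W := by rw [hW, MonoidHom.range_comp, Subgroup.range_subtype]
    rw [← hr, ← Subgroup.index_ker, hk, Subgroup.index_ker, MonoidHom.range_eq_top.2 hfs, Subgroup.card_top, M.four]
  have hMov : Mov ρ.range W := by
    refine ⟨⟨?_, ?_, ?_⟩, ?_, hU4, ?_, ?_, ?_, ?_⟩
    · exact M.set.pgroup.of_surjective π hπs
    · exact M.set.odd.of_dvd_nat (Subgroup.card_range_dvd ρ)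
    · rw [eq_top_iff, ← Subgroup.map_top_of_surjective π hπs, ← M.set.gen, MonoidHom.map_closure]
      refine Subgroup.closure_mono ?_
      rintro _ ⟨_, ⟨β, hβ, g, rfl⟩, rfl⟩
      exact ⟨ρ ⟨β, hβ⟩, ⟨_, rfl⟩, π g, by rw [hρ, map_mul, map_inv]⟩
    · rw [hW]
      rintro _ ⟨u, hu, rfl⟩
      refine Subgroup.mem_center_iff.2 fun w => ?_
      obtain ⟨g, rfl⟩ := hπs w
      refine (commutatorElement_eq_one_iff_mul_comm.1 ?_).symm
      rw [← map_commutatorElement]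
      exact (hπ1 _).2 (hu.2 g)
    · rw [hW]
      rintro _ ⟨u, hu, rfl⟩
      rw [← map_mul]
      exact (hπ1 _).2 hu.1
    · rintro _ ⟨β, rfl⟩ w hw
      obtain ⟨g, rfl⟩ := hπs w
      rw [hρ]
      exact (hWm _).2 (M.U_inv β.2 ((hWm g).1 hw))
    · refine ⟨ρ ⟨ψ, hψ⟩, ⟨_, rfl⟩, π a, (hWm a).2 haU, fun e => ?_⟩
      rw [hρ, ← hb] at e
      have hm : a⁻¹ * b ∈ V := (hπ1 _).1 (by rw [map_mul, map_inv, e, inv_mul_cancel])
      refine hvne ?_
      rw [← hbv]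
      calc b * b = a * (a⁻¹ * b) * (a * (a⁻¹ * b)) := by rw [mul_inv_cancel_left]
        _ = a * a * ((a⁻¹ * b) * (a⁻¹ * b)) := by
          rw [mul_assoc a, ← mul_assoc (a⁻¹ * b), ← M.comm hm a, mul_assoc a (a⁻¹ * b), ← mul_assoc a a]
        _ = v := by rw [M.sq _ hm, mul_one, hv]
    · intro w hw1 hw2
      obtain ⟨g, rfl⟩ := hπs w
      refine (hWm g).2 (hD g ((hπ1 _).1 (by rw [map_mul, hw1])) fun k => (hWm _).1 ?_)
      rw [map_commutatorElement]
      exact hw2 _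
  have hker : ∀ g : X, g * g ∈ V → (∀ k, ⁅g, k⁆ ∈ V) → g ∈ M.U := fun g h1 h2 => ⟨h1, h2⟩
  by_cases hq : ∀ p q : X, ⁅p, q⁆ ∈ V
  · -- the quotient is abelian, so `X` has one commutator only
    let f : X →* X ⧸ V := MonoidHom.mk' (fun g => π (g * g)) fun g h => by
      rw [sq_mul_cen (M.cen (hq h g)), map_mul, map_mul, (hπ1 _).2 (hq h g), mul_one]
    obtain ⟨N, hN⟩ : ∃ N, N = f.range.comap π := ⟨_, rfl⟩
    have hNc : N ≤ Subgroup.center X := by
      intro g hg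
      rw [hN, Subgroup.mem_comap] at hg
      obtain ⟨h, hh⟩ := hg
      have hm : (h * h)⁻¹ * g ∈ V := (hπ1 _).1 (by rw [map_mul, map_inv, ← hh]; exact inv_mul_cancel _)
      rw [← mul_inv_cancel_left (h * h) g]
      refine mul_mem (Subgroup.mem_center_iff.2 fun k => ?_) (M.cen hm)
      refine (commutatorElement_eq_one_iff_mul_comm.1 ?_).symm
      rw [comm_mul_left (M.cen (hq h k))]
      exact M.sq _ (hq h k)
    have hfk : f.ker = M.U := by
      ext g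
      rw [MonoidHom.mem_ker]
      exact ⟨fun h => hker g ((hπ1 _).1 h) (hq g), fun h => (hπ1 _).2 h.1⟩
    have hidx : N.index ≤ 4 := by
      rw [hN, Subgroup.index_comap_of_surjective _ hπs]
      have h1 : Nat.card f.range * Nat.card M.U = Nat.card X := by
        rw [← hfk, ← Subgroup.index_ker, mul_comm, Subgroup.card_mul_index]
      have h2 : Nat.card (X ⧸ V) * 4 = Nat.card X := by rw [← M.four, ← Subgroup.card_eq_card_quotient_mul_card_subgroup]
      have h3' : Nat.card M.U = 16 := by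
        have := hU4
        rw [hW, ← Subgroup.relIndex_ker, show π.ker = V by rw [hπ, QuotientGroup.ker_mk']] at this
        have h4 := Subgroup.relIndex_mul_relIndex ⊥ V M.U bot_le M.V_le_U
        rw [Subgroup.relIndex_bot_left, Subgroup.relIndex_bot_left, M.four, this] at h4
        omega
      have h4 := f.range.card_mul_index
      rw [h3'] at h1
      have h5 : Nat.card f.range * f.range.index = Nat.card f.range * 4 := by omega
      exact (Nat.eq_of_mul_eq_mul_left Nat.card_pos h5).le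
    obtain ⟨c, hc⟩ := comm_cases hNc hidx fun g h => M.cen (hq g h)
    obtain ⟨p, q, hpq⟩ := hnab
    have hne1 : ⁅p, q⁆ ≠ 1 := fun e => hpq (commutatorElement_eq_one_iff_mul_comm.1 e)
    obtain ⟨z, hz⟩ : ∃ z, z = ⁅p, q⁆ := ⟨_, rfl⟩
    have hzi : z⁻¹ = z := inv_eq_of_mul_eq_one_right (M.sq _ (hz ▸ hq p q))
    have hall1 : ∀ g h : X, ⁅g, h⁆ = 1 ∨ ⁅g, h⁆ = z := by
      have hcz : c = z ∨ c⁻¹ = z := by
        rcases hc p q with e | e | e
        · exact absurd e hne1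
        · exact Or.inl (hz ▸ e.symm)
        · exact Or.inr (hz ▸ e.symm)
      intro g h
      rcases hc g h with e | e | e
      · exact Or.inl e
      · rcases hcz with h' | h'
        · exact Or.inr (e.trans h')
        · exact Or.inr (by rw [e, ← inv_inv c, h', hzi])
      · rcases hcz with h' | h'
        · exact Or.inr (by rw [e, h', hzi])
        · exact Or.inr (e.trans h')
    rcases hall1 (ψ p) (ψ q) with e | e <;>
      rw [show ⁅ψ p, ψ q⁆ = ψ ⁅p, q⁆ from (map_commutatorElement ψ p q).symm, ← hz] at e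
    · exact hne1 (hz ▸ ψ.injective (e.trans (map_one ψ).symm))
    · exact (h3 z (hz ▸ hq p q) (hz ▸ hne1)).1 e
  · push Not at hq
    obtain ⟨p, q, hpq⟩ := hq
    obtain ⟨hs, hcm⟩ := hrec _ _ hMov ⟨π p, π q, fun e => hpq ((hπ1 _).1 (by
      rw [map_commutatorElement, commutatorElement_eq_one_iff_mul_comm]; exact e))⟩
    have hsU : ∀ g : X, g * g ∈ M.U := fun g => (hWm _).1 (by rw [map_mul]; exact hs _)
    have hcU : ∀ g h : X, ⁅g, h⁆ ∈ M.U := fun g h => (hWm _).1 (by rw [map_commutatorElement]; exact hcm _ _)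
    have hC : ∀ h : X, ⁅h, a⁆ = 1 := by
      intro h
      by_contra hne
      have h1 : ⁅h, h * h⁆ = 1 := commutatorElement_eq_one_iff_mul_comm.2 (mul_assoc h h h).symm
      by_cases hV : h * h ∈ V
      · have hU : h ∈ M.U := hD h hV (hcU h)
        exact hne (commutatorElement_eq_one_iff_mul_comm.2 (hUc h hU a haU))
      · exact hne ((hinj h 1 _ (hsU h) hV (by rw [h1, commutatorElement_one_left])).trans
          (commutatorElement_one_left a))
    refine hpq (M.mem_V_of_U (hcU p q) ?_)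
    have h2 : ⁅p * p, q⁆ = 1 := by
      rw [← commutatorElement_inv q (p * p), hzero q (hC q) _ (hsU p), inv_one]
    rw [show ⁅p * p, q⁆ = ⁅p, ⁅p, q⁆⁆ * ⁅p, q⁆ * ⁅p, q⁆ by simp only [commutatorElement_def]; group,
      hzero p (hC p) _ (hcU p q), one_mul] at h2
    exact h2

end Mov

theorem classify_aux : ∀ (n : ℕ) (Y : Type u) [Group Y] [Finite Y], Nat.card Y = n →
    ∀ (A : Subgroup (MulAut Y)) (V : Subgroup Y), Mov A V → (∃ x y : Y, x * y ≠ y * x) →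
      (∀ g : Y, g * g ∈ V) ∧ (∀ g h : Y, ⁅g, h⁆ ∈ V) ∧ (∀ g : Y, g * g = 1 → g ∈ V) ∧ Subgroup.center Y = V ∧
        commutator Y = V := by
  intro n
  induction n using Nat.strong_induction_on with
  | _ n ih =>
    intro Y _ _ hn A V M hnab
    by_cases hUc : ∀ x ∈ M.U, ∀ y ∈ M.U, x * y = y * x
    · refine (M.abelian_U hnab hUc ?_).elim
      intro B W M' hnab'
      haveI := M.normal
      have hlt : Nat.card (Y ⧸ V) < n := by
        rw [← hn, Subgroup.card_eq_card_quotient_mul_card_subgroup V, M.four]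
        have := Nat.card_pos (α := Y ⧸ V)
        omega
      have h := ih _ hlt (Y ⧸ V) rfl B W M' hnab'
      exact ⟨h.1, h.2.1⟩
    · exact M.nonabelian_U hUc

theorem Mov.classify [Finite X] {A : Subgroup (MulAut X)} {V : Subgroup X} (M : Mov A V)
    (hnab : ∃ x y : X, x * y ≠ y * x) :
    (∀ g : X, g * g ∈ V) ∧ (∀ g h : X, ⁅g, h⁆ ∈ V) ∧ (∀ g : X, g * g = 1 → g ∈ V) ∧ Subgroup.center X = V ∧
      commutator X = V :=
  classify_aux _ X rfl A V M hnab

end Cfsg.Agent.Fusion.OddAutNoScn
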