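import Cfsg.Agent.Lib.Fusion.RankTwoExponent
import Cfsg.Agent.Lib.Fusion.Critical
import Cfsg.Agent.Lib.Fusion.OmegaSeries
import Cfsg.Agent.Lib.Solv.SmallRank

/-!
# Automorphisms of `p`-groups of rank two
-/

set_option autoImplicit false
set_option linter.style.haveILetI false

open scoped commutatorElement

universe u

namespace Cfsg.Agent.Fusion

variable {p : ℕ} [hp : Fact p.Prime]

/-- An automorphism of `R` restricted to an invariant subgroup. -/
theorem exists_restrict_aut {R : Type*} [Group R] [Finite R] (a : MulAut R) (H : Subgroup R)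
    (hH : ∀ x ∈ H, a x ∈ H) : ∃ b : MulAut H, (∀ x : H, ((b x : H) : R) = a x) ∧ orderOf b ∣ orderOf a := by
  let f : H →* H := (a.toMonoidHom.comp H.subtype).codRestrict H fun x => hH x x.2
  have hinj : Function.Injective f := fun x y e => Subtype.ext (a.injective (congrArg Subtype.val e))
  let b : MulAut H := MulEquiv.ofBijective f (Finite.injective_iff_bijective.1 hinj)
  have hb : ∀ x : H, ((b x : H) : R) = a x := fun x => rfl
  have hpow : ∀ (k : ℕ) (x : H), (((b ^ k) x : H) : R) = (a ^ k) x := by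
    intro k
    induction k with
    | zero => intro x; rfl
    | succ k ih => intro x; rw [pow_succ, pow_succ, MulAut.mul_apply, MulAut.mul_apply, ih, hb]
  refine ⟨b, hb, orderOf_dvd_of_pow_eq_one (MulEquiv.ext fun x => Subtype.ext ?_)⟩
  rw [hpow, pow_orderOf_eq_one]; rfl

/-- A group of exponent `p` and rank two has no automorphism of order `q` unless `q ∣ p² - 1`. -/
theorem aut_eq_one_of_exponent_rank_two {E : Type u} [Group E] [Finite E] (hp2 : p ≠ 2) (he : ∀ x : E, x ^ p = 1)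
    (hrk : Cfsg.PRankLE p 2 E) (q : ℕ) (hq : q.Prime) (hqp : q ≠ p) (hnd : ¬ q ∣ p ^ 2 - 1)
    (a : MulAut E) (ha : orderOf a ∣ q) : a = 1 := by
  have hE : IsPGroup p E := fun x => ⟨1, by rw [pow_one]; exact he x⟩
  have hprimes : ∀ {n : ℕ}, n ∣ q → ∀ r : ℕ, r.Prime → r ∣ n → r ≠ p ∧ ¬ r ∣ p ^ 2 - 1 := by
    intro n hn r hr hrn
    obtain rfl := (Nat.prime_dvd_prime_iff_eq hr hq).1 (hrn.trans hn)
    exact ⟨hqp, hnd⟩
  have h3 : Nat.card E ≤ p ^ 3 := card_le_of_exponent_rank_two hp2 hE he hrk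
  by_cases h2 : Nat.card E ≤ p ^ 2
  · exact Solv.mulAut_eq_one_of_small hE h2 a (hprimes ha)
  have hnab : ¬ IsMulCommutative E := fun h => h2 (by
    have := hrk ⊤ ⟨⟨fun x y => Subtype.ext (h.1.comm (x : E) y)⟩⟩ fun x _ => he x
    rwa [Subgroup.card_top] at this)
  set Z := Subgroup.center E with hZ
  have hquot : p ^ 2 ≤ Nat.card (E ⧸ Z) := by
    obtain ⟨j, hj⟩ := (hE.to_quotient Z).exists_card_eq
    rw [hj]
    refine Nat.pow_le_pow_right hp.out.pos ?_
    by_contra hcon
    have hcyc : IsCyclic (E ⧸ Z) := by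
      rcases Nat.le_one_iff_eq_zero_or_eq_one.1 (show j ≤ 1 by omega) with rfl | rfl
      · haveI : Subsingleton (E ⧸ Z) := (Nat.card_eq_one_iff_unique.1 (by simpa using hj)).1
        exact inferInstance
      · exact isCyclic_of_prime_card (p := p) (by simpa using hj)
    exact hnab ⟨⟨commutative_of_cyclic_center_quotient (QuotientGroup.mk' Z) (by rw [QuotientGroup.ker_mk'])⟩⟩
  have hcard := Subgroup.card_eq_card_quotient_mul_card_subgroup Z
  obtain ⟨i, hi⟩ := (hE.to_subgroup Z).exists_card_eq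
  obtain ⟨j, hj⟩ := (hE.to_quotient Z).exists_card_eq
  have hsum : i + j ≤ 3 := by
    rw [hcard, hi, hj, ← pow_add] at h3
    have := (Nat.pow_le_pow_iff_right hp.out.one_lt).1 h3
    omega
  have hi0 : i ≠ 0 := by
    intro h0
    rw [h0, pow_zero] at hi
    have : Nontrivial E := by
      by_contra hsub
      rw [not_nontrivial_iff_subsingleton] at hsub
      exact h2 (by rw [Nat.card_unique]; exact Nat.one_le_pow 2 p hp.out.pos)
    haveI := hE.center_nontrivial
    exact absurd hi (Finite.one_lt_card (α := Z)).ne'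
  have hZc : Nat.card Z ≤ p ^ 2 := hi ▸ Nat.pow_le_pow_right hp.out.pos (by
    have : 2 ≤ j := (Nat.pow_le_pow_iff_right hp.out.one_lt).1 (hj ▸ hquot)
    omega)
  have hQc : Nat.card (E ⧸ Z) ≤ p ^ 2 := hj ▸ Nat.pow_le_pow_right hp.out.pos (by omega)
  have hmap : Z.map (a : E →* E) = Z :=
    Subgroup.characteristic_iff_map_eq.1 (inferInstance : (Subgroup.center E).Characteristic) a
  let β : MulAut (E ⧸ Z) := QuotientGroup.congr Z Z a hmap
  have hmk : ∀ (n : ℕ) (x : E), (β ^ n) (x : E ⧸ Z) = (((a ^ n) x : E) : E ⧸ Z) := by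
    intro n
    induction n with
    | zero => intro x; rfl
    | succ n ih => intro x; rw [pow_succ, pow_succ, MulAut.mul_apply, MulAut.mul_apply, QuotientGroup.congr_mk, ih]
  have hβ : β = 1 := Solv.mulAut_eq_one_of_small (hE.to_quotient Z) hQc β (hprimes (dvd_trans
    (orderOf_dvd_of_pow_eq_one (MulEquiv.ext fun y => by
      obtain ⟨x, rfl⟩ := QuotientGroup.mk'_surjective Z y
      rw [QuotientGroup.mk'_apply, hmk, pow_orderOf_eq_one]; rfl)) ha))
  obtain ⟨γ, hγ, hγo⟩ := exists_restrict_aut a Z fun x hx => hmap.le ⟨x, hx, rfl⟩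
  have hγ1 : γ = 1 := Solv.mulAut_eq_one_of_small (hE.to_subgroup Z) hZc γ (hprimes (hγo.trans ha))
  refine MulEquiv.ext fun x => ?_
  set z := x⁻¹ * a x with hz
  have hzZ : z ∈ Z := QuotientGroup.eq.1 (by
    have := hmk 1 x
    rw [hβ, one_pow, MulAut.one_apply, pow_one] at this
    exact this)
  have hfix : a z = z := by
    have := hγ ⟨z, hzZ⟩
    rw [hγ1] at this
    exact this.symm
  have hax : a x = x * z := by rw [hz]; group
  have hpow : ∀ k : ℕ, (a ^ k) x = x * z ^ k := by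
    intro k
    induction k with
    | zero => simp
    | succ k ih => rw [pow_succ', MulAut.mul_apply, ih, map_mul, map_pow, hfix, hax, pow_succ', mul_assoc]
  have h5 := hpow q
  rw [show a ^ q = 1 from orderOf_dvd_iff_pow_eq_one.1 ha, MulAut.one_apply] at h5
  have h6 : z ^ q = 1 := mul_left_cancel (h5.symm.trans (mul_one x).symm)
  have h7 := pow_gcd_eq_one.2 ⟨h6, he z⟩
  rw [(Nat.coprime_primes hq hp.out).2 hqp, pow_one] at h7
  rw [hax, h7, mul_one]; rfl

theorem prime_dvd_aut_of_rank_two {R : Type u} [Group R] [Finite R] (hp2 : p ≠ 2) (hR : IsPGroup p R)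
    (hrk : Cfsg.PRankLE p 2 R) (q : ℕ) (hq : q.Prime) (hqp : q ≠ p) (hdvd : q ∣ Nat.card (MulAut R)) :
    q ∣ p ^ 2 - 1 := by
  by_contra hnd
  haveI := Fact.mk hq
  obtain ⟨a, ha⟩ := exists_prime_orderOf_dvd_card' q hdvd
  have hco : (orderOf a).Coprime p := by rw [ha]; exact (Nat.coprime_primes hq hp.out).2 hqp
  obtain ⟨H, hHc, hpow, hcomm, hC⟩ := exists_critical hR
  haveI := hHc
  refine hq.ne_one ?_
  rw [← ha, aut_eq_one_of_fix hR hC a hco ?_, orderOf_one]
  obtain ⟨b, hb, hbo⟩ := exists_restrict_aut a H fun x hx =>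
    (Subgroup.characteristic_iff_map_eq.1 hHc a).le ⟨x, hx, rfl⟩
  suffices hb1 : b = 1 by
    intro x hx
    have := hb ⟨x, hx⟩
    rw [hb1] at this
    exact this.symm
  have hcl : ∀ x y : H, ∀ g : H, ⁅x, y⁆ * g = g * ⁅x, y⁆ := by
    intro x y g
    have h1 : ((⁅x, y⁆ : H) : R) ∈ zOf H := hcomm (by
      rw [map_commutatorElement H.subtype x y |> fun e => (e : ((⁅x, y⁆ : H) : R) = ⁅(x : R), (y : R)⁆)]
      exact Subgroup.commutator_mem_commutator x.2 (Subgroup.mem_top _))
    exact Subtype.ext (Subgroup.mem_centralizer_iff.1 h1.2 (g : R) g.2).symm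
  have hsc : SmallClass p H := by
    refine Or.inl ⟨hp2, Subgroup.commutator_eq_bot_iff_le_centralizer.2 ?_⟩
    rw [commutator_def, Subgroup.commutator_le]
    intro x _ y _
    exact Subgroup.mem_centralizer_iff.2 fun g _ => (hcl x y g).symm
  refine aut_eq_one_of_fix_omega (hR.to_subgroup H) b (hco.coprime_dvd_left hbo) fun x hx => ?_
  set W := Subgroup.closure {x : H | x ^ p = 1}
  have hW : ∀ x ∈ W, x ^ p = 1 := fun x hx => pow_eq_one_of_mem_closure hsc hx
  have hxp : x ^ p = 1 := by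
    simpa [Local.FS.IsOmega, hp2] using hx
  obtain ⟨c, hc, hco'⟩ := exists_restrict_aut b W fun y hy => Subgroup.subset_closure
    (show b y ^ p = 1 by rw [← map_pow, hW y hy, map_one])
  have hc1 : c = 1 := by
    refine aut_eq_one_of_exponent_rank_two (E := W) hp2 (fun (y : W) => Subtype.ext (hW (y : H) y.2)) ?_ q hq hqp hnd c
      ((hco'.trans hbo).trans ha.dvd)
    intro A hA hAe
    have h := hrk ((A.map W.subtype).map H.subtype) ⟨⟨fun s t => Subtype.ext ?_⟩⟩ ?_
    · rwa [Subgroup.card_map_of_injective H.subtype_injective, Subgroup.card_map_of_injective W.subtype_injective] at h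
    · obtain ⟨_, ⟨s', hs', rfl⟩, hse⟩ := s.2
      obtain ⟨_, ⟨t', ht', rfl⟩, hte⟩ := t.2
      show (s : R) * t = t * s
      rw [← hse, ← hte]
      exact congrArg (fun z : A => (((z : W) : H) : R)) (hA.1.comm ⟨s', hs'⟩ ⟨t', ht'⟩)
    · rintro _ ⟨_, ⟨s, hs, rfl⟩, rfl⟩
      exact congrArg Subtype.val (hW _ s.2)
  have := hc ⟨x, Subgroup.subset_closure hxp⟩
  rw [hc1] at this
  exact this.symm

end Cfsg.Agent.Fusion
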