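import Cfsg.Prelude.Def_OddOrderLocal
import Cfsg.Prelude.Def_Transfer
import Cfsg.Agent.Lib.Local.FS.SmallOmega
import Cfsg.Agent.Lib.Solv.UniqueSub
import Cfsg.Agent.Lib.Fusion.KInf

/-!
# Elements of order `p` in metacyclic groups; normal subgroups of type `(p, p)`
-/

set_option autoImplicit false
set_option linter.style.haveILetI false

open scoped commutatorElement

universe u

namespace Cfsg.Agent.Fusion

variable {R : Type u} [Group R] [Finite R] {p : ℕ} [hp : Fact p.Prime]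

theorem omega_metacyclic_noncyclic (hp2 : p ≠ 2) (hR : IsPGroup p R) (hm : Cfsg.IsMetacyclic R) (hnc : ¬ IsCyclic R) :
    Cfsg.IsElementaryAbelian p (Subgroup.closure {x : R | x ^ p = 1}) ∧
      Nat.card (Subgroup.closure {x : R | x ^ p = 1}) = p ^ 2 := by
  obtain ⟨E, hEab, hEcard, hE⟩ := Cfsg.Agent.Local.FS.metacyclic_small_omega hp2 hR hm
  set W := Subgroup.closure {x : R | x ^ p = 1} with hW
  have hWE : W ≤ E := (Subgroup.closure_le E).2 hE
  have hexp : ∀ x ∈ W, x ^ p = 1 := by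
    intro x hx
    induction hx using Subgroup.closure_induction with
    | mem x hx => exact hx
    | one => exact one_pow p
    | mul a b ha hb iha ihb =>
      have hab : Commute a b := congrArg Subtype.val (hEab.1.comm ⟨a, hWE ha⟩ ⟨b, hWE hb⟩)
      rw [hab.mul_pow, iha, ihb, one_mul]
    | inv a _ iha => rw [inv_pow, iha, inv_one]
  refine ⟨⟨⟨⟨fun a b => Subtype.ext ?_⟩⟩, hexp⟩, ?_⟩
  · show (a : R) * b = b * a
    exact congrArg (fun z : E => (z : R)) (hEab.1.comm ⟨a, hWE a.2⟩ ⟨b, hWE b.2⟩)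
  have hu : ¬ Solv.UniqueOrderP p R := fun hu => by
    rcases Solv.cyclic_or_quaternion hR hu with h | ⟨h, -⟩
    · exact hnc h
    · exact hp2 h
  unfold Solv.UniqueOrderP at hu
  push Not at hu
  obtain ⟨x, y, hx, hy, hy1, hxy⟩ := hu
  have hdvd : Nat.card W ∣ p ^ 2 := (Subgroup.card_dvd_of_le hWE).trans hEcard
  obtain ⟨j, hj, hjW⟩ := (Nat.dvd_prime_pow hp.out).1 hdvd
  rcases Nat.lt_or_ge j 2 with hlt | hge
  · exfalso
    have hxW : x ∈ W := Subgroup.subset_closure hx
    have hyW : Subgroup.zpowers y ≤ W := Subgroup.zpowers_le.2 (Subgroup.subset_closure hy)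
    have hle : Nat.card W ≤ Nat.card (Subgroup.zpowers y) := by
      rw [hjW, Nat.card_zpowers, orderOf_eq_prime hy hy1]
      calc p ^ j ≤ p ^ 1 := Nat.pow_le_pow_right hp.out.pos (by omega)
        _ = p := pow_one p
    exact hxy ((Subgroup.eq_of_le_of_card_ge hyW hle) ▸ hxW)
  · rw [hjW, show j = 2 by omega]

theorem metacyclic_of_cyclic_index_p (hR : IsPGroup p R) (C : Subgroup R) (hC : IsCyclic C) (hCi : C.index = p) :
    Cfsg.IsMetacyclic R := by
  haveI : Group.IsNilpotent R := hR.isNilpotent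
  have hCn : C.Normal := by
    refine Subgroup.NormalizerCondition.normal_of_coatom C Group.normalizerCondition_of_isNilpotent ?_
    refine ⟨fun h => hp.out.ne_one (by rw [← hCi, h, Subgroup.index_top]), fun D hD => ?_⟩
    have h1 := Subgroup.relIndex_mul_index hD.le
    rw [hCi] at h1
    rcases (Nat.dvd_prime hp.out).1 (Dvd.intro_left _ h1) with h2 | h2
    · exact Subgroup.index_eq_one.1 h2
    · exfalso
      rw [h2] at h1
      have h3 : C.relIndex D = 1 := by
        rcases Nat.eq_zero_or_pos (C.relIndex D) with h | h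
        · rw [h] at h1; simp at h1; exact absurd h1.symm hp.out.ne_zero
        · exact Nat.eq_of_mul_eq_mul_right hp.out.pos (h1.trans (one_mul p).symm)
      exact hD.not_ge (Subgroup.relIndex_eq_one.1 h3)
  exact ⟨C, hCn, hC, isCyclic_of_prime_card (p := p) (by rw [← Subgroup.index_eq_card]; exact hCi)⟩

theorem exists_normal_rank_two (hp2 : p ≠ 2) (hR : IsPGroup p R) (S : Subgroup R) [S.Normal] (hS : ¬ IsCyclic S) :
    ∃ A : Subgroup R, A ≤ S ∧ A.Normal ∧ Cfsg.IsElementaryAbelian p A ∧ Nat.card A = p ^ 2 := by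
  classical
  obtain ⟨T, ⟨hTn, hTS, hTc⟩, hmin⟩ := Set.exists_min_image
    {T : Subgroup R | T.Normal ∧ T ≤ S ∧ ¬ IsCyclic T} (fun T : Subgroup R => Nat.card T) (Set.toFinite _)
    ⟨S, inferInstance, le_rfl, hS⟩
  have hT1 : T ≠ ⊥ := fun e => hTc (by subst e; exact inferInstance)
  obtain ⟨M, ⟨hMn, hMT, hMne⟩, hmax⟩ := Set.exists_max_image
    {M : Subgroup R | M.Normal ∧ M ≤ T ∧ M ≠ T} (fun M : Subgroup R => Nat.card M) (Set.toFinite _)
    ⟨⊥, inferInstance, bot_le, hT1.symm⟩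
  haveI := hTn
  haveI := hMn
  haveI : Group.IsNilpotent R := hR.isNilpotent
  obtain ⟨t, htT, htM, htc⟩ := exists_fixed_mod (N := M) (C := T) (Q := ⊤)
    (by rw [Subgroup.normalizer_eq_top]) (fun h => hMne (le_antisymm hMT h))
  -- a `p`-th power of `t` of order `p` modulo `M`
  obtain ⟨u, huT, huM, hup, huc⟩ : ∃ u ∈ T, u ∉ M ∧ u ^ p ∈ M ∧ ∀ g : R, ⁅u, g⁆ ∈ M := by
    obtain ⟨a, ha⟩ := hR t
    have hex : ∃ j, t ^ p ^ j ∈ M := ⟨a, ha ▸ one_mem M⟩
    have h0 : Nat.find hex ≠ 0 := fun e => htM (by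
      have := Nat.find_spec hex
      rwa [e, pow_zero, pow_one] at this)
    refine ⟨t ^ p ^ (Nat.find hex - 1), pow_mem htT _,
      Nat.find_min hex (Nat.sub_lt (Nat.pos_of_ne_zero h0) one_pos), ?_, fun g => ?_⟩
    · rw [← pow_mul, ← pow_succ, Nat.sub_add_cancel (Nat.pos_of_ne_zero h0)]
      exact Nat.find_spec hex
    · rw [← QuotientGroup.eq_one_iff, ← QuotientGroup.mk'_apply, map_commutatorElement, map_pow,
        commutatorElement_eq_one_iff_commute]
      refine Commute.pow_left ?_ _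
      rw [← commutatorElement_eq_one_iff_commute, ← map_commutatorElement]
      exact (QuotientGroup.eq_one_iff _).2 (htc g trivial)
  have hn : (M ⊔ Subgroup.zpowers u).Normal := by
    refine ⟨fun z hz g => ?_⟩
    obtain ⟨m, hm, _, ⟨i, rfl⟩, rfl⟩ := Subgroup.mem_sup_of_normal_left.1 hz
    rw [show g * (m * u ^ i) * g⁻¹ = (g * m * g⁻¹) * (g * u * g⁻¹) ^ i by rw [conj_zpow]; group,
      show g * u * g⁻¹ = (⁅u, g⁆)⁻¹ * u by rw [commutatorElement_def]; group]
    exact mul_mem (Subgroup.mem_sup_left (hMn.conj_mem m hm g)) (zpow_mem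
      (mul_mem (Subgroup.mem_sup_left (inv_mem (huc g))) (Subgroup.mem_sup_right (Subgroup.mem_zpowers u))) i)
  have hTeq : M ⊔ Subgroup.zpowers u = T := by
    by_contra hne
    refine huM ?_
    have h := Subgroup.eq_of_le_of_card_ge le_sup_left
      (hmax _ ⟨hn, sup_le hMT (Subgroup.zpowers_le.2 huT), hne⟩)
    rw [h]
    exact Subgroup.mem_sup_right (Subgroup.mem_zpowers u)
  have hMc : IsCyclic M := by
    by_contra hc
    exact hMne (Subgroup.eq_of_le_of_card_ge hMT (hmin M ⟨hMn, hMT.trans hTS, hc⟩))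
  have hidx : (M.subgroupOf T).index = p := by
    let π := QuotientGroup.mk' M
    show M.relIndex T = p
    have h1 : Nat.card (T.map π) = p := by
      rw [← hTeq, Subgroup.map_sup, QuotientGroup.map_mk'_self, bot_sup_eq, MonoidHom.map_zpowers,
        Nat.card_zpowers]
      exact orderOf_eq_prime (by rw [← map_pow]; exact (QuotientGroup.eq_one_iff _).2 hup)
          (fun h => huM ((QuotientGroup.eq_one_iff u).1 h))
    rw [← h1, ← Subgroup.relIndex_bot_left, ← Subgroup.relIndex_comap, MonoidHom.comap_bot, QuotientGroup.ker_mk']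
  haveI : IsCyclic M := hMc
  have hTm := metacyclic_of_cyclic_index_p (hR.to_subgroup T) (M.subgroupOf T)
    (isCyclic_of_injective (Subgroup.subgroupOfEquivOfLe hMT).toMonoidHom
      (Subgroup.subgroupOfEquivOfLe hMT).injective) hidx
  obtain ⟨⟨hab, hexp⟩, hcard⟩ := omega_metacyclic_noncyclic hp2 (hR.to_subgroup T) hTm hTc
  refine ⟨(Subgroup.closure {x : T | x ^ p = 1}).map T.subtype, (Subgroup.map_subtype_le _).trans hTS, ?_,
    ⟨⟨⟨fun a b => Subtype.ext ?_⟩⟩, ?_⟩, by rw [Subgroup.card_map_of_injective T.subtype_injective, hcard]⟩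
  · refine ⟨fun z hz g => ?_⟩
    obtain ⟨w, hw, rfl⟩ := hz
    let φ : T →* T := MonoidHom.mk' (fun a => ⟨g * (a : R) * g⁻¹, hTn.conj_mem _ a.2 g⟩)
      fun a b => Subtype.ext (by show g * ((a : R) * b) * g⁻¹ = g * a * g⁻¹ * (g * b * g⁻¹); group)
    refine ⟨φ w, ?_, rfl⟩
    refine (Subgroup.map_le_iff_le_comap.2 ((Subgroup.closure_le _).2 fun y hy => ?_) : (Subgroup.closure {x : T | x ^ p = 1}).map φ ≤ _) ⟨w, hw, rfl⟩
    exact Subgroup.subset_closure (show φ y ^ p = 1 by rw [← map_pow, show y ^ p = 1 from hy, map_one])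
  · obtain ⟨a', ha', hae⟩ := a.2
    obtain ⟨b', hb', hbe⟩ := b.2
    show (a : R) * b = b * a
    rw [← hae, ← hbe]
    exact congrArg (fun z : Subgroup.closure {x : T | x ^ p = 1} => ((z : T) : R))
      (hab.1.comm ⟨a', ha'⟩ ⟨b', hb'⟩)
  · rintro _ ⟨w, hw, rfl⟩
    exact congrArg Subtype.val (hexp w hw)

end Cfsg.Agent.Fusion
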