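import Mathlib

/-!
# Small facts about finite p-groups
-/

set_option autoImplicit false

namespace Cfsg.Agent.Fusion

variable {P : Type*} [Group P] [Finite P] {p : ℕ} [Fact p.Prime]

theorem exists_central_of_normal (hP : IsPGroup p P) (N : Subgroup P) [N.Normal] (hN : N ≠ ⊥) :
    ∃ x ∈ N, x ≠ 1 ∧ x ∈ Subgroup.center P := by
  letI : MulAction P N := MulAction.compHom N (MulAut.conjNormal (H := N))
  have hdvd : p ∣ Nat.card N := by
    obtain ⟨k, hk⟩ := IsPGroup.iff_card.1 (hP.to_subgroup N)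
    rcases k with _ | k
    · exact absurd (Subgroup.card_eq_one.1 (by simpa using hk)) hN
    · exact hk ▸ dvd_pow_self p (Nat.succ_ne_zero k)
  obtain ⟨x, hx, hne⟩ := hP.exists_fixed_point_of_prime_dvd_card_of_fixed_point N hdvd
    (a := (1 : N)) (fun g => map_one (MulAut.conjNormal g))
  refine ⟨x, x.2, fun h => hne (Subtype.ext h).symm, Subgroup.mem_center_iff.2 fun g => ?_⟩
  have h1 : g * (x : P) * g⁻¹ = x := congrArg Subtype.val (hx g)
  exact mul_inv_eq_iff_eq_mul.1 h1

end Cfsg.Agent.Fusion
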