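import Cfsg.Prelude.Def_Transfer
import Cfsg.Agent.Lib.Fusion.RankTwoExponent

/-!
# Normal elementary abelian subgroups of order `p⁴`

For odd `p`, a finite `p`-group with an elementary abelian subgroup of order `p⁴` has a normal one.
Argument by induction on the order: an elementary abelian `A` of order `p⁴`, normal in a maximal
subgroup, meets a maximal normal elementary abelian `U` of order `p³` in a normal subgroup `V` of
index `p`, and `A` is then the only such subgroup of its maximal subgroup up to this configuration.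
-/

set_option autoImplicit false
set_option linter.style.haveILetI false
set_option linter.unusedSectionVars false

open scoped commutatorElement

namespace Cfsg.Agent.Fusion

universe u

variable {P : Type u} [Group P] [Finite P] {p : ℕ} [hp : Fact p.Prime]

theorem card_mul_prime_le_of_lt (hP : IsPGroup p P) {H K : Subgroup P} (h : H < K) :
    Nat.card H * p ≤ Nat.card K := by
  obtain ⟨i, hi⟩ := (hP.to_subgroup H).exists_card_eq
  obtain ⟨j, hj⟩ := (hP.to_subgroup K).exists_card_eq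
  have hlt : i < j := by
    by_contra hge
    exact h.ne (Subgroup.eq_of_le_of_card_ge h.le
      (by rw [hi, hj]; exact Nat.pow_le_pow_right hp.out.pos (by omega)))
  rw [hi, hj, ← pow_succ]
  exact Nat.pow_le_pow_right hp.out.pos hlt

theorem elementary_comm {A : Subgroup P} (hA : Cfsg.IsElementaryAbelian p A) {a b : P} (ha : a ∈ A)
    (hb : b ∈ A) : a * b = b * a :=
  congrArg (fun z : A => (z : P)) (hA.1.is_comm.comm ⟨a, ha⟩ ⟨b, hb⟩)

/-- In a `p`-group the commutators with a normal subgroup of index `p` in a normal subgroup lie below. -/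
theorem commutator_mem_of_index_prime (hP : IsPGroup p P) (V U : Subgroup P) [V.Normal] [U.Normal]
    (hVU : V ≤ U) (hc : Nat.card V * p = Nat.card U) {u : P} (hu : u ∈ U) (g : P) : ⁅u, g⁆ ∈ V := by
  let π := QuotientGroup.mk' V
  haveI : (U.map π).Normal := Subgroup.Normal.map inferInstance π (QuotientGroup.mk'_surjective V)
  have h1 : Nat.card (U.map π) ≤ p := by
    rw [← Subgroup.relIndex_ker, QuotientGroup.ker_mk']
    have h2 := Subgroup.relIndex_mul_relIndex ⊥ V U bot_le hVU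
    rw [Subgroup.relIndex_bot_left, Subgroup.relIndex_bot_left, ← hc] at h2
    exact (Nat.eq_of_mul_eq_mul_left Nat.card_pos h2).le
  have h2 := le_center_of_card_prime (hP.to_quotient V) (U.map π) h1 ⟨u, hu, rfl⟩
  rw [← QuotientGroup.eq_one_iff, ← QuotientGroup.mk'_apply, map_commutatorElement,
    commutatorElement_eq_one_iff_mul_comm]
  exact (Subgroup.mem_center_iff.1 h2 _).symm

/-- How an elementary abelian subgroup of order `p⁴` meets a small maximal normal elementary abelian one. -/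
theorem rank_four_meet (hP : IsPGroup p P) (U : Subgroup P) [U.Normal] (hU : Cfsg.IsElementaryAbelian p U)
    (hmem : ∀ x : P, x ^ p = 1 → x ∈ Subgroup.centralizer (U : Set P) → x ∈ U) (hU3 : Nat.card U ≤ p ^ 3)
    (A : Subgroup P) (hA : Cfsg.IsElementaryAbelian p A) (hA4 : Nat.card A = p ^ 4) :
    (A ⊓ U).Normal ∧ Nat.card (A ⊓ U : Subgroup P) = p ^ 2 ∧ Nat.card U = p ^ 3 ∧
      ∀ u ∈ U, u ∉ A → ∀ v ∈ A ⊓ U, ∃ a ∈ A, ⁅u, a⁆ = v := by
  have hp0 : 0 < p := hp.out.pos
  have hp1 : 1 < p := hp.out.one_lt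
  have hin : ∀ a ∈ A, (∀ x ∈ U, x * a = a * x) → a ∈ A ⊓ U := fun a ha h =>
    Subgroup.mem_inf.2 ⟨ha, hmem a (hA.2 a ha) (Subgroup.mem_centralizer_iff.2 h)⟩
  have hAU : ¬ A ≤ U := fun h => by
    have h1 := Subgroup.card_le_of_le h
    have h2 := Nat.pow_lt_pow_right hp1 (show 3 < 4 by norm_num)
    omega
  obtain ⟨j, hj⟩ := (hP.to_subgroup U).exists_card_eq
  have hj0 : j ≠ 0 := fun h => by
    subst h
    have hU1 : U = ⊥ := Subgroup.card_eq_one.1 (by rw [hj, pow_zero])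
    refine hAU fun a ha => (hin a ha fun x hx => ?_).2
    rw [hU1, Subgroup.mem_bot] at hx
    rw [hx, one_mul, mul_one]
  obtain ⟨V, hVn, hVU, hVc⟩ := exists_normal_le_of_card hP U (j - 1)
    (by rw [hj]; exact Nat.pow_le_pow_right hp0 (Nat.sub_le j 1))
  haveI := hVn
  have hVUc : Nat.card V * p = Nat.card U := by
    rw [hVc, hj, ← pow_succ, Nat.sub_add_cancel (Nat.pos_of_ne_zero hj0)]
  have hlt : V < U := lt_of_le_of_ne hVU fun e => by
    rw [e] at hVUc
    have h1 : 1 * Nat.card U < p * Nat.card U := Nat.mul_lt_mul_of_pos_right hp1 Nat.card_pos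
    rw [mul_comm] at hVUc
    omega
  have hV2 : Nat.card V ≤ p ^ 2 := Nat.le_of_mul_le_mul_right (by rw [hVUc, ← pow_succ]; exact hU3) hp0
  have hq := fun u (hu : u ∈ U) (g : P) => commutator_mem_of_index_prime hP V U hVU hVUc hu g
  have hgen : ∀ u ∈ U, u ∉ V → U = V ⊔ Subgroup.zpowers u := by
    intro u hu huV
    have hlt' : V < V ⊔ Subgroup.zpowers u := lt_of_le_of_ne le_sup_left fun e =>
      huV (e.symm.le (Subgroup.mem_sup_right (Subgroup.mem_zpowers u)))
    refine (Subgroup.eq_of_le_of_card_ge (sup_le hVU (Subgroup.zpowers_le.2 hu)) ?_).symm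
    rw [← hVUc]
    exact card_mul_prime_le_of_lt hP hlt'
  -- elements of `A` centralizing `V` and a further element of `U` centralize `U`
  have hkey : ∀ a ∈ A, a ∈ Subgroup.centralizer (V : Set P) → ∀ u ∈ U, u ∉ V → u * a = a * u → a ∈ A ⊓ U := by
    intro a ha haV u hu huV hua
    refine hin a ha fun x hx => ?_
    rw [hgen u hu huV] at hx
    obtain ⟨v, hv, _, ⟨i, rfl⟩, rfl⟩ := Subgroup.mem_sup_of_normal_left.1 hx
    exact ((show Commute v a from Subgroup.mem_centralizer_iff.1 haV v hv).mul_left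
      ((show Commute u a from hua).zpow_left i)).eq
  obtain ⟨A1, hA1⟩ : ∃ A1 : Subgroup P, A1 = A ⊓ Subgroup.centralizer (V : Set P) := ⟨_, rfl⟩
  have hA1c : p ^ 3 ≤ Nat.card A1 := by
    refine Nat.le_of_mul_le_mul_right ?_ hp0
    rw [← pow_succ, ← hA4, hA1]
    have h2 := Subgroup.relIndex_mul_relIndex ⊥ (A ⊓ Subgroup.centralizer (V : Set P)) A bot_le inf_le_left
    rw [Subgroup.relIndex_bot_left, Subgroup.relIndex_bot_left, Subgroup.inf_relIndex_left] at h2
    rw [← h2]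
    refine Nat.mul_le_mul_left _ (le_trans ?_ (index_centralizer_le_of_small hP V
      ⟨⟨fun a b => Subtype.ext (elementary_comm hU (hVU a.2) (hVU b.2))⟩⟩ hV2))
    exact Nat.le_of_dvd (Nat.pos_of_ne_zero Subgroup.index_ne_zero_of_finite)
      (Subgroup.relIndex_dvd_index_of_normal _ _)
  -- `A ∩ U` lies in `V`
  have hWV : A ⊓ U ≤ V := by
    intro w hw
    by_contra hwV
    have hle : A1 ≤ A ⊓ U := fun a ha => by
      rw [hA1] at ha
      exact hkey a ha.1 ha.2 w hw.2 hwV (elementary_comm hA hw.1 ha.1)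
    have h1 : U ≤ A := by
      have := Subgroup.eq_of_le_of_card_ge (inf_le_right : A ⊓ U ≤ U)
        (hU3.trans (hA1c.trans (Subgroup.card_le_of_le hle)))
      exact this.ge.trans inf_le_left
    exact hAU fun a ha => (hin a ha fun x hx => elementary_comm hA (h1 hx) ha).2
  -- the commutator map
  have hf : ∀ u ∈ U, u ∉ V → ∃ f : A1 →* V, (∀ a, ((f a : V) : P) = ⁅u, (a : P)⁆) ∧
      Nat.card f.ker ≤ Nat.card (A ⊓ U : Subgroup P) := by
    intro u hu huV
    refine ⟨MonoidHom.mk' (fun a => ⟨⁅u, (a : P)⁆, hq u hu a⟩) fun a b => Subtype.ext ?_, fun a => rfl, ?_⟩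
    · show ⁅u, (a : P) * b⁆ = ⁅u, (a : P)⁆ * ⁅u, (b : P)⁆
      rw [show ⁅u, (a : P) * b⁆ = ⁅u, (a : P)⁆ * ((a : P) * ⁅u, (b : P)⁆ * (a : P)⁻¹) by
        simp only [commutatorElement_def]; group]
      have ha : (a : P) ∈ Subgroup.centralizer (V : Set P) := (hA1.le a.2).2
      rw [← Subgroup.mem_centralizer_iff.1 ha _ (hq u hu b), mul_inv_cancel_right]
    · refine Nat.card_le_card_of_injective (fun a => ⟨((a : A1) : P), ?_⟩) ?_
      · exact hkey _ (hA1.le (a : A1).2).1 (hA1.le (a : A1).2).2 u hu huV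
          (commutatorElement_eq_one_iff_mul_comm.1 (congrArg Subtype.val a.2))
      · intro a b h
        exact Subtype.ext (Subtype.ext (congrArg (fun z : (A ⊓ U : Subgroup P) => (z : P)) h))
  have hcount : ∀ f : A1 →* V, Nat.card f.ker * Nat.card f.range = Nat.card A1 := fun f => by
    rw [← Subgroup.index_ker, Subgroup.card_mul_index]
  obtain ⟨u₀, hu₀, hu₀V⟩ := SetLike.exists_of_lt hlt
  obtain ⟨f, hfe, hfk⟩ := hf u₀ hu₀ hu₀V
  have hrV : Nat.card f.range ≤ Nat.card V := Subgroup.card_le_card_group _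
  have hWeq : A ⊓ U = V := by
    by_contra hne
    have hWlt := card_mul_prime_le_of_lt hP (lt_of_le_of_ne hWV hne)
    have hW1 : Nat.card (A ⊓ U : Subgroup P) ≤ p := by
      refine Nat.le_of_mul_le_mul_right ?_ hp0
      rw [← sq]; exact hWlt.trans hV2
    have hr2 : p ^ 2 ≤ Nat.card f.range := by
      refine Nat.le_of_mul_le_mul_left ?_ hp0
      calc p * p ^ 2 = p ^ 3 := (pow_succ' p 2).symm
        _ ≤ Nat.card A1 := hA1c
        _ = Nat.card f.ker * Nat.card f.range := (hcount f).symm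
        _ ≤ p * Nat.card f.range := Nat.mul_le_mul_right _ (hfk.trans hW1)
    have hsurj : f.range = ⊤ := Subgroup.eq_top_of_le_card _ (hV2.trans hr2)
    have hA1A : ¬ A ≤ A1 := fun h => by
      have h1 := Subgroup.card_le_of_le h
      rw [hA4, ← hcount f] at h1
      have h2 : Nat.card f.ker * Nat.card f.range ≤ p * p ^ 2 := Nat.mul_le_mul (hfk.trans hW1) (hrV.trans hV2)
      have h3 := Nat.pow_lt_pow_right hp1 (show 3 < 4 by norm_num)
      rw [show p * p ^ 2 = p ^ 3 from (pow_succ' p 2).symm] at h2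
      omega
    refine hA1A fun a ha => hA1.ge (Subgroup.mem_inf.2 ⟨ha, Subgroup.mem_centralizer_iff.2 fun x hx => ?_⟩)
    obtain ⟨a₁, hax⟩ : (⟨x, hx⟩ : V) ∈ f.range := hsurj ▸ Subgroup.mem_top _
    have hx' : x = ⁅u₀, (a₁ : P)⁆ := by rw [← hfe, hax]
    have ha₁ : (a₁ : P) ∈ Subgroup.centralizer (V : Set P) := (hA1.le a₁.2).2
    have haa : a * a₁ = a₁ * a := elementary_comm hA ha (hA1.le a₁.2).1
    have hconj : Commute (⁅u₀, a⁆ * a) (x * a₁) := by
      have h1 : ⁅u₀, a⁆ * a = MulAut.conj u₀ a := by rw [MulAut.conj_apply, commutatorElement_def]; group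
      have h2 : x * a₁ = MulAut.conj u₀ a₁ := by rw [hx', MulAut.conj_apply, commutatorElement_def]; group
      rw [h1, h2]
      exact (show Commute a (a₁ : P) from haa).map (MulAut.conj u₀)
    obtain ⟨c, hc⟩ : ∃ c, c = ⁅u₀, a⁆ := ⟨_, rfl⟩
    have hcV : c ∈ V := hc ▸ hq u₀ hu₀ a
    rw [← hc] at hconj
    have hca : c * (a₁ : P) = a₁ * c := Subgroup.mem_centralizer_iff.1 ha₁ c hcV
    have hcx : c * x = x * c := elementary_comm hU (hVU hcV) (hVU hx)
    have e1 : c * a * (x * a₁) = c * (a * x) * a₁ := by simp [mul_assoc]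
    have e2 : x * a₁ * (c * a) = c * (x * a) * a₁ := by
      calc x * a₁ * (c * a) = x * (a₁ * c) * a := by simp [mul_assoc]
        _ = (x * c) * (a₁ * a) := by rw [← hca]; simp [mul_assoc]
        _ = (c * x) * (a * a₁) := by rw [hcx, haa]
        _ = c * (x * a) * a₁ := by simp [mul_assoc]
    have h3 := hconj.eq
    rw [e1, e2] at h3
    exact (mul_left_cancel (mul_right_cancel h3)).symm
  have hA1A : A1 = A := by
    rw [hA1]
    exact inf_eq_left.2 fun a ha => Subgroup.mem_centralizer_iff.2 fun v hv =>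
      elementary_comm hA (hWeq.ge hv).1 ha
  have h4 : p ^ 2 * p ^ 2 ≤ Nat.card V * Nat.card f.range := by
    rw [← pow_add, ← hA4, ← hA1A, ← hcount f]
    exact Nat.mul_le_mul_right _ (hWeq ▸ hfk)
  have hVeq : Nat.card V = p ^ 2 := by
    refine le_antisymm hV2 (Nat.le_of_mul_le_mul_right (h4.trans ?_) (pow_pos hp0 2))
    exact Nat.mul_le_mul_left _ (hrV.trans hV2)
  refine ⟨hWeq ▸ hVn, by rw [hWeq, hVeq], by rw [← hVUc, hVeq]; exact (pow_succ p 2).symm, fun u hu huA v hv => ?_⟩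
  rw [hWeq] at hv
  obtain ⟨g, hge, hgk⟩ := hf u hu fun h => huA (hWeq.ge h).1
  have htop : g.range = ⊤ := by
    refine Subgroup.eq_top_of_le_card _ ?_
    refine Nat.le_of_mul_le_mul_left (?_ : Nat.card V * Nat.card V ≤ Nat.card V * Nat.card g.range) Nat.card_pos
    calc Nat.card V * Nat.card V = p ^ 4 := by rw [hVeq, ← pow_add]
      _ = Nat.card A1 := by rw [hA1A, hA4]
      _ = Nat.card g.ker * Nat.card g.range := (hcount g).symm
      _ ≤ Nat.card V * Nat.card g.range := Nat.mul_le_mul_right _ (hWeq ▸ hgk)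
  obtain ⟨a, hax⟩ : (⟨v, hv⟩ : V) ∈ g.range := htop ▸ Subgroup.mem_top _
  exact ⟨a, (hA1.le a.2).1, by rw [← hge, hax]⟩

/-- For odd `p`, a `p`-group with an elementary abelian subgroup of order `p⁴` has a normal one. -/
theorem exists_normal_rank_four (hp2 : p ≠ 2) : ∀ (n : ℕ) (G : Type u) [Group G] [Finite G], Nat.card G = n →
    IsPGroup p G → ∀ E : Subgroup G, Cfsg.IsElementaryAbelian p E → Nat.card E = p ^ 4 →
      ∃ A : Subgroup G, A.Normal ∧ Cfsg.IsElementaryAbelian p A ∧ Nat.card A = p ^ 4 := by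
  intro n
  induction n using Nat.strong_induction_on with
  | _ n ih =>
    intro G _ _ hn hG E hE hE4
    by_cases htop : E = ⊤
    · exact ⟨E, htop ▸ inferInstance, hE, hE4⟩
    obtain h | ⟨M, hM, hEM⟩ := eq_top_or_exists_le_coatom E
    · exact absurd h htop
    haveI : Group.IsNilpotent G := hG.isNilpotent
    haveI : M.Normal :=
      Subgroup.NormalizerCondition.normal_of_coatom M Group.normalizerCondition_of_isNilpotent hM
    have hMlt : Nat.card M < n := by
      by_contra hge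
      exact hM.1 (Subgroup.eq_top_of_le_card M (by omega))
    have hEM' : Cfsg.IsElementaryAbelian p (E.subgroupOf M) :=
      ⟨⟨⟨fun a b => Subtype.ext (Subtype.ext (elementary_comm hE a.2 b.2))⟩⟩,
        fun a ha => Subtype.ext (hE.2 _ ha)⟩
    obtain ⟨A₀, hA₀n, hA₀e, hA₀c⟩ := ih _ hMlt M rfl (hG.to_subgroup M) (E.subgroupOf M) hEM'
      (by rw [Nat.card_congr (Subgroup.subgroupOfEquivOfLe hEM).toEquiv, hE4])
    obtain ⟨A, hAdef⟩ : ∃ A : Subgroup G, A = A₀.map M.subtype := ⟨_, rfl⟩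
    have hAM : A ≤ M := hAdef ▸ Subgroup.map_subtype_le A₀
    have hAc : Nat.card A = p ^ 4 := by
      rw [hAdef, Subgroup.card_map_of_injective M.subtype_injective, hA₀c]
    have hA : Cfsg.IsElementaryAbelian p A := by
      subst hAdef
      refine ⟨⟨⟨fun a b => Subtype.ext ?_⟩⟩, ?_⟩
      · obtain ⟨a', ha', hae⟩ := a.2
        obtain ⟨b', hb', hbe⟩ := b.2
        show (a : G) * b = b * a
        rw [← hae, ← hbe, ← map_mul, ← map_mul, elementary_comm hA₀e ha' hb']
      · rintro _ ⟨a, ha, rfl⟩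
        rw [← map_pow, hA₀e.2 a ha, map_one]
    have hAn : ∀ m ∈ M, ∀ a ∈ A, m * a * m⁻¹ ∈ A := by
      subst hAdef
      rintro m hm _ ⟨a, ha, rfl⟩
      exact ⟨⟨m, hm⟩ * a * ⟨m, hm⟩⁻¹, hA₀n.conj_mem a ha _, rfl⟩
    obtain ⟨U, hUn, hUc, hUe, hmax⟩ := exists_max_normal_elementary (P := G) (p := p)
    haveI := hUn
    have hU : Cfsg.IsElementaryAbelian p U := ⟨hUc, fun a ha => by simpa using hUe a ha⟩
    by_cases h4 : p ^ 4 ≤ Nat.card U
    · obtain ⟨B, hBn, hBU, hB⟩ := exists_normal_le_of_card hG U 4 h4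
      exact ⟨B, hBn, ⟨⟨⟨fun a b => Subtype.ext (elementary_comm hU (hBU a.2) (hBU b.2))⟩⟩,
        fun a ha => hU.2 a (hBU ha)⟩, hB⟩
    have hU3 : Nat.card U ≤ p ^ 3 := by
      obtain ⟨j, hj⟩ := (hG.to_subgroup U).exists_card_eq
      rw [hj] at h4 ⊢
      refine Nat.pow_le_pow_right hp.out.pos ?_
      by_contra hj3
      exact h4 (Nat.pow_le_pow_right hp.out.pos (by omega))
    have hmem : ∀ x : G, x ^ p = 1 → x ∈ Subgroup.centralizer (U : Set G) → x ∈ U := fun x hx hc =>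
      mem_of_maximal_normal_abelian_exponent hG 1 (by simpa using hp2) U hUc hUe hmax x hc (by simpa using hx)
    obtain ⟨hVn, hVc, hUcard, hsurj⟩ := rank_four_meet hG U hU hmem hU3 A hA hAc
    refine ⟨A, ⟨fun a₀ ha₀ g => ?_⟩, hA, hAc⟩
    obtain ⟨B, hBdef⟩ : ∃ B : Subgroup G, B = A.map (MulAut.conj g).toMonoidHom := ⟨_, rfl⟩
    suffices hBA : B ≤ A from hBA (hBdef ▸ ⟨a₀, ha₀, rfl⟩)
    have hBc : Nat.card B = p ^ 4 := by
      rw [hBdef, Subgroup.card_map_of_injective (MulAut.conj g).injective, hAc]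
    have hB : Cfsg.IsElementaryAbelian p B := by
      subst hBdef
      refine ⟨⟨⟨fun a b => Subtype.ext ?_⟩⟩, ?_⟩
      · obtain ⟨a', ha', hae⟩ := a.2
        obtain ⟨b', hb', hbe⟩ := b.2
        show (a : G) * b = b * a
        rw [← hae, ← hbe, ← map_mul, ← map_mul, elementary_comm hA ha' hb']
      · rintro _ ⟨a, ha, rfl⟩
        rw [← map_pow, hA.2 a ha, map_one]
    have hBM : B ≤ M := by
      subst hBdef
      rintro _ ⟨a, ha, rfl⟩
      exact (inferInstance : M.Normal).conj_mem a (hAM ha) g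
    have hVle : A ⊓ U ≤ B ⊓ U := by
      intro v hv
      have h1 : g⁻¹ * v * g⁻¹⁻¹ ∈ A ⊓ U := hVn.conj_mem v hv g⁻¹
      refine Subgroup.mem_inf.2 ⟨hBdef ▸ ⟨_, h1.1, ?_⟩, hv.2⟩
      show g * (g⁻¹ * v * g⁻¹⁻¹) * g⁻¹ = v
      group
    obtain ⟨-, hVBc, -, hsurjB⟩ := rank_four_meet hG U hU hmem hU3 B hB hBc
    have hVeq : A ⊓ U = B ⊓ U := Subgroup.eq_of_le_of_card_ge hVle (by rw [hVc, hVBc])
    haveI := hVn
    obtain ⟨u₀, hu₀, hu₀V⟩ := SetLike.exists_of_lt (lt_of_le_of_ne (inf_le_right : A ⊓ U ≤ U) fun e => by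
      rw [e, hUcard] at hVc
      exact absurd (Nat.pow_right_injective hp.out.two_le hVc) (by norm_num))
    have hgen : ∀ w ∈ U, w ∉ A ⊓ U → U = (A ⊓ U) ⊔ Subgroup.zpowers w := by
      intro w hw hwV
      refine (Subgroup.eq_of_le_of_card_ge (sup_le inf_le_right (Subgroup.zpowers_le.2 hw)) ?_).symm
      rw [hUcard, pow_succ, ← hVc]
      exact card_mul_prime_le_of_lt hG (lt_of_le_of_ne le_sup_left fun e =>
        hwV (e.symm.le (Subgroup.mem_sup_right (Subgroup.mem_zpowers w))))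
    have hVcomm : ∀ {x : G}, (x ∈ A ∨ x ∈ B) → ∀ v ∈ A ⊓ U, v * x = x * v := by
      intro x hx v hv
      rcases hx with hx | hx
      · exact elementary_comm hA hv.1 hx
      · exact elementary_comm hB (hVle hv).1 hx
    have huA : u₀ ∉ A := fun h => hu₀V (Subgroup.mem_inf.2 ⟨h, hu₀⟩)
    -- matching elements of `A` and `B` differ by elements of `U`
    have hdiff : ∀ a ∈ A, ∀ b ∈ B, ⁅u₀, a⁆ = ⁅u₀, b⁆ → a⁻¹ * b ∈ U := by
      intro a ha b hb he
      obtain ⟨c, hc⟩ : ∃ c, c = a⁻¹ * b := ⟨_, rfl⟩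
      rw [← hc]
      have hu₀c : Commute u₀ c := by
        have h1 : a * u₀⁻¹ * a⁻¹ = b * u₀⁻¹ * b⁻¹ := by
          rw [commutatorElement_def, commutatorElement_def, mul_assoc u₀ a, mul_assoc u₀ b, mul_assoc, mul_assoc u₀ (b * _)] at he
          exact mul_left_cancel he
        have h2 : c * u₀⁻¹ = u₀⁻¹ * c := by
          calc c * u₀⁻¹ = a⁻¹ * (b * u₀⁻¹ * b⁻¹) * b := by rw [hc]; group
            _ = a⁻¹ * (a * u₀⁻¹ * a⁻¹) * b := by rw [h1]
            _ = u₀⁻¹ * c := by rw [hc]; group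
        simpa using (show Commute c u₀⁻¹ from h2).inv_right.symm
      have hcU : c ∈ Subgroup.centralizer (U : Set G) := by
        refine Subgroup.mem_centralizer_iff.2 fun x hx => ?_
        rw [hgen u₀ hu₀ hu₀V] at hx
        obtain ⟨v, hv, _, ⟨i, rfl⟩, rfl⟩ := Subgroup.mem_sup_of_normal_left.1 hx
        have hvc : Commute v c := hc ▸ ((show Commute v a from hVcomm (Or.inl ha) v hv).inv_right.mul_right
          (show Commute v b from hVcomm (Or.inr hb) v hv))
        exact (hvc.mul_left (hu₀c.zpow_left i)).eq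
      refine hmem c ?_ hcU
      have hcM : c ∈ M := hc ▸ mul_mem (inv_mem (hAM ha)) (hBM hb)
      obtain ⟨z, hz⟩ : ∃ z, z = ⁅c, a⁆ := ⟨_, rfl⟩
      have hzA : z ∈ A := by
        rw [hz, commutatorElement_def]
        exact mul_mem (hAn c hcM a ha) (inv_mem ha)
      have hzC : z ∈ Subgroup.centralizer (U : Set G) := by
        rw [hz, commutatorElement_def, mul_assoc, mul_assoc, ← mul_assoc a]
        exact mul_mem hcU ((inferInstance : (Subgroup.centralizer (U : Set G)).Normal).conj_mem _ (inv_mem hcU) a)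
      have hzU : z ∈ U := hmem z (hA.2 z hzA) hzC
      have hpow := mul_pow_of_central (a := a) (b := c)
        (by rw [← hz]; exact elementary_comm hA hzA ha)
        (by rw [← hz]; exact Subgroup.mem_centralizer_iff.1 hcU z hzU) p
      have hp3 : 2 < p := lt_of_le_of_ne hp.out.two_le (Ne.symm hp2)
      obtain ⟨k, hk⟩ : p ∣ p.choose 2 := hp.out.dvd_choose_self two_ne_zero hp3
      rw [← hz, hk, pow_mul, hA.2 z hzA, one_pow, mul_one, hA.2 a ha, one_mul, hc, mul_inv_cancel_left,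
        hB.2 b hb, ← hc] at hpow
      exact hpow.symm
    intro b hb
    have hvb : ⁅u₀, b⁆ ∈ A ⊓ U := commutator_mem_of_index_prime hG _ U inf_le_right
      (by rw [hVc, hUcard]; exact (pow_succ p 2).symm) hu₀ b
    obtain ⟨a, ha, hab⟩ := hsurj u₀ hu₀ huA _ hvb
    by_contra hbA
    obtain ⟨c, hc⟩ : ∃ c, c = a⁻¹ * b := ⟨_, rfl⟩
    have hcU : c ∈ U := hc ▸ hdiff a ha b hb hab
    have hcV : c ∉ A ⊓ U := fun h => hbA (by
      have : b = a * c := by rw [hc, mul_inv_cancel_left]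
      rw [this]; exact mul_mem ha h.1)
    obtain ⟨d, hd⟩ : ∃ d, d = ⁅a⁻¹, c⁆ := ⟨_, rfl⟩
    have hdV : d ∈ A ⊓ U := by
      have := commutator_mem_of_index_prime hG _ U inf_le_right
        (by rw [hVc, hUcard]; exact (pow_succ p 2).symm) hcU a⁻¹
      rw [hd, ← commutatorElement_inv]
      exact inv_mem this
    have hle : A ⊓ U ≤ Subgroup.zpowers d := by
      intro v hv
      obtain ⟨a₁, ha₁, hav⟩ := hsurj c hcU (fun h => hcV (Subgroup.mem_inf.2 ⟨h, hcU⟩)) v hv
      have hv1 : ⁅u₀, a₁⁻¹⁆ ∈ A ⊓ U := commutator_mem_of_index_prime hG _ U inf_le_right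
        (by rw [hVc, hUcard]; exact (pow_succ p 2).symm) hu₀ _
      rw [hVeq] at hv1
      obtain ⟨b₁, hb₁, hb₁e⟩ := hsurjB u₀ hu₀ (fun h => hu₀V (hVeq.ge (Subgroup.mem_inf.2 ⟨h, hu₀⟩))) _ hv1
      obtain ⟨c₁, hc₁⟩ : ∃ c₁, c₁ = (a₁⁻¹)⁻¹ * b₁ := ⟨_, rfl⟩
      have hc₁U : c₁ ∈ U := hc₁ ▸ hdiff _ (inv_mem ha₁) b₁ hb₁ hb₁e.symm
      have hb₁' : b₁ = a₁⁻¹ * c₁ := by rw [hc₁, mul_inv_cancel_left]
      have hb' : b = a * c := by rw [hc, mul_inv_cancel_left]
      have haa : a * a₁ = a₁ * a := elementary_comm hA ha ha₁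
      have hcomm := elementary_comm hB hb hb₁
      rw [hb', hb₁'] at hcomm
      -- transvection identity
      have h1 : ⁅a₁, c⁆ = ⁅a⁻¹, c₁⁆ := by
        have e : a * a₁⁻¹ * (a₁ * c * a₁⁻¹ * c₁) = a * a₁⁻¹ * (a⁻¹ * c₁ * a * c) := by
          calc a * a₁⁻¹ * (a₁ * c * a₁⁻¹ * c₁) = a * c * (a₁⁻¹ * c₁) := by group
            _ = a₁⁻¹ * c₁ * (a * c) := hcomm
            _ = (a * a₁⁻¹) * (a⁻¹ * c₁ * a * c) := by
              rw [(show Commute a a₁⁻¹ from (show Commute a a₁ from haa).inv_right).eq]; group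
        have e2 := mul_left_cancel e
        have hcc : c * c₁ = c₁ * c := elementary_comm hU hcU hc₁U
        calc ⁅a₁, c⁆ = a₁ * c * a₁⁻¹ * c₁ * (c₁⁻¹ * c⁻¹) := by rw [commutatorElement_def]; group
          _ = a⁻¹ * c₁ * a * c * (c⁻¹ * c₁⁻¹) := by
            rw [e2, show c₁⁻¹ * c⁻¹ = c⁻¹ * c₁⁻¹ by rw [← mul_inv_rev, ← mul_inv_rev, hcc]]
          _ = ⁅a⁻¹, c₁⁆ := by rw [commutatorElement_def, inv_inv]; group
      rw [hgen c hcU hcV] at hc₁U
      obtain ⟨w, hw, _, ⟨i, rfl⟩, hwc⟩ := Subgroup.mem_sup_of_normal_left.1 hc₁U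
      have h2 : ⁅a⁻¹, c₁⁆ = d ^ i := by
        have hwa : Commute w a⁻¹ := (show Commute w a from hVcomm (Or.inl ha) w hw).inv_right
        have hdc : Commute d c := elementary_comm hU hdV.2 hcU
        have hconj : a⁻¹ * c ^ i * a⁻¹⁻¹ = d ^ i * c ^ i := by
          rw [← conj_zpow, show a⁻¹ * c * a⁻¹⁻¹ = d * c by rw [hd, commutatorElement_def]; group,
            hdc.mul_zpow]
        rw [commutatorElement_def, ← hwc]
        calc a⁻¹ * (w * c ^ i) * a⁻¹⁻¹ * (w * c ^ i)⁻¹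
            = (a⁻¹ * w) * (c ^ i * a⁻¹⁻¹ * (w * c ^ i)⁻¹) := by group
          _ = w * (a⁻¹ * c ^ i * a⁻¹⁻¹) * (c ^ i)⁻¹ * w⁻¹ := by rw [← hwa.eq]; group
          _ = d ^ i := by
            rw [hconj, mul_assoc w (d ^ i * c ^ i), mul_inv_cancel_right,
              ((show Commute w d from elementary_comm hA hw.1 hdV.1).zpow_right i).eq, mul_inv_cancel_right]
      rw [← hav, ← commutatorElement_inv, h1, h2, ← zpow_neg]
      exact zpow_mem (Subgroup.mem_zpowers d) _
    have h3 := Subgroup.card_le_of_le hle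
    rw [hVc, Nat.card_zpowers] at h3
    have h4 := Nat.le_of_dvd hp.out.pos (orderOf_dvd_of_pow_eq_one (hU.2 d hdV.2))
    have h5 := Nat.pow_lt_pow_right hp.out.one_lt (show 1 < 2 by norm_num)
    rw [pow_one] at h5
    omega

end Cfsg.Agent.Fusion
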