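import Mathlib
import Cfsg.Agent.Lib.Fusion.NPC

/-!
# Normal complements for abelian Sylow subgroups with small automorphism groups
-/

set_option autoImplicit false

universe u

namespace Cfsg.Agent.Fusion

theorem aut_fixed_proper {T : Type u} [Group T] [Finite T] (σ : MulAut T) {r : ℕ}
    [hr : Fact r.Prime] (hσ : orderOf σ = r) :
    ∃ d, d ∣ Nat.card T ∧ d < Nat.card T ∧ r ∣ Nat.card T - d := by
  let F : Subgroup T :=
    { carrier := {x | σ x = x}
      one_mem' := map_one σ
      mul_mem' := fun {a b} ha hb => by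
        show σ (a * b) = a * b
        rw [map_mul, ha, hb]
      inv_mem' := fun {a} ha => by
        show σ a⁻¹ = a⁻¹
        rw [map_inv, ha] }
  have hF : MulAction.fixedPoints (Subgroup.zpowers σ) T = (F : Set T) := by
    ext x
    refine ⟨fun hx => hx ⟨σ, Subgroup.mem_zpowers σ⟩, fun hx τ => ?_⟩
    have h2 : σ ∈ MulAction.stabilizer (MulAut T) x := hx
    exact (Subgroup.zpowers_le.2 h2) τ.2
  have hP : IsPGroup r (Subgroup.zpowers σ) :=
    IsPGroup.of_card (n := 1) (by rw [Nat.card_zpowers, hσ, pow_one])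
  have h1 := hP.card_modEq_card_fixedPoints T
  rw [hF] at h1
  have hne : F ≠ ⊤ := fun h => hr.out.ne_one (by
    rw [← hσ, orderOf_eq_one_iff]
    ext x
    exact (h ▸ Subgroup.mem_top x : x ∈ F))
  exact ⟨Nat.card F, Subgroup.card_subgroup_dvd_card F,
    lt_of_le_of_ne (Subgroup.card_le_card_group F) fun h => hne (Subgroup.eq_top_of_card_eq F h),
    (Nat.modEq_iff_dvd' (Subgroup.card_le_card_group F)).1 h1.symm⟩

variable {G : Type u} [Group G] [Finite G] {p : ℕ} [hp : Fact p.Prime]

theorem hnpc_of_abelian_sylow_small (P : Sylow p G) (hP : IsMulCommutative P)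
    (h : ∀ r : ℕ, r.Prime → r ∣ Nat.card G → r ≠ p →
      ∀ d, d ∣ Nat.card P → d < Nat.card P → ¬ r ∣ Nat.card P - d) :
    HasNormalPComplement p G := by
  refine hnpc_of_normalizer_le_centralizer P ?_
  set N := Subgroup.normalizer (P : Set G)
  have hPN : (P : Subgroup G) ≤ N := Subgroup.le_normalizer
  obtain ⟨Q, hQ⟩ := ((sylIn_top P).mono hPN le_top).exists_sylow_subgroupOf
  have hker : ((P : Subgroup G).normalizerMonoidHom).ker =
      (Subgroup.centralizer (P : Set G)).subgroupOf N := Subgroup.normalizerMonoidHom_ker _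
  have hle : (⊤ : Subgroup N) ≤ (Subgroup.centralizer (P : Set G)).subgroupOf N := by
    rw [← pResidual_sup_sylow Q, hQ]
    refine sup_le ((Subgroup.closure_le _).2 fun g hg => ?_) ?_
    · rw [SetLike.mem_coe, ← hker, MonoidHom.mem_ker]
      by_contra hne
      set σ := (P : Subgroup G).normalizerMonoidHom g
      have hr : (orderOf σ).minFac.Prime :=
        Nat.minFac_prime fun h' => hne (orderOf_eq_one_iff.1 h')
      set r := (orderOf σ).minFac
      haveI := Fact.mk hr
      have hrs : r ∣ orderOf σ := Nat.minFac_dvd _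
      have hrg : r ∣ orderOf g := hrs.trans (orderOf_map_dvd _ g)
      obtain ⟨d, h1, h2, h3⟩ := aut_fixed_proper (σ ^ (orderOf σ / r))
        (orderOf_pow_orderOf_div (orderOf_pos σ).ne' hrs)
      refine h r hr ?_ ?_ d h1 h2 h3
      · exact hrg.trans ((orderOf_dvd_natCard g).trans (Subgroup.card_subgroup_dvd_card _))
      · intro hrp
        exact hr.ne_one (Nat.eq_one_of_dvd_coprimes hg hrg (hrp ▸ dvd_rfl))
    · intro x hx
      rw [Subgroup.mem_subgroupOf, Subgroup.mem_centralizer_iff]
      intro y hy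
      have := hP.is_comm.comm (⟨y, hy⟩ : (P : Subgroup G)) ⟨x, hx⟩
      exact congrArg Subtype.val this
  intro x hx
  exact hle (Subgroup.mem_top (⟨x, hx⟩ : N))

end Cfsg.Agent.Fusion
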