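import Cfsg.Agent.Lib.Fusion.Dihedral
import Cfsg.Agent.Lib.Fusion.Basic

/-!
# Elementary facts about involutions
-/

set_option autoImplicit false

namespace Cfsg.Agent.Fusion

variable {G : Type*} [Group G] [Finite G]

theorem isPGroup_closure_commuting {u v : G} (hu : orderOf u = 2) (hv : orderOf v = 2)
    (hc : Commute u v) : IsPGroup 2 (Subgroup.closure ({u, v} : Set G)) := by
  rintro ⟨w, hw⟩
  refine ⟨1, Subtype.ext ?_⟩
  suffices h : w ^ 2 = 1 by simpa using h
  induction hw using Subgroup.closure_induction with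
  | mem a ha =>
    rcases ha with rfl | rfl <;> rw [sq, invol_mul_self (by assumption)]
  | one => exact one_pow _
  | mul a b ha hb iha ihb =>
    have hle : Subgroup.closure ({u, v} : Set G) ≤ Subgroup.centralizer ({u, v} : Set G) := by
      refine (Subgroup.closure_le _).2 ?_
      rintro z (rfl | rfl) <;> refine Subgroup.mem_centralizer_iff.2 ?_ <;> rintro y (rfl | rfl)
      · rfl
      · exact hc.eq.symm
      · exact hc.eq
      · rfl
    have hab : Commute a b := by
      have h1 : Subgroup.closure ({u, v} : Set G) ≤ Subgroup.centralizer {a} := by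
        refine (Subgroup.closure_le _).2 fun z hz => ?_
        rw [SetLike.mem_coe, Subgroup.mem_centralizer_singleton_iff]
        exact (Subgroup.mem_centralizer_iff.1 (hle ha) z hz)
      exact (Subgroup.mem_centralizer_singleton_iff.1 (h1 hb)).symm
    rw [hab.mul_pow, iha, ihb, one_mul]
  | inv a _ iha => rw [inv_pow, iha, inv_one]

/-- An isolated involution commutes with no other conjugate. -/
theorem eq_of_isolated {P : Sylow 2 G} {u : G} (hu : orderOf u = 2) (huP : u ∈ P)
    (hiso : ∀ g : G, g * u * g⁻¹ ∈ P → g * u * g⁻¹ = u) {g : G}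
    (hc : Commute u (g * u * g⁻¹)) : g * u * g⁻¹ = u := by
  set v := g * u * g⁻¹
  have hv : orderOf v = 2 :=
    (orderOf_injective (MulAut.conj g).toMonoidHom (MulAut.conj g).injective u).trans hu
  obtain ⟨Q, hQ⟩ := (isPGroup_closure_commuting hu hv hc).exists_le_sylow
  obtain ⟨h, hh⟩ := MulAction.exists_smul_eq G Q P
  have hmem : ∀ z ∈ Q, h * z * h⁻¹ ∈ P := fun z hz => by
    rw [← hh]
    exact ⟨z, hz, rfl⟩
  have h1 : h * u * h⁻¹ = u := hiso h (hmem u (hQ (Subgroup.subset_closure (by simp))))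
  have h2 : h * v * h⁻¹ = u := by
    have := hiso (h * g)
    rw [show h * g * u * (h * g)⁻¹ = h * v * h⁻¹ by simp only [v]; group] at this
    exact this (hmem v (hQ (Subgroup.subset_closure (by simp))))
  exact mul_left_cancel (mul_right_cancel (h2.trans h1.symm))

theorem odd_orderOf_mul_of_isolated {P : Sylow 2 G} {u : G} (hu : orderOf u = 2) (huP : u ∈ P)
    (hiso : ∀ g : G, g * u * g⁻¹ ∈ P → g * u * g⁻¹ = u) (g : G) :
    Odd (orderOf (u * (g * u * g⁻¹))) := by
  set v := g * u * g⁻¹ with hvdef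
  have hv : orderOf v = 2 :=
    (orderOf_injective (MulAut.conj g).toMonoidHom (MulAut.conj g).injective u).trans hu
  by_contra hodd
  rw [Nat.not_odd_iff_even] at hodd
  obtain ⟨m, hm⟩ := hodd
  set r := u * v
  have hr2 : orderOf r ≠ 0 := (orderOf_pos r).ne'
  -- a conjugate of `u` of the form `u * r ^ m`
  have key : ∃ h : G, h * u * h⁻¹ = u * r ^ m := by
    rcases Nat.even_or_odd m with ⟨e, he⟩ | ⟨e, he⟩
    · obtain ⟨d, -, hd⟩ := exists_conj_invol hu hv (e : ℤ)
      exact ⟨d, by rw [hd, two_mul, zpow_add, zpow_natCast, ← pow_add, ← he]⟩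
    · obtain ⟨d, -, hd⟩ := exists_conj_invol hv hu (-(e : ℤ))
      refine ⟨d * g, ?_⟩
      calc d * g * u * (d * g)⁻¹ = d * v * d⁻¹ := by simp only [v]; group
        _ = v * (v * u) ^ (2 * -(e : ℤ)) := hd
        _ = (u * r) * (r⁻¹) ^ (2 * -(e : ℤ)) := by
            simp only [r]
            rw [mul_inv_rev, invol_inv hu, invol_inv hv, ← mul_assoc u u, invol_mul_self hu, one_mul]
        _ = u * r ^ ((m : ℕ) : ℤ) := by
            rw [inv_zpow', mul_assoc, ← zpow_one_add]
            congr 2
            rw [he]; push_cast; ring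
        _ = u * r ^ m := by rw [zpow_natCast]
  obtain ⟨h, hh⟩ := key
  have hc : Commute u (u * r ^ m) := by
    have h1 := invol_conj_zpow hu hv (m : ℤ)
    rw [zpow_neg, zpow_natCast] at h1
    have h2 : (r ^ m)⁻¹ = r ^ m :=
      inv_eq_of_mul_eq_one_right (by rw [← pow_add, ← hm]; exact pow_orderOf_eq_one _)
    rw [h2, mul_inv_eq_iff_eq_mul] at h1
    show u * (u * r ^ m) = u * r ^ m * u
    exact (congrArg (u * ·) h1).trans (mul_assoc _ _ _).symm
  have h3 := eq_of_isolated hu huP hiso (g := h) (by rw [hh]; exact hc)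
  rw [hh, mul_eq_left] at h3
  have h4 := Nat.le_of_dvd (by omega) (orderOf_dvd_of_pow_eq_one h3)
  omega

end Cfsg.Agent.Fusion
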