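import Cfsg.Agent.Lib.Fusion.BurnsideFusion
import Cfsg.Agent.Lib.Fusion.NPC
import Cfsg.Agent.Lib.Fusion.Involutions

/-!
# Classes of involutions with Klein four Sylow subgroups
-/

set_option autoImplicit false

namespace Cfsg.Agent.Fusion

variable {G : Type*} [Group G] [Finite G]

theorem klein_sylow_dichotomy (P : Sylow 2 G) (hP : IsKleinFour (P : Subgroup G)) :
    (Nat.card {C : ConjClasses G // ∃ t : G, orderOf t = 2 ∧ ConjClasses.mk t = C} = 3 ∧
      ∃ N : Subgroup G, N.Normal ∧ Subgroup.IsComplement' N (P : Subgroup G)) ∨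
    (Nat.card {C : ConjClasses G // ∃ t : G, orderOf t = 2 ∧ ConjClasses.mk t = C} = 1 ∧
      ¬ ∃ N : Subgroup G, N.Normal ∧ Subgroup.IsComplement' N (P : Subgroup G)) := by
  classical
  haveI := hP
  have hcard : Nat.card (P : Subgroup G) = 4 := hP.card_four
  have hsq : ∀ x ∈ (P : Subgroup G), x * x = 1 := fun x hx => by
    have := IsKleinFour.mul_self (G := (P : Subgroup G)) ⟨x, hx⟩
    exact congrArg Subtype.val this
  have hord : ∀ x ∈ (P : Subgroup G), x ≠ 1 → orderOf x = 2 := fun x hx h1 =>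
    orderOf_eq_prime (by rw [sq]; exact hsq x hx) h1
  have hcomm : ∀ x ∈ (P : Subgroup G), ∀ y ∈ (P : Subgroup G), x * y = y * x := fun x hx y hy => by
    have h := hsq (x * y) (mul_mem hx hy)
    calc x * y = x * (x * y * (x * y)) * y := by rw [h, mul_one]
      _ = (x * x) * (y * x) * (y * y) := by group
      _ = y * x := by rw [hsq x hx, hsq y hy, one_mul, mul_one]
  have hab : (P : Subgroup G) ≤ Subgroup.centralizer ((P : Subgroup G) : Set G) := fun x hx =>
    Subgroup.mem_centralizer_iff.2 fun y hy => hcomm y hy x hx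
  have hS : SylIn 2 (P : Subgroup G) ⊤ := sylIn_top P
  let f : {x : (P : Subgroup G) // x ≠ 1} →
      {C : ConjClasses G // ∃ t : G, orderOf t = 2 ∧ ConjClasses.mk t = C} := fun x =>
    ⟨ConjClasses.mk (x.1 : G), x.1, hord _ x.1.2 (fun h => x.2 (Subtype.ext h)), rfl⟩
  have hfs : Function.Surjective f := by
    rintro ⟨_, t, ht, rfl⟩
    obtain ⟨g, hg⟩ := MulAction.exists_smul_eq G
      ((IsPGroup.of_card (p := 2) (n := 1) (by rw [Nat.card_zpowers, ht, pow_one]) :
        IsPGroup 2 (Subgroup.zpowers t)).exists_le_sylow.choose) P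
    have hle := (IsPGroup.of_card (p := 2) (n := 1) (by rw [Nat.card_zpowers, ht, pow_one]) :
        IsPGroup 2 (Subgroup.zpowers t)).exists_le_sylow.choose_spec
    have hm : g * t * g⁻¹ ∈ (P : Subgroup G) := by
      rw [← hg]; exact ⟨t, hle (Subgroup.mem_zpowers t), rfl⟩
    refine ⟨⟨⟨g * t * g⁻¹, hm⟩, fun h => ?_⟩, Subtype.ext (ConjClasses.mk_eq_mk_iff_isConj.2
      (isConj_iff.2 ⟨g⁻¹, by group⟩))⟩
    have h' : g * t * g⁻¹ = 1 := congrArg Subtype.val h
    rw [conj_eq_one_iff] at h'
    rw [h', orderOf_one] at ht; omega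
  have hcard3 : Nat.card {x : (P : Subgroup G) // x ≠ 1} = 3 := by
    haveI : Fintype (P : Subgroup G) := Fintype.ofFinite _
    rw [Nat.card_eq_fintype_card (α := {x : (P : Subgroup G) // x ≠ 1}), Fintype.card_subtype_compl,
      Fintype.card_subtype_eq, ← Nat.card_eq_fintype_card, hcard]
  by_cases hN : Subgroup.normalizer ((P : Subgroup G) : Set G) ≤ Subgroup.centralizer ((P : Subgroup G) : Set G)
  · left
    refine ⟨?_, hnpc_exists_complement (hnpc_of_normalizer_le_centralizer P hN) P⟩
    rw [← hcard3]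
    refine (Nat.card_eq_of_bijective f ⟨fun x y h => ?_, hfs⟩).symm
    obtain ⟨g, hg⟩ := isConj_iff.1 (ConjClasses.mk_eq_mk_iff_isConj.1 (congrArg Subtype.val h))
    obtain ⟨n, hn, hne⟩ := fusion_of_abelian hS hab x.1.2 (g := g) (hg ▸ y.1.2)
    have := Subgroup.mem_centralizer_iff.1 (hN hn) _ x.1.2
    refine Subtype.ext (Subtype.ext ?_)
    rw [← hg, ← hne, ← this, mul_inv_cancel_right]
  · right
    obtain ⟨n, hn, hnC⟩ := SetLike.not_le_iff_exists.1 hN
    have hnP : ∀ {x : G}, x ∈ (P : Subgroup G) → n * x * n⁻¹ ∈ (P : Subgroup G) := fun {x} hx =>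
      (Subgroup.mem_normalizer_iff.1 hn x).1 hx
    -- an element of the normalizer fixing a nonidentity element centralizes `P`
    have hfree : ∀ x ∈ (P : Subgroup G), x ≠ 1 → n * x * n⁻¹ ≠ x := by
      intro x hx hx1 hfix
      refine hnC ?_
      obtain ⟨j, m, hm, hjm⟩ := Nat.exists_eq_two_pow_mul_odd (orderOf_pos n).ne'
      have hnm : n ^ m ∈ (P : Subgroup G) := by
        have hp : IsPGroup 2 (Subgroup.zpowers (n ^ m)) := by
          obtain ⟨i, -, hi⟩ := (Nat.dvd_prime_pow Nat.prime_two).1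
            (show orderOf (n ^ m) ∣ 2 ^ j from orderOf_dvd_of_pow_eq_one (by
              rw [← pow_mul, mul_comm, ← hjm, pow_orderOf_eq_one]))
          exact IsPGroup.of_card (n := i) (by rw [Nat.card_zpowers, hi])
        have hle : Subgroup.zpowers (n ^ m) ≤ Subgroup.normalizer ((P : Subgroup G) : Set G) :=
          Subgroup.zpowers_le.2 (pow_mem hn m)
        have hsup := hp.to_sup_of_normal_right' P.isPGroup' hle
        have := P.is_maximal' hsup le_sup_right
        rw [← this]; exact Subgroup.mem_sup_left (Subgroup.mem_zpowers _)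
      refine Subgroup.mem_centralizer_iff.2 fun y hy => ?_
      by_contra hy'
      have hy0 : n * y * n⁻¹ ≠ y := fun h => hy' (by
        have := congrArg (· * n) h; simp only [inv_mul_cancel_right] at this; exact this.symm)
      -- `n` interchanges `y` and `x * y`
      have hy1 : y ≠ 1 := fun h => hy0 (by rw [h]; group)
      have hyx : y ≠ x := fun h => hy0 (by rw [h]; exact hfix)
      have h4 : ∀ z ∈ (P : Subgroup G), z = 1 ∨ z = x ∨ z = y ∨ z = x * y := by
        intro z hz
        by_contra hz'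
        simp only [not_or] at hz'
        obtain ⟨h1, h2, h3, h5⟩ := hz'
        have hxy1 : x * y ≠ 1 := fun h => hyx (by
          rw [← inv_eq_of_mul_eq_one_right h, inv_eq_of_mul_eq_one_right (hsq x hx)])
        let g : Fin 5 → (P : Subgroup G) := ![1, ⟨x, hx⟩, ⟨y, hy⟩, ⟨x * y, mul_mem hx hy⟩, ⟨z, hz⟩]
        have hg : Function.Injective g := by
          intro i k hik
          have h' := congrArg Subtype.val hik
          fin_cases i <;> fin_cases k <;> simp [g] at h' ⊢ <;>
            first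
              | exact absurd h' hx1 | exact absurd h'.symm hx1 | exact absurd h' hy1 | exact absurd h'.symm hy1
              | exact absurd h' hyx | exact absurd h'.symm hyx | exact absurd h' h1 | exact absurd h'.symm h1
              | exact absurd h' h2 | exact absurd h'.symm h2 | exact absurd h' h3 | exact absurd h'.symm h3
              | exact absurd h' h5 | exact absurd h'.symm h5 | exact absurd h' hxy1 | exact absurd h'.symm hxy1
              | exact absurd h' hxy1
        have := Nat.card_le_card_of_injective g hg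
        rw [hcard, Nat.card_fin] at this; omega
      have himg : n * y * n⁻¹ = x * y := by
        rcases h4 _ (hnP hy) with h | h | h | h
        · exact absurd (conj_eq_one_iff.1 h) hy1
        · exact absurd (mul_left_cancel (mul_right_cancel (h.trans hfix.symm))) hyx
        · exact absurd h hy0
        · exact h
      have hodd : ∀ i : ℕ, n ^ (2 * i + 1) * y * (n ^ (2 * i + 1))⁻¹ = x * y := by
        intro i
        induction i with
        | zero => simpa using himg
        | succ i ih =>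
          rw [show 2 * (i + 1) + 1 = 2 + (2 * i + 1) by ring, pow_add,
            show n ^ 2 * n ^ (2 * i + 1) * y * (n ^ 2 * n ^ (2 * i + 1))⁻¹ =
              n * (n * (n ^ (2 * i + 1) * y * (n ^ (2 * i + 1))⁻¹) * n⁻¹) * n⁻¹ by rw [sq]; group, ih,
            show n * (x * y) * n⁻¹ = (n * x * n⁻¹) * (n * y * n⁻¹) by group, hfix, himg,
            ← mul_assoc x x y, hsq x hx, one_mul, himg]
      obtain ⟨i, rfl⟩ := hm
      have := hodd i
      rw [hcomm _ hnm y hy, mul_inv_cancel_right, right_eq_mul] at this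
      exact hx1 this
    obtain ⟨⟨⟨a, ha⟩, ha1⟩⟩ : Nonempty {x : (P : Subgroup G) // x ≠ 1} :=
      (Nat.card_pos_iff.1 (by rw [hcard3]; norm_num)).1
    have ha' : a ≠ 1 := fun h => ha1 (Subtype.ext h)
    set b := n * a * n⁻¹ with hb
    have hbP : b ∈ (P : Subgroup G) := hnP ha
    set c := n * b * n⁻¹ with hc
    have hcP : c ∈ (P : Subgroup G) := hnP hbP
    have hb1 : b ≠ 1 := fun h => ha' (conj_eq_one_iff.1 h)
    have hc1 : c ≠ 1 := fun h => hb1 (conj_eq_one_iff.1 h)
    have hba : b ≠ a := hfree a ha ha'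
    have hcb : c ≠ b := hfree b hbP hb1
    have hca : c ≠ a := fun h => by
      refine hfree (a * b) (mul_mem ha hbP) (fun h1 => hba ?_) ?_
      · rw [← inv_eq_of_mul_eq_one_right h1, inv_eq_of_mul_eq_one_right (hsq a ha)]
      · rw [show n * (a * b) * n⁻¹ = (n * a * n⁻¹) * (n * b * n⁻¹) by group, ← hb, ← hc, h]
        exact hcomm b hbP a ha
    have hsing : Nat.card {C : ConjClasses G // ∃ t : G, orderOf t = 2 ∧ ConjClasses.mk t = C} = 1 := by
      rw [Nat.card_eq_one_iff_unique]
      refine ⟨⟨fun C D => ?_⟩, ⟨f ⟨⟨a, ha⟩, ha1⟩⟩⟩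
      suffices h : ∀ x : {x : (P : Subgroup G) // x ≠ 1}, f x = f ⟨⟨a, ha⟩, ha1⟩ by
        obtain ⟨x, rfl⟩ := hfs C; obtain ⟨y, rfl⟩ := hfs D; rw [h x, h y]
      let g : Fin 3 → {x : (P : Subgroup G) // x ≠ 1} :=
        ![⟨⟨a, ha⟩, ha1⟩, ⟨⟨b, hbP⟩, fun h => hb1 (congrArg Subtype.val h)⟩,
          ⟨⟨c, hcP⟩, fun h => hc1 (congrArg Subtype.val h)⟩]
      have hg : Function.Injective g := by
        intro i k hik
        have h' := congrArg (fun z => (z.1 : G)) hik
        fin_cases i <;> fin_cases k <;> simp [g] at h' ⊢ <;>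
          first
            | exact absurd h' hba | exact absurd h'.symm hba | exact absurd h' hcb | exact absurd h'.symm hcb
            | exact absurd h' hca | exact absurd h'.symm hca
      intro x
      obtain ⟨i, rfl⟩ := (Function.Injective.bijective_of_nat_card_le hg (by rw [hcard3, Nat.card_fin])).2 x
      refine Subtype.ext (ConjClasses.mk_eq_mk_iff_isConj.2 ?_)
      fin_cases i
      · exact IsConj.refl _
      · exact (isConj_iff.2 ⟨n, rfl⟩ : IsConj a b).symm
      · exact (isConj_iff.2 ⟨n * n, by simp only [hc, hb]; group⟩ : IsConj a c).symm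
    refine ⟨hsing, fun ⟨N, hNn, hNc⟩ => hba ?_⟩
    haveI := hNn
    have hdis : N ⊓ (P : Subgroup G) = ⊥ := disjoint_iff.1 hNc.disjoint
    have hgP : ∃ k ∈ N, ∃ q ∈ (P : Subgroup G), n = k * q := by
      obtain ⟨⟨k, q⟩, hkq⟩ := hNc.2 n
      exact ⟨k, k.2, q, q.2, hkq.symm⟩
    obtain ⟨k, hk, q, hq, hkq⟩ := hgP
    have hbk : b * a⁻¹ ∈ N := by
      rw [hb, hkq, show k * q * a * (k * q)⁻¹ = k * (q * a * q⁻¹) * k⁻¹ by group, hcomm q hq a ha,
        mul_inv_cancel_right, mul_assoc, mul_assoc]
      exact mul_mem hk (by rw [← mul_assoc]; exact hNn.conj_mem _ (inv_mem hk) a)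
    have : b * a⁻¹ ∈ (⊥ : Subgroup G) := hdis ▸ Subgroup.mem_inf.2 ⟨hbk, mul_mem hbP (inv_mem ha)⟩
    exact mul_inv_eq_one.1 (Subgroup.mem_bot.1 this)

end Cfsg.Agent.Fusion
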