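import Mathlib

/-!
# The group generated by two involutions
-/

set_option autoImplicit false

namespace Cfsg.Agent.Fusion

section
variable {G : Type*} [Group G] [Finite G] {x y : G}

theorem invol_mul_self (hx : orderOf x = 2) : x * x = 1 := by
  rw [← sq, ← hx, pow_orderOf_eq_one]

theorem invol_inv (hx : orderOf x = 2) : x⁻¹ = x :=
  inv_eq_of_mul_eq_one_right (invol_mul_self hx)

variable (hx : orderOf x = 2) (hy : orderOf y = 2)
include hx hy

theorem invol_conj_zpow (k : ℤ) : x * (x * y) ^ k * x⁻¹ = (x * y) ^ (-k) := by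
  rw [← conj_zpow, zpow_neg, ← inv_zpow, mul_inv_rev, invol_inv hx, invol_inv hy, ← mul_assoc x x y,
    invol_mul_self hx, one_mul]

theorem mem_closure_pair_iff (d : G) :
    d ∈ Subgroup.closure ({x, y} : Set G) ↔
      d ∈ Subgroup.zpowers (x * y) ∨ x * d ∈ Subgroup.zpowers (x * y) := by
  constructor
  · intro hd
    let H : Subgroup G :=
      { carrier := {d | d ∈ Subgroup.zpowers (x * y) ∨ x * d ∈ Subgroup.zpowers (x * y)}
        one_mem' := Or.inl (one_mem _)
        mul_mem' := by
          have key : ∀ c, c ∈ Subgroup.zpowers (x * y) → x * c * x⁻¹ ∈ Subgroup.zpowers (x * y) := by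
            intro c hc
            obtain ⟨k, rfl⟩ := Subgroup.mem_zpowers_iff.1 hc
            rw [invol_conj_zpow hx hy]
            exact zpow_mem (Subgroup.mem_zpowers _) _
          rintro a b (ha | ha) (hb | hb)
          · exact Or.inl (mul_mem ha hb)
          · refine Or.inr ?_
            rw [show x * (a * b) = (x * a * x⁻¹) * (x * b) by group]
            exact mul_mem (key a ha) hb
          · exact Or.inr (by rw [← mul_assoc]; exact mul_mem ha hb)
          · refine Or.inl ?_
            rw [show a * b = (x⁻¹ * (x * a) * x⁻¹) * (x * b) by group, invol_inv hx]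
            have := key _ ha
            rw [invol_inv hx] at this
            exact mul_mem this hb
        inv_mem' := by
          rintro a (ha | ha)
          · exact Or.inl (inv_mem ha)
          · refine Or.inr ?_
            obtain ⟨k, hk⟩ := Subgroup.mem_zpowers_iff.1 (inv_mem ha)
            have := invol_conj_zpow hx hy k
            rw [hk] at this
            rw [show x * a⁻¹ = x * ((x * a)⁻¹) * x⁻¹ * (x * x) by group, this, invol_mul_self hx,
              mul_one]
            exact zpow_mem (Subgroup.mem_zpowers _) _ }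
    refine (Subgroup.closure_le H).2 ?_ hd
    rintro z (rfl | rfl)
    · exact Or.inr (by rw [invol_mul_self hx]; exact one_mem _)
    · exact Or.inr (Subgroup.mem_zpowers _)
  · have hX : x ∈ Subgroup.closure ({x, y} : Set G) := Subgroup.subset_closure (by simp)
    have hr : Subgroup.zpowers (x * y) ≤ Subgroup.closure ({x, y} : Set G) :=
      Subgroup.zpowers_le.2 (mul_mem hX (Subgroup.subset_closure (by simp)))
    rintro (hd | hd)
    · exact hr hd
    · simpa [← mul_assoc, invol_mul_self hx] using mul_mem hX (hr hd)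

theorem invol_not_mem_zpowers (hxy : x ≠ y) : x ∉ Subgroup.zpowers (x * y) := by
  intro h
  have hr1 : x * y ≠ 1 := fun h1 => hxy (by
    rw [← mul_one x, ← h1, ← mul_assoc, invol_mul_self hx, one_mul])
  obtain ⟨k, hk⟩ := Subgroup.mem_zpowers_iff.1 h
  have h2 : x * (x * y) * x⁻¹ = x * y := mul_inv_eq_of_eq_mul
    ((congrArg (fun z => z * (x * y)) hk).symm.trans
      ((Commute.zpow_self (x * y) k).eq.trans (congrArg ((x * y) * ·) hk)))
  have h3 := invol_conj_zpow hx hy 1
  rw [zpow_one, h2, zpow_neg, zpow_one] at h3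
  have h4 : (x * y) ^ (2 : ℤ) = 1 := by
    rw [zpow_two]
    nth_rewrite 1 [h3]
    rw [inv_mul_cancel]
  have h5 : x = 1 ∨ x = x * y := by
    rcases Int.even_or_odd k with ⟨m, hm⟩ | ⟨m, hm⟩
    · left; rw [← hk, hm, ← two_mul, zpow_mul, h4, one_zpow]
    · right
      conv_lhs => rw [← hk, hm, zpow_add, zpow_mul, h4, one_zpow, one_mul, zpow_one]
  rcases h5 with h5 | h5
  · rw [h5, orderOf_one] at hx; omega
  · have : y = 1 := by
      rw [← mul_one x, mul_assoc, one_mul] at h5; exact (mul_left_cancel h5).symm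
    rw [this, orderOf_one] at hy; omega

/-- The group generated by two distinct involutions is dihedral. -/
theorem closure_pair_equiv_dihedral (hxy : x ≠ y) :
    Nonempty (↥(Subgroup.closure ({x, y} : Set G)) ≃* DihedralGroup (orderOf (x * y))) := by
  set n := orderOf (x * y)
  set r := x * y
  haveI : NeZero n := ⟨(orderOf_pos r).ne'⟩
  let f : DihedralGroup n → G := fun d => match d with
    | .r i => r ^ i.val
    | .sr i => x * r ^ i.val
  have hadd : ∀ i j : ZMod n, r ^ (i + j).val = r ^ i.val * r ^ j.val := fun i j => by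
    rw [ZMod.val_add, pow_mod_orderOf, pow_add]
  have hsub : ∀ i j : ZMod n, r ^ (j - i).val = (r ^ i.val)⁻¹ * r ^ j.val := fun i j => by
    rw [eq_inv_mul_iff_mul_eq, ← hadd, add_sub_cancel]
  have hconj : ∀ k : ℕ, r ^ k * x = x * (r ^ k)⁻¹ := fun k => by
    have h := invol_conj_zpow hx hy (-(k : ℤ))
    rw [neg_neg, zpow_neg, zpow_natCast] at h
    have h' := congrArg (· * x) h
    simp only [inv_mul_cancel_right] at h'
    exact h'.symm
  let φ : DihedralGroup n →* G := MonoidHom.mk' f (by
    rintro (i | i) (j | j)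
    · show r ^ (i + j).val = _
      exact hadd i j
    · show x * r ^ (j - i).val = r ^ i.val * (x * r ^ j.val)
      rw [hsub, ← mul_assoc (r ^ i.val) x, hconj, mul_assoc]
    · show x * r ^ (i + j).val = x * r ^ i.val * r ^ j.val
      rw [hadd, mul_assoc]
    · show r ^ (j - i).val = x * r ^ i.val * (x * r ^ j.val)
      rw [hsub, show x * r ^ i.val * (x * r ^ j.val) = x * (r ^ i.val * x) * r ^ j.val by group,
        hconj, ← mul_assoc x x, invol_mul_self hx, one_mul])
  have hval : ∀ i j : ZMod n, r ^ i.val = r ^ j.val → i = j := fun i j h =>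
    ZMod.val_injective n (pow_injOn_Iio_orderOf (ZMod.val_lt i) (ZMod.val_lt j) h)
  have hnot := invol_not_mem_zpowers hx hy hxy
  have hinj : Function.Injective φ := by
    rintro (i | i) (j | j) h
    · exact congrArg _ (hval i j h)
    · refine absurd ?_ hnot
      exact (congrArg (· ∈ Subgroup.zpowers r)
        (eq_mul_inv_of_mul_eq (show x * r ^ j.val = r ^ i.val from h.symm))).mpr
        (mul_mem (pow_mem (Subgroup.mem_zpowers r) _) (inv_mem (pow_mem (Subgroup.mem_zpowers r) _)))
    · refine absurd ?_ hnot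
      exact (congrArg (· ∈ Subgroup.zpowers r)
        (eq_mul_inv_of_mul_eq (show x * r ^ i.val = r ^ j.val from h))).mpr
        (mul_mem (pow_mem (Subgroup.mem_zpowers r) _) (inv_mem (pow_mem (Subgroup.mem_zpowers r) _)))
    · exact congrArg _ (hval i j (mul_left_cancel (show x * r ^ i.val = x * r ^ j.val from h)))
  have hcast : ∀ d ∈ Subgroup.zpowers r, ∃ i : ZMod n, r ^ i.val = d := fun d hd => by
    obtain ⟨k, hk⟩ := (mem_powers_iff_mem_zpowers).2 hd
    refine ⟨(k : ZMod n), ?_⟩
    rw [ZMod.val_natCast, pow_mod_orderOf]; exact hk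
  have hrange : φ.range = Subgroup.closure ({x, y} : Set G) := by
    ext d
    rw [mem_closure_pair_iff hx hy]
    constructor
    · rintro ⟨i | i, rfl⟩
      · exact Or.inl (pow_mem (Subgroup.mem_zpowers r) _)
      · refine Or.inr ?_
        show x * (x * r ^ i.val) ∈ _
        rw [← mul_assoc, invol_mul_self hx, one_mul]
        exact pow_mem (Subgroup.mem_zpowers r) _
    · rintro (hd | hd)
      · obtain ⟨i, hi⟩ := hcast d hd
        exact ⟨.r i, hi⟩
      · obtain ⟨i, hi⟩ := hcast _ hd
        refine ⟨.sr i, ?_⟩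
        show x * r ^ i.val = d
        rw [hi, ← mul_assoc, invol_mul_self hx, one_mul]
  exact ⟨(MulEquiv.subgroupCongr hrange.symm).trans (MonoidHom.ofInjective hinj).symm⟩

theorem orderOf_reflection (hxy : x ≠ y) {d : G} (hd : d ∈ Subgroup.closure ({x, y} : Set G))
    (hd' : d ∉ Subgroup.zpowers (x * y)) : orderOf d = 2 := by
  rcases (mem_closure_pair_iff hx hy d).1 hd with h | h
  · exact absurd h hd'
  have := hxy
  refine orderOf_eq_prime ?_ fun h1 => hd' (h1 ▸ one_mem _)
  obtain ⟨k, hk⟩ := Subgroup.mem_zpowers_iff.1 h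
  have e := invol_conj_zpow hx hy k
  have hdk : d = x * (x * y) ^ k := by rw [hk, ← mul_assoc, invol_mul_self hx, one_mul]
  rw [sq, hdk]
  calc x * (x * y) ^ k * (x * (x * y) ^ k)
      = (x * (x * y) ^ k * x⁻¹) * (x * x) * (x * y) ^ k := by group
    _ = 1 := by rw [e, invol_mul_self hx, mul_one, ← zpow_add, neg_add_cancel, zpow_zero]

/-- Conjugates of `x` in the dihedral group. -/
theorem conj_invol_in_closure {d : G} (hd : d ∈ Subgroup.closure ({x, y} : Set G)) :
    ∃ k : ℤ, d * x * d⁻¹ = x * (x * y) ^ (2 * k) := by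
  have e : ∀ k : ℤ, (x * y) ^ k * x * ((x * y) ^ k)⁻¹ = x * (x * y) ^ (2 * (-k)) := fun k => by
    have h := invol_conj_zpow hx hy (-k)
    rw [neg_neg] at h
    calc (x * y) ^ k * x * ((x * y) ^ k)⁻¹ = (x * (x * y) ^ (-k) * x⁻¹) * x * ((x * y) ^ k)⁻¹ := by
          rw [h]
      _ = x * (x * y) ^ (-k) * ((x * y) ^ k)⁻¹ := by group
      _ = x * (x * y) ^ (2 * (-k)) := by rw [two_mul, zpow_add, zpow_neg, mul_assoc]
  rcases (mem_closure_pair_iff hx hy d).1 hd with h | h
  · obtain ⟨k, rfl⟩ := Subgroup.mem_zpowers_iff.1 h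
    exact ⟨-k, e k⟩
  · obtain ⟨k, hk⟩ := Subgroup.mem_zpowers_iff.1 h
    refine ⟨k, ?_⟩
    have hdk : d = x * (x * y) ^ k := by rw [hk, ← mul_assoc, invol_mul_self hx, one_mul]
    rw [hdk, show x * (x * y) ^ k * x * (x * (x * y) ^ k)⁻¹ =
      x * ((x * y) ^ k * x * ((x * y) ^ k)⁻¹) * x⁻¹ by group, e,
      show x * (x * (x * y) ^ (2 * -k)) * x⁻¹ = x * (x * (x * y) ^ (2 * -k) * x⁻¹) by group,
      invol_conj_zpow hx hy]
    congr 2
    ring

theorem exists_conj_invol (k : ℤ) :
    ∃ d ∈ Subgroup.closure ({x, y} : Set G), d * x * d⁻¹ = x * (x * y) ^ (2 * k) := by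
  refine ⟨(x * y) ^ (-k), (mem_closure_pair_iff hx hy _).2 (Or.inl (zpow_mem (Subgroup.mem_zpowers _) _)), ?_⟩
  have h := invol_conj_zpow hx hy k
  calc (x * y) ^ (-k) * x * ((x * y) ^ (-k))⁻¹
      = (x * (x * y) ^ k * x⁻¹) * x * ((x * y) ^ (-k))⁻¹ := by rw [h]
    _ = x * ((x * y) ^ k * (x * y) ^ k) := by group
    _ = x * (x * y) ^ (2 * k) := by rw [two_mul, zpow_add]

end

end Cfsg.Agent.Fusion
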