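import Mathlib
import Cfsg.Prelude.Def_PLocal
import Cfsg.Prelude.Def_LocalEven
import Cfsg.Agent.Lib.Fusion.SmallDegree
import Cfsg.Agent.Lib.Fusion.ChiefCommutator
import Cfsg.Agent.Lib.Fusion.Cores
import Cfsg.Agent.Lib.Fusion.Basic

/-!
# Invariant homomorphisms and elements of degree less than `p`
-/

set_option autoImplicit false

open scoped commutatorElement

namespace Cfsg.Agent.Fusion

variable {K A B : Type*} [Group K] [AddCommGroup A] [DistribMulAction K A] [AddCommGroup B]
  {p : ℕ} [hp : Fact p.Prime]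

/-- If the elements of `D` have degree less than `p` and fix only the coset `M`, an `M`-invariant
homomorphism is invariant under the whole group. -/
theorem hom_invariant_of_small_degree [Finite K] [Finite A] (hA : ∀ a : A, ∃ k, p ^ k • a = 0)
    (M : Subgroup K) (D : Set K) (hD : IsPGroup p (Subgroup.closure D))
    (hDM : ∀ d ∈ D, d ∈ M) (hfix : ∀ k : K, (∀ d ∈ D, k⁻¹ * d * k ∈ M) → k ∈ M)
    (hdeg : ∀ U V : AddSubgroup A, V < U → InvSub K U → InvSub K V →
      (∀ N : AddSubgroup A, InvSub K N → V ≤ N → N ≤ U → N = V ∨ N = U) →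
      ∀ d ∈ D, ∀ y ∈ U, (fun z => d • z - z)^[p - 1] y ∈ V)
    (f : A →+ B) (hf : ∀ m ∈ M, ∀ a, f (m • a) = f a) : ∀ (k : K) (a : A), f (k • a) = f a := by
  classical
  letI : DistribMulAction K (A →+ B) :=
    { smul := fun k h => h.comp (DistribMulAction.toAddMonoidHom A k⁻¹)
      one_smul := fun h => AddMonoidHom.ext fun a => by
        show h ((1 : K)⁻¹ • a) = h a
        rw [inv_one, one_smul]
      mul_smul := fun k l h => AddMonoidHom.ext fun a => by
        show h ((k * l)⁻¹ • a) = h (l⁻¹ • k⁻¹ • a)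
        rw [mul_inv_rev, mul_smul]
      smul_zero := fun k => AddMonoidHom.ext fun a => rfl
      smul_add := fun k h h' => AddMonoidHom.ext fun a => rfl }
  have hsmul : ∀ (k : K) (h : A →+ B) (a : A), (k • h) a = h (k⁻¹ • a) := fun _ _ _ => rfl
  haveI : Fintype (K ⧸ M) := Fintype.ofFinite _
  set φ : K ⧸ M → (A →+ B) := fun ω => ω.out • f
  have hfm : ∀ m ∈ M, m • f = f := fun m hm => AddMonoidHom.ext fun a => by
    rw [hsmul]; exact hf _ (M.inv_mem hm) a
  have hφ : ∀ (k : K) ω, φ (k • ω) = k • φ ω := by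
    intro k ω
    have h1 : ((k • ω).out : K ⧸ M) = ((k * ω.out : K) : K ⧸ M) := by
      rw [QuotientGroup.out_eq', ← smul_eq_mul, ← MulAction.Quotient.smul_coe,
        QuotientGroup.out_eq']
    rw [QuotientGroup.eq] at h1
    show (k • ω).out • f = k • ω.out • f
    conv_lhs => rw [← hfm _ h1]
    rw [smul_smul, smul_smul, mul_inv_cancel_left]
  set F := ∑ ω : K ⧸ M, φ ω
  have hF : ∀ k : K, k • F = F := fun k => by
    rw [Finset.smul_sum]
    simp only [← hφ]
    exact Fintype.sum_equiv (MulAction.toPerm k) _ _ fun _ => rfl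
  set U₀ := AddSubgroup.closure {x : A | ∃ (k : K) (a : A), k • a - a = x}
  have hFU₀ : U₀ ≤ F.ker := (AddSubgroup.closure_le _).2 fun x ⟨k, a, hx⟩ => by
    show F x = 0
    have h1 := DFunLike.congr_fun (hF k⁻¹) a
    rw [hsmul, inv_inv] at h1
    rw [← hx, map_sub, h1, sub_self]
  have hU₀ : InvSub K U₀ := by
    intro k u hu
    induction hu using AddSubgroup.closure_induction with
    | mem v hv =>
      obtain ⟨l, a, rfl⟩ := hv
      refine AddSubgroup.subset_closure ⟨k * l * k⁻¹, k • a, ?_⟩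
      rw [smul_sub, smul_smul, smul_smul, inv_mul_cancel_right]
    | zero => rw [smul_zero]; exact zero_mem _
    | add a b _ _ ha hb => rw [smul_add]; exact add_mem ha hb
    | neg a _ ha => rw [smul_neg]; exact neg_mem ha
  suffices hkill : U₀ ≤ f.ker by
    intro k a
    have : f (k • a - a) = 0 := hkill (AddSubgroup.subset_closure ⟨k, a, rfl⟩)
    rwa [map_sub, sub_eq_zero] at this
  by_contra hnot
  obtain ⟨U, ⟨hUi, hUU₀, hUf⟩, hUmin⟩ := Set.exists_min_image
    {U : AddSubgroup A | InvSub K U ∧ U ≤ U₀ ∧ ¬ U ≤ f.ker} (fun U : AddSubgroup A => Nat.card U)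
    (Set.toFinite _) ⟨U₀, hU₀, le_rfl, hnot⟩
  have hbot : (⊥ : AddSubgroup A) < U := bot_lt_iff_ne_bot.2 fun h => hUf (h.le.trans bot_le)
  obtain ⟨V, ⟨hVi, hVU⟩, hmax⟩ := Set.exists_max_image
    {V : AddSubgroup A | InvSub K V ∧ V < U} (fun V : AddSubgroup A => Nat.card V)
    (Set.toFinite _) ⟨⊥, fun k u hu => by simp [AddSubgroup.mem_bot.1 hu], hbot⟩
  have hmin : ∀ N : AddSubgroup A, InvSub K N → V ≤ N → N ≤ U → N = V ∨ N = U := by
    intro N hN hVN hNU
    rcases eq_or_lt_of_le hNU with h | h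
    · exact .inr h
    · refine .inl (SetLike.coe_injective (Set.Finite.eq_of_subset_of_card_le (Set.toFinite _)
        (SetLike.coe_subset_coe.2 hVN) (hmax N ⟨hN, h⟩))).symm
  have hVf : V ≤ f.ker := by
    by_contra h
    have hle := hUmin V ⟨hVi, hVU.le.trans hUU₀, h⟩
    exact hVU.ne (SetLike.coe_injective (Set.Finite.eq_of_subset_of_card_le (Set.toFinite _)
      (SetLike.coe_subset_coe.2 hVU.le) hle))
  let U' : AddSubgroup (A →+ B) :=
    { carrier := {h | ∀ v ∈ V, h v = 0}
      zero_mem' := fun v _ => rfl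
      add_mem' := fun {a b} ha hb v hv => by
        show a v + b v = 0
        rw [ha v hv, hb v hv, add_zero]
      neg_mem' := fun {a} ha v hv => by
        show - a v = 0
        rw [ha v hv, neg_zero] }
  let V' : AddSubgroup (A →+ B) :=
    { carrier := {h | ∀ u ∈ U, h u = 0}
      zero_mem' := fun v _ => rfl
      add_mem' := fun {a b} ha hb v hv => by
        show a v + b v = 0
        rw [ha v hv, hb v hv, add_zero]
      neg_mem' := fun {a} ha v hv => by
        show - a v = 0
        rw [ha v hv, neg_zero] }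
  have hgeom : ∀ d ∈ D, ∀ h ∈ U', ∑ i ∈ Finset.range p, d ^ i • h ∈ V' := by
    intro d hd h hh u hu
    rw [AddMonoidHom.finsetSum_apply]
    have hrev : ∑ i ∈ Finset.range p, (d ^ i)⁻¹ • u ∈ V := by
      have h1 := hVi (d ^ (p - 1))⁻¹ _ (geom_sum_mem (hUi d) (nsmul_mem_of_minimal hA hVU hUi hVi hmin)
        hu (hdeg U V hVU hUi hVi hmin d hd u hu))
      rw [Finset.smul_sum, ← Finset.sum_range_reflect] at h1
      have e : ∀ j ∈ Finset.range p,
          (d ^ (p - 1))⁻¹ • d ^ (p - 1 - j) • u = (d ^ j)⁻¹ • u := by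
        intro j hj
        rw [Finset.mem_range] at hj
        rw [smul_smul]
        congr 1
        rw [inv_mul_eq_iff_eq_mul, eq_mul_inv_iff_mul_eq, ← pow_add, Nat.sub_add_cancel (by omega)]
      rwa [Finset.sum_congr rfl e] at h1
    simp only [hsmul]
    rw [← map_sum]
    exact hh _ hrev
  have hφU : ∀ ω, φ ω ∈ U' := fun ω v hv => by
    show (ω.out • f) v = 0
    rw [hsmul]
    exact hVf (hVi _ v hv)
  have hcl : Subgroup.closure D ≤ M := (Subgroup.closure_le M).2 hDM
  have h1 : ∑ ω ∈ (Finset.univ : Finset (K ⧸ M)).erase ((1 : K) : K ⧸ M), φ ω ∈ V' := by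
    refine sum_orbits_mem D hD hgeom φ hφU hφ _ ?_ ?_
    · intro k hk ω hω
      refine Finset.mem_erase.2 ⟨fun h => (Finset.mem_erase.1 hω).1 ?_, Finset.mem_univ _⟩
      rw [← inv_smul_smul k ω, h, MulAction.Quotient.smul_coe, QuotientGroup.eq]
      simpa using M.inv_mem (M.inv_mem (hcl hk))
    · intro ω hω
      by_contra hcon
      push Not at hcon
      refine (Finset.mem_erase.1 hω).1 ?_
      rw [← QuotientGroup.out_eq' ω, QuotientGroup.eq, mul_one]
      refine inv_mem (hfix _ fun d hd => ?_)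
      have h := hcon d hd
      rw [← QuotientGroup.out_eq' ω, MulAction.Quotient.smul_coe, QuotientGroup.eq] at h
      have := M.inv_mem h
      simpa [mul_assoc] using this
  have h2 : φ ((1 : K) : K ⧸ M) = f := by
    obtain ⟨m, hm⟩ := QuotientGroup.mk_out_eq_mul M (1 : K)
    show ((1 : K) : K ⧸ M).out • f = f
    rw [hm, one_mul]
    exact hfm _ m.2
  refine hUf fun u hu => ?_
  have h3 : F u = 0 := hFU₀ (hUU₀ hu)
  rw [show F = φ ((1 : K) : K ⧸ M) + ∑ ω ∈ (Finset.univ : Finset (K ⧸ M)).erase ((1 : K) : K ⧸ M), φ ω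
    from (Finset.add_sum_erase _ _ (Finset.mem_univ _)).symm, AddMonoidHom.add_apply, h2,
    h1 u hu, add_zero] at h3
  exact h3

/-- The subgroup form: if the overgroups of a Sylow subgroup centralize `E` modulo `N₁` and some
element outside the core has degree less than `p` on `E`, then so does the whole group. -/
theorem commutator_le_of_small_degree {Y : Type*} [Group Y] [Finite Y]
    {E N₁ T M : Subgroup Y} [hEn : E.Normal] (hE : IsPGroup p E)
    (hab : E ≤ Subgroup.centralizer (E : Set Y)) (hN₁ : N₁ ≤ E) (hT : SylIn p T ⊤) (hTM : T ≤ M)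
    (hM : ⁅E, M⁆ ≤ N₁) (hprop : ∀ L : Subgroup Y, T ≤ L → L ≠ ⊤ → L ≤ M)
    {g : Y} (hgT : g ∈ T) (hgO : g ∉ pCore p Y)
    (hdeg : ∀ U V : Subgroup Y, IsChiefFactor U V → U ≤ E →
      iterCommutator U (Subgroup.zpowers g) (p - 1) ≤ V) :
    ∀ k : Y, ∀ e ∈ E, ⁅k, e⁆ ∈ N₁ := by
  classical
  letI : CommGroup E := { (inferInstance : Group E) with
    mul_comm := fun a b => Subtype.ext (Subgroup.mem_centralizer_iff.1 (hab b.2) a a.2) }
  letI : DistribMulAction Y (Additive E) :=
    { smul := fun k a => Additive.ofMul ((MulAut.conjNormal k) a.toMul)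
      one_smul := fun a => by
        show Additive.ofMul ((MulAut.conjNormal (1 : Y)) a.toMul) = a
        rw [map_one]; rfl
      mul_smul := fun k l a => by
        show Additive.ofMul ((MulAut.conjNormal (k * l)) a.toMul) = _
        rw [map_mul]; rfl
      smul_zero := fun k => by
        show Additive.ofMul ((MulAut.conjNormal k) (1 : E)) = 0
        rw [map_one]; rfl
      smul_add := fun k a b => by
        show Additive.ofMul ((MulAut.conjNormal k) (a.toMul * b.toMul)) = _
        rw [map_mul]; rfl }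
  have hsmul : ∀ (k : Y) (a : Additive E), ((k • a).toMul : Y) = k * (a.toMul : Y) * k⁻¹ :=
    fun k a => MulAut.conjNormal_apply _ _
  set D : Set Y := {d | d ∈ T ∧ ∃ k : Y, d = k * g * k⁻¹}
  set W0 := Subgroup.closure D
  have hW0T : W0 ≤ T := (Subgroup.closure_le T).2 fun d hd => hd.1
  have hNW : Subgroup.normalizer (W0 : Set Y) ≤ M := by
    refine hprop _ (fun t ht => mem_normalizer_of_cj_le ?_) fun htop => hgO ?_
    · rw [cj, Subgroup.map_le_iff_le_comap]
      refine (Subgroup.closure_le _).2 fun d hd => Subgroup.subset_closure ?_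
      obtain ⟨hd, k, rfl⟩ := hd
      exact ⟨T.mul_mem (T.mul_mem ht hd) (T.inv_mem ht), t * k, by
        show t * (k * g * k⁻¹) * t⁻¹ = _; group⟩
    · haveI : W0.Normal := Subgroup.normalizer_eq_top_iff.1 htop
      exact le_pCore (hT.isPGroup.to_le hW0T) (Subgroup.subset_closure ⟨hgT, 1, by group⟩)
  have hfix : ∀ k : Y, (∀ d ∈ D, k⁻¹ * d * k ∈ M) → k ∈ M := by
    intro k hk
    have h1 : cj W0 k⁻¹ ≤ M := by
      rw [cj, Subgroup.map_le_iff_le_comap]
      refine (Subgroup.closure_le _).2 fun d hd => ?_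
      show k⁻¹ * d * k⁻¹⁻¹ ∈ M
      rw [inv_inv]; exact hk d hd
    obtain ⟨m, hm, hmT⟩ := (hT.mono hTM le_top).conj_le
      (isPGroup_cj (hT.isPGroup.to_le hW0T) _) h1
    rw [cj_cj] at hmT
    have h2 : cj W0 (m * k⁻¹) ≤ W0 := by
      rw [cj, Subgroup.map_le_iff_le_comap]
      refine (Subgroup.closure_le _).2 fun d hd => Subgroup.subset_closure
        ⟨hmT (conj_mem_cj (Subgroup.subset_closure hd)), ?_⟩
      obtain ⟨-, l, rfl⟩ := hd
      exact ⟨m * k⁻¹ * l, by show m * k⁻¹ * (l * g * l⁻¹) * (m * k⁻¹)⁻¹ = _; group⟩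
    have := M.mul_mem (M.inv_mem hm) (hNW (mem_normalizer_of_cj_le h2))
    rw [inv_mul_cancel_left] at this
    exact inv_mem_iff.1 this
  haveI : (N₁.subgroupOf E).Normal := ⟨fun n hn e => by
    have h := congrArg Subtype.val (mul_comm e n)
    simp only [Subgroup.coe_mul] at h
    rw [Subgroup.mem_subgroupOf, Subgroup.coe_mul, Subgroup.coe_mul, Subgroup.coe_inv, h,
      mul_inv_cancel_right]
    exact hn⟩
  let B := Additive (E ⧸ N₁.subgroupOf E)
  let f : Additive E →+ B := MonoidHom.toAdditive (QuotientGroup.mk' (N₁.subgroupOf E))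
  have hf : ∀ a b : Additive E, f a = f b ↔ (a.toMul : Y)⁻¹ * (b.toMul : Y) ∈ N₁ := fun a b => by
    show Additive.ofMul (QuotientGroup.mk' _ a.toMul) = Additive.ofMul (QuotientGroup.mk' _ b.toMul) ↔ _
    rw [Additive.ofMul.apply_eq_iff_eq]
    exact QuotientGroup.eq.trans Subgroup.mem_subgroupOf
  have hcomm : ∀ k : Y, ∀ e ∈ E, ⁅k, e⁆ ∈ N₁ ↔ e⁻¹ * (k * e * k⁻¹) ∈ N₁ := by
    intro k e he
    have h1 : k * e * k⁻¹ ∈ E := hEn.conj_mem e he k
    rw [Subgroup.mem_centralizer_iff.1 (hab h1) e⁻¹ (E.inv_mem he), commutatorElement_def]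
  intro k e he
  refine (hcomm k e he).2 ?_
  have hmain := hom_invariant_of_small_degree (p := p) (fun a => ?_) M D
    (hT.isPGroup.to_le hW0T) (fun d hd => hTM hd.1) hfix ?_ f (fun m hm a => ?_) k
    (Additive.ofMul (⟨e, he⟩ : E))
  · have := (hf _ _).1 hmain.symm
    rwa [hsmul] at this
  · obtain ⟨j, hj⟩ := hE a.toMul
    exact ⟨j, Additive.toMul.injective hj⟩
  swap
  · refine ((hf _ _).2 ?_).symm
    rw [hsmul]
    refine (hcomm m _ a.toMul.2).1 (hM ?_)
    rw [Subgroup.commutator_comm]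
    exact Subgroup.commutator_mem_commutator hm a.toMul.2
  intro U V hVU hU hV hmin d hd y hy
  obtain ⟨-, l, rfl⟩ := hd
  set U' : Subgroup Y := (AddSubgroup.toSubgroup' U).map E.subtype
  set V' : Subgroup Y := (AddSubgroup.toSubgroup' V).map E.subtype
  have hmem : ∀ (W : AddSubgroup (Additive E)) (a : Additive E),
      ((a.toMul : E) : Y) ∈ (AddSubgroup.toSubgroup' W).map E.subtype ↔ a ∈ W := fun W a =>
    ⟨fun ⟨b, hb, he⟩ => by
      obtain rfl : b = a.toMul := Subtype.ext he
      exact hb, fun h => ⟨a.toMul, h, rfl⟩⟩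
  have hnorm : ∀ W : AddSubgroup (Additive E), InvSub Y W →
      ((AddSubgroup.toSubgroup' W).map E.subtype).Normal := fun W hW => ⟨by
    rintro _ ⟨b, hb, rfl⟩ k
    exact ⟨(k • Additive.ofMul b).toMul, hW k _ hb, hsmul _ _⟩⟩
  have hc : IsChiefFactor U' V' := by
    refine ⟨lt_of_le_of_ne (Subgroup.map_mono (AddSubgroup.toSubgroup'.monotone hVU.le))
      fun h => hVU.ne ?_, hnorm U hU, hnorm V hV, fun N hN hVN hNU => ?_⟩
    · ext a
      rw [← hmem V a, ← hmem U a]
      show _ ∈ V' ↔ _ ∈ U'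
      rw [h]
    · have hNE : N ≤ E := hNU.trans (Subgroup.map_subtype_le _)
      have e : (AddSubgroup.toSubgroup' (Subgroup.toAddSubgroup (N.subgroupOf E))).map E.subtype
          = N := by
        rw [show AddSubgroup.toSubgroup' (Subgroup.toAddSubgroup (N.subgroupOf E)) = N.subgroupOf E
          from rfl, Subgroup.map_subgroupOf_eq_of_le hNE]
      refine (hmin (Subgroup.toAddSubgroup (N.subgroupOf E)) (fun k a ha => ?_) (fun a ha => ?_)
        (fun a ha => ?_)).imp (fun h => by rw [← e, h]) fun h => by rw [← e, h]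
      · show ((k • a).toMul : Y) ∈ N
        rw [hsmul]
        exact hN.conj_mem _ ha k
      · exact hVN ((hmem V a).2 ha)
      · exact (hmem U a).1 (hNU ha)
  have hstep : ∀ (z : Additive E) (n : ℕ), z ∈ U →
      ((((fun z => g • z - z)^[n] z).toMul : E) : Y) ∈ iterCommutator U' (Subgroup.zpowers g) n := by
    intro z n hz
    induction n with
    | zero => exact (hmem U z).2 hz
    | succ n ih =>
      rw [Function.iterate_succ_apply']
      set b := (fun z => g • z - z)^[n] z
      have h1 : (((g • b - b).toMul : E) : Y) = ⁅g, ((b.toMul : E) : Y)⁆ := by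
        rw [toMul_sub, Subgroup.coe_div, hsmul, commutatorElement_def, div_eq_mul_inv]
      show (((g • b - b).toMul : E) : Y) ∈
        ⁅iterCommutator U' (Subgroup.zpowers g) n, Subgroup.zpowers g⁆
      rw [h1, Subgroup.commutator_comm]
      exact Subgroup.commutator_mem_commutator (Subgroup.mem_zpowers g) ih
  have hconj : ∀ n : ℕ, (fun z => (l * g * l⁻¹) • z - z)^[n] y =
      l • (fun z => g • z - z)^[n] (l⁻¹ • y) := by
    intro n
    induction n with
    | zero => simp
    | succ n ih =>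
      rw [Function.iterate_succ_apply', Function.iterate_succ_apply', ih, smul_sub, smul_smul,
        smul_smul, inv_mul_cancel_right]
  rw [hconj]
  refine hV l _ ((hmem V _).1 (hdeg U' V' hc (Subgroup.map_subtype_le _) (hstep _ _ (hU _ y hy))))

end Cfsg.Agent.Fusion
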