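import Mathlib
import Cfsg.Agent.Lib.Fusion.Reduction
import Cfsg.Agent.Lib.Fusion.LocalGlobal
import Cfsg.Agent.Lib.Fusion.DegreeCommutator
import Cfsg.Agent.Lib.Fusion.SubgroupMap

/-!
# A group minimal with respect to failing control of transfer
-/

set_option autoImplicit false

open scoped commutatorElement

universe u

namespace Cfsg.Agent.Fusion

variable {G : Type u} [Group G] [Finite G] {p : ℕ} [hp : Fact p.Prime] {S : Subgroup G}

/-- The subgroup of `S` accounted for by the normalizers of a family. -/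
def famTransPart (𝓥 : Set (Subgroup G → Subgroup G)) (S : Subgroup G) : Subgroup G :=
  ⨆ W ∈ 𝓥, S ⊓ ⁅(⊤ : Subgroup G) ⊓ Subgroup.normalizer (W S : Set G),
    (⊤ : Subgroup G) ⊓ Subgroup.normalizer (W S : Set G)⁆

theorem famTransPart_le (𝓥 : Set (Subgroup G → Subgroup G)) (S : Subgroup G) :
    famTransPart 𝓥 S ≤ S := iSup₂_le fun _ _ => inf_le_left

theorem famTransPart_le_commutator (𝓥 : Set (Subgroup G → Subgroup G)) (S : Subgroup G) :
    famTransPart 𝓥 S ≤ S ⊓ ⁅(⊤ : Subgroup G), ⊤⁆ :=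
  iSup₂_le fun _ _ => inf_le_inf_left _ (Subgroup.commutator_mono le_top le_top)

theorem famTransAt_iff_le (𝓥 : Set (Subgroup G → Subgroup G)) (S : Subgroup G) :
    FamTransAt 𝓥 ⊤ S ↔ S ⊓ ⁅(⊤ : Subgroup G), ⊤⁆ ≤ famTransPart 𝓥 S :=
  ⟨fun h => le_of_eq h, fun h => le_antisymm h (famTransPart_le_commutator 𝓥 S)⟩

theorem le_famTransPart {𝓥 : Set (Subgroup G → Subgroup G)} (S : Subgroup G)
    {W : Subgroup G → Subgroup G} (hW : W ∈ 𝓥) :
    S ⊓ ⁅(⊤ : Subgroup G) ⊓ Subgroup.normalizer (W S : Set G),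
      (⊤ : Subgroup G) ⊓ Subgroup.normalizer (W S : Set G)⁆ ≤ famTransPart 𝓥 S := by
  unfold famTransPart
  exact le_biSup (fun W : Subgroup G → Subgroup G => S ⊓ ⁅(⊤ : Subgroup G) ⊓
    Subgroup.normalizer (W S : Set G), (⊤ : Subgroup G) ⊓ Subgroup.normalizer (W S : Set G)⁆) hW

theorem commutator_le_famTransPart {𝓥 : Set (Subgroup G → Subgroup G)} (hne : 𝓥.Nonempty)
    (h𝓥 : ∀ W ∈ 𝓥, IsConjugacyFunctor p W) (hS : IsPGroup p S) :
    ⁅S, S⁆ ≤ famTransPart 𝓥 S := by
  obtain ⟨W, hW⟩ := hne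
  refine le_trans (le_inf (Subgroup.le_normalizer_iff_commutator_le_left.1 Subgroup.le_normalizer)
    ?_) (le_famTransPart S hW)
  exact Subgroup.commutator_mono (le_inf le_top (sylow_le_normalizer_functor (h𝓥 W hW) hS))
    (le_inf le_top (sylow_le_normalizer_functor (h𝓥 W hW) hS))

/-- Transfer: if `G` centralizes `Q` modulo `M₀`, then `Q` meets the derived group inside `M₀`. -/
theorem core_inf_commutator_le {Q M₀ : Subgroup G} (hS : SylIn p S ⊤) (hQS : Q ≤ S) (hM₀ : M₀ ≤ S)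
    (hS' : ⁅S, S⁆ ≤ M₀) (hcen : ∀ k : G, ∀ q ∈ Q, ⁅k, q⁆ ∈ M₀) :
    ∀ q ∈ Q, q ∈ commutator G → q ∈ M₀ := by
  intro q hq hqG
  haveI : (M₀.subgroupOf S).Normal := (Subgroup.normal_subgroupOf_iff_le_normalizer hM₀).2
    (Subgroup.le_normalizer_iff_commutator_le_left.2 ((Subgroup.commutator_mono hM₀ le_rfl).trans hS'))
  letI : CommGroup (S ⧸ M₀.subgroupOf S) :=
    { (inferInstance : Group (S ⧸ M₀.subgroupOf S)) with
      mul_comm := fun a b => by
        obtain ⟨a, rfl⟩ := QuotientGroup.mk'_surjective _ a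
        obtain ⟨b, rfl⟩ := QuotientGroup.mk'_surjective _ b
        refine commutatorElement_eq_one_iff_mul_comm.1 ?_
        rw [← map_commutatorElement]
        exact (QuotientGroup.eq_one_iff _).2
          (Subgroup.mem_subgroupOf.2 (hS' (Subgroup.commutator_mem_commutator a.2 b.2))) }
  let φ : S →* S ⧸ M₀.subgroupOf S := QuotientGroup.mk' _
  haveI : Fintype (Quotient (MulAction.orbitRel (Subgroup.zpowers q) (G ⧸ S))) :=
    Fintype.ofFinite _
  have hV : MonoidHom.transfer φ q = φ ⟨q, hQS hq⟩ ^ S.index := by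
    rw [MonoidHom.transfer_eq_prod_quotient_orbitRel_zpowers_quot,
      Subgroup.index_eq_sum_minimalPeriod S q, ← Finset.prod_pow_eq_pow_sum]
    refine Finset.prod_congr rfl fun o _ => ?_
    set g₀ := o.out.out
    set k := Function.minimalPeriod (q • ·) o.out
    have h1 : ⁅g₀⁻¹, q ^ k⁆ ∈ M₀ := hcen _ _ (pow_mem hq k)
    rw [← map_pow]
    refine QuotientGroup.eq.2 (Subgroup.mem_subgroupOf.2 ?_)
    show (g₀⁻¹ * q ^ k * g₀)⁻¹ * q ^ k ∈ M₀
    have hqS : q ^ k ∈ S := pow_mem (hQS hq) k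
    have hn := Subgroup.le_normalizer_iff_commutator_le_left.2
      ((Subgroup.commutator_mono hM₀ le_rfl).trans hS') (inv_mem hqS)
    have := (Subgroup.mem_normalizer_iff.1 hn _).1 (inv_mem h1)
    simpa [commutatorElement_def, mul_assoc] using this
  rw [MonoidHom.mem_ker.1 (Abelianization.commutator_subset_ker (MonoidHom.transfer φ) hqG)] at hV
  have h4 : φ ⟨q, hQS hq⟩ = 1 := by
    rw [← orderOf_eq_one_iff]
    obtain ⟨j, hj⟩ := IsPGroup.iff_orderOf.1 hS.isPGroup ⟨q, hQS hq⟩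
    refine Nat.eq_one_of_dvd_coprimes (a := S.index) (b := p ^ j) ?_
      (orderOf_dvd_of_pow_eq_one hV.symm) (hj ▸ orderOf_map_dvd φ _)
    refine Nat.Coprime.pow_right j ?_
    have := hS.not_dvd
    rwa [Subgroup.relIndex_top_right, ← hp.out.coprime_iff_not_dvd, Nat.coprime_comm] at this
  exact Subgroup.mem_subgroupOf.1 ((QuotientGroup.eq_one_iff _).1 h4)

variable {𝓦 : Set (∀ (Q : Type u) [Group Q], Subgroup Q)}

/-- Proper overgroups of `S` contribute nothing new. -/
theorem proper_le_famTransPart (h𝓦 : ∀ W ∈ 𝓦, IsCharPFunctor.{u} p W) (hS : SylIn p S ⊤)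
    (hsub : ∀ H : Subgroup G, H ≠ ⊤ →
      FamilyControlsTransferIn p ((fun W => inducedFunctor (G := H) W) '' 𝓦) ⊤)
    {H : Subgroup G} (hSH : S ≤ H) (hH : H ≠ ⊤) :
    S ⊓ ⁅H, H⁆ ≤ famTransPart ((fun W => inducedFunctor (G := G) W) '' 𝓦) S := by
  obtain ⟨T, hT, hf⟩ := (familyTransfer_iff _).1 (familyTransfer_subgroup h𝓦 H (hsub H hH))
  rw [hf.sylow (isConjugacyFunctor_image h𝓦) hT (hS.mono hSH le_top)]
  exact iSup₂_mono fun W' _ => inf_le_inf_left _ (Subgroup.commutator_mono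
    (inf_le_inf_right _ le_top) (inf_le_inf_right _ le_top))

/-- If the core meets the derived group inside the accounted part, transfer is controlled. -/
theorem famTrans_of_core (h𝓦 : ∀ W ∈ 𝓦, IsCharPFunctor.{u} p W) (hS : SylIn p S ⊤)
    (hsub : ∀ H : Subgroup G, H ≠ ⊤ →
      FamilyControlsTransferIn p ((fun W => inducedFunctor (G := H) W) '' 𝓦) ⊤)
    (hquot : FamilyControlsTransferIn p
      ((fun W => inducedFunctor (G := G ⧸ pCore p G) W) '' 𝓦) ⊤)
    (hSQ : S ≠ pCore p G)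
    (hQM : ∀ q ∈ pCore p G, q ∈ commutator G →
      q ∈ famTransPart ((fun W => inducedFunctor (G := G) W) '' 𝓦) S) :
    FamTransAt ((fun W => inducedFunctor (G := G) W) '' 𝓦) ⊤ S := by
  set M₀ := famTransPart ((fun W => inducedFunctor (G := G) W) '' 𝓦) S
  rw [famTransAt_iff_le]
  set Q := pCore p G
  have hQS : Q ≤ S := pCore_le_sylIn hS
  set π := QuotientGroup.mk' Q
  have hπ : Function.Surjective π := QuotientGroup.mk'_surjective Q
  have hcomapS : (S.map π).comap π = S := by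
    rw [QuotientGroup.comap_map_mk', sup_eq_right.2 hQS]
  obtain ⟨T', hT', hf'⟩ := (familyTransfer_iff _).1 hquot
  have hfq := hf'.sylow (isConjugacyFunctor_image h𝓦) hT' (sylIn_map_mk (N := Q) hS)
  have hMS : M₀ ≤ S ⊓ ⁅(⊤ : Subgroup G), ⊤⁆ := famTransPart_le_commutator _ _
  rintro s ⟨hsS, hs⟩
  have h1 : π s ∈ S.map π ⊓ ⁅(⊤ : Subgroup (G ⧸ Q)), ⊤⁆ := by
    refine ⟨⟨s, hsS, rfl⟩, ?_⟩
    rw [← Subgroup.map_top_of_surjective π hπ, ← Subgroup.map_commutator]
    exact ⟨s, hs, rfl⟩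
  rw [hfq] at h1
  have hle : (⨆ W' ∈ (fun W => inducedFunctor (G := G ⧸ Q) W) '' 𝓦, S.map π ⊓
      ⁅(⊤ : Subgroup (G ⧸ Q)) ⊓ Subgroup.normalizer (W' (S.map π) : Set (G ⧸ Q)),
        (⊤ : Subgroup (G ⧸ Q)) ⊓ Subgroup.normalizer (W' (S.map π) : Set (G ⧸ Q))⁆) ≤ M₀.map π := by
    refine iSup₂_le ?_
    rintro _ ⟨W, hW, rfl⟩
    simp only [top_inf_eq]
    have hW2 := isConjugacyFunctor_induced (G := G ⧸ Q) (h𝓦 W hW)
    set V₀ := inducedFunctor W (S.map π)
    set L := (Subgroup.normalizer (V₀ : Set (G ⧸ Q))).comap π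
    have hL' : L.map π = Subgroup.normalizer (V₀ : Set (G ⧸ Q)) :=
      Subgroup.map_comap_eq_self_of_surjective hπ _
    have hSL : S ≤ L := fun x hx =>
      sylow_le_normalizer_functor hW2 (hS.isPGroup.map π) ⟨x, hx, rfl⟩
    have hLne : L ≠ ⊤ := by
      intro htop
      have hn : Subgroup.normalizer (V₀ : Set (G ⧸ Q)) = ⊤ := by
        rw [← hL', htop, Subgroup.map_top_of_surjective π hπ]
      haveI : V₀.Normal := Subgroup.normalizer_eq_top_iff.1 hn
      have h2 := le_pCore (p := p) ((hS.isPGroup.map π).to_le (inducedFunctor_le W (S.map π)) :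
        IsPGroup p V₀)
      rw [pCore_quotient_eq_bot, le_bot_iff] at h2
      have h3 : S.map π = ⊥ := by
        by_contra hne
        exact (hW2 _ (hS.isPGroup.map π)).2.1 hne h2
      refine hSQ (le_antisymm ?_ hQS)
      rwa [← QuotientGroup.ker_mk' Q, ← Subgroup.map_eq_bot_iff]
    rw [← hL', ← Subgroup.map_commutator]
    rintro _ ⟨hy, l, hl, rfl⟩
    have hlS : l ∈ S := by
      have : l ∈ (S.map π).comap π := hy
      rwa [hcomapS] at this
    exact ⟨l, proper_le_famTransPart h𝓦 hS hsub hSL hLne ⟨hlS, hl⟩, rfl⟩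
  obtain ⟨m, hm, hme⟩ := hle h1
  have hqm : m⁻¹ * s ∈ Q := (QuotientGroup.eq).1 hme
  have hqG : m⁻¹ * s ∈ commutator G := by
    rw [commutator_def]
    exact mul_mem (inv_mem (hMS hm).2) hs
  have := mul_mem hm (hQM _ hqm hqG)
  rwa [mul_inv_cancel_left] at this

/-- The structure of a group all whose proper subgroups and quotients have controlled transfer,
but which has not. -/
theorem transfer_minimal (h𝓦 : ∀ W ∈ 𝓦, IsCharPFunctor.{u} p W) (hne : 𝓦.Nonempty)
    (hS : SylIn p S ⊤)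
    (hsub : ∀ H : Subgroup G, H ≠ ⊤ →
      FamilyControlsTransferIn p ((fun W => inducedFunctor (G := H) W) '' 𝓦) ⊤)
    (hquot : ∀ (N : Subgroup G) [N.Normal], N ≠ ⊥ →
      FamilyControlsTransferIn p ((fun W => inducedFunctor (G := G ⧸ N) W) '' 𝓦) ⊤)
    (hG : ¬ FamilyControlsTransferIn p ((fun W => inducedFunctor (G := G) W) '' 𝓦) ⊤)
    {T M : Subgroup G}
    (hT : T = famTransPart ((fun W => inducedFunctor (G := G) W) '' 𝓦) S)
    (hM : M = Subgroup.normalizer ((T ⊓ pCore p G : Subgroup G) : Set G)) :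
    Subgroup.centralizer (pCore p G : Set G) ≤ pCore p G ∧
    (M ≠ ⊤ ∧ ∀ H : Subgroup G, S ≤ H → H ≠ ⊤ → H ≤ M) ∧
    (⁅pCore p G, M⁆ ≤ pCore p G ⊓ ⁅M, M⁆ ∧ pCore p G ⊓ ⁅M, M⁆ ≤ pCore p G ⊓ T) ∧
    ∀ u : G, u ∈ S → u ∉ pCore p G → ∃ U V : Subgroup G, IsChiefFactor U V ∧ U ≤ pCore p G ∧
      ¬ iterCommutator U (Subgroup.zpowers u) (p - 1) ≤ V := by
  have h𝓥 := isConjugacyFunctor_image (G := G) h𝓦
  have hne' : ((fun W => inducedFunctor (G := G) W) '' 𝓦).Nonempty := hne.image _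
  have hfail : ¬ FamTransAt ((fun W => inducedFunctor (G := G) W) '' 𝓦) ⊤ S := fun h =>
    hG ((familyTransfer_iff _).2 ⟨S, hS, h⟩)
  have hC : Subgroup.centralizer (pCore p G : Set G) ≤ pCore p G := by
    by_contra hc
    exact hG (familyTransfer_step h𝓦 hsub hquot fun h => absurd h hc)
  set Q := pCore p G
  haveI hQn : Q.Normal := inferInstance
  have hQS : Q ≤ S := pCore_le_sylIn hS
  have hTS : T ≤ S := hT ▸ famTransPart_le _ _
  have hS' : ⁅S, S⁆ ≤ T := hT ▸ commutator_le_famTransPart hne' h𝓥 hS.isPGroup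
  have hproper : ∀ H : Subgroup G, S ≤ H → H ≠ ⊤ → S ⊓ ⁅H, H⁆ ≤ T := fun H hSH hH =>
    hT ▸ proper_le_famTransPart h𝓦 hS hsub hSH hH
  have hSQ : S ≠ Q := by
    intro h
    haveI : S.Normal := h ▸ hQn
    obtain ⟨W, hW⟩ := hne
    have hN : Subgroup.normalizer (inducedFunctor W S : Set G) = ⊤ :=
      top_le_iff.1 ((Subgroup.normalizer_eq_top (H := S)).ge.trans
        (conjFunctor_normalizer_le (h𝓥 _ ⟨W, hW, rfl⟩) hS.isPGroup))
    refine hfail ((famTransAt_iff_le _ _).2 ?_)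
    have h2 := le_famTransPart (𝓥 := (fun W => inducedFunctor (G := G) W) '' 𝓦) S
      (W := inducedFunctor (G := G) W) ⟨W, hW, rfl⟩
    rw [hN, top_inf_eq] at h2
    exact h2
  have hQne : Q ≠ ⊥ := fun h => hSQ (by
    have h1 : (⊤ : Subgroup G) ≤ Q := le_trans (fun x _ => ?_) hC
    · rw [h, le_bot_iff] at h1
      rw [h]
      exact le_bot_iff.1 (le_top.trans h1.le)
    · rw [h, mem_centralizer_set]
      intro s hs
      simp [Subgroup.mem_bot.1 hs])
  set N₁ := T ⊓ Q
  have hN₁Q : N₁ ≤ Q := inf_le_right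
  have hQQ : ⁅Q, Q⁆ ≤ N₁ :=
    le_inf ((Subgroup.commutator_mono hQS hQS).trans hS') (Subgroup.commutator_le_left Q Q)
  have hcommH : ∀ H : Subgroup G, S ≤ H → H ≠ ⊤ → ⁅Q, H⁆ ≤ N₁ := fun H hSH hH =>
    le_inf (le_trans (le_inf ((Subgroup.commutator_le_left Q H).trans hQS)
        (Subgroup.commutator_mono (hQS.trans hSH) le_rfl)) (hproper H hSH hH))
      (Subgroup.commutator_le_left Q H)
  have hHM : ∀ H : Subgroup G, S ≤ H → H ≠ ⊤ → H ≤ M := by
    intro H hSH hH
    rw [hM, Subgroup.le_normalizer_iff_commutator_le_left]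
    exact (Subgroup.commutator_mono hN₁Q le_rfl).trans (hcommH H hSH hH)
  have hMne : M ≠ ⊤ := by
    intro htop
    haveI : N₁.Normal := Subgroup.normalizer_eq_top_iff.1 (hM ▸ htop)
    set π := QuotientGroup.mk' N₁
    set C := (Subgroup.centralizer (Q.map π : Set (G ⧸ N₁))).comap π
    haveI : (Q.map π).Normal := Subgroup.Normal.map hQn π (QuotientGroup.mk'_surjective N₁)
    haveI : (Subgroup.centralizer (Q.map π : Set (G ⧸ N₁))).Normal :=
      Subgroup.normal_centralizer (H := Q.map π)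
    haveI : C.Normal := Subgroup.Normal.comap inferInstance π
    have hCmem : ∀ H : Subgroup G, ⁅Q, H⁆ ≤ N₁ → H ≤ C := fun H hH x hx => by
      refine Subgroup.mem_centralizer_iff.2 ?_
      rintro _ ⟨q, hq, rfl⟩
      exact commutatorElement_eq_one_iff_mul_comm.1 (by
        rw [← map_commutatorElement]
        exact (QuotientGroup.eq_one_iff _).2 (hH (Subgroup.commutator_mem_commutator hq hx)))
    have hSC : S ≤ C := hCmem S (le_inf
      ((Subgroup.commutator_mono hQS le_rfl).trans hS') (Subgroup.commutator_le_left Q S))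
    have hCtop : C = ⊤ := by
      refine top_le_iff.1 fun x _ => ?_
      have hNS : Subgroup.normalizer (S : Set G) ≠ ⊤ := fun h => hSQ (by
        haveI : S.Normal := Subgroup.normalizer_eq_top_iff.1 h
        exact le_antisymm (le_pCore hS.isPGroup) hQS)
      obtain ⟨c, hc, hcx⟩ := frattini_conj (hS.mono hSC le_top) (H := ⊤)
        (by rw [Subgroup.normalizer_eq_top]) (Subgroup.mem_top x)
      have := mul_mem (inv_mem hc) (hCmem _ (hcommH _ Subgroup.le_normalizer hNS) hcx)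
      rwa [inv_mul_cancel_left] at this
    refine hfail (famTrans_of_core h𝓦 hS hsub (hquot Q hQne) hSQ fun q hq hqG => hT ▸ ?_)
    refine core_inf_commutator_le hS hQS hTS hS' (fun k q hq => ?_) q hq hqG
    have h1 : π k ∈ Subgroup.centralizer (Q.map π : Set (G ⧸ N₁)) := hCtop.ge (Subgroup.mem_top k)
    refine inf_le_left (b := Q) ((QuotientGroup.eq_one_iff _).1 ?_)
    show π ⁅k, q⁆ = 1
    rw [map_commutatorElement]
    exact commutatorElement_eq_one_iff_mul_comm.2
      (Subgroup.mem_centralizer_iff.1 h1 (π q) ⟨q, hq, rfl⟩).symm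
  have hSM : S ≤ M := by
    rw [hM, Subgroup.le_normalizer_iff_commutator_le_left]
    exact le_inf ((Subgroup.commutator_mono (inf_le_left.trans hTS) le_rfl).trans hS')
      ((Subgroup.commutator_mono hN₁Q le_rfl).trans (Subgroup.commutator_le_left Q S))
  refine ⟨hC, ⟨hMne, hHM⟩, ⟨le_inf (Subgroup.commutator_le_left Q M)
      (Subgroup.commutator_mono (hQS.trans hSM) le_rfl),
    le_inf inf_le_left ((inf_le_inf_right _ hQS).trans (hproper M hSM hMne))⟩, fun u huS huQ => ?_⟩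
  by_contra hcon
  push Not at hcon
  set D₀ : Subgroup G := ⁅Q, Q⁆
  haveI : D₀.Normal := Subgroup.commutator_normal Q Q
  set π := QuotientGroup.mk' D₀
  have hπ : Function.Surjective π := QuotientGroup.mk'_surjective D₀
  have hker : π.ker = D₀ := QuotientGroup.ker_mk' D₀
  haveI : (Q.map π).Normal := hQn.map π hπ
  have hback : ∀ X : Subgroup G, D₀ ≤ X → (X.map π).comap π = X := fun X hX => by
    rw [QuotientGroup.comap_map_mk', sup_eq_right.2 hX]
  have hD₀Q : D₀ ≤ Q := Subgroup.commutator_le_left Q Q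
  have hkey : ∀ k : G ⧸ D₀, ∀ e ∈ Q.map π, ⁅k, e⁆ ∈ N₁.map π := by
    refine commutator_le_of_small_degree (T := S.map π) (M := M.map π)
      ((isPGroup_pCore p G).map π) ?_ (Subgroup.map_mono hN₁Q) (sylIn_map_mk hS)
      (Subgroup.map_mono hSM) ?_ (fun L hSL hL => ?_) (g := π u) ⟨u, huS, rfl⟩ (fun hu => huQ ?_)
      (fun U V hc hUE => ?_)
    · rw [← Subgroup.commutator_eq_bot_iff_le_centralizer, ← Subgroup.map_commutator]
      exact (Subgroup.map_eq_bot_iff _).2 hker.ge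
    · rw [← Subgroup.map_commutator]
      refine Subgroup.map_mono (le_trans (le_inf ((Subgroup.commutator_le_left Q M).trans hQS)
        (Subgroup.commutator_mono (hQS.trans hSM) le_rfl)) ?_ |> fun h =>
          le_inf h (Subgroup.commutator_le_left Q M))
      exact hproper M hSM hMne
    · have h1 := hHM (L.comap π) (Subgroup.map_le_iff_le_comap.1 hSL) fun h => hL
        (Subgroup.comap_injective hπ (h.trans (Subgroup.comap_top π).symm))
      rw [← Subgroup.map_comap_eq_self_of_surjective hπ L]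
      exact Subgroup.map_mono h1
    · haveI : ((pCore p (G ⧸ D₀)).comap π).Normal := Subgroup.Normal.comap inferInstance π
      exact le_pCore ((isPGroup_pCore p (G ⧸ D₀)).comap_of_ker_isPGroup π
        (hker.symm ▸ (isPGroup_pCore p G).to_le hD₀Q)) hu
    · have hc' : IsChiefFactor (U.comap π) (V.comap π) := by
        obtain ⟨hlt, hUn, hVn, hmin⟩ := hc
        refine ⟨lt_of_le_of_ne (Subgroup.comap_mono hlt.le)
          fun h => hlt.ne (Subgroup.comap_injective hπ h), hUn.comap π, hVn.comap π,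
          fun N hN hVN hNU => ?_⟩
        have hDN : D₀ ≤ N := hker.ge.trans ((Subgroup.ker_le_comap π V).trans hVN)
        refine (hmin (N.map π) (hN.map π hπ) ?_ ?_).imp (fun h => ?_) fun h => ?_
        · rw [← Subgroup.map_comap_eq_self_of_surjective hπ V]
          exact Subgroup.map_mono hVN
        · exact Subgroup.map_le_iff_le_comap.2 hNU
        · rw [← h, hback N hDN]
        · rw [← h, hback N hDN]
      have hUQ : U.comap π ≤ Q := (Subgroup.comap_mono hUE).trans (hback Q hD₀Q).le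
      have h1 := Subgroup.map_mono (f := π) (hcon _ _ hc' hUQ)
      rwa [iterCommutator_map, MonoidHom.map_zpowers, Subgroup.map_comap_eq_self_of_surjective hπ,
        Subgroup.map_comap_eq_self_of_surjective hπ] at h1
  refine hMne ?_
  rw [hM]
  refine top_le_iff.1 fun k _ => mem_normalizer_of_cj_le ?_
  rintro _ ⟨x, hx, rfl⟩
  show k * x * k⁻¹ ∈ N₁
  have h1 : π ⁅k, x⁆ ∈ N₁.map π := by
    rw [map_commutatorElement]; exact hkey (π k) (π x) ⟨x, hN₁Q hx, rfl⟩
  have h2 : ⁅k, x⁆ ∈ (N₁.map π).comap π := h1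
  rw [hback N₁ hQQ] at h2
  have := mul_mem h2 hx
  simpa [commutatorElement_def, mul_assoc] using this

end Cfsg.Agent.Fusion
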