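import Mathlib
import Cfsg.Agent.Lib.Fusion.TransferMinimal

/-!
# Induction for control of transfer in sections
-/

set_option autoImplicit false

universe u

namespace Cfsg.Agent.Fusion

variable {G : Type u} [Group G] [Finite G] {p : ℕ} [hp : Fact p.Prime]
  {𝓦 : Set (∀ (Q : Type u) [Group Q], Subgroup Q)}

/-- Control of transfer in all sections, from constrained sections whose proper subgroups and
quotients have it. -/
theorem familyTransfer_sections_ind (h𝓦 : ∀ W ∈ 𝓦, IsCharPFunctor.{u} p W)
    (hloc : ∀ (K R : Subgroup G) [hR : (R.subgroupOf K).Normal],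
      Subgroup.centralizer (pCore p (↥K ⧸ R.subgroupOf K) : Set (↥K ⧸ R.subgroupOf K)) ≤
        pCore p (↥K ⧸ R.subgroupOf K) →
      (∀ H : Subgroup (↥K ⧸ R.subgroupOf K), H ≠ ⊤ →
        FamilyControlsTransferIn p ((fun W => inducedFunctor (G := H) W) '' 𝓦) ⊤) →
      (∀ (N : Subgroup (↥K ⧸ R.subgroupOf K)) [N.Normal], N ≠ ⊥ →
        FamilyControlsTransferIn p
          ((fun W => inducedFunctor (G := (↥K ⧸ R.subgroupOf K) ⧸ N) W) '' 𝓦) ⊤) →
      FamilyControlsTransferIn p
        ((fun W => inducedFunctor (G := ↥K ⧸ R.subgroupOf K) W) '' 𝓦) ⊤)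
    (X : Type u) [Group X] [Finite X] (hX : Involves X G) :
    FamilyControlsTransferIn p ((fun W => inducedFunctor (G := X) W) '' 𝓦) ⊤ := by
  suffices H : ∀ (n : ℕ) (X : Type u) [Group X] [Finite X], Involves X G → Nat.card X = n →
      FamilyControlsTransferIn p ((fun W => inducedFunctor (G := X) W) '' 𝓦) ⊤ from
    H _ X hX rfl
  intro n
  induction n using Nat.strong_induction_on with
  | _ n IH =>
    intro X0 _ _ hX0 hn
    obtain ⟨K, R, hR, ⟨e⟩⟩ := hX0
    refine familyTransfer_of_equiv h𝓦 e ?_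
    rw [← Nat.card_congr e.toEquiv] at hn
    have hX : Involves (↥K ⧸ R.subgroupOf K) G := ⟨K, R, hR, ⟨MulEquiv.refl _⟩⟩
    clear e
    set X := ↥K ⧸ R.subgroupOf K
    have hsub : ∀ H : Subgroup X, H ≠ ⊤ →
        FamilyControlsTransferIn p ((fun W => inducedFunctor (G := H) W) '' 𝓦) ⊤ := fun H hH => by
      refine IH _ (hn ▸ ?_) H (involves_subgroup hX H) rfl
      exact lt_of_le_of_ne (Subgroup.card_le_card_group H)
        fun h => hH (Subgroup.eq_top_of_card_eq H h)
    have hquot : ∀ (N : Subgroup X) [N.Normal], N ≠ ⊥ →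
        FamilyControlsTransferIn p ((fun W => inducedFunctor (G := X ⧸ N) W) '' 𝓦) ⊤ :=
      fun N _ hN => by
      refine IH _ (hn ▸ ?_) (X ⧸ N)
        (involves_surjective hX (QuotientGroup.mk' N) (QuotientGroup.mk'_surjective N)) rfl
      rw [Subgroup.card_eq_card_quotient_mul_card_subgroup N]
      exact lt_mul_of_one_lt_right Nat.card_pos ((Subgroup.one_lt_card_iff_ne_bot N).2 hN)
    exact familyTransfer_step h𝓦 hsub hquot fun hc => hloc K R (hR := hR) hc hsub hquot

variable {X : Type u} [Group X] [Finite X] {W : ∀ (Q : Type u) [Group Q], Subgroup Q}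

omit hp in
theorem isCharPFunctor_singleton (hW : IsCharPFunctor.{u} p W) :
    ∀ W' ∈ ({W} : Set (∀ (Q : Type u) [Group Q], Subgroup Q)), IsCharPFunctor.{u} p W' := by
  rintro W' hW'; rw [Set.mem_singleton_iff.1 hW']; exact hW

/-- A functor with normal value controls transfer. -/
theorem familyTransfer_of_normal {T : Subgroup X} (hT : SylIn p T ⊤)
    (hn : (inducedFunctor W T).Normal) :
    FamilyControlsTransferIn p
      ((fun W => inducedFunctor (G := X) W) '' ({W} : Set (∀ (Q : Type u) [Group Q], Subgroup Q))) ⊤ := by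
  refine (familyTransfer_iff _).2 ⟨T, hT, (famTransAt_iff_le _ _).2 ?_⟩
  have h2 := le_famTransPart (𝓥 := (fun W => inducedFunctor (G := X) W) ''
    ({W} : Set (∀ (Q : Type u) [Group Q], Subgroup Q))) T (W := inducedFunctor (G := X) W) ⟨W, rfl, rfl⟩
  haveI := hn
  rw [Subgroup.normalizer_eq_top, top_inf_eq] at h2
  exact h2

theorem famTransPart_singleton (T : Subgroup X) :
    famTransPart ((fun W => inducedFunctor (G := X) W) ''
      ({W} : Set (∀ (Q : Type u) [Group Q], Subgroup Q))) T =
    T ⊓ ⁅Subgroup.normalizer (inducedFunctor W T : Set X),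
      Subgroup.normalizer (inducedFunctor W T : Set X)⁆ := by
  simp only [famTransPart, Set.image_singleton, iSup_singleton, top_inf_eq]

/-- Sections `K ⧸ R` get control of transfer for a single functor. -/
theorem controlsTransfer_section (hW : IsCharPFunctor.{u} p W)
    (h : ∀ (X : Type u) [Group X] [Finite X], Involves X G → FamilyControlsTransferIn p
      ((fun W => inducedFunctor (G := X) W) '' ({W} : Set (∀ (Q : Type u) [Group Q], Subgroup Q))) ⊤)
    (K R : Subgroup G) [hR : (R.subgroupOf K).Normal] :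
    ControlsTransferIn p (inducedFunctor (G := (↥K ⧸ R.subgroupOf K)) W) ⊤ := by
  have := isCharPFunctor_singleton hW
  have h1 := h (↥K ⧸ R.subgroupOf K) ⟨K, R, hR, ⟨MulEquiv.refl _⟩⟩
  rw [Set.image_singleton] at h1
  obtain ⟨T, hT, hf⟩ := (familyTransfer_iff _).1 h1
  exact ⟨T, hT.le, hT.isPGroup, hT.not_dvd, (famTransAt_singleton _ _ _).1 hf⟩

end Cfsg.Agent.Fusion
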