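import Mathlib
import Cfsg.Agent.Lib.Fusion.TransferInduction
import Cfsg.Agent.Lib.Fusion.NotStable

/-!
# The K-infinity functors control transfer for p at least five
-/

set_option autoImplicit false

universe u

namespace Cfsg.Agent.Fusion

variable {p : ℕ} [hp : Fact p.Prime]

theorem controlsTransfer_of_degree_four (hp5 : 5 ≤ p) {W : ∀ (Q : Type u) [Group Q], Subgroup Q}
    (hW : IsCharPFunctor.{u} p W)
    (hdeg : ∀ (X : Type u) [Group X] [Finite X] (T : Subgroup X), SylIn p T ⊤ →
      ¬ (inducedFunctor W T).Normal → ∃ g, g ∈ T ∧ g ∉ pCore p X ∧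
        ∀ U V : Subgroup X, IsChiefFactor U V → U ≤ pCore p X →
          iterCommutator U (Subgroup.zpowers g) 4 ≤ V)
    (X : Type u) [Group X] [Finite X] :
    ControlsTransferIn p (inducedFunctor (G := X) W) ⊤ := by
  have hfam := familyTransfer_sections_ind (isCharPFunctor_singleton hW) (G := X)
    (fun K R _ hc hsub hquot => by
      obtain ⟨T⟩ : Nonempty (Sylow p (↥K ⧸ R.subgroupOf K)) := inferInstance
      have hT := sylIn_top T
      by_contra hcon
      by_cases hn : (inducedFunctor (G := (↥K ⧸ R.subgroupOf K)) W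
          (T : Subgroup (↥K ⧸ R.subgroupOf K))).Normal
      · exact hcon (familyTransfer_of_normal hT hn)
      obtain ⟨g, hgT, hgQ, h4⟩ := hdeg _ _ hT hn
      obtain ⟨U, V, hUV, hU, hne⟩ := (transfer_minimal (isCharPFunctor_singleton hW)
        (Set.singleton_nonempty W) hT hsub hquot hcon rfl rfl).2.2.2 g hgT hgQ
      haveI := hUV.2.1
      exact hne ((iter_antitone (le_top.trans (Subgroup.normalizer_eq_top (H := U)).ge)
        (by omega)).trans (h4 U V hUV hU)))
    X involves_refl
  rw [Set.image_singleton] at hfam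
  exact (controlsTransfer_iff _ _).2 ((familyTransfer_iff _).1 hfam)

theorem kInfLower_transfer (hp5 : 5 ≤ p) (X : Type u) [Group X] [Finite X] :
    ControlsTransferIn p (inducedFunctor (G := X) kInfLower) ⊤ :=
  controlsTransfer_of_degree_four hp5 (isCharPFunctor_kInfLower p) (fun _ _ _ _ hT hn => by
    obtain ⟨g, h1, h2, h3, -⟩ := exists_kInf_element hT (Or.inl hn)
    exact ⟨g, h1, h2, h3⟩) X

theorem kInfUpper_transfer (hp5 : 5 ≤ p) (X : Type u) [Group X] [Finite X] :
    ControlsTransferIn p (inducedFunctor (G := X) kInfUpper) ⊤ :=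
  controlsTransfer_of_degree_four hp5 (isCharPFunctor_kInfUpper p) (fun _ _ _ _ hT hn => by
    obtain ⟨g, h1, h2, h3, -⟩ := exists_kInf_element hT (Or.inr hn)
    exact ⟨g, h1, h2, h3⟩) X

end Cfsg.Agent.Fusion
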