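import Mathlib
import Cfsg.Agent.Lib.Fusion.KInfTransfer
import Cfsg.Agent.Lib.Fusion.NPC
import Cfsg.Agent.Lib.Fusion.TransferSplit

/-!
# Normal subgroups of prime index from control of transfer
-/

set_option autoImplicit false

universe u

open scoped commutatorElement

namespace Cfsg.Agent.Fusion

variable {X : Type u} [Group X] [Finite X] {p : ℕ} [hp : Fact p.Prime]

omit [Finite X] in
theorem exists_index_p_above_pgroup_quotient {N : Subgroup X} [N.Normal] [Finite X]
    (hq : IsPGroup p (X ⧸ N)) (hN : N ≠ ⊤) (hcomm : commutator X ≤ N) :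
    ∃ M : Subgroup X, M.Normal ∧ M.index = p := by
  haveI : Nontrivial (X ⧸ N) := by
    rw [← Finite.one_lt_card_iff_nontrivial, ← Subgroup.index_eq_card]
    exact lt_of_le_of_ne (Nat.one_le_iff_ne_zero.2 Subgroup.index_ne_zero_of_finite)
      fun h => hN (Subgroup.index_eq_one.1 h.symm)
  obtain ⟨M, -, hM⟩ := exists_normal_index_p_above (p := p) hq (N := (⊥ : Subgroup (X ⧸ N)))
    bot_ne_top
  have hle : commutator X ≤ M.comap (QuotientGroup.mk' N) :=
    hcomm.trans ((QuotientGroup.ker_mk' N).ge.trans (Subgroup.ker_le_comap _ M))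
  refine ⟨M.comap (QuotientGroup.mk' N), Subgroup.normalizer_eq_top_iff.1 (top_le_iff.1 ?_), ?_⟩
  · rw [Subgroup.le_normalizer_iff_commutator_le_left]
    exact ((Subgroup.commutator_mono le_top le_top).trans (commutator_def X).ge).trans hle
  · rw [Subgroup.index_comap_of_surjective M (QuotientGroup.mk'_surjective N), hM]

theorem exists_index_p_of_not_le {S : Subgroup X} (hS : SylIn p S ⊤) (h : ¬ S ≤ commutator X) :
    ∃ M : Subgroup X, M.Normal ∧ M.index = p := by
  set N := commutator X ⊔ pResidual p X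
  refine exists_index_p_above_pgroup_quotient (N := N) ?_ (fun htop => h fun s hs => ?_) le_sup_left
  · refine (isPGroup_quotient_pResidual (p := p) (G := X)).of_surjective
      (QuotientGroup.map (pResidual p X) N (MonoidHom.id X) le_sup_right) ?_
    intro y
    obtain ⟨x, rfl⟩ := QuotientGroup.mk_surjective y
    exact ⟨QuotientGroup.mk x, rfl⟩
  let π := QuotientGroup.mk' (commutator X)
  let C : Subgroup X :=
    { carrier := {x | ∃ n : ℕ, n.Coprime p ∧ π x ^ n = 1}
      one_mem' := ⟨1, Nat.coprime_one_left p, by simp⟩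
      mul_mem' := fun {a b} ⟨n, hn, han⟩ ⟨m, hm, hbm⟩ => ⟨n * m, hn.mul_left hm, by
        have hc : Commute (π a) (π b) := commutatorElement_eq_one_iff_commute.1 (by
          rw [← map_commutatorElement]
          exact (QuotientGroup.eq_one_iff _).2 (by
            rw [commutator_def]
            exact Subgroup.commutator_mem_commutator (Subgroup.mem_top a) (Subgroup.mem_top b)))
        rw [map_mul, hc.mul_pow, pow_mul, han, one_pow, one_mul, mul_comm, pow_mul, hbm, one_pow]⟩
      inv_mem' := fun {a} ⟨n, hn, han⟩ => ⟨n, hn, by rw [map_inv, inv_pow, han, inv_one]⟩ }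
  have hNC : N ≤ C := sup_le (fun x hx => ⟨1, Nat.coprime_one_left p, by
      rw [pow_one]; exact (QuotientGroup.eq_one_iff x).2 hx⟩)
    ((Subgroup.closure_le C).2 fun x hx => ⟨orderOf x, hx, by
      rw [← map_pow, pow_orderOf_eq_one, map_one]⟩)
  obtain ⟨n, hn, hsn⟩ := hNC (htop.ge (Subgroup.mem_top s))
  obtain ⟨j, hj⟩ := IsPGroup.iff_orderOf.1 hS.isPGroup ⟨s, hs⟩
  rw [Subgroup.orderOf_mk] at hj
  refine (QuotientGroup.eq_one_iff s).1 ?_
  exact orderOf_eq_one_iff.1 (Nat.eq_one_of_dvd_coprimes (hn.pow_right j)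
    (orderOf_dvd_of_pow_eq_one hsn) (hj ▸ orderOf_map_dvd π s))

variable {W : ∀ (Q : Type u) [Group Q], Subgroup Q}

theorem exists_index_p_of_transfer {G : Type u} [Group G] [Finite G]
    (hW : IsCharPFunctor.{u} p W)
    (hctl : ∀ (X : Type u) [Group X] [Finite X], Involves X G →
      ControlsTransferIn p (inducedFunctor (G := X) W) ⊤)
    (X : Type u) [Group X] [Finite X] (hX : Involves X G) {S : Subgroup X} (hS : SylIn p S ⊤)
    (hne : S ≠ ⊥)
    (hN : ∀ g ∈ Subgroup.normalizer (S : Set X), (orderOf g).Coprime p →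
      g ∈ Subgroup.centralizer (S : Set X)) :
    ∃ M : Subgroup X, M.Normal ∧ M.index = p := by
  suffices H : ∀ (n : ℕ) (X : Type u) [Group X] [Finite X], Involves X G → Nat.card X = n →
      ∀ S : Subgroup X, SylIn p S ⊤ → S ≠ ⊥ →
      (∀ g ∈ Subgroup.normalizer (S : Set X), (orderOf g).Coprime p →
        g ∈ Subgroup.centralizer (S : Set X)) →
      ∃ M : Subgroup X, M.Normal ∧ M.index = p from H _ X hX rfl S hS hne hN
  intro n
  induction n using Nat.strong_induction_on with
  | _ n IH =>
  intro X _ _ hX hn S hS hne hN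
  have hWf := isConjugacyFunctor_induced (G := X) hW
  set V := inducedFunctor W S with hVdef
  set N := Subgroup.normalizer (V : Set X)
  by_cases htop : N = ⊤
  swap
  · refine exists_index_p_of_not_le hS fun hle => ?_
    have hSN : S ≤ N := sylow_le_normalizer_functor hWf hS.isPGroup
    set S' := S.subgroupOf N
    have hS' : SylIn p S' ⊤ := ⟨le_top, hS.isPGroup.comap_subtype, by
      rw [Subgroup.relIndex_top_right]; exact (hS.mono hSN le_top).not_dvd⟩
    have hlt : Nat.card N < n := hn ▸ lt_of_le_of_ne (Subgroup.card_le_card_group N)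
      fun h => htop (Subgroup.eq_top_of_card_eq N h)
    obtain ⟨M, hMn, hMi⟩ := IH _ hlt N (involves_subgroup hX N) rfl S' hS'
      (fun h => hne (le_bot_iff.1 fun s hs => Subgroup.mem_bot.2
        (congrArg Subtype.val (Subgroup.mem_bot.1 (h.le (show (⟨s, hSN hs⟩ : N) ∈ S' from hs))))))
      fun g hg hgp => Subgroup.mem_centralizer_iff.2 fun y hy => Subtype.ext
        (Subgroup.mem_centralizer_iff.1 (hN g (by
          rw [← Subgroup.subgroupOf_normalizer_eq hSN] at hg; exact hg)
          (by rwa [Subgroup.orderOf_coe])) (y : X) hy)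
    have hNN : commutator N ≤ M := by
      haveI := hMn
      have hcyc : IsCyclic (N ⧸ M) :=
        isCyclic_of_prime_card (p := p) ((Subgroup.index_eq_card M).symm.trans hMi)
      refine (commutator_def N).le.trans (Subgroup.commutator_le.2 fun a _ b _ => ?_)
      refine (QuotientGroup.eq_one_iff _).1 ?_
      show QuotientGroup.mk' M ⁅a, b⁆ = 1
      rw [map_commutatorElement]
      refine commutatorElement_eq_one_iff_mul_comm.2 ?_
      obtain ⟨c, hc⟩ := hcyc.exists_generator
      obtain ⟨i, hi⟩ := Subgroup.mem_zpowers_iff.1 (hc (QuotientGroup.mk' M a))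
      obtain ⟨j, hj⟩ := Subgroup.mem_zpowers_iff.1 (hc (QuotientGroup.mk' M b))
      rw [← hi, ← hj, ← zpow_add, ← zpow_add, add_comm]
    obtain ⟨T, hT, hf⟩ := (controlsTransfer_iff _ _).1 (hctl X hX)
    have hf' := (famTransAt_singleton _ _ _).1 (hf.sylow (fun W' hW' => by
      rw [Set.mem_singleton_iff.1 hW']; exact hWf) hT hS)
    rw [top_inf_eq, ← hVdef, ← commutator_def, inf_eq_left.2 hle] at hf'
    have hS'M : S' ≤ M := by
      refine le_trans (fun s hs => ?_) hNN
      have h1 : (s : X) ∈ ⁅N, N⁆ := (hf'.le hs).2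
      rw [← Subgroup.map_subtype_commutator] at h1
      obtain ⟨y, hy, hys⟩ := h1
      exact (Subtype.ext hys : y = s) ▸ hy
    refine hS'.not_dvd ?_
    rw [Subgroup.relIndex_top_right]
    exact hMi ▸ Subgroup.index_dvd_of_le hS'M
  haveI : V.Normal := Subgroup.normalizer_eq_top_iff.1 htop
  have hVS : V ≤ S := inducedFunctor_le W S
  set π := QuotientGroup.mk' V
  by_cases hSV : S = V
  · haveI : S.Normal := hSV ▸ inferInstance
    have hnpc : HasNormalPComplement p X := by
      refine hnpc_of_centralize hS fun Q hQ g _ hgp => ?_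
      exact Subgroup.centralizer_le hQ (hN g (by rw [Subgroup.normalizer_eq_top]; trivial) hgp)
    refine exists_index_p_of_not_le hS fun hle => ?_
    set R := pResidual p X
    set ρ := QuotientGroup.mk' R
    have hsurj : S.map ρ = ⊤ := by
      obtain ⟨P, hP⟩ := hS.exists_sylow
      have h := congrArg (Subgroup.map ρ) (hP ▸ pResidual_sup_sylow P : R ⊔ S = ⊤)
      rwa [Subgroup.map_sup, (Subgroup.map_eq_bot_iff R).2 (QuotientGroup.ker_mk' R).ge, bot_sup_eq,
        Subgroup.map_top_of_surjective ρ (QuotientGroup.mk'_surjective R)] at h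
    have hperf : commutator (X ⧸ R) = ⊤ := by
      refine top_le_iff.1 (hsurj.ge.trans ((Subgroup.map_mono hle).trans ?_))
      rw [commutator_def, commutator_def, Subgroup.map_commutator]
      exact Subgroup.commutator_mono le_top le_top
    haveI : Group.IsNilpotent (X ⧸ R) := (isPGroup_quotient_pResidual (p := p) (G := X)).isNilpotent
    haveI : Nontrivial (X ⧸ R) := by
      rw [← Finite.one_lt_card_iff_nontrivial, ← Subgroup.index_eq_card]
      refine lt_of_le_of_ne (Nat.one_le_iff_ne_zero.2 Subgroup.index_ne_zero_of_finite) fun h => ?_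
      refine hne (le_bot_iff.1 fun s hs => Subgroup.mem_bot.2 ?_)
      have hsR : s ∈ R := by rw [Subgroup.index_eq_one.1 h.symm]; trivial
      exact (Subgroup.mem_bot.1 ((coprime_inf_pGroup (hnpc_iff.1 hnpc) hS.isPGroup).le ⟨hsR, hs⟩))
    exact Group.IsSolvable.commutator_lt_top_of_nontrivial (X ⧸ R) |>.ne hperf
  have hVne : V ≠ ⊥ := (hWf S hS.isPGroup).2.1 hne
  have hlt : Nat.card (X ⧸ V) < n := by
    rw [← hn, Subgroup.card_eq_card_quotient_mul_card_subgroup V]
    exact lt_mul_of_one_lt_right Nat.card_pos ((Subgroup.one_lt_card_iff_ne_bot V).2 hVne)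
  obtain ⟨M, hMn, hMi⟩ := IH _ hlt (X ⧸ V)
    (involves_surjective hX π (QuotientGroup.mk'_surjective V)) rfl (S.map π) (sylIn_map_mk hS)
    (fun h => hSV (le_antisymm (((Subgroup.map_eq_bot_iff S).1 h).trans
      (QuotientGroup.ker_mk' V).le) hVS))
    (fun y hy hyp => by
      obtain ⟨x, rfl⟩ := QuotientGroup.mk'_surjective V y
      obtain ⟨k, m, hm, hkm⟩ :=
        Nat.exists_eq_pow_mul_and_not_dvd (orderOf_pos x).ne' p hp.out.ne_one
      have hxN : x ∈ Subgroup.normalizer (S : Set X) := by
        have h1 : x ∈ (Subgroup.normalizer (S.map π : Set (X ⧸ V))).comap π := hy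
        rwa [Subgroup.comap_normalizer_eq_of_surjective _ (QuotientGroup.mk'_surjective V),
          QuotientGroup.comap_map_mk', sup_eq_right.2 hVS] at h1
      have hz : (orderOf (x ^ p ^ k)).Coprime p := by
        rw [orderOf_pow_of_dvd (pow_ne_zero _ hp.out.ne_zero) (hkm ▸ dvd_mul_right _ _), hkm,
          Nat.mul_div_cancel_left _ (pow_pos hp.out.pos k)]
        exact ((Nat.Prime.coprime_iff_not_dvd hp.out).2 hm).symm
      have hc : π (x ^ p ^ k) ∈ Subgroup.centralizer (S.map π : Set (X ⧸ V)) :=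
        Subgroup.mem_centralizer_iff.2 fun w ⟨s, hs, hsw⟩ => by
          rw [← hsw, ← map_mul, ← map_mul,
            Subgroup.mem_centralizer_iff.1 (hN _ (pow_mem hxN _) hz) s hs]
      obtain ⟨a, b, hab⟩ := Nat.isCoprime_iff_coprime.2 (hyp.pow_right k)
      have h2 : π x = π (x ^ p ^ k) ^ b := by
        calc π x = π x ^ ((1 : ℤ)) := (zpow_one _).symm
          _ = (π x ^ ((orderOf (π x) : ℤ))) ^ a * (π x ^ ((p ^ k : ℕ) : ℤ)) ^ b := by
              rw [← zpow_mul, ← zpow_mul, ← zpow_add, mul_comm (orderOf (π x) : ℤ),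
                mul_comm ((p ^ k : ℕ) : ℤ), hab]
          _ = π (x ^ p ^ k) ^ b := by
              rw [zpow_natCast, pow_orderOf_eq_one, one_zpow, one_mul, zpow_natCast, map_pow]
      rw [h2]
      exact zpow_mem hc b)
  exact ⟨M.comap π, hMn.comap π, by
    rw [Subgroup.index_comap_of_surjective M (QuotientGroup.mk'_surjective V), hMi]⟩

end Cfsg.Agent.Fusion
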