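import Cfsg.Agent.Lib.Fusion.DihedralFours
import Cfsg.Agent.Lib.Fusion.KleinSylowClasses
import Cfsg.Agent.Lib.Fusion.IndexP

/-!
# Criteria for dihedral Sylow 2-subgroups
-/

set_option autoImplicit false
set_option linter.style.haveILetI false

namespace Cfsg.Agent.Fusion.DihedralFours

open DihedralGroup

variable {X : Type*} [Group X] [Finite X]

theorem index_two_of_hnpc {p : ℕ} [Fact p.Prime] (h : Cfsg.HasNormalPComplement p X)
    (hp : p ∣ Nat.card X) : ∃ M : Subgroup X, M.index = p := by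
  set R := Cfsg.pResidual p X with hR
  have hne : R ≠ ⊤ := by
    intro e
    have h1 := hnpc_iff.1 h
    rw [← hR, e, Subgroup.card_top] at h1
    exact (Fact.out : p.Prime).coprime_iff_not_dvd.1 h1.symm hp
  haveI : Nontrivial (X ⧸ R) := by
    rw [← Finite.one_lt_card_iff_nontrivial, ← Subgroup.index_eq_card]
    exact lt_of_le_of_ne (Nat.one_le_iff_ne_zero.2 Subgroup.index_ne_zero_of_finite)
      fun h => hne (Subgroup.index_eq_one.1 h.symm)
  obtain ⟨M, -, hM⟩ := exists_normal_index_p_above (p := p)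
    (isPGroup_quotient_pResidual (G := X) (p := p)) (N := (⊥ : Subgroup (X ⧸ R))) bot_ne_top
  exact ⟨M.comap (QuotientGroup.mk' R), by
    rw [Subgroup.index_comap_of_surjective M (QuotientGroup.mk'_surjective R), hM]⟩

theorem normalizer_eq_of_hnpc (h : Cfsg.HasNormalPComplement 2 X) (S : Sylow 2 X)
    {U : Subgroup X} (hU : U ≤ S) :
    Subgroup.normalizer (U : Set X) =
      Subgroup.centralizer (U : Set X) ⊔ ((S : Subgroup X) ⊓ Subgroup.normalizer (U : Set X)) := by
  haveI : Fact (Nat.Prime 2) := ⟨Nat.prime_two⟩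
  refine le_antisymm (fun g hg => ?_) (sup_le (Subgroup.centralizer_le_normalizer _) inf_le_right)
  set R := Cfsg.pResidual 2 X with hR
  have hg' : g ∈ R ⊔ (S : Subgroup X) := by rw [hR, pResidual_sup_sylow]; trivial
  obtain ⟨o, ho, s, hs, rfl⟩ := Subgroup.mem_sup_of_normal_left.1 hg'
  have hUg : ∀ u ∈ U, s * u * s⁻¹ = (o * s) * u * (o * s)⁻¹ := by
    intro u hu
    have hv : (o * s) * u * (o * s)⁻¹ ∈ (S : Subgroup X) := hU ((Subgroup.mem_normalizer_iff.1 hg u).1 hu)
    have hw : s * u * s⁻¹ ∈ (S : Subgroup X) := Subgroup.mul_mem _ (Subgroup.mul_mem _ hs (hU hu)) (Subgroup.inv_mem _ hs)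
    have h1 : (o * s) * u * (o * s)⁻¹ * (s * u * s⁻¹)⁻¹ ∈ R ⊓ (S : Subgroup X) := by
      refine ⟨?_, Subgroup.mul_mem _ hv (Subgroup.inv_mem _ hw)⟩
      rw [show (o * s) * u * (o * s)⁻¹ * (s * u * s⁻¹)⁻¹ =
        o * ((s * u * s⁻¹) * o⁻¹ * (s * u * s⁻¹)⁻¹) by group]
      exact R.mul_mem ho ((inferInstance : R.Normal).conj_mem _ (R.inv_mem ho) _)
    rw [coprime_inf_pGroup (hnpc_iff.1 h) S.isPGroup', Subgroup.mem_bot, mul_inv_eq_one] at h1
    exact h1.symm
  have hsN : s ∈ Subgroup.normalizer (U : Set X) := mem_normalizer_of_cj_le (by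
    rintro _ ⟨u, hu, rfl⟩
    show s * u * s⁻¹ ∈ U
    rw [hUg u hu]
    exact (Subgroup.mem_normalizer_iff.1 hg u).1 hu)
  have hoN : o ∈ Subgroup.normalizer (U : Set X) := by
    have := mul_mem hg (inv_mem hsN)
    rwa [mul_inv_cancel_right] at this
  have hoc : (orderOf o).Coprime 2 :=
    (hnpc_iff.1 h).coprime_dvd_left ((Subgroup.orderOf_mk o ho).symm ▸ orderOf_dvd_natCard _)
  exact Subgroup.mul_mem_sup (hnpc_centralize h (S.isPGroup'.to_le hU) hoN hoc) ⟨hs, hsN⟩

theorem card_eq_two_pow {m : ℕ} (S : Sylow 2 X) (eS : (S : Subgroup X) ≃* DihedralGroup m) (hm : 2 ≤ m) :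
    2 ∣ m ∧ (m = 2 ∨ ∃ l, m = 4 * l) := by
  haveI : Fact (Nat.Prime 2) := ⟨Nat.prime_two⟩
  obtain ⟨k, hk⟩ := (S.isPGroup' : IsPGroup 2 (S : Subgroup X)).exists_card_eq
  rw [Nat.card_congr eS.toEquiv, DihedralGroup.nat_card] at hk
  rcases k with _ | _ | _ | j
  · omega
  · omega
  · exact ⟨⟨1, by omega⟩, Or.inl (by omega)⟩
  · exact ⟨⟨2 * 2 ^ j, by rw [pow_succ, pow_succ, pow_succ] at hk; omega⟩,
      Or.inr ⟨2 ^ j, by rw [pow_succ, pow_succ, pow_succ] at hk; omega⟩⟩

theorem klein_of_dihedral_two (S : Subgroup X) (eS : S ≃* DihedralGroup 2) : IsKleinFour S := by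
  refine ⟨by rw [Nat.card_congr eS.toEquiv, DihedralGroup.nat_card], ?_⟩
  rw [Monoid.exponent_eq_of_mulEquiv eS, DihedralGroup.exponent]
  rfl

theorem hnpc_of_complement {p : ℕ} [Fact p.Prime] (P : Sylow p X)
    (h : ∃ N : Subgroup X, N.Normal ∧ Subgroup.IsComplement' N (P : Subgroup X)) :
    Cfsg.HasNormalPComplement p X := by
  obtain ⟨N, hN, hc⟩ := h
  exact ⟨P, N, hN, hc⟩

variable {m : ℕ} (S : Sylow 2 X) (ι : DihedralGroup m →* X)

theorem exists_moving_of_relIndex [NeZero m] {l : ℕ} (hl : m = 4 * l) (hι : Function.Injective ι)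
    (hrange : ι.range = (S : Subgroup X)) (i : ZMod m)
    (h : 2 < (Subgroup.centralizer (((four m i).map ι : Subgroup X) : Set X)).relIndex
      (Subgroup.normalizer (((four m i).map ι : Subgroup X) : Set X))) :
    ∃ n ∈ Subgroup.normalizer (((four m i).map ι : Subgroup X) : Set X),
      n * ι (r ((m / 2 : ℕ) : ZMod m)) * n⁻¹ ≠ ι (r ((m / 2 : ℕ) : ZMod m)) := by
  classical
  by_contra hcon
  push Not at hcon
  have hm2 : 2 ∣ m := ⟨2 * l, by omega⟩
  set U := (four m i).map ι with hU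
  set N := Subgroup.normalizer (U : Set X) with hN
  set w := ι (r (l : ZMod m)) with hw
  have hmem : ι (sr i) ∈ U := Subgroup.mem_map_of_mem _ ((mem_four hm2 i _).2 (Or.inr (Or.inr (Or.inl rfl))))
  have hC : ∀ n ∈ N, n * ι (sr i) * n⁻¹ = ι (sr i) → n ∈ Subgroup.centralizer (U : Set X) := by
    intro n hn hfix
    rw [Subgroup.mem_centralizer_iff]
    rintro _ ⟨d, hd, rfl⟩
    have key : n * ι d * n⁻¹ = ι d := by
      rcases (mem_four hm2 i d).1 hd with rfl | rfl | rfl | rfl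
      · simp
      · exact hcon n hn
      · exact hfix
      · rw [show (sr (i + ((m / 2 : ℕ) : ZMod m)) : DihedralGroup m) = sr i * r ((m / 2 : ℕ) : ZMod m) by
          rw [sr_mul_r], map_mul]
        calc n * (ι (sr i) * ι (r ((m / 2 : ℕ) : ZMod m))) * n⁻¹
            = (n * ι (sr i) * n⁻¹) * (n * ι (r ((m / 2 : ℕ) : ZMod m)) * n⁻¹) := by group
          _ = _ := by rw [hfix, hcon n hn]
    exact (mul_inv_eq_iff_eq_mul.1 key).symm
  have hwN : w ∈ N := by
    refine mem_normalizer_of_cj_le ?_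
    rintro _ ⟨_, ⟨d, hd, rfl⟩, rfl⟩
    show ι (r (l : ZMod m)) * ι d * (ι (r (l : ZMod m)))⁻¹ ∈ U
    rw [← map_inv, ← map_mul, ← map_mul]
    refine Subgroup.mem_map_of_mem ι ?_
    by_cases h1 : d = 1
    · subst h1; simpa using (four m i).one_mem
    by_cases h2 : d = r ((m / 2 : ℕ) : ZMod m)
    · rw [h2, inv_r, r_mul_r, r_mul_r, add_neg_cancel_comm]
      exact (mem_four hm2 i _).2 (Or.inr (Or.inl rfl))
    exact (four_swap hl i hd hd h1 h1 h2 h2).2.1
  have key : ∀ n ∈ N, n ∈ Subgroup.centralizer (U : Set X) ∨ w⁻¹ * n ∈ Subgroup.centralizer (U : Set X) := by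
    intro n hn
    obtain ⟨d, hd, hde⟩ : n * ι (sr i) * n⁻¹ ∈ U := (Subgroup.mem_normalizer_iff.1 hn _).1 hmem
    have hinj : ∀ a, n * a * n⁻¹ = n * ι (sr i) * n⁻¹ → a = ι (sr i) := fun a e =>
      mul_left_cancel (mul_right_cancel e)
    have hne1 : d ≠ 1 := by
      intro e
      rw [e, map_one] at hde
      have e1 : (sr i : DihedralGroup m) = 1 :=
        hι (by rw [map_one]; exact conj_eq_one_iff.1 hde.symm)
      cases e1
    have hnez : d ≠ r ((m / 2 : ℕ) : ZMod m) := by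
      intro e
      rw [e] at hde
      have e1 := hinj _ ((hcon n hn).trans hde)
      cases hι e1
    have hsz : (sr i : DihedralGroup m) ≠ r ((m / 2 : ℕ) : ZMod m) := fun e => by cases e
    have hs1 : (sr i : DihedralGroup m) ≠ 1 := fun e => by cases e
    by_cases hds : (sr i : DihedralGroup m) = d
    · rw [← hds] at hde
      exact Or.inl (hC n hn hde.symm)
    · right
      refine hC _ (N.mul_mem (N.inv_mem hwN) hn) ?_
      have h3 := (four_swap hl i ((mem_four hm2 i _).2 (Or.inr (Or.inr (Or.inl rfl)))) hd hs1 hne1 hsz hnez).2.2 hds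
      rw [show w⁻¹ * n * ι (sr i) * (w⁻¹ * n)⁻¹ = w⁻¹ * (n * ι (sr i) * n⁻¹) * w by group, ← hde, h3,
        map_mul, map_mul, map_inv, hw]
      group
  have hle : (Subgroup.centralizer (U : Set X)).relIndex N ≤ 2 := by
    rw [Subgroup.relIndex, Subgroup.index_eq_card]
    refine (Nat.card_le_card_of_surjective
      (fun b : Bool => QuotientGroup.mk (if b then (⟨w, hwN⟩ : N) else 1)) fun q => ?_).trans (by simp)
    induction q using QuotientGroup.induction_on with | _ n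
    rcases key n n.2 with h1 | h1
    · refine ⟨false, QuotientGroup.eq.2 ?_⟩
      simpa [Subgroup.mem_subgroupOf] using h1
    · refine ⟨true, QuotientGroup.eq.2 ?_⟩
      simpa [Subgroup.mem_subgroupOf] using h1
  omega

end Cfsg.Agent.Fusion.DihedralFours
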