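import Cfsg.Agent.Lib.Fusion.Cores

/-!
# Thompson's A × B lemma
-/

set_option autoImplicit false

open scoped commutatorElement

namespace Cfsg.Agent.Fusion

variable {G : Type*} [Group G] [Finite G] {p : ℕ} [hp : Fact p.Prime]

/-- Thompson's `A × B` lemma for a single element of order prime to `p`. -/
theorem mem_centralizer_of_AB {Q T : Subgroup G} (hQ : IsPGroup p Q) (hT : IsPGroup p T)
    (hTQ : T ≤ Subgroup.normalizer (Q : Set G)) {x : G} (hxQ : x ∈ Subgroup.normalizer (Q : Set G))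
    (hxT : ∀ t ∈ T, x * t = t * x) (hxp : (orderOf x).Coprime p)
    (hfix : ∀ q ∈ Q, (∀ t ∈ T, q * t = t * q) → x * q = q * x) :
    x ∈ Subgroup.centralizer (Q : Set G) := by
  classical
  obtain ⟨Q₁, hQ₁def⟩ : ∃ Q₁, Q₁ = Q ⊓ Subgroup.centralizer ({x} : Set G) := ⟨_, rfl⟩
  have hm : ∀ q, q ∈ Q₁ ↔ q ∈ Q ∧ q * x = x * q := fun q => by
    rw [hQ₁def, Subgroup.mem_inf, Subgroup.mem_centralizer_singleton_iff]
  by_cases heq : Q₁ = Q
  · refine Subgroup.mem_centralizer_iff.2 fun q hq => ((hm q).1 (heq.symm ▸ hq)).2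
  exfalso
  have hQ₁Q : Q₁ ≤ Q := hQ₁def ▸ inf_le_left
  obtain ⟨r, hr, hrQ⟩ := SetLike.exists_of_lt (SylIn.normalizer_growth hQ₁Q heq hQ)
  obtain ⟨R, hRdef⟩ : ∃ R, R = Q ⊓ Subgroup.normalizer (Q₁ : Set G) := ⟨_, rfl⟩
  rw [← hRdef] at hr
  -- `T` and `x` normalise `Q₁` and `R`
  have hTQ₁ : T ≤ Subgroup.normalizer (Q₁ : Set G) := fun t ht => mem_normalizer_of_cj_le (by
    rw [hQ₁def, cj_inf, cj_eq_self (hTQ ht), cj_centralizer_singleton_aux hxT t ht])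
  have hxQ₁ : x ∈ Subgroup.normalizer (Q₁ : Set G) := mem_normalizer_of_cj_le (by
    rintro _ ⟨q, hq, rfl⟩
    show x * q * x⁻¹ ∈ Q₁
    rw [← ((hm q).1 hq).2, mul_inv_cancel_right]
    exact hq)
  have hnorm : ∀ g, g ∈ Subgroup.normalizer (Q : Set G) → g ∈ Subgroup.normalizer (Q₁ : Set G) →
      g ∈ Subgroup.normalizer (R : Set G) := fun g h1 h2 => mem_normalizer_of_cj_le (by
    rw [hRdef, cj_inf, cj_eq_self h1, cj_normalizer, cj_eq_self h2])
  -- the group `Q T` is nilpotent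
  have hP : IsPGroup p ↥(Q ⊔ T) := hQ.to_sup_of_normal_left' hT hTQ
  obtain ⟨n, hn⟩ := (Subgroup.isNilpotent_iff_lowerCentralSeries (Q ⊔ T)).1 hP.isNilpotent
  have hex : ∃ n, R ⊓ (Q ⊔ T).lowerCentralSeries n ≤ Q₁ := ⟨n, by rw [hn]; exact inf_le_right.trans bot_le⟩
  have h0 : Nat.find hex ≠ 0 := fun h => by
    have := Nat.find_spec hex
    rw [h, Subgroup.lowerCentralSeries_zero] at this
    exact hrQ (this (Subgroup.mem_inf.2 ⟨hr, Subgroup.mem_sup_left (Subgroup.mem_inf.1 (hRdef ▸ hr)).1⟩))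
  obtain ⟨m, hmn⟩ := Nat.exists_eq_succ_of_ne_zero h0
  have hspec := Nat.find_spec hex
  rw [hmn] at hspec
  obtain ⟨y, hy, hyQ₁⟩ := SetLike.not_le_iff_exists.1
    (Nat.find_min hex (show m < Nat.find hex by omega))
  obtain ⟨hyR, hyγ⟩ := Subgroup.mem_inf.1 hy
  have hyQ : y ∈ Q := (Subgroup.mem_inf.1 (hRdef ▸ hyR)).1
  -- `[x, y]` centralises `T`
  have hyT : ∀ t ∈ T, ⁅y, t⁆ ∈ Q₁ := fun t ht => by
    refine hspec (Subgroup.mem_inf.2 ⟨?_, ?_⟩)
    · rw [commutatorElement_def, mul_assoc y t, mul_assoc y]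
      exact mul_mem hyR ((Subgroup.mem_normalizer_iff.1 (hnorm t (hTQ ht) (hTQ₁ ht)) _).1 (inv_mem hyR))
    · rw [Subgroup.lowerCentralSeries_succ]
      exact Subgroup.commutator_mem_commutator hyγ (Subgroup.mem_sup_right ht)
  have hcQ : ⁅x, y⁆ ∈ Q := by
    rw [commutatorElement_def]
    exact mul_mem ((Subgroup.mem_normalizer_iff.1 hxQ y).1 hyQ) (inv_mem hyQ)
  have hct : ∀ t ∈ T, ⁅x, y⁆ * t = t * ⁅x, y⁆ := fun t ht => by
    obtain ⟨e, hedef⟩ : ∃ e, e = ⁅t, y⁆ := ⟨_, rfl⟩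
    have he : e ∈ Q₁ := by rw [hedef, ← commutatorElement_inv]; exact inv_mem (hyT t ht)
    have hex : e * x = x * e := ((hm e).1 he).2
    have hty : t * y * t⁻¹ = e * y := by rw [hedef, commutatorElement_def]; group
    -- conjugate the commutator by `t`
    have h1 : t * ⁅x, y⁆ * t⁻¹ = e * ⁅x, y⁆ * e⁻¹ := by
      have hxt := hxT t ht
      calc t * ⁅x, y⁆ * t⁻¹ = (t * x) * y * x⁻¹ * (t * y)⁻¹ := by rw [commutatorElement_def]; group
        _ = x * (t * y * t⁻¹) * x⁻¹ * (t * y * t⁻¹)⁻¹ := by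
            rw [← hxt]
            calc x * t * y * x⁻¹ * (t * y)⁻¹ = x * (t * y * t⁻¹) * (t * x⁻¹) * (t * y)⁻¹ := by group
              _ = x * (t * y * t⁻¹) * (x⁻¹ * t) * (t * y)⁻¹ := by
                  rw [(show Commute x t from hxt).inv_left.eq]
              _ = _ := by group
        _ = (x * e) * y * x⁻¹ * (e * y)⁻¹ := by rw [hty]; group
        _ = e * ⁅x, y⁆ * e⁻¹ := by rw [← hex, commutatorElement_def]; group
    have h2 : e * ⁅x, y⁆ * e⁻¹ = ⁅x, y⁆ := by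
      have : ∀ k, k ∈ Q₁ → ∀ w ∈ R, w * k * w⁻¹ ∈ Q₁ := fun k hk w hw =>
        (Subgroup.mem_normalizer_iff.1 (Subgroup.mem_inf.1 (hRdef ▸ hw)).2 k).1 hk
      have hxe : e * x = x * e := hex
      have h3 : (y⁻¹ * e * y) * x = x * (y⁻¹ * e * y) := by
        refine ((hm _).1 ?_).2
        have := this e he y⁻¹ (inv_mem hyR)
        rwa [inv_inv] at this
      calc e * ⁅x, y⁆ * e⁻¹ = (e * x) * y * x⁻¹ * y⁻¹ * e⁻¹ := by rw [commutatorElement_def]; group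
        _ = x * y * ((y⁻¹ * e * y) * x⁻¹) * y⁻¹ * e⁻¹ := by rw [hxe]; group
        _ = x * y * (x⁻¹ * (y⁻¹ * e * y)) * y⁻¹ * e⁻¹ := by rw [(show Commute _ x from h3).inv_right.eq]
        _ = ⁅x, y⁆ := by rw [commutatorElement_def]; group
    rw [h2] at h1
    exact (mul_inv_eq_iff_eq_mul.1 h1).symm
  have hfx : x * ⁅x, y⁆ = ⁅x, y⁆ * x := hfix _ hcQ hct
  generalize hc : ⁅x, y⁆ = c at hcQ hfx
  have key : ∀ k : ℕ, x ^ k * y * (x ^ k)⁻¹ = c ^ k * y := by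
    intro k
    induction k with
    | zero => simp
    | succ k ih =>
      calc x ^ (k + 1) * y * (x ^ (k + 1))⁻¹ = x * (x ^ k * y * (x ^ k)⁻¹) * x⁻¹ := by
            rw [pow_succ']; group
        _ = (x * c ^ k) * y * x⁻¹ := by rw [ih]; group
        _ = c ^ k * (x * y * x⁻¹) := by rw [(Commute.pow_right (show Commute x c from hfx) k).eq]; group
        _ = c ^ (k + 1) * y := by rw [pow_succ, ← hc, commutatorElement_def]; group
  have h1 := key (orderOf x)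
  rw [pow_orderOf_eq_one, inv_one, one_mul, mul_one] at h1
  obtain ⟨j, hj⟩ := hQ ⟨c, hcQ⟩
  have hj' : c ^ p ^ j = 1 := congrArg Subtype.val hj
  have hc1 : c = 1 := orderOf_eq_one_iff.1 (Nat.eq_one_of_dvd_coprimes (hxp.pow_right j)
    (orderOf_dvd_of_pow_eq_one (mul_eq_right.1 h1.symm)) (orderOf_dvd_of_pow_eq_one hj'))
  rw [hc1, commutatorElement_eq_one_iff_mul_comm] at hc
  exact hyQ₁ ((hm y).2 ⟨hyQ, hc.symm⟩)
where
  cj_centralizer_singleton_aux {G : Type _} [Group G] [Finite G] {T : Subgroup G} {x : G}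
      (hxT : ∀ t ∈ T, x * t = t * x) (t : G) (ht : t ∈ T) :
      cj (Subgroup.centralizer ({x} : Set G)) t = Subgroup.centralizer ({x} : Set G) :=
    cj_eq_self_of_mem (Subgroup.mem_centralizer_singleton_iff.2 (hxT t ht).symm)

end Cfsg.Agent.Fusion
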