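import Cfsg.Agent.Lib.Fusion.AB
import Cfsg.Agent.Lib.Solv.Component

/-!
# Components of local subgroups
-/

set_option autoImplicit false

open scoped commutatorElement

namespace Cfsg.Agent.Fusion

variable {G : Type*} [Group G] [Finite G]

omit [Finite G] in
theorem component_restrict {L C N : Subgroup G} (hCN : C ≤ N) (hLC : L ≤ C)
    (hL : Cfsg.IsComponent (L.subgroupOf N)) : Cfsg.IsComponent (L.subgroupOf C) :=
  ⟨hL.1.comap (Subgroup.inclusion hCN), Local.isQuasisimple_congr
    ((Subgroup.subgroupOfEquivOfLe (hLC.trans hCN)).trans (Subgroup.subgroupOfEquivOfLe hLC).symm) hL.2⟩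

omit [Finite G] in
theorem component_centralizes {L S N : Subgroup G} (hLN : L ≤ N) (hSN : S ≤ N)
    (hn : N ≤ Subgroup.normalizer (S : Set G)) (hS : Group.IsSolvable ↥S)
    (hL : Cfsg.IsComponent (L.subgroupOf N)) : L ≤ Subgroup.centralizer (S : Set G) := by
  haveI := hS
  have h := Solv.component_commutes_solvable hL
    ((Subgroup.normal_subgroupOf_iff_le_normalizer hSN).2 hn).isSubnormal
    (Group.isSolvable_of_isSolvable_injective
      (f := (Subgroup.subgroupOfEquivOfLe hSN).toMonoidHom) (Subgroup.subgroupOfEquivOfLe hSN).injective)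
  have h2 := congrArg (Subgroup.map N.subtype) h
  rwa [Subgroup.map_commutator, Subgroup.map_subgroupOf_eq_of_le hLN, Subgroup.map_subgroupOf_eq_of_le hSN,
    Subgroup.map_bot, Subgroup.commutator_eq_bot_iff_le_centralizer] at h2

/-- A perfect group is generated by its elements of order prime to `p`. -/
theorem le_of_pPrime_elements {p : ℕ} [Fact p.Prime] {L W : Subgroup G} (hL : Group.IsPerfect ↥L)
    (h : ∀ x ∈ L, (orderOf x).Coprime p → x ∈ W) : L ≤ W := by
  haveI := hL
  have htop : Cfsg.pResidual p ↥L = ⊤ := by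
    by_contra hne
    haveI : Nontrivial (↥L ⧸ Cfsg.pResidual p ↥L) := QuotientGroup.nontrivial_iff.2 hne
    haveI := (isPGroup_quotient_pResidual (p := p) (G := ↥L)).isNilpotent
    haveI : Group.IsPerfect (↥L ⧸ Cfsg.pResidual p ↥L) :=
      Group.IsPerfect.ofSurjective (f := QuotientGroup.mk' _) (QuotientGroup.mk'_surjective _)
    exact Group.IsPerfect.not_isSolvable (G := ↥L ⧸ Cfsg.pResidual p ↥L) inferInstance
  have hle : Cfsg.pResidual p ↥L ≤ W.subgroupOf L := (Subgroup.closure_le _).2 fun x hx =>
    h x x.2 (by rw [Subgroup.orderOf_coe]; exact hx)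
  intro x hx
  exact hle (show (⟨x, hx⟩ : L) ∈ Cfsg.pResidual p ↥L from htop.symm ▸ Subgroup.mem_top _)

theorem isSolvable_of_pGroup {p : ℕ} [Fact p.Prime] {S : Subgroup G} (h : IsPGroup p ↥S) : Group.IsSolvable ↥S := by
  haveI := h.isNilpotent
  infer_instance

theorem layer_normalizer {p : ℕ} [Fact p.Prime] {P : Subgroup G} (hP : P ≤ Cfsg.pCore p G) :
    (Cfsg.layer ↥(Subgroup.normalizer (P : Set G))).map (Subgroup.normalizer (P : Set G)).subtype = Cfsg.layer G := by
  set N := Subgroup.normalizer (P : Set G)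
  set Q := Cfsg.pCore p G
  have hQ : IsPGroup p ↥Q := isPGroup_pCore p G
  have hQn : Q.Normal := inferInstance
  haveI := hQn
  have hCN : Subgroup.centralizer (Q : Set G) ≤ N :=
    (Subgroup.centralizer_le hP).trans (Subgroup.centralizer_le_normalizer _)
  refine le_antisymm ?_ (sSup_le fun K hK => ?_)
  · rw [Subgroup.map_le_iff_le_comap]
    refine sSup_le fun L₀ hL₀ => ?_
    rw [← Subgroup.map_le_iff_le_comap]
    set L := L₀.map N.subtype
    have hLN : L ≤ N := Subgroup.map_subtype_le _
    have hL : Cfsg.IsComponent (L.subgroupOf N) := by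
      rwa [Subgroup.subgroupOf, Subgroup.comap_map_eq_self_of_injective N.subtype_injective]
    have hqs := Local.isQuasisimple_congr (Subgroup.subgroupOfEquivOfLe hLN) hL.2
    have h1 : L ≤ Subgroup.centralizer (P : Set G) :=
      component_centralizes hLN Subgroup.le_normalizer le_rfl (isSolvable_of_pGroup (hQ.to_le hP)) hL
    have h2 : L ≤ Subgroup.centralizer ((Q ⊓ N : Subgroup G) : Set G) :=
      component_centralizes hLN inf_le_right
        (fun g hg => mem_normalizer_of_cj_le (by rw [cj_inf, cj_of_normal, cj_eq_self_of_mem hg]))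
        (isSolvable_of_pGroup (hQ.to_le inf_le_left)) hL
    have hLQ : L ≤ Subgroup.centralizer (Q : Set G) := le_of_pPrime_elements hqs.1 fun x hx hxp =>
      mem_centralizer_of_AB hQ (hQ.to_le hP) (by rw [Subgroup.normalizer_eq_top]; exact le_top)
        (by rw [Subgroup.normalizer_eq_top]; exact Subgroup.mem_top _)
        (fun t ht => (Subgroup.mem_centralizer_iff.1 (h1 hx) t ht).symm) hxp
        (fun q hq hqT => (Subgroup.mem_centralizer_iff.1 (h2 hx) q (Subgroup.mem_inf.2
          ⟨hq, Subgroup.centralizer_le_normalizer _ (Subgroup.mem_centralizer_iff.2 fun t ht => (hqT t ht).symm)⟩)).symm)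
    haveI : (Subgroup.centralizer (Q : Set G)).Normal := Subgroup.normal_centralizer
    exact Solv.component_le_layer (Solv.component_of_subgroupOf
      (inferInstance : (Subgroup.centralizer (Q : Set G)).Normal).isSubnormal hLQ (component_restrict hCN hLQ hL))
  · have hKQ : K ≤ Subgroup.centralizer (Q : Set G) := Subgroup.commutator_eq_bot_iff_le_centralizer.1
      (Solv.component_commutes_solvable hK hQn.isSubnormal (isSolvable_of_pGroup hQ))
    rw [← Subgroup.map_subgroupOf_eq_of_le (hKQ.trans hCN)]
    exact Subgroup.map_mono (Solv.component_le_layer (Solv.component_subgroupOf hK (hKQ.trans hCN)))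

end Cfsg.Agent.Fusion
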