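import Cfsg.Prelude.Def_CaseTheorems
import Cfsg.Agent.Lib.Fusion.Dihedral
import Cfsg.Agent.Lib.Solv.UniqueSub
import Cfsg.Agent.Lib.Solv.PGroupPhi

/-!
# The structure of quasidihedral groups
-/

set_option autoImplicit false
set_option linter.style.haveILetI false
set_option linter.unusedSectionVars false

namespace Cfsg.Agent.Fusion

variable {S : Type*} [Group S] [Finite S]

/-- Generators of a quasidihedral group of order `2 ^ (n + 1)`. -/
structure QDData (S : Type*) [Group S] (n : ℕ) where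
  x : S
  y : S
  hn : 3 ≤ n
  hcard : Nat.card S = 2 ^ (n + 1)
  ox : orderOf x = 2 ^ n
  oy : orderOf y = 2
  rel : y * x * y⁻¹ = x ^ (2 ^ (n - 1) - 1)

theorem exists_qdData (hS : Cfsg.IsQuasiDihedral S) {n : ℕ} (hn : Nat.card S = 2 ^ (n + 1)) :
    Nonempty (QDData S n) := by
  obtain ⟨m, hm, hc, x, y, hx, hy, hr⟩ := hS
  rw [hc] at hn
  obtain rfl : m = n := by
    have := Nat.pow_right_injective (le_refl 2) hn
    omega
  exact ⟨⟨x, y, hm, hc, hx, hy, hr⟩⟩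

theorem exists_qdData' (hS : Cfsg.IsQuasiDihedral S) : ∃ n, Nonempty (QDData S n) := by
  obtain ⟨n, hn, hc, x, y, hx, hy, hr⟩ := hS
  exact ⟨n, ⟨⟨x, y, hn, hc, hx, hy, hr⟩⟩⟩

namespace QDData

variable {n : ℕ} (D : QDData S n)

/-- Half of the order of `x`. -/
def h (_D : QDData S n) : ℤ := 2 ^ (n - 1)

/-- The central involution. -/
def z : S := D.x ^ D.h

theorem two_h : 2 * D.h = 2 ^ n := by
  have := D.hn
  rw [h, ← pow_succ']; congr 1; omega

theorem h_eq : D.h = 4 * 2 ^ (n - 3) := by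
  have := D.hn
  rw [h, show (4 : ℤ) = 2 ^ 2 by norm_num, ← pow_add]; congr 1; omega

theorem zpow_eq_iff (i j : ℤ) : D.x ^ i = D.x ^ j ↔ (2 : ℤ) ^ n ∣ j - i := by
  rw [zpow_eq_zpow_iff_modEq, D.ox, Int.modEq_iff_dvd]; push_cast; rfl

theorem zpow_eq_one_iff (i : ℤ) : D.x ^ i = 1 ↔ (2 : ℤ) ^ n ∣ i := by
  rw [← orderOf_dvd_iff_zpow_eq_one, D.ox]; push_cast; rfl

theorem h_lt : 0 < D.h ∧ ¬ (2 : ℤ) ^ n ∣ D.h := by
  refine ⟨pow_pos two_pos _, fun hd => ?_⟩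
  have h1 : (2 : ℤ) ^ n ≤ D.h := Int.le_of_dvd (pow_pos two_pos _) hd
  have h2 := D.two_h
  have h3 : 0 < D.h := pow_pos two_pos _
  linarith

theorem z_ne_one : D.z ≠ 1 := by
  rw [z, Ne, D.zpow_eq_one_iff]; exact D.h_lt.2

theorem z_mul_z : D.z * D.z = 1 := by
  rw [z, ← zpow_add, D.zpow_eq_one_iff, ← two_mul, D.two_h]

theorem y_mul_zpow (i : ℤ) : D.y * D.x ^ i = D.x ^ ((D.h - 1) * i) * D.y := by
  rw [zpow_mul, ← mul_inv_eq_iff_eq_mul, ← conj_zpow, D.rel]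
  congr 1
  rw [h, ← zpow_natCast]
  congr 1
  rw [Nat.cast_sub (Nat.one_le_two_pow)]
  push_cast; ring

theorem yy : D.y * D.y = 1 := invol_mul_self D.oy

theorem y_not_mem : D.y ∉ Subgroup.zpowers D.x := by
  intro hy
  obtain ⟨i, hi⟩ := Subgroup.mem_zpowers_iff.1 hy
  have h1 : D.x * D.y = D.y * D.x := by rw [← hi]; exact ((Commute.refl D.x).zpow_right i).eq
  have h2 := D.y_mul_zpow 1
  rw [zpow_one, ← h1, mul_one] at h2
  have h3 : D.x ^ (1 : ℤ) = D.x ^ (D.h - 1) := by rw [zpow_one]; exact mul_right_cancel h2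
  rw [D.zpow_eq_iff, ← D.two_h] at h3
  obtain ⟨c, hc⟩ := h3
  rw [D.h_eq] at hc
  obtain ⟨m, hm⟩ : ∃ m : ℤ, m = (2 : ℤ) ^ (n - 3) := ⟨_, rfl⟩
  rw [← hm] at hc
  have : (4 : ℤ) ∣ 2 := ⟨m - 2 * m * c, by linarith⟩
  norm_num at this

theorem index_zpowers : (Subgroup.zpowers D.x).index = 2 := by
  have h1 := (Subgroup.zpowers D.x).card_mul_index
  rw [Nat.card_zpowers, D.ox, D.hcard, pow_succ] at h1
  exact Nat.eq_of_mul_eq_mul_left (pow_pos two_pos _) h1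

theorem exists_form (s : S) : ∃ i : ℤ, s = D.x ^ i ∨ s = D.x ^ i * D.y := by
  by_cases hs : s ∈ Subgroup.zpowers D.x
  · obtain ⟨i, hi⟩ := Subgroup.mem_zpowers_iff.1 hs
    exact ⟨i, Or.inl hi.symm⟩
  · obtain ⟨i, hi⟩ := Subgroup.mem_zpowers_iff.1 ((Subgroup.mul_mem_iff_of_index_two D.index_zpowers).2
      (iff_of_false hs (fun h' => D.y_not_mem (inv_mem_iff.1 h'))) : s * D.y⁻¹ ∈ Subgroup.zpowers D.x)
    exact ⟨i, Or.inr (by rw [hi, inv_mul_cancel_right])⟩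

theorem not_mem_of_refl (i : ℤ) : D.x ^ i * D.y ∉ Subgroup.zpowers D.x := fun h' =>
  D.y_not_mem ((Subgroup.mul_mem_cancel_left _ (Subgroup.zpow_mem_zpowers D.x i)).1 h')

theorem refl_ne_rot (i j : ℤ) : D.x ^ i * D.y ≠ D.x ^ j := fun h' =>
  D.not_mem_of_refl i (h' ▸ Subgroup.zpow_mem_zpowers D.x j)

theorem refl_sq (i : ℤ) : (D.x ^ i * D.y) * (D.x ^ i * D.y) = D.x ^ (D.h * i) := by
  calc _ = D.x ^ i * (D.y * D.x ^ i) * D.y := by group
    _ = D.x ^ i * (D.x ^ ((D.h - 1) * i) * D.y) * D.y := by rw [D.y_mul_zpow]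
    _ = D.x ^ (D.h * i) * (D.y * D.y) := by rw [← mul_assoc, ← zpow_add, mul_assoc]; ring_nf
    _ = _ := by rw [D.yy, mul_one]

theorem h_mul_even {i : ℤ} (hi : Even i) : D.x ^ (D.h * i) = 1 := by
  obtain ⟨k, rfl⟩ := hi
  rw [D.zpow_eq_one_iff, ← D.two_h]; exact ⟨k, by ring⟩

theorem h_mul_odd {i : ℤ} (hi : Odd i) : D.x ^ (D.h * i) = D.z := by
  obtain ⟨k, rfl⟩ := hi
  rw [z, D.zpow_eq_iff, ← D.two_h]; exact ⟨-k, by ring⟩

theorem refl_orderOf_even {i : ℤ} (hi : Even i) : orderOf (D.x ^ i * D.y) = 2 :=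
  orderOf_eq_prime (by rw [sq, D.refl_sq, D.h_mul_even hi]) fun h' =>
    D.refl_ne_rot i 0 (by rw [h', zpow_zero])

theorem refl_orderOf_odd {i : ℤ} (hi : Odd i) : orderOf (D.x ^ i * D.y) = 4 :=
  orderOf_eq_prime_pow (p := 2) (n := 1) (by
    rw [pow_one, sq, D.refl_sq, D.h_mul_odd hi]; exact D.z_ne_one)
    (by rw [show (2 : ℕ) ^ (1 + 1) = 2 * 2 from rfl, pow_mul, sq (D.x ^ i * D.y), D.refl_sq, D.h_mul_odd hi, sq, D.z_mul_z])

theorem conj_refl (i j : ℤ) :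
    D.x ^ j * (D.x ^ i * D.y) * (D.x ^ j)⁻¹ = D.x ^ (i + (2 - D.h) * j) * D.y := by
  calc _ = D.x ^ (j + i) * (D.y * D.x ^ (-j)) := by group
    _ = _ := by rw [D.y_mul_zpow, ← mul_assoc, ← zpow_add]; ring_nf

theorem half_coprime (_D : QDData S n) : IsCoprime (1 - 2 * (2 : ℤ) ^ (n - 3)) ((2 : ℤ) ^ n) :=
  IsCoprime.pow_right ⟨1, (2 : ℤ) ^ (n - 3), by ring⟩

theorem two_sub_h : 2 - D.h = 2 * (1 - 2 * (2 : ℤ) ^ (n - 3)) := by rw [D.h_eq]; ring

/-- Reflections of the same parity are conjugate under `⟨x⟩`. -/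
theorem conj_same_parity {i k : ℤ} (hik : Even (k - i)) :
    ∃ j : ℤ, D.x ^ j * (D.x ^ i * D.y) * (D.x ^ j)⁻¹ = D.x ^ k * D.y := by
  obtain ⟨a, b, hab⟩ := D.half_coprime
  obtain ⟨c, hc⟩ := hik
  refine ⟨a * c, ?_⟩
  rw [D.conj_refl]
  congr 1
  rw [D.zpow_eq_iff]
  refine ⟨2 * c * b, ?_⟩
  rw [D.two_sub_h, show k = i + (c + c) by linarith]
  linear_combination -2 * c * hab

/-- An element `x ^ j` moves a reflection according to `2 j`. -/
theorem two_sub_h_dvd (j : ℤ) (m : ℕ) (hm : m ≤ n) :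
    (2 : ℤ) ^ m ∣ (2 - D.h) * j ↔ (2 : ℤ) ^ m ∣ 2 * j := by
  rw [D.two_sub_h, show 2 * (1 - 2 * (2 : ℤ) ^ (n - 3)) * j = (1 - 2 * (2 : ℤ) ^ (n - 3)) * (2 * j) by ring]
  refine ⟨fun h' => ?_, fun h' => h'.mul_left _⟩
  exact ((D.half_coprime.of_isCoprime_of_dvd_right (pow_dvd_pow 2 hm)).symm).dvd_of_dvd_mul_left h'

theorem refl_conj_of_refl (i k : ℤ) :
    ∃ l : ℤ, (D.x ^ k * D.y) * (D.x ^ i * D.y) * (D.x ^ k * D.y)⁻¹ = D.x ^ l * D.y ∧ Even (l - i) := by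
  refine ⟨(D.h - 1) * i + (2 - D.h) * k, ?_, ?_⟩
  · calc _ = D.x ^ k * (D.y * D.x ^ i) * D.y * D.y⁻¹ * (D.x ^ k)⁻¹ := by group
      _ = D.x ^ k * (D.x ^ ((D.h - 1) * i) * D.y) * (D.x ^ k)⁻¹ := by rw [D.y_mul_zpow]; group
      _ = _ := D.conj_refl _ _
  · rw [D.two_sub_h, D.h_eq]
    exact ⟨(2 * (2 : ℤ) ^ (n - 3) - 1) * i + (1 - 2 * (2 : ℤ) ^ (n - 3)) * k, by ring⟩

/-- Centralizer of a reflection. -/
theorem commute_refl_iff (i : ℤ) (s : S) :
    Commute s (D.x ^ i * D.y) ↔ s = 1 ∨ s = D.z ∨ s = D.x ^ i * D.y ∨ s = D.z * (D.x ^ i * D.y) := by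
  have hrot : ∀ j : ℤ, Commute (D.x ^ j) (D.x ^ i * D.y) ↔ D.x ^ j = 1 ∨ D.x ^ j = D.z := by
    intro j
    rw [Commute, SemiconjBy, ← mul_inv_eq_iff_eq_mul, D.conj_refl, mul_left_inj, D.zpow_eq_iff,
      show i - (i + (2 - D.h) * j) = -((2 - D.h) * j) by ring, dvd_neg, D.two_sub_h_dvd j n le_rfl,
      D.zpow_eq_one_iff, z, D.zpow_eq_iff, ← D.two_h, mul_dvd_mul_iff_left two_ne_zero]
    constructor
    · rintro ⟨c, rfl⟩
      rcases Int.even_or_odd c with ⟨d, rfl⟩ | ⟨d, rfl⟩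
      · exact Or.inl ⟨d, by ring⟩
      · exact Or.inr ⟨-d, by ring⟩
    · rintro (h' | h')
      · exact (Dvd.intro_left 2 rfl : D.h ∣ 2 * D.h).trans h'
      · have h2 := (Dvd.intro_left 2 rfl : D.h ∣ 2 * D.h).trans h'
        have h3 := dvd_sub (dvd_refl D.h) h2
        rwa [sub_sub_cancel] at h3
  have hself : Commute (D.x ^ i * D.y) (D.x ^ i * D.y) := Commute.refl _
  constructor
  · intro hc
    obtain ⟨j, rfl | rfl⟩ := D.exists_form s
    · rcases (hrot j).1 hc with h' | h'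
      · exact Or.inl h'
      · exact Or.inr (Or.inl h')
    · have h1 : Commute (D.x ^ (j - i)) (D.x ^ i * D.y) := by
        have h2 := hc.mul_left hself.inv_left
        rwa [show D.x ^ j * D.y * (D.x ^ i * D.y)⁻¹ = D.x ^ (j - i) by group] at h2
      have he : D.x ^ j * D.y = D.x ^ (j - i) * (D.x ^ i * D.y) := by group
      rcases (hrot _).1 h1 with h' | h'
      · exact Or.inr (Or.inr (Or.inl (by rw [he, h', one_mul])))
      · exact Or.inr (Or.inr (Or.inr (by rw [he, h'])))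
  · have hz : Commute D.z (D.x ^ i * D.y) := (hrot D.h).2 (Or.inr rfl)
    rintro (rfl | rfl | rfl | rfl)
    · exact Commute.one_left _
    · exact hz
    · exact hself
    · exact hz.mul_left hself

theorem z_central (s : S) : Commute D.z s := by
  obtain ⟨j, rfl | rfl⟩ := D.exists_form s
  · exact (Commute.refl D.x).zpow_zpow _ _
  · exact (D.commute_refl_iff j D.z).2 (Or.inr (Or.inl rfl))

theorem center_eq : Subgroup.center S = Subgroup.zpowers D.z := by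
  refine le_antisymm (fun c hc => ?_) (Subgroup.zpowers_le.2 (Subgroup.mem_center_iff.2 fun s => (D.z_central s).eq.symm))
  have hc' : ∀ s, Commute c s := fun s => (Subgroup.mem_center_iff.1 hc s).symm
  rcases (D.commute_refl_iff 0 c).1 (hc' _) with rfl | rfl | rfl | rfl
  · exact one_mem _
  · exact Subgroup.mem_zpowers _
  all_goals
    exfalso
    have h1 := hc' D.x
    rcases (D.commute_refl_iff 0 D.x).1 (by
      first
        | exact h1.symm
        | have h2 := ((D.z_central D.x).inv_left.mul_left h1).symm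
          rwa [inv_mul_cancel_left] at h2) with h' | h' | h' | h'
    · have := congrArg orderOf h'
      rw [D.ox, orderOf_one] at this
      exact absurd this (Nat.one_lt_pow (by have := D.hn; omega) (by norm_num)).ne'
    · have : D.x ^ (1 : ℤ) = D.x ^ D.h := by rw [zpow_one]; exact h'
      rw [D.zpow_eq_iff, ← D.two_h, D.h_eq] at this
      obtain ⟨e, he⟩ := this
      have h4 : (4 : ℤ) ∣ 1 := ⟨(2 : ℤ) ^ (n - 3) - 2 * (2 : ℤ) ^ (n - 3) * e, by linarith⟩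
      norm_num at h4
    · exact D.refl_ne_rot 0 1 (by rw [zpow_one]; exact h'.symm)
    · refine D.refl_ne_rot 0 (1 - D.h) ?_
      rw [zpow_sub, zpow_one, ← z, show D.z⁻¹ = D.z from inv_eq_of_mul_eq_one_right D.z_mul_z]
      calc D.x ^ (0 : ℤ) * D.y = D.z * (D.z * (D.x ^ (0 : ℤ) * D.y)) := by rw [← mul_assoc, D.z_mul_z, one_mul]
        _ = D.z * D.x := by rw [← h']
        _ = D.x * D.z := (D.z_central D.x).eq

theorem orderOf_z : orderOf D.z = 2 :=
  orderOf_eq_prime (by rw [sq, D.z_mul_z]) D.z_ne_one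

/-- Involutions. -/
theorem invol_cases {s : S} (hs : orderOf s = 2) : s = D.z ∨ ∃ i : ℤ, Even i ∧ s = D.x ^ i * D.y := by
  obtain ⟨j, rfl | rfl⟩ := D.exists_form s
  · left
    have h2 : D.x ^ (2 * j) = 1 := by
      rw [mul_comm, zpow_mul, zpow_ofNat, ← hs, pow_orderOf_eq_one]
    rw [D.zpow_eq_one_iff, ← D.two_h, mul_dvd_mul_iff_left two_ne_zero] at h2
    obtain ⟨c, rfl⟩ := h2
    rcases Int.even_or_odd c with hc | hc
    · rw [D.h_mul_even hc, orderOf_one] at hs; omega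
    · exact D.h_mul_odd hc
  · right
    refine ⟨j, ?_, rfl⟩
    by_contra hj
    rw [D.refl_orderOf_odd (Int.not_even_iff_odd.1 hj)] at hs; omega

theorem four_cases {s : S} (hs : orderOf s = 4) :
    s = D.x ^ ((2 : ℤ) ^ (n - 2)) ∨ s = D.x ^ (-(2 : ℤ) ^ (n - 2)) ∨ ∃ i : ℤ, Odd i ∧ s = D.x ^ i * D.y := by
  obtain ⟨j, rfl | rfl⟩ := D.exists_form s
  · obtain ⟨q, hq⟩ : ∃ q : ℤ, q = (2 : ℤ) ^ (n - 2) := ⟨_, rfl⟩
    have hq4 : (2 : ℤ) ^ n = 4 * q := by
      rw [hq, show (4 : ℤ) = 2 ^ 2 by norm_num, ← pow_add]; congr 1; have := D.hn; omega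
    have h4 : D.x ^ (4 * j) = 1 := by rw [mul_comm, zpow_mul, zpow_ofNat, ← hs, pow_orderOf_eq_one]
    have h2 : ¬ D.x ^ (2 * j) = 1 := by
      rw [mul_comm, zpow_mul, zpow_ofNat, ← orderOf_dvd_iff_pow_eq_one, hs]; norm_num
    rw [D.zpow_eq_one_iff, hq4] at h4 h2
    rw [mul_dvd_mul_iff_left (by norm_num)] at h4
    obtain ⟨c, rfl⟩ := h4
    rcases (show c % 4 = 0 ∨ c % 4 = 1 ∨ c % 4 = 2 ∨ c % 4 = 3 by omega) with h' | h' | h' | h'
    · exact absurd ⟨2 * (c / 4), by have := Int.mul_ediv_add_emod c 4; linear_combination (-2 * q) * this + (2 * q) * h'⟩ h2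
    · refine Or.inl ?_
      rw [← hq, D.zpow_eq_iff, hq4]
      exact ⟨-(c / 4), by have := Int.mul_ediv_add_emod c 4; linear_combination q * this + (-q) * h'⟩
    · exact absurd ⟨2 * (c / 4) + 1, by have := Int.mul_ediv_add_emod c 4; linear_combination (-2 * q) * this + (2 * q) * h'⟩ h2
    · refine Or.inr (Or.inl ?_)
      rw [← hq, D.zpow_eq_iff, hq4]
      exact ⟨-(c / 4) - 1, by have := Int.mul_ediv_add_emod c 4; linear_combination q * this + (-q) * h'⟩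
  · refine Or.inr (Or.inr ⟨j, ?_, rfl⟩)
    by_contra hj
    rw [D.refl_orderOf_even (Int.not_odd_iff_even.1 hj)] at hs; omega

/-- The maximal subgroup containing the reflections of parity `e`. -/
def M (e : ℤ) : Subgroup S where
  carrier := {s | (∃ i : ℤ, Even i ∧ s = D.x ^ i) ∨ ∃ i : ℤ, Even (i - e) ∧ s = D.x ^ i * D.y}
  one_mem' := Or.inl ⟨0, Even.zero, (zpow_zero _).symm⟩
  mul_mem' := by
    have hh : Even D.h := by rw [D.h_eq]; exact ⟨2 * (2 : ℤ) ^ (n - 3), by ring⟩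
    rintro a b (⟨i, hi, rfl⟩ | ⟨i, hi, rfl⟩) (⟨j, hj, rfl⟩ | ⟨j, hj, rfl⟩)
    · exact Or.inl ⟨i + j, hi.add hj, (zpow_add _ _ _).symm⟩
    · exact Or.inr ⟨i + j, by rw [add_sub_assoc]; exact hi.add hj, by rw [← mul_assoc, ← zpow_add]⟩
    · refine Or.inr ⟨i + (D.h - 1) * j, ?_, by rw [mul_assoc, D.y_mul_zpow, ← mul_assoc, ← zpow_add]⟩
      rw [show i + (D.h - 1) * j - e = (i - e) + (D.h - 1) * j by ring]
      exact hi.add (hj.mul_left _)
    · refine Or.inl ⟨i + (D.h - 1) * j, ?_, ?_⟩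
      · rw [show i + (D.h - 1) * j = (i - e) - (j - e) + D.h * j by ring]
        exact (hi.sub hj).add (hh.mul_right j)
      · calc _ = D.x ^ i * (D.y * D.x ^ j) * D.y := by group
          _ = _ := by rw [D.y_mul_zpow, ← mul_assoc, ← zpow_add, mul_assoc, D.yy, mul_one]
  inv_mem' := by
    rintro a (⟨i, hi, rfl⟩ | ⟨i, hi, rfl⟩)
    · exact Or.inl ⟨-i, hi.neg, (zpow_neg _ _).symm⟩
    · refine Or.inr ⟨(D.h - 1) * -i, ?_, ?_⟩
      · have hh : Even D.h := by rw [D.h_eq]; exact ⟨2 * (2 : ℤ) ^ (n - 3), by ring⟩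
        rw [show (D.h - 1) * -i - e = (i - e) + D.h * -i by ring]
        exact hi.add (hh.mul_right _)
      · rw [mul_inv_rev, invol_inv D.oy, ← zpow_neg, D.y_mul_zpow]

theorem rot_mem_M {e i : ℤ} (hi : Even i) : D.x ^ i ∈ D.M e := Or.inl ⟨i, hi, rfl⟩

theorem refl_mem_M {e i : ℤ} (hi : Even (i - e)) : D.x ^ i * D.y ∈ D.M e := Or.inr ⟨i, hi, rfl⟩

theorem x_not_mem_M (e : ℤ) : D.x ∉ D.M e := by
  rintro (⟨i, hi, he⟩ | ⟨i, -, he⟩)
  · have h1 : D.x ^ (1 : ℤ) = D.x ^ i := by rw [zpow_one]; exact he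
    rw [D.zpow_eq_iff, ← D.two_h] at h1
    obtain ⟨c, hc⟩ := h1
    obtain ⟨d, rfl⟩ := hi
    rw [mul_assoc] at hc
    generalize D.h * c = q at hc
    omega
  · exact D.refl_ne_rot i 1 (by rw [zpow_one]; exact he.symm)

theorem card_M (e : ℤ) : Nat.card (D.M e) = 2 ^ n ∧ (D.M e).index = 2 := by
  have hidx : (D.M e).index = 2 := by
    refine Subgroup.index_eq_two_iff.2 ⟨D.x, fun s => ?_⟩
    obtain ⟨i, rfl | rfl⟩ := D.exists_form s
    · rcases Int.even_or_odd i with hi | hi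
      · refine Or.inr ⟨D.rot_mem_M hi, fun h' => D.x_not_mem_M e ?_⟩
        exact (Subgroup.mul_mem_cancel_left _ (D.rot_mem_M hi)).1 h'
      · refine Or.inl ⟨by rw [← zpow_add_one]; exact D.rot_mem_M hi.add_one, fun h' => D.x_not_mem_M e ?_⟩
        have := mul_mem (inv_mem h') (by rw [← zpow_add_one]; exact D.rot_mem_M hi.add_one : D.x ^ i * D.x ∈ D.M e)
        rwa [inv_mul_cancel_left] at this
    · have hprod : D.x ^ i * D.y * D.x = D.x ^ (i + (D.h - 1)) * D.y := by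
        rw [mul_assoc]
        conv_lhs => rw [← zpow_one D.x]
        rw [D.y_mul_zpow, zpow_one, ← mul_assoc, mul_one, ← zpow_add]
      rcases Int.even_or_odd (i - e) with hi | hi
      · exact Or.inr ⟨D.refl_mem_M hi, fun h' => D.x_not_mem_M e
          ((Subgroup.mul_mem_cancel_left _ (D.refl_mem_M hi)).1 h')⟩
      · have hm : D.x ^ i * D.y * D.x ∈ D.M e := by
          rw [hprod]
          refine D.refl_mem_M ?_
          obtain ⟨c, hc⟩ := hi
          exact ⟨c + 2 * (2 : ℤ) ^ (n - 3), by rw [D.h_eq]; linarith⟩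
        refine Or.inl ⟨hm, fun h' => D.x_not_mem_M e ?_⟩
        exact (Subgroup.mul_mem_cancel_left _ h').1 hm
  refine ⟨?_, hidx⟩
  have h1 := (D.M e).card_mul_index
  rw [hidx, D.hcard, pow_succ] at h1
  omega

theorem isPGroup (D : QDData S n) : IsPGroup 2 S := IsPGroup.of_card D.hcard

/-- A subgroup not inside `⟨x⟩` has twice as many elements as its intersection with `⟨x⟩`. -/
theorem card_eq_two_mul (H : Subgroup S) (hH : ¬ H ≤ Subgroup.zpowers D.x) :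
    Nat.card H = 2 * Nat.card ↥(H ⊓ Subgroup.zpowers D.x) := by
  have h1 := ((H ⊓ Subgroup.zpowers D.x).subgroupOf H).card_mul_index
  rw [Nat.card_congr (Subgroup.subgroupOfEquivOfLe inf_le_left).toEquiv] at h1
  have hd : (Subgroup.zpowers D.x).relIndex H ∣ (Subgroup.zpowers D.x).index := by
    haveI := Subgroup.normal_of_index_eq_two D.index_zpowers
    exact Subgroup.relIndex_dvd_index_of_normal _ _
  rw [D.index_zpowers] at hd
  have h2 : ((H ⊓ Subgroup.zpowers D.x).subgroupOf H).index = 2 := by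
    show (H ⊓ Subgroup.zpowers D.x).relIndex H = 2
    rw [Subgroup.inf_relIndex_left]
    exact ((Nat.dvd_prime Nat.prime_two).1 hd).resolve_left fun h' => hH (Subgroup.relIndex_eq_one.1 h')
  rw [← h1, h2, mul_comm]

end QDData

end Cfsg.Agent.Fusion
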