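import Mathlib

/-!
# Four groups in dihedral groups
-/

set_option autoImplicit false

namespace Cfsg.Agent.Fusion

theorem zmod_double_eq_zero {m : ℕ} [NeZero m] {i : ZMod m} (hi : i + i = 0) :
    i = 0 ∨ i = ((m / 2 : ℕ) : ZMod m) := by
  rw [← ZMod.natCast_rightInverse i, ← Nat.cast_add, ZMod.natCast_eq_zero_iff] at hi
  obtain ⟨c, hc⟩ := hi
  have hlt := ZMod.val_lt i
  have h2 : c < 2 := by
    by_contra h
    have := Nat.mul_le_mul_left m (not_lt.1 h)
    omega
  rcases (show c = 0 ∨ c = 1 by omega) with rfl | rfl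
  · rw [mul_zero] at hc
    exact Or.inl ((ZMod.val_eq_zero i).1 (by omega))
  · rw [mul_one] at hc
    right
    rw [← ZMod.natCast_rightInverse i, show i.val = m / 2 by omega]

/-- The centralizer of a reflection has at most four elements. -/
theorem dihedral_centralizer_sr_card_le {m : ℕ} [NeZero m] (i : ZMod m) :
    Nat.card (Subgroup.centralizer ({DihedralGroup.sr i} : Set (DihedralGroup m))) ≤ 4 := by
  classical
  let F : Finset (DihedralGroup m) :=
    {DihedralGroup.r 0, DihedralGroup.r ((m / 2 : ℕ) : ZMod m), DihedralGroup.sr i,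
      DihedralGroup.sr (i + ((m / 2 : ℕ) : ZMod m))}
  have hsub : ∀ d ∈ Subgroup.centralizer ({DihedralGroup.sr i} : Set (DihedralGroup m)), d ∈ F := by
    intro d hd
    have hc := Subgroup.mem_centralizer_singleton_iff.1 hd
    cases d with
    | r j =>
      rw [DihedralGroup.r_mul_sr, DihedralGroup.sr_mul_r] at hc
      have h0 : j + j = 0 := by linear_combination -(DihedralGroup.sr.inj hc)
      rcases zmod_double_eq_zero h0 with h | h <;> simp [F, h]
    | sr j =>
      rw [DihedralGroup.sr_mul_sr, DihedralGroup.sr_mul_sr] at hc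
      have h0 : (j - i) + (j - i) = 0 := by linear_combination -(DihedralGroup.r.inj hc)
      rcases zmod_double_eq_zero h0 with h | h
      · simp [F, sub_eq_zero.1 h]
      · have : j = i + ((m / 2 : ℕ) : ZMod m) := by linear_combination h
        simp [F, this]
  calc Nat.card (Subgroup.centralizer ({DihedralGroup.sr i} : Set (DihedralGroup m)))
      ≤ Nat.card {d // d ∈ F} :=
        Nat.card_le_card_of_injective (fun d => (⟨d.1, hsub d.1 d.2⟩ : {d // d ∈ F}))
          fun a b h => Subtype.ext (congrArg Subtype.val h :)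
    _ ≤ 4 := by rw [Nat.card_eq_finsetCard]; exact Finset.card_le_four

theorem dihedral_four_self_centralizing {m : ℕ} [NeZero m] {T : Subgroup (DihedralGroup m)}
    (hT : ∀ a ∈ T, ∀ b ∈ T, a * b = b * a) (hT2 : ∀ a ∈ T, a * a = 1) (hc : Nat.card T = 4) :
    Subgroup.centralizer (T : Set (DihedralGroup m)) = T := by
  classical
  obtain ⟨i, hi⟩ : ∃ i, DihedralGroup.sr i ∈ T := by
    by_contra hne
    have hsub : ∀ d ∈ T, d ∈ ({DihedralGroup.r 0, DihedralGroup.r ((m / 2 : ℕ) : ZMod m)} : Finset (DihedralGroup m)) := by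
      intro d hd
      cases d with
      | r j =>
        have h := hT2 _ hd
        rw [DihedralGroup.r_mul_r, DihedralGroup.one_def] at h
        rcases zmod_double_eq_zero (DihedralGroup.r.inj h) with h' | h' <;> simp [h']
      | sr j => exact absurd ⟨j, hd⟩ hne
    have := (Nat.card_le_card_of_injective (β := {d // d ∈ ({DihedralGroup.r 0, DihedralGroup.r ((m / 2 : ℕ) : ZMod m)} : Finset (DihedralGroup m))})
      (fun d : T => ⟨d.1, hsub d.1 d.2⟩) fun a b h => Subtype.ext (congrArg Subtype.val h :)).trans
        ((Nat.card_eq_finsetCard _).trans_le Finset.card_le_two)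
    omega
  have hTle : T ≤ Subgroup.centralizer ({DihedralGroup.sr i} : Set (DihedralGroup m)) := fun d hd =>
    Subgroup.mem_centralizer_singleton_iff.2 (hT d hd _ hi)
  refine le_antisymm ?_ fun d hd => Subgroup.mem_centralizer_iff.2 fun e he => hT e he d hd
  rw [Subgroup.eq_of_le_of_card_ge hTle (by rw [hc]; exact dihedral_centralizer_sr_card_le i)]
  exact Subgroup.centralizer_le (Set.singleton_subset_iff.2 (Subgroup.mem_centralizer_singleton_iff.2 rfl))

end Cfsg.Agent.Fusion
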