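import Cfsg.Agent.Lib.Solv.DihedralSylowClasses
import Cfsg.Agent.Lib.Fusion.NPC
import Cfsg.Agent.Lib.Fusion.DihedralFour
import Cfsg.Agent.Lib.Fusion.Cores

/-!
# Klein four subgroups of a dihedral Sylow 2-subgroup
-/

set_option autoImplicit false
set_option linter.style.haveILetI false

namespace Cfsg.Agent.Fusion.DihedralFours

open scoped commutatorElement

open DihedralGroup
open Cfsg.Agent.Solv.DihedralClasses

section D
variable {m : ℕ}

def four (m : ℕ) (i : ZMod m) : Subgroup (DihedralGroup m) := Subgroup.centralizer {sr i}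

theorem mem_four [NeZero m] (hm : 2 ∣ m) (i : ZMod m) (d : DihedralGroup m) :
    d ∈ four m i ↔ d = 1 ∨ d = r ((m / 2 : ℕ) : ZMod m) ∨ d = sr i ∨
      d = sr (i + ((m / 2 : ℕ) : ZMod m)) := by
  have hh : ((m / 2 : ℕ) : ZMod m) + ((m / 2 : ℕ) : ZMod m) = 0 := by
    rw [← Nat.cast_add, show m / 2 + m / 2 = m by omega, ZMod.natCast_self]
  rw [four, Subgroup.mem_centralizer_singleton_iff]
  constructor
  · intro hc
    cases d with
    | r j =>
      rw [r_mul_sr, sr_mul_r] at hc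
      have h0 : j + j = 0 := by linear_combination -(sr.inj hc)
      rcases zmod_double_eq_zero h0 with h | h
      · exact Or.inl (by rw [h, DihedralGroup.one_def])
      · exact Or.inr (Or.inl (by rw [h]))
    | sr j =>
      rw [sr_mul_sr, sr_mul_sr] at hc
      have h0 : (j - i) + (j - i) = 0 := by linear_combination -(r.inj hc)
      rcases zmod_double_eq_zero h0 with h | h
      · exact Or.inr (Or.inr (Or.inl (by rw [sub_eq_zero.1 h])))
      · exact Or.inr (Or.inr (Or.inr (by rw [show j = i + ((m / 2 : ℕ) : ZMod m) by linear_combination h])))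
  · rintro (rfl | rfl | rfl | rfl)
    · simp
    · rw [r_mul_sr, sr_mul_r]; congr 1; linear_combination -hh
    · rfl
    · rw [sr_mul_sr, sr_mul_sr]; congr 1; linear_combination -hh

theorem half_ne_zero [NeZero m] (hm : 2 ∣ m) : ((m / 2 : ℕ) : ZMod m) ≠ 0 := by
  intro h
  have h1 := (ZMod.natCast_eq_zero_iff _ _).1 h
  have h0 : 0 < m := Nat.pos_of_ne_zero (NeZero.ne m)
  have := Nat.le_of_dvd (by omega) h1
  omega

theorem four_klein [NeZero m] (hm : 2 ∣ m) (i : ZMod m) : IsKleinFour (four m i) := by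
  classical
  have hh : ((m / 2 : ℕ) : ZMod m) + ((m / 2 : ℕ) : ZMod m) = 0 := by
    rw [← Nat.cast_add, show m / 2 + m / 2 = m by omega, ZMod.natCast_self]
  have hsq : ∀ d ∈ four m i, d * d = 1 := by
    intro d hd
    rcases (mem_four hm i d).1 hd with rfl | rfl | rfl | rfl
    · simp
    · rw [r_mul_r, hh, DihedralGroup.one_def]
    · rw [sr_mul_self]
    · rw [sr_mul_self]
  let F : Finset (DihedralGroup m) :=
    {1, r ((m / 2 : ℕ) : ZMod m), sr i, sr (i + ((m / 2 : ℕ) : ZMod m))}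
  have hc : Nat.card (four m i) = 4 := by
    have e : (four m i : Set (DihedralGroup m)) = F := by
      ext d
      simp [F, mem_four hm i]
    rw [← SetLike.coe_sort_coe, Nat.card_coe_set_eq, e, Set.ncard_coe_finset]
    have hne := half_ne_zero hm
    simp only [F]
    rw [Finset.card_insert_of_notMem, Finset.card_insert_of_notMem, Finset.card_pair]
    · intro h; exact hne (by linear_combination -(sr.inj h))
    · simp
    · simp only [Finset.mem_insert, Finset.mem_singleton, DihedralGroup.one_def]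
      rintro (h | h | h)
      · exact hne (r.inj h).symm
      · cases h
      · cases h
  refine ⟨hc, Nat.dvd_antisymm (Monoid.exponent_dvd_of_forall_pow_eq_one fun d => ?_) ?_⟩
  · exact Subtype.ext (by rw [Subgroup.coe_pow, pow_two]; exact hsq d.1 d.2)
  · have h2 : orderOf (⟨sr i, (mem_four hm i _).2 (Or.inr (Or.inr (Or.inl rfl)))⟩ : four m i) = 2 := by
      rw [Subgroup.orderOf_mk, orderOf_sr]
    rw [← h2]
    exact Monoid.order_dvd_exponent _

theorem four_exists [NeZero m] {V : Subgroup (DihedralGroup m)}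
    (hV2 : ∀ a ∈ V, a * a = 1) (hc : Nat.card V = 4) : ∃ i, V = four m i := by
  classical
  obtain ⟨i, hi⟩ : ∃ i, sr i ∈ V := by
    by_contra hne
    have hsub : ∀ d ∈ V, d ∈ ({1, r ((m / 2 : ℕ) : ZMod m)} : Finset (DihedralGroup m)) := by
      intro d hd
      by_cases h1 : d = 1
      · simp [h1]
      rcases involution_cases h1 (hV2 d hd) with rfl | ⟨i, rfl⟩
      · simp
      · exact absurd ⟨i, hd⟩ hne
    have := (Nat.card_le_card_of_injective (β := {d // d ∈ ({1, r ((m / 2 : ℕ) : ZMod m)} : Finset (DihedralGroup m))})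
      (fun d : V => ⟨d.1, hsub d.1 d.2⟩) fun a b h => Subtype.ext (congrArg Subtype.val h :)).trans
        ((Nat.card_eq_finsetCard _).trans_le Finset.card_le_two)
    omega
  refine ⟨i, Subgroup.eq_of_le_of_card_ge (fun d hd => Subgroup.mem_centralizer_singleton_iff.2 ?_)
    (by rw [hc]; exact dihedral_centralizer_sr_card_le i)⟩
  have h3 := hV2 _ (V.mul_mem hd hi)
  have h4 : sr i * sr i = (1 : DihedralGroup m) := hV2 _ hi
  have h5 := hV2 _ hd
  calc d * sr i = d * (d * sr i * (d * sr i)) * sr i := by rw [h3, mul_one]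
    _ = (d * d) * (sr i * d) * (sr i * sr i) := by group
    _ = sr i * d := by rw [h5, h4, one_mul, mul_one]

theorem four_conj [NeZero m] (hm : 2 ∣ m) (i : ZMod m) :
    ∃ g : DihedralGroup m, cj (four m i) g = four m 0 ∨ cj (four m i) g = four m 1 := by
  have key : ∀ j k : ZMod m, cj (four m (j + (k + k))) (r k) = four m j := by
    intro j k
    rw [four, four, ← Subgroup.centralizer_closure, cj_centralizer, cj, MonoidHom.map_closure,
      Subgroup.centralizer_closure, Set.image_singleton]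
    congr 2
    show r k * sr (j + (k + k)) * (r k)⁻¹ = sr j
    rw [inv_r, r_mul_sr, sr_mul_r]
    congr 1
    ring
  rcases eq_two_mul_or i with ⟨k, hk⟩ | ⟨k, hk⟩
  · exact ⟨r k, Or.inl (by rw [hk, ← zero_add (k + k)]; exact key 0 k)⟩
  · exact ⟨r k, Or.inr (by rw [hk]; exact key 1 k)⟩

theorem four_not_conj [NeZero m] (hm : 4 ∣ m) (g : DihedralGroup m) :
    g * sr 0 * g⁻¹ ∉ four m 1 := by
  have hm2 : 2 ∣ m := (dvd_mul_right 2 2).trans hm
  obtain ⟨l, hl⟩ := hm
  intro h
  rcases (mem_four hm2 1 _).1 h with e | e | e | e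
  · rw [conj_eq_one_iff] at e
    rw [DihedralGroup.one_def] at e; cases e
  · have e' : sr (0 : ZMod m) = g⁻¹ * r ((m / 2 : ℕ) : ZMod m) * g := by rw [← e]; group
    cases g with
    | r k => rw [inv_r, r_mul_r, r_mul_r] at e'; cases e'
    | sr k => rw [inv_sr, sr_mul_r, sr_mul_sr] at e'; cases e'
  · exact parity_conj hm2 g e
  · refine parity_conj hm2 (r ((l : ℕ) : ZMod m) * g) ?_
    calc r ((l : ℕ) : ZMod m) * g * sr 0 * (r ((l : ℕ) : ZMod m) * g)⁻¹
        = r ((l : ℕ) : ZMod m) * (g * sr 0 * g⁻¹) * (r ((l : ℕ) : ZMod m))⁻¹ := by group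
      _ = sr 1 := by
        rw [e, inv_r, r_mul_sr, sr_mul_r]
        congr 1
        rw [show m / 2 = l + l by omega, Nat.cast_add]
        ring

theorem four_swap [NeZero m] {l : ℕ} (hl : m = 4 * l) (i : ZMod m) {u v : DihedralGroup m}
    (hu : u ∈ four m i) (hv : v ∈ four m i) (hu1 : u ≠ 1) (hv1 : v ≠ 1)
    (huz : u ≠ r ((m / 2 : ℕ) : ZMod m)) (hvz : v ≠ r ((m / 2 : ℕ) : ZMod m)) :
    r (l : ZMod m) * u * (r (l : ZMod m))⁻¹ ≠ u ∧
    r (l : ZMod m) * u * (r (l : ZMod m))⁻¹ ∈ four m i ∧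
    (u ≠ v → v = r (l : ZMod m) * u * (r (l : ZMod m))⁻¹) := by
  have hm2 : 2 ∣ m := ⟨2 * l, by omega⟩
  have hh : ((m / 2 : ℕ) : ZMod m) + ((m / 2 : ℕ) : ZMod m) = 0 := by
    rw [← Nat.cast_add, show m / 2 + m / 2 = m by omega, ZMod.natCast_self]
  have hll : (l : ZMod m) + (l : ZMod m) = ((m / 2 : ℕ) : ZMod m) := by
    rw [show m / 2 = l + l by omega, Nat.cast_add]
  have hne := half_ne_zero hm2
  have hc : ∀ j, r (l : ZMod m) * sr j * (r (l : ZMod m))⁻¹ = sr (j + ((m / 2 : ℕ) : ZMod m)) := by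
    intro j
    rw [inv_r, r_mul_sr, sr_mul_r]
    congr 1
    linear_combination -hll - hh
  rcases (mem_four hm2 i u).1 hu with rfl | rfl | rfl | rfl
  · exact absurd rfl hu1
  · exact absurd rfl huz
  · rw [hc]
    refine ⟨fun e => hne (by linear_combination sr.inj e), (mem_four hm2 i _).2 (Or.inr (Or.inr (Or.inr rfl))), fun huv => ?_⟩
    rcases (mem_four hm2 i v).1 hv with rfl | rfl | rfl | rfl
    · exact absurd rfl hv1
    · exact absurd rfl hvz
    · exact absurd rfl huv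
    · rfl
  · rw [hc, add_assoc, hh, add_zero]
    refine ⟨fun e => hne (by linear_combination -(sr.inj e)), (mem_four hm2 i _).2 (Or.inr (Or.inr (Or.inl rfl))), fun huv => ?_⟩
    rcases (mem_four hm2 i v).1 hv with rfl | rfl | rfl | rfl
    · exact absurd rfl hv1
    · exact absurd rfl hvz
    · rfl
    · exact absurd rfl huv

end D

theorem hnpc_two_cyclic {G : Type*} [Group G] [Finite G] (P : Sylow 2 G)
    (h : IsCyclic (P : Subgroup G)) : Cfsg.HasNormalPComplement 2 G := by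
  haveI : Fact (Nat.Prime 2) := ⟨Nat.prime_two⟩
  by_cases h2 : 2 ∣ Nat.card G
  · exact ⟨P, _, inferInstance, IsCyclic.isComplement' (Nat.minFac_eq_two_iff _ |>.2 h2) h⟩
  · exact hnpc_of_not_dvd h2

open DihedralGroup in
/-- No reflection fused with the central involution gives a normal 2-complement. -/
theorem dihedral_hnpc_of_no_fusion {G : Type*} [Group G] [Finite G] {m : ℕ} [NeZero m] (P : Sylow 2 G)
    (hm : 4 ∣ m) (ι : DihedralGroup m →* G) (hι : Function.Injective ι)
    (hrange : ι.range = (P : Subgroup G))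
    (hz : ∀ (i : ZMod m) (g : G), g * ι (sr i) * g⁻¹ ≠ ι (r ((m / 2 : ℕ) : ZMod m))) :
    Cfsg.HasNormalPComplement 2 G := by
  haveI : Fact (Nat.Prime 2) := ⟨Nat.prime_two⟩
  have hm2 : 2 ∣ m := (dvd_mul_right 2 2).trans hm
  have key : ∀ i : ZMod m, ∃ N : Subgroup G, N.Normal ∧ N.index = 2 ∧ ι (sr i) ∉ N := by
    intro i
    refine exists_index_two P ι hι hrange rotations_index_two (orderOf_sr i)
      (by rintro ⟨j, hj⟩; cases hj) ?_
    rintro g ⟨x, ⟨j, rfl⟩, hxe⟩
    have hxo : orderOf (r j : DihedralGroup m) = 2 := by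
      rw [← orderOf_injective ι hι, hxe,
        show g * ι (sr i) * g⁻¹ = (MulAut.conj g).toMonoidHom (ι (sr i)) by simp,
        orderOf_injective _ (MulAut.conj g).injective, orderOf_injective ι hι, orderOf_sr]
    rcases involution_cases' hxo with e | ⟨k, e⟩
    · rw [e] at hxe
      exact hz i g hxe.symm
    · cases e
  obtain ⟨N, hN, hN2, hNs⟩ := key 0
  obtain ⟨N', hN', hN'2, hN't⟩ := key 1
  set K := N ⊓ N'
  have hKsr : ∀ i, ι (sr i) ∉ K := by
    intro i hi
    rcases eq_two_mul_or i with ⟨k, rfl⟩ | ⟨k, rfl⟩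
    · refine hNs ?_
      have := hN.conj_mem _ hi.1 (ι (r k))
      rwa [← map_inv, ← map_mul, ← map_mul, inv_r, r_mul_sr, sr_mul_r,
        show k + k - k + -k = (0 : ZMod m) by ring] at this
    · refine hN't ?_
      have := hN'.conj_mem _ hi.2 (ι (r k))
      rwa [← map_inv, ← map_mul, ← map_mul, inv_r, r_mul_sr, sr_mul_r,
        show 1 + (k + k) - k + -k = (1 : ZMod m) by ring] at this
  have hQ : SylIn 2 ((P : Subgroup G) ⊓ K) K :=
    (sylIn_top P).inf_normal le_top (by rw [Subgroup.normalizer_eq_top])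
  have hle : (P : Subgroup G) ⊓ K ≤ Subgroup.zpowers (ι (r 1)) := by
    rintro _ ⟨hx, hxK⟩
    rw [← hrange] at hx
    obtain ⟨d, rfl⟩ := hx
    cases d with
    | r i =>
      rw [← ZMod.natCast_rightInverse i, ← r_one_pow, map_pow]
      exact Subgroup.npow_mem_zpowers _ _
    | sr i => exact absurd hxK (hKsr i)
  obtain ⟨Q, hQe⟩ := hQ.exists_sylow_subgroupOf
  haveI hc : IsCyclic ((P : Subgroup G) ⊓ K : Subgroup G) :=
    isCyclic_of_injective (Subgroup.inclusion hle) (Subgroup.inclusion_injective hle)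
  have hQc : IsCyclic (Q : Subgroup K) := by
    rw [hQe]
    exact (Subgroup.subgroupOfEquivOfLe hQ.le).isCyclic.2 hc
  have hK := hnpc_iff.1 (hnpc_two_cyclic Q hQc)
  have hR : Cfsg.pResidual 2 G ≤ K := by
    refine pResidual_le_of_isPGroup_quotient fun q => ⟨1, ?_⟩
    induction q using QuotientGroup.induction_on with | _ g
    rw [← QuotientGroup.mk_pow, QuotientGroup.eq_one_iff, pow_one, pow_two]
    exact ⟨Subgroup.mul_self_mem_of_index_two hN2 g, Subgroup.mul_self_mem_of_index_two hN'2 g⟩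
  rw [hnpc_iff]
  refine hK.coprime_dvd_left ?_
  have h1 := map_pResidual_le (p := 2) (Subgroup.inclusion hR)
  rw [pResidual_pResidual] at h1
  have h2 := Subgroup.card_dvd_of_le h1
  rwa [Subgroup.card_map_of_injective (Subgroup.inclusion_injective hR), Subgroup.card_top] at h2

/-- The two classes of four groups of a dihedral Sylow 2-subgroup are not fused. -/
theorem four_map_not_conj {X : Type*} [Group X] [Finite X] (S : Sylow 2 X) {m l : ℕ} [NeZero m]
    (hl : m = 4 * l) (ι : DihedralGroup m →* X) (hι : Function.Injective ι)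
    (hrange : ι.range = (S : Subgroup X)) :
    ¬ ∃ x : X, cj ((four m 0).map ι) x = (four m 1).map ι := by
  haveI : Fact (Nat.Prime 2) := ⟨Nat.prime_two⟩
  have hm4 : 4 ∣ m := ⟨_, hl⟩
  have hm2 : 2 ∣ m := (dvd_mul_right 2 2).trans hm4
  rintro ⟨x, hx⟩
  have hx' : ∀ {u}, u ∈ (four m 0).map ι → x * u * x⁻¹ ∈ (four m 1).map ι := fun hu => by
    rw [← hx]; exact Subgroup.mem_map_of_mem _ hu
  set zD : DihedralGroup m := DihedralGroup.r ((m / 2 : ℕ) : ZMod m) with hzD
  set w : DihedralGroup m := DihedralGroup.r ((l : ℕ) : ZMod m) with hw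
  have hzi : ∀ i, ι zD ∈ (four m i).map ι := fun i =>
    Subgroup.mem_map_of_mem _ ((mem_four hm2 i _).2 (Or.inr (Or.inl rfl)))
  have hwz : ι w * ι zD * (ι w)⁻¹ = ι zD := by
    rw [← map_inv, ← map_mul, ← map_mul, hw, hzD, DihedralGroup.inv_r, DihedralGroup.r_mul_r,
      DihedralGroup.r_mul_r, add_neg_cancel_comm]
  have hz1 : ι zD ≠ 1 := by
    rw [← map_one ι]
    intro h
    exact half_ne_zero hm2 (DihedralGroup.r.inj (hι h))
  -- adjust the conjugating element to fix the central involution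
  obtain ⟨y, hy, hyz⟩ : ∃ y : X, cj ((four m 0).map ι) y = (four m 1).map ι ∧
      y * ι zD * y⁻¹ = ι zD := by
    by_cases hb : x * ι zD * x⁻¹ = ι zD
    · exact ⟨x, hx, hb⟩
    set b := x * ι zD * x⁻¹ with hbdef
    obtain ⟨b', hb'm, hb'⟩ := hx' (hzi 0)
    obtain ⟨a', ha'm, ha'⟩ : ∃ a' ∈ four m 0, ι a' = x⁻¹ * ι zD * x := by
      have h1 : ι zD ∈ cj ((four m 0).map ι) x := by
        rw [show cj ((four m 0).map ι) x = _ from hx]; exact hzi 1
      exact mem_cj.1 h1
    have hb1 : b' ≠ 1 := fun e => hz1 (by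
      rw [e, map_one] at hb'
      exact conj_eq_one_iff.1 hb'.symm)
    have ha1 : a' ≠ 1 := fun e => hz1 (by
      rw [e, map_one] at ha'
      calc ι zD = x * (x⁻¹ * ι zD * x) * x⁻¹ := by group
        _ = 1 := by rw [← ha']; group)
    have haz : a' ≠ zD := fun e => hb (by
      rw [e] at ha'
      calc b = x * (x⁻¹ * ι zD * x) * x⁻¹ := by rw [← ha']
        _ = ι zD := by group)
    have hbz : b' ≠ zD := fun e => hb (by rw [hbdef, ← hb', e])
    obtain ⟨hne0, hin0, -⟩ := four_swap hl 0 ha'm ha'm ha1 ha1 haz haz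
    set q := x * ι w * x⁻¹ with hq
    have hqb : q * b * q⁻¹ = b := by
      calc q * b * q⁻¹ = x * (ι w * ι zD * (ι w)⁻¹) * x⁻¹ := by rw [hq, hbdef]; group
        _ = b := by rw [hwz]
    obtain ⟨v', hv'm, hv'⟩ : q * ι zD * q⁻¹ ∈ (four m 1).map ι := by
      have := hx' (Subgroup.mem_map_of_mem ι hin0)
      convert this using 1
      rw [map_mul, map_mul, map_inv, ha', hq, hw]; group
    have hqz : q * ι zD * q⁻¹ ≠ ι zD := by
      intro e
      refine hne0 (hι ?_)
      rw [map_mul, map_mul, map_inv, ha']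
      calc ι w * (x⁻¹ * ι zD * x) * (ι w)⁻¹ = x⁻¹ * (q * ι zD * q⁻¹) * x := by rw [hq]; group
        _ = _ := by rw [e]
    have hv1 : v' ≠ 1 := fun e => hz1 (by
      rw [e, map_one] at hv'
      exact conj_eq_one_iff.1 hv'.symm)
    have hvz : v' ≠ zD := fun e => hqz (by rw [← hv', e])
    have hvb : b' ≠ v' := fun e => by
      have e3 : q * ι zD * q⁻¹ = b := by rw [← hv', ← e, hb']
      refine hb ?_
      calc b = q⁻¹ * (q * b * q⁻¹) * q := by group
        _ = q⁻¹ * (q * ι zD * q⁻¹) * q := by rw [hqb, e3]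
        _ = ι zD := by group
    obtain ⟨-, -, hswap⟩ := four_swap hl 1 hb'm hv'm hb1 hv1 hbz hvz
    have e2 : q * ι zD * q⁻¹ = ι w * b * (ι w)⁻¹ := by
      rw [← hv', hswap hvb, map_mul, map_mul, map_inv, hb']
    have hwN : ∀ i, cj ((four m i).map ι) (ι w) = (four m i).map ι := by
      intro i
      refine cj_eq_of_cj_le ?_
      rintro _ ⟨_, ⟨d, hd, rfl⟩, rfl⟩
      show ι w * ι d * (ι w)⁻¹ ∈ _
      rcases (mem_four hm2 i d).1 hd with rfl | rfl | rfl | rfl
      · simp
      · rw [hwz]; exact hzi i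
      all_goals
        rw [← map_inv, ← map_mul, ← map_mul]
        refine Subgroup.mem_map_of_mem ι (four_swap hl i hd hd ?_ ?_ ?_ ?_).2.1 <;>
          (intro h; cases h)
    have hqN : cj ((four m 1).map ι) q = (four m 1).map ι := by
      conv_lhs => rw [← hx]
      show cj (cj ((four m 0).map ι) x) q = _
      rw [cj_cj, hq, inv_mul_cancel_right, ← cj_cj, hwN]
      exact hx
    refine ⟨q⁻¹ * ι w * x, ?_, ?_⟩
    · rw [← cj_cj, show cj ((four m 0).map ι) x = (four m 1).map ι from hx, ← cj_cj, hwN]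
      conv_lhs => rw [← hqN]
      rw [cj_cj_inv]
    · calc q⁻¹ * ι w * x * ι zD * (q⁻¹ * ι w * x)⁻¹
          = q⁻¹ * (ι w * b * (ι w)⁻¹) * q := by rw [hbdef]; group
        _ = ι zD := by rw [← e2]; group
  -- work in the centralizer of the involution
  set C := Subgroup.centralizer ({ι zD} : Set X) with hCdef
  have hzc : ∀ d, zD * d = d * zD := by
    intro d
    have hh : ((m / 2 : ℕ) : ZMod m) + ((m / 2 : ℕ) : ZMod m) = 0 := by
      rw [← Nat.cast_add, show m / 2 + m / 2 = m by omega, ZMod.natCast_self]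
    cases d with
    | r i => rw [hzD, DihedralGroup.r_mul_r, DihedralGroup.r_mul_r, add_comm]
    | sr i => rw [hzD, DihedralGroup.r_mul_sr, DihedralGroup.sr_mul_r]; congr 1; linear_combination -hh
  have hιC : ∀ d, ι d ∈ C := fun d => Subgroup.mem_centralizer_singleton_iff.2 (by
    rw [← map_mul, ← map_mul, hzc])
  have hyC : y ∈ C := Subgroup.mem_centralizer_singleton_iff.2 (mul_inv_eq_iff_eq_mul.1 hyz)
  have hSC : (S : Subgroup X) ≤ C := hrange ▸ (by rintro _ ⟨d, rfl⟩; exact hιC d)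
  set ι' : DihedralGroup m →* C := ι.codRestrict C hιC with hι'
  have hrange' : ι'.range = ((S.subtype hSC : Sylow 2 C) : Subgroup C) := by
    rw [Sylow.coe_subtype, hι']
    ext c
    rw [Subgroup.mem_subgroupOf, ← hrange]
    exact ⟨fun ⟨d, h⟩ => ⟨d, congrArg Subtype.val h⟩, fun ⟨d, h⟩ => ⟨d, Subtype.ext h⟩⟩
  have hnpc : Cfsg.HasNormalPComplement 2 C :=
    dihedral_hnpc_of_no_fusion (S.subtype hSC) hm4 ι' (fun a b e => by have h := congrArg Subtype.val e; exact hι h) hrange'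
      (fun i g e => by
        have e1 : (g : X) * ι (DihedralGroup.sr i) * (g : X)⁻¹ = ι zD := congrArg Subtype.val e
        have e2 : ι (DihedralGroup.sr i) = ι zD := by
          calc ι (DihedralGroup.sr i) = (g : X)⁻¹ * ((g : X) * ι (DihedralGroup.sr i) * (g : X)⁻¹) * g := by group
            _ = (g : X)⁻¹ * (ι zD * g) := by rw [e1, mul_assoc]
            _ = ι zD := by rw [← Subgroup.mem_centralizer_singleton_iff.1 g.2, inv_mul_cancel_left]
        have e3 := hι e2
        rw [hzD] at e3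
        cases e3)
  set O := Cfsg.pResidual 2 C with hO
  have hyC' : (⟨y, hyC⟩ : C) ∈ O ⊔ ((S.subtype hSC : Sylow 2 C) : Subgroup C) := by
    rw [hO, pResidual_sup_sylow]; trivial
  rw [← hrange'] at hyC'
  obtain ⟨o, ho, _, ⟨σ, rfl⟩, he⟩ := Subgroup.mem_sup_of_normal_left.1 hyC'
  have hu : ι' (DihedralGroup.sr 0) = ⟨ι (DihedralGroup.sr 0), hιC _⟩ := rfl
  obtain ⟨d, hd, hde⟩ : y * ι (DihedralGroup.sr 0) * y⁻¹ ∈ (four m 1).map ι := by
    rw [← hy]
    exact conj_mem_cj (Subgroup.mem_map_of_mem _ ((mem_four hm2 0 _).2 (Or.inr (Or.inr (Or.inl rfl)))))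
  set a := σ * DihedralGroup.sr 0 * σ⁻¹ with ha
  refine four_not_conj hm4 σ ?_
  rw [← ha]
  have hdiff : ι' d * (ι' a)⁻¹ ∈ O := by
    have e : ι' d = o * ι' a * o⁻¹ := by
      have e1 : ι' d = (⟨y, hyC⟩ : C) * ι' (DihedralGroup.sr 0) * (⟨y, hyC⟩ : C)⁻¹ := Subtype.ext hde
      rw [e1, ← he, ha, map_mul, map_mul, map_inv]; group
    rw [e, show o * ι' a * o⁻¹ * (ι' a)⁻¹ = o * (ι' a * o⁻¹ * (ι' a)⁻¹) by group]
    exact O.mul_mem ho ((inferInstance : O.Normal).conj_mem _ (O.inv_mem ho) _)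
  have hbot : O ⊓ ((S.subtype hSC : Sylow 2 C) : Subgroup C) = ⊥ :=
    coprime_inf_pGroup (hnpc_iff.1 hnpc) (S.subtype hSC).isPGroup'
  have h1 : ι' d * (ι' a)⁻¹ ∈ O ⊓ ((S.subtype hSC : Sylow 2 C) : Subgroup C) :=
    ⟨hdiff, hrange' ▸ ι'.range.mul_mem ⟨d, rfl⟩ (ι'.range.inv_mem ⟨a, rfl⟩)⟩
  rw [hbot, Subgroup.mem_bot, mul_inv_eq_one] at h1
  have h2 := congrArg Subtype.val h1
  exact (hι h2) ▸ hd

theorem four_map_klein {X : Type*} [Group X] {m : ℕ} [NeZero m] (hm2 : 2 ∣ m)
    (ι : DihedralGroup m →* X) (hι : Function.Injective ι) (i : ZMod m) :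
    IsKleinFour ((four m i).map ι) := by
  haveI := four_klein hm2 i
  exact ⟨by rw [Subgroup.card_map_of_injective hι, IsKleinFour.card_four],
    by rw [← Monoid.exponent_eq_of_mulEquiv ((four m i).equivMapOfInjective ι hι), IsKleinFour.exponent_two]⟩

theorem exists_four_map {X : Type*} [Group X] {m : ℕ} [NeZero m]
    (ι : DihedralGroup m →* X) (hι : Function.Injective ι) {V : Subgroup X} (hV : IsKleinFour V)
    (hle : V ≤ ι.range) : ∃ i, V = (four m i).map ι := by
  have hWmap : (V.comap ι).map ι = V := Subgroup.map_comap_eq_self hle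
  have hWc : Nat.card (V.comap ι) = 4 := by
    rw [← Subgroup.card_map_of_injective hι, hWmap, hV.card_four]
  have hW2 : ∀ a ∈ V.comap ι, a * a = 1 := by
    intro a ha
    refine hι ?_
    rw [map_mul, map_one]
    exact congrArg Subtype.val (IsKleinFour.mul_self (G := V) ⟨ι a, ha⟩)
  obtain ⟨i, hi⟩ := four_exists hW2 hWc
  exact ⟨i, by rw [← hi, hWmap]⟩

theorem four_map_conj {X : Type*} [Group X] {m : ℕ} [NeZero m] (hm2 : 2 ∣ m)
    (ι : DihedralGroup m →* X) (i : ZMod m) :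
    ∃ g : DihedralGroup m, cj ((four m i).map ι) (ι g) = (four m 0).map ι ∨
      cj ((four m i).map ι) (ι g) = (four m 1).map ι := by
  obtain ⟨g, hg⟩ := four_conj hm2 i
  have key : ∀ j, cj (four m i) g = four m j → cj ((four m i).map ι) (ι g) = (four m j).map ι := by
    intro j hj
    rw [← hj, cj, cj, Subgroup.map_map, Subgroup.map_map]
    congr 1
    ext d
    simp
  exact ⟨g, hg.imp (key 0) (key 1)⟩

theorem center_r_half {m : ℕ} (hm2 : 2 ∣ m) (d : DihedralGroup m) :
    DihedralGroup.r ((m / 2 : ℕ) : ZMod m) * d = d * DihedralGroup.r ((m / 2 : ℕ) : ZMod m) := by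
  have hh : ((m / 2 : ℕ) : ZMod m) + ((m / 2 : ℕ) : ZMod m) = 0 := by
    rw [← Nat.cast_add, show m / 2 + m / 2 = m by omega, ZMod.natCast_self]
  cases d with
  | r i => rw [DihedralGroup.r_mul_r, DihedralGroup.r_mul_r, add_comm]
  | sr i => rw [DihedralGroup.r_mul_sr, DihedralGroup.sr_mul_r]; congr 1; linear_combination -hh

/-- A reflection fused with the central involution is so fused in the normalizer of its four group. -/
theorem exists_normalizer_moving {X : Type*} [Group X] [Finite X] (S : Sylow 2 X) {m l : ℕ}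
    [NeZero m] (hl : m = 4 * l) (ι : DihedralGroup m →* X) (hι : Function.Injective ι)
    (hrange : ι.range = (S : Subgroup X)) {i : ZMod m} {g : X}
    (hg : g * ι (DihedralGroup.sr i) * g⁻¹ = ι (DihedralGroup.r ((m / 2 : ℕ) : ZMod m))) :
    ∃ n ∈ Subgroup.normalizer (((four m i).map ι : Subgroup X) : Set X),
      n * ι (DihedralGroup.sr i) * n⁻¹ = ι (DihedralGroup.r ((m / 2 : ℕ) : ZMod m)) := by
  haveI : Fact (Nat.Prime 2) := ⟨Nat.prime_two⟩
  have hm2 : 2 ∣ m := ⟨2 * l, by omega⟩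
  set zD : DihedralGroup m := DihedralGroup.r ((m / 2 : ℕ) : ZMod m) with hzD
  set C := Subgroup.centralizer ({ι zD} : Set X)
  have hιC : ∀ d, ι d ∈ C := fun d => Subgroup.mem_centralizer_singleton_iff.2 (by
    rw [← map_mul, ← map_mul, center_r_half hm2])
  have hSC : SylIn 2 (S : Subgroup X) C :=
    (sylIn_top S).mono (hrange ▸ (by rintro _ ⟨d, rfl⟩; exact hιC d)) le_top
  have hU := four_map_klein hm2 ι hι i
  have hgU : cj ((four m i).map ι) g ≤ C := by
    rintro _ ⟨_, ⟨d, hd, rfl⟩, rfl⟩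
    refine Subgroup.mem_centralizer_singleton_iff.2 ?_
    show g * ι d * g⁻¹ * ι zD = ι zD * (g * ι d * g⁻¹)
    have hd' : ι d * ι (DihedralGroup.sr i) = ι (DihedralGroup.sr i) * ι d := by
      rw [← map_mul, ← map_mul, Subgroup.mem_centralizer_singleton_iff.1 hd]
    rw [← hg]
    calc g * ι d * g⁻¹ * (g * ι (DihedralGroup.sr i) * g⁻¹)
        = g * (ι d * ι (DihedralGroup.sr i)) * g⁻¹ := by group
      _ = g * (ι (DihedralGroup.sr i) * ι d) * g⁻¹ := by rw [hd']
      _ = _ := by group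
  obtain ⟨c, hc, hcS⟩ := hSC.conj_le
    (isPGroup_cj (IsPGroup.of_card (p := 2) (n := 2) hU.card_four) g) hgU
  have hcz : c * ι zD * c⁻¹ = ι zD := by
    rw [Subgroup.mem_centralizer_singleton_iff.1 hc, mul_inv_cancel_right]
  rw [cj_cj] at hcS
  have hV : IsKleinFour (cj ((four m i).map ι) (c * g)) :=
    ⟨by rw [card_cj, hU.card_four], by
      rw [cj, ← Monoid.exponent_eq_of_mulEquiv
        (((four m i).map ι).equivMapOfInjective _ (MulAut.conj (c * g)).injective), hU.exponent_two]⟩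
  obtain ⟨j, hj⟩ := exists_four_map ι hι hV (hcS.trans hrange.ge)
  obtain ⟨a, ha⟩ := four_map_conj hm2 ι i
  obtain ⟨b, hb⟩ := four_map_conj hm2 ι j
  have hback : cj ((four m i).map ι) (ι b * (c * g)) = cj ((four m i).map ι) (ι a) := by
    have e1 : cj ((four m i).map ι) (ι b * (c * g)) = cj ((four m j).map ι) (ι b) := by
      rw [← cj_cj _ (c * g) (ι b), hj]
    rcases ha with ha | ha <;> rcases hb with hb | hb
    · rw [e1, hb, ha]
    · exact absurd ⟨ι b * (c * g) * (ι a)⁻¹, by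
        rw [← cj_cj _ (ι a)⁻¹, ← ha, cj_cj_inv, e1, hb]⟩ (four_map_not_conj S hl ι hι hrange)
    · exact absurd ⟨ι a * (ι b * (c * g))⁻¹, by
        rw [← cj_cj _ (ι b * (c * g))⁻¹, ← hb, ← e1, cj_cj_inv, ha]⟩ (four_map_not_conj S hl ι hι hrange)
    · rw [e1, hb, ha]
  refine ⟨(ι a)⁻¹ * (ι b * (c * g)), mem_normalizer_iff_cj.2 ?_, ?_⟩
  · rw [← cj_cj, hback, cj_cj_inv]
  · have hfix : ∀ d, ι d * ι zD * (ι d)⁻¹ = ι zD := fun d => by
      rw [← map_mul, ← center_r_half hm2, map_mul, mul_inv_cancel_right]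
    calc (ι a)⁻¹ * (ι b * (c * g)) * ι (DihedralGroup.sr i) * ((ι a)⁻¹ * (ι b * (c * g)))⁻¹
        = (ι a)⁻¹ * (ι b * (c * (g * ι (DihedralGroup.sr i) * g⁻¹) * c⁻¹) * (ι b)⁻¹) * (ι a)⁻¹⁻¹ := by group
      _ = (ι a)⁻¹ * (ι b * (c * ι zD * c⁻¹) * (ι b)⁻¹) * (ι a)⁻¹⁻¹ := by rw [hg]
      _ = ι zD := by rw [hcz, hfix, ← map_inv, hfix]

end Cfsg.Agent.Fusion.DihedralFours
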