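import Cfsg.Agent.S1247
import Cfsg.Prelude.Def_EvenTechniques

/-!
Consequences of `M ⇝ N` for maximal subgroups of a simple group.
-/

set_option autoImplicit false
set_option linter.style.haveILetI false

open Cfsg Cfsg.Agent Cfsg.Agent.Fusion
open scoped commutatorElement

namespace Cfsg.Agent.BenderUniq

variable {G : Type*} [Group G] [Finite G] [IsSimpleGroup G]

theorem norm_coatom {K : Subgroup G} (hK : IsCoatom K) (U : Subgroup ↥K) (hU : U.Normal) (hU1 : U ≠ ⊥) :
    Subgroup.normalizer ((U.map K.subtype : Subgroup G) : Set G) = K := by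
  have hle : K ≤ Subgroup.normalizer ((U.map K.subtype : Subgroup G) : Set G) := by
    rw [← Subgroup.normal_subgroupOf_iff_le_normalizer (Subgroup.map_subtype_le U), Subgroup.subgroupOf,
      Subgroup.comap_map_eq_self_of_injective K.subtype_injective]
    exact hU
  refine (hle.eq_or_lt.resolve_right fun hlt => ?_).symm
  have hn := Subgroup.normalizer_eq_top_iff.1 (hK.2 _ hlt)
  rcases hn.eq_bot_or_eq_top with h | h
  · exact hU1 ((Subgroup.map_eq_bot_iff_of_injective _ K.subtype_injective).1 h)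
  · exact hK.1 (top_le_iff.1 (h ▸ Subgroup.map_subtype_le U))

theorem core_dvd {M : Subgroup G} {r : ℕ} (hr : r.Prime) :
    r ∣ Nat.card (Cfsg.fittingSubgroup ↥M) ↔ Cfsg.pCore r ↥M ≠ ⊥ := by
  haveI := Fact.mk hr
  constructor
  · intro hd hb
    obtain ⟨x, hx⟩ := exists_prime_orderOf_dvd_card' r hd
    have hx' : Subgroup.zpowers (x : ↥M) ≤ Cfsg.pCore r ↥M :=
      Solv.pgroup_le_pCore_of_le_fitting
        (IsPGroup.of_card (n := 1) (by rw [Nat.card_zpowers, Subgroup.orderOf_coe, hx, pow_one]))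
        (Subgroup.zpowers_le.2 x.2)
    rw [hb, le_bot_iff, Subgroup.zpowers_eq_bot] at hx'
    rw [show x = 1 from Subtype.ext hx', orderOf_one] at hx
    exact hr.one_lt.ne hx
  · intro hne
    haveI : Nontrivial ↥(Cfsg.pCore r ↥M) := (Subgroup.nontrivial_iff_ne_bot _).2 hne
    obtain ⟨j, hj, hj'⟩ := (IsPGroup.nontrivial_iff_card (Solv.pCore_isPGroup (G := ↥M) r)).1 inferInstance
    exact (dvd_pow_self r hj.ne').trans (hj' ▸ Subgroup.card_dvd_of_le (Solv.pCore_le_fitting r))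

/-- What `M ⇝ N` gives. -/
theorem facts (hG : ¬ IsMulCommutative G) (M N : Subgroup G) (hM : IsCoatom M) (h : Cfsg.leadsTo M N) :
    (Cfsg.layer ↥M).map M.subtype ≤ N ∧
    (∀ r : ℕ, r.Prime → Cfsg.pCore r ↥M ≠ ⊥ → ∃ U : Subgroup ↥M, U ≠ ⊥ ∧ U ≤ Cfsg.pCore r ↥M ∧ U.map M.subtype ≤ N) ∧
    (∀ q : ℕ, q.Prime → Cfsg.pCore q ↥M = ⊥ → (Cfsg.pCore q ↥N).map N.subtype ⊓ M = ⊥) ∧
    (∀ p : ℕ, p.Prime → Cfsg.pCore p ↥M ≠ ⊥ → ∀ U : Subgroup ↥M,
      (U = Cfsg.layer ↥M ∨ ∃ q : ℕ, q.Prime ∧ q ≠ p ∧ U = Cfsg.pCore q ↥M) →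
        (Cfsg.pCore p ↥N).map N.subtype ≤ Subgroup.centralizer ((U.map M.subtype : Subgroup G) : Set G) ∧
        (U ≠ ⊥ → (Cfsg.pCore p ↥N).map N.subtype ≤ M)) := by
  obtain ⟨Q, -, hQF, hQN⟩ := h
  obtain ⟨F, hF⟩ : ∃ F, F = Cfsg.generalizedFittingSubgroup ↥M := ⟨_, rfl⟩
  rw [← hF] at hQN
  haveI hFn : F.Normal := hF ▸ Local.gfit_normal
  obtain ⟨S, hS⟩ : ∃ S, S = F.map M.subtype ⊓ Subgroup.normalizer (Q : Set G) := ⟨_, rfl⟩
  rw [← hS] at hQN
  have hQS : Q ≤ S := hS ▸ le_inf (hQF.trans (Subgroup.map_mono (hF ▸ le_sup_right))) Subgroup.le_normalizer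
  have hSF : S ≤ F.map M.subtype := hS ▸ inf_le_left
  have hC : F.map M.subtype ⊓ Subgroup.centralizer (S : Set G) ≤ S := by
    conv_rhs => rw [hS]
    exact inf_le_inf_left _ ((Subgroup.centralizer_le (SetLike.coe_subset_coe.2 hQS)).trans (Subgroup.centralizer_le_normalizer _))
  have hEN : (Cfsg.layer ↥M).map M.subtype ≤ S := by
    rw [hS]
    refine le_inf (Subgroup.map_mono (hF ▸ le_sup_left)) ?_
    refine le_trans ?_ (Subgroup.centralizer_le_normalizer _)
    rintro _ ⟨e, he, rfl⟩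
    refine Subgroup.mem_centralizer_iff.2 fun y hy => ?_
    obtain ⟨f, hf, rfl⟩ := hQF hy
    have hc := Subgroup.commutator_eq_bot_iff_le_centralizer.1 (Solv.layer_commutator_fitting (G := ↥M)) he
    exact congrArg Subtype.val (Subgroup.mem_centralizer_iff.1 hc f hf)
  -- subnormality
  obtain ⟨S', hS'⟩ : ∃ S', S' = S.subgroupOf M := ⟨_, rfl⟩
  have hSM : S ≤ M := hSF.trans (Subgroup.map_subtype_le _)
  have hS'F : S' ≤ F := by
    intro x hx
    rw [hS', Subgroup.mem_subgroupOf] at hx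
    obtain ⟨y, hy, hyx⟩ := hSF hx
    have : y = x := Subtype.ext hyx
    exact this ▸ hy
  have hsn' : S'.IsSubnormal := by
    have hE' : Cfsg.layer ↥M ≤ S' := fun x hx => by
      rw [hS', Subgroup.mem_subgroupOf]; exact hEN ⟨x, hx, rfl⟩
    haveI := Local.layer_normal (H := ↥M)
    obtain ⟨π, hπ⟩ : ∃ π : ↥M →* ↥M ⧸ Cfsg.layer ↥M, π = QuotientGroup.mk' _ := ⟨_, rfl⟩
    have hπs : Function.Surjective π := hπ ▸ QuotientGroup.mk'_surjective _
    have hπk : π.ker = Cfsg.layer ↥M := hπ ▸ QuotientGroup.ker_mk' _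
    have hle : S'.map π ≤ Cfsg.fittingSubgroup (↥M ⧸ Cfsg.layer ↥M) := by
      refine (Subgroup.map_mono hS'F).trans ?_
      rw [hF, Cfsg.generalizedFittingSubgroup, Subgroup.map_sup, (Subgroup.map_eq_bot_iff _).2 hπk.ge, bot_sup_eq]
      haveI := Solv.fittingSubgroup_normal (G := ↥M)
      haveI : ((Cfsg.fittingSubgroup ↥M).map π).Normal := Subgroup.Normal.map inferInstance π hπs
      haveI := Solv.fittingSubgroup_nilpotent (G := ↥M)
      exact Solv.normal_le_fitting (Group.nilpotent_of_surjective (π.subgroupMap (Cfsg.fittingSubgroup ↥M))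
        (MonoidHom.subgroupMap_surjective _ _))
    have h1 := (Solv.isSubnormal_of_le_fitting hle).comap π
    rwa [Subgroup.comap_map_eq, hπk, sup_eq_left.2 hE'] at h1
  have hsn : (S.subgroupOf (F.map M.subtype)).IsSubnormal := by
    let e := F.equivMapOfInjective M.subtype M.subtype_injective
    have he : S.subgroupOf (F.map M.subtype) = (S'.subgroupOf F).map e.toMonoidHom := by
      ext x
      rw [Subgroup.mem_map_equiv]
      show (x : G) ∈ S ↔ ((e.symm x : ↥M)) ∈ S'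
      rw [hS', Subgroup.mem_subgroupOf, show ((e.symm x : ↥M) : G) = (x : G) from
        congrArg Subtype.val (e.apply_symm_apply x)]
    rw [he]
    exact Subgroup.IsSubnormal.map (f := e.toMonoidHom) e.surjective (Solv.isSubnormal_subgroupOf hsn')
  have hdvd : ∀ r : ℕ, r.Prime → (r ∣ Nat.card (Cfsg.fittingSubgroup ↥M) ↔ Cfsg.pCore r ↥M ≠ ⊥) := fun r hr => core_dvd hr
  obtain ⟨ha, hb⟩ := S1247.result hG M hM S (hF ▸ hSF) (hF ▸ hsn) (hF ▸ hC) N hQN
  refine ⟨hEN.trans hQN, fun r hr hne => ?_, fun q hq h0 => ha q hq fun hd => (hdvd q hq).1 hd h0, fun p hp hne U hU => ?_⟩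
  · haveI := Fact.mk hr
    haveI := Solv.pCore_normal (G := ↥M) r
    haveI : Nontrivial ↥(Cfsg.pCore r ↥M) := (Subgroup.nontrivial_iff_ne_bot _).2 hne
    haveI := (Solv.pCore_isPGroup (G := ↥M) r).center_nontrivial
    refine ⟨(Subgroup.center ↥(Cfsg.pCore r ↥M)).map (Cfsg.pCore r ↥M).subtype, ?_, Subgroup.map_subtype_le _, ?_⟩
    · rw [Ne, Subgroup.map_eq_bot_iff_of_injective _ (Subgroup.subtype_injective _)]
      exact (Subgroup.nontrivial_iff_ne_bot _).1 inferInstance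
    · refine le_trans ?_ hQN
      rw [hS]
      refine le_inf (Subgroup.map_mono ((Subgroup.map_subtype_le _).trans (hF ▸ (Solv.pCore_le_fitting r).trans le_sup_right))) ?_
      refine le_trans ?_ (Subgroup.centralizer_le_normalizer _)
      rintro _ ⟨_, ⟨u, hu, rfl⟩, rfl⟩
      refine Subgroup.mem_centralizer_iff.2 fun y hy => ?_
      obtain ⟨f, hf, rfl⟩ := hQF hy
      obtain ⟨a, b, rfl, ha', hb'⟩ := S1312.pgroup_split ⟨r, hr⟩ hf
      have h1 : a * u.1 = u.1 * a := congrArg Subtype.val (Subgroup.mem_center_iff.1 hu ⟨a, ha'⟩)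
      have h2 : u.1 * b = b * u.1 := S1247.others_commute ⟨r, hr⟩ hb' u.2
      have h3 : a * b * u.1 = u.1 * (a * b) := by rw [mul_assoc, ← h2, ← mul_assoc, h1, mul_assoc]
      exact congrArg Subtype.val h3
  · haveI := Fact.mk hp
    have hUres : U ≤ (Cfsg.pResidual p ↥(Cfsg.generalizedFittingSubgroup ↥M)).map
        (Cfsg.generalizedFittingSubgroup ↥M).subtype := by
      rcases hU with rfl | ⟨q, hq, hqp, rfl⟩
      · refine Fusion.le_of_pPrime_elements (p := p) S1247.layer_perfect' fun k hk hko => ?_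
        exact ⟨⟨k, (le_sup_left : Cfsg.layer ↥M ≤ Cfsg.generalizedFittingSubgroup ↥M) hk⟩,
          Subgroup.subset_closure (show (orderOf _).Coprime p by rwa [← Subgroup.orderOf_coe]), rfl⟩
      · haveI := Fact.mk hq
        intro k hk
        obtain ⟨j, hj⟩ := Solv.pCore_isPGroup (G := ↥M) q ⟨k, hk⟩
        have hko : (orderOf k).Coprime p :=
          Nat.Coprime.coprime_dvd_left (orderOf_dvd_of_pow_eq_one (congrArg Subtype.val hj))
            (Nat.Coprime.pow_left _ ((Nat.coprime_primes hq hp).2 hqp))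
        exact ⟨⟨k, S1247.core_in_gfit q hk⟩, Subgroup.subset_closure (show (orderOf _).Coprime p by rwa [← Subgroup.orderOf_coe]), rfl⟩
    have hc : (Cfsg.pCore p ↥N).map N.subtype ≤ Subgroup.centralizer ((U.map M.subtype : Subgroup G) : Set G) := by
      intro x hx
      refine Subgroup.mem_centralizer_iff.2 ?_
      rintro _ ⟨u, hu, rfl⟩
      exact (hb p hp ((hdvd p hp).2 hne) x hx u (hUres hu)).symm
    refine ⟨hc, fun hU0 => hc.trans ((Subgroup.centralizer_le_normalizer _).trans (norm_coatom hM U ?_ hU0).le)⟩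
    rcases hU with rfl | ⟨q, hq, -, rfl⟩
    · exact Local.layer_normal
    · exact Solv.pCore_normal _

end Cfsg.Agent.BenderUniq
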