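import Cfsg.Prelude.Def_Involutions
import Cfsg.Agent.Lib.Fusion.Dihedral

/-!
# Pairs of points and involutions for a strongly embedded subgroup
-/

set_option autoImplicit false
set_option linter.style.haveILetI false

namespace Cfsg.Agent.Fusion.SEPairs

variable {G : Type*} [Group G] [Finite G] {H : Subgroup G}

omit [Finite G] in
theorem conj_involution {t : G} (ht : orderOf t = 2) (g : G) : orderOf (g * t * g⁻¹) = 2 := by
  rw [show g * t * g⁻¹ = (MulAut.conj g).toMonoidHom t by simp,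
    orderOf_injective _ (MulAut.conj g).injective, ht]

omit [Finite G] in
theorem sq_one {t : G} (ht : orderOf t = 2) : t * t = 1 := by
  have h := pow_orderOf_eq_one t
  rwa [ht, pow_two] at h

omit [Finite G] in
theorem inv_self {t : G} (ht : orderOf t = 2) : t⁻¹ = t :=
  inv_eq_of_mul_eq_one_right (sq_one ht)

/-- Two involutions have product of odd order, or commute with a common involution. -/
theorem odd_or_common {a b : G} (ha : orderOf a = 2) (hb : orderOf b = 2) :
    Odd (orderOf (a * b)) ∨ ∃ w : G, orderOf w = 2 ∧ Commute w a ∧ Commute w b := by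
  rcases Nat.even_or_odd (orderOf (a * b)) with ⟨k, hk⟩ | h
  · right
    have hpos := orderOf_pos (a * b)
    set w := (a * b) ^ k with hw
    have hww : w * w = 1 := by rw [hw, ← pow_add, ← hk, pow_orderOf_eq_one]
    have hw1 : w ≠ 1 := fun e => by
      have := Nat.le_of_dvd (by omega) (orderOf_dvd_of_pow_eq_one e)
      omega
    have hwi : w⁻¹ = w := inv_eq_of_mul_eq_one_right hww
    have h1 : a * w * a⁻¹ = w := by
      rw [hw, ← conj_pow, show a * (a * b) * a⁻¹ = (a * a) * b * a⁻¹ by group, sq_one ha, one_mul,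
        inv_self ha, show b * a = (a * b)⁻¹ by rw [mul_inv_rev, inv_self ha, inv_self hb], inv_pow]
      exact hwi
    have h2 : b * w * b⁻¹ = w := by
      rw [hw, ← conj_pow, show b * (a * b) * b⁻¹ = b * a by group,
        show b * a = (a * b)⁻¹ by rw [mul_inv_rev, inv_self ha, inv_self hb], inv_pow]
      exact hwi
    exact ⟨w, orderOf_eq_prime (by rw [pow_two]; exact hww) hw1,
      (mul_inv_eq_iff_eq_mul.1 h1).symm, (mul_inv_eq_iff_eq_mul.1 h2).symm⟩
  · exact Or.inl h

omit [Finite G] in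
/-- The middle involution. -/
theorem exists_middle {a b : G} (ha : orderOf a = 2) (hb : orderOf b = 2) (h : Odd (orderOf (a * b))) :
    ∃ i : G, orderOf i = 2 ∧ i * a * i⁻¹ = b ∧ ∀ c, Commute c a → Commute c b → Commute c i := by
  obtain ⟨k, hk⟩ := h
  set r := b * a with hr
  have hrn : r ^ (2 * k + 1) = 1 := by
    rw [← hk, hr, show b * a = (a * b)⁻¹ by rw [mul_inv_rev, inv_self ha, inv_self hb], inv_pow,
      pow_orderOf_eq_one, inv_one]
  have hflip : a * r * a⁻¹ = r⁻¹ := by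
    rw [hr, mul_inv_rev, inv_self ha, inv_self hb]
    calc a * (b * a) * a = a * b * (a * a) := by group
      _ = a * b := by rw [sq_one ha, mul_one]
  have hflipk : ∀ j : ℕ, a * r ^ j * a⁻¹ = (r ^ j)⁻¹ := fun j => by rw [← conj_pow, hflip, inv_pow]
  set i := r ^ (k + 1) * a with hi
  have hii : i * i = 1 := by
    calc i * i = r ^ (k + 1) * (a * r ^ (k + 1) * a⁻¹) * (a * a) := by rw [hi]; group
      _ = 1 := by rw [hflipk, sq_one ha, mul_inv_cancel, mul_one]
  have hconj : i * a * i⁻¹ = b := by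
    calc i * a * i⁻¹ = r ^ (k + 1) * a * (r ^ (k + 1))⁻¹ := by rw [hi]; group
      _ = r ^ (k + 1) * a * (a * r ^ (k + 1) * a⁻¹) := by rw [hflipk]
      _ = r ^ (k + 1) * (a * a) * r ^ (k + 1) * a⁻¹ := by group
      _ = r ^ (k + 1 + (k + 1)) * a⁻¹ := by rw [sq_one ha, mul_one, ← pow_add]
      _ = r * a⁻¹ := by rw [show k + 1 + (k + 1) = 2 * k + 1 + 1 by omega, pow_succ, hrn, one_mul]
      _ = b := by rw [hr]; group
  refine ⟨i, orderOf_eq_prime (by rw [pow_two]; exact hii) fun e => ?_, hconj, fun c hca hcb => ?_⟩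
  · have hab : a = b := by simpa [e] using hconj
    have h1 : r = 1 := by rw [hr, ← hab, sq_one ha]
    rw [hi, h1, one_pow, one_mul] at e
    rw [e, orderOf_one] at ha
    omega
  · exact ((hcb.mul_right hca).pow_right _).mul_right hca

omit [Finite G] in
theorem smul_mk_eq_iff {t g : G} :
    t • (QuotientGroup.mk g : G ⧸ H) = QuotientGroup.mk g ↔ g⁻¹ * t * g ∈ H := by
  rw [MulAction.Quotient.smul_mk, eq_comm, QuotientGroup.eq, smul_eq_mul, mul_assoc]

omit [Finite G] in
theorem exists_smul_eq' (x y : G ⧸ H) : ∃ g : G, g • x = y := MulAction.exists_smul_eq G x y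

variable (hse : Cfsg.IsStronglyEmbedded H)
include hse

/-- An involution fixes at most one point. -/
theorem fixed_unique {t : G} (ht : orderOf t = 2) {x y : G ⧸ H} (hx : t • x = x) (hy : t • y = y) :
    x = y := by
  obtain ⟨g, rfl⟩ := QuotientGroup.mk_surjective x
  obtain ⟨k, rfl⟩ := QuotientGroup.mk_surjective y
  rw [QuotientGroup.eq]
  by_contra hgk
  have hodd := hse.2.2 (g⁻¹ * k) hgk
  have hm : g⁻¹ * t * g ∈ H ⊓ H.map (MulAut.conj (g⁻¹ * k)).toMonoidHom :=
    ⟨smul_mk_eq_iff.1 hx, k⁻¹ * t * k, smul_mk_eq_iff.1 hy, by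
      show g⁻¹ * k * (k⁻¹ * t * k) * (g⁻¹ * k)⁻¹ = g⁻¹ * t * g
      group⟩
  have h2 := orderOf_dvd_natCard
    (⟨_, hm⟩ : ↥(H ⊓ H.map (MulAut.conj (g⁻¹ * k)).toMonoidHom))
  rw [Subgroup.orderOf_mk, show g⁻¹ * t * g = g⁻¹ * t * g⁻¹⁻¹ by rw [inv_inv], conj_involution ht] at h2
  exact Nat.not_even_iff_odd.2 hodd (even_iff_two_dvd.2 h2)

theorem odd_of_fixed_ne {a b : G} (ha : orderOf a = 2) (hb : orderOf b = 2) {x : G ⧸ H}
    (hax : a • x = x) (hbx : b • x ≠ x) : Odd (orderOf (a * b)) := by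
  refine (odd_or_common ha hb).resolve_right ?_
  rintro ⟨w, hw, hwa, hwb⟩
  have hwx : w • x = x := fixed_unique hse ha (by rw [smul_smul, ← hwa.eq, ← smul_smul, hax]) hax
  exact hbx (fixed_unique hse hw (by rw [smul_smul, hwb.eq, ← smul_smul, hwx]) hwx)

theorem exists_fixed_involution : ∃ (t : G) (x : G ⧸ H), orderOf t = 2 ∧ t • x = x := by
  haveI : Fact (Nat.Prime 2) := ⟨Nat.prime_two⟩
  obtain ⟨⟨t, htH⟩, ht⟩ := exists_prime_orderOf_dvd_card' 2 (even_iff_two_dvd.1 hse.2.1)
  rw [Subgroup.orderOf_mk] at ht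
  exact ⟨t, QuotientGroup.mk 1, ht, smul_mk_eq_iff.2 (by simpa using htH)⟩

theorem exists_fixed {t : G} (ht : orderOf t = 2) : ∃ x : G ⧸ H, t • x = x := by
  obtain ⟨a, x, ha, hax⟩ := exists_fixed_involution hse
  by_cases htx : t • x = x
  · exact ⟨x, htx⟩
  obtain ⟨i, -, hi, -⟩ := exists_middle ha ht (odd_of_fixed_ne hse ha ht hax htx)
  exact ⟨i • x, by rw [← hi, mul_smul, mul_smul, inv_smul_smul, hax]⟩

theorem exists_ne (x : G ⧸ H) : ∃ y, y ≠ x := by
  by_contra h
  push Not at h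
  refine hse.1 (top_le_iff.1 fun g _ => ?_)
  have e : (QuotientGroup.mk (1 : G) : G ⧸ H) = QuotientGroup.mk g := (h _).trans (h _).symm
  rw [QuotientGroup.eq] at e
  simpa using e

/-- All involutions are conjugate. -/
theorem involutions_conj {a b : G} (ha : orderOf a = 2) (hb : orderOf b = 2) : IsConj a b := by
  obtain ⟨x, hax⟩ := exists_fixed hse ha
  by_cases hbx : b • x = x
  · obtain ⟨y, hy⟩ := exists_ne hse x
    obtain ⟨g, hg⟩ := exists_smul_eq' x y
    have hv : orderOf (g * a * g⁻¹) = 2 := conj_involution ha g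
    have hvx : (g * a * g⁻¹) • x ≠ x := fun e => hy
      (fixed_unique hse hv (by rw [← hg, mul_smul, mul_smul, inv_smul_smul, hax]) e)
    obtain ⟨i, -, hi, -⟩ := exists_middle hb hv (odd_of_fixed_ne hse hb hv hbx hvx)
    exact (isConj_iff.2 ⟨g, rfl⟩).trans (isConj_iff.2 ⟨i, hi⟩).symm
  · obtain ⟨i, -, hi, -⟩ := exists_middle ha hb (odd_of_fixed_ne hse ha hb hax hbx)
    exact isConj_iff.2 ⟨i, hi⟩

theorem card_swappers {x y : G ⧸ H} (hxy : x ≠ y) :
    Nat.card {i : G // orderOf i = 2 ∧ i • x = y} = Nat.card {t : G // orderOf t = 2 ∧ t • x = x} := by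
  set I := {t : G // orderOf t = 2 ∧ t • x = x}
  set I' := {t : G // orderOf t = 2 ∧ t • y = y}
  set J := {i : G // orderOf i = 2 ∧ i • x = y}
  have hI : Nat.card I' = Nat.card I := by
    obtain ⟨g, hg⟩ := exists_smul_eq' x y
    refine (Nat.card_congr ((MulAut.conj g).toEquiv.subtypeEquiv fun t => ?_)).symm
    show _ ↔ orderOf (g * t * g⁻¹) = 2 ∧ (g * t * g⁻¹) • y = y
    rw [show orderOf (g * t * g⁻¹) = orderOf t from
      orderOf_injective (MulAut.conj g).toMonoidHom (MulAut.conj g).injective t, ← hg, mul_smul,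
      mul_smul, inv_smul_smul, smul_left_cancel_iff]
  haveI : Nonempty I := by
    obtain ⟨t, z, ht, htz⟩ := exists_fixed_involution hse
    obtain ⟨g, hg⟩ := exists_smul_eq' z x
    exact ⟨⟨g * t * g⁻¹, conj_involution ht g, by rw [← hg, mul_smul, mul_smul, inv_smul_smul, htz]⟩⟩
  let f : I × J → I × I' := fun p => (p.1, ⟨p.2.1 * p.1.1 * p.2.1⁻¹, conj_involution p.1.2.1 _, by
    have h : (p.2.1 * p.1.1 * p.2.1⁻¹) • (p.2.1 • x) = p.2.1 • x := by
      rw [mul_smul, mul_smul, inv_smul_smul, p.1.2.2]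
    rw [p.2.2.2] at h
    exact h⟩)
  have hf : Function.Bijective f := by
    constructor
    · rintro ⟨⟨a, ha, hax⟩, ⟨i, hi, hix⟩⟩ ⟨⟨a', ha', hax'⟩, ⟨j, hj, hjx⟩⟩ e
      have e1 : a = a' := congrArg (fun q : I × I' => q.1.1) e
      subst e1
      have e : i * a * i⁻¹ = j * a * j⁻¹ := congrArg (fun q : I × I' => q.2.1) e
      set b := i * a * i⁻¹ with hb
      have hbo : orderOf b = 2 := conj_involution ha i
      have hby : b • y = y := by rw [← hix, hb, mul_smul, mul_smul, inv_smul_smul, hax]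
      obtain ⟨m, hm, hmab, hmc⟩ := exists_middle ha hbo
        (odd_of_fixed_ne hse ha hbo hax fun h => hxy (fixed_unique hse hbo h hby))
      have key : ∀ k : G, orderOf k = 2 → k * a * k⁻¹ = b → k = m := by
        intro k hk hkab
        set c := m⁻¹ * k with hc
        have hca : Commute c a := by
          refine mul_inv_eq_iff_eq_mul.1 ?_
          calc c * a * c⁻¹ = m⁻¹ * (k * a * k⁻¹) * m := by rw [hc]; group
            _ = m⁻¹ * (m * a * m⁻¹) * m := by rw [hkab, hmab]
            _ = a := by group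
        have hcb : Commute c b := by
          refine mul_inv_eq_iff_eq_mul.1 ?_
          have hkba : k * b * k⁻¹ = a := by
            rw [← hkab]
            calc k * (k * a * k⁻¹) * k⁻¹ = (k * k) * a * (k * k)⁻¹ := by group
              _ = a := by rw [sq_one hk]; group
          calc c * b * c⁻¹ = m⁻¹ * (k * b * k⁻¹) * m := by rw [hc]; group
            _ = m⁻¹ * a * m := by rw [hkba]
            _ = m * a * m⁻¹ := by rw [inv_self hm]
            _ = b := hmab
        by_contra hne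
        have hc1 : c ≠ 1 := fun e => hne (inv_mul_eq_one.1 e).symm
        have hcm := hmc c hca hcb
        have hcc : c * c = 1 := by
          have h1 : (m * c) * (m * c) = 1 := by rw [hc, mul_inv_cancel_left]; exact sq_one hk
          calc c * c = (m * m) * (c * c) := by rw [sq_one hm, one_mul]
            _ = m * (m * c) * c := by group
            _ = m * (c * m) * c := by rw [hcm.eq]
            _ = (m * c) * (m * c) := by group
            _ = 1 := h1
        have hco : orderOf c = 2 := orderOf_eq_prime (by rw [pow_two]; exact hcc) hc1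
        have hcx : c • x = x := fixed_unique hse ha (by rw [smul_smul, ← hca.eq, ← smul_smul, hax]) hax
        have hcy : c • y = y := fixed_unique hse hbo (by rw [smul_smul, ← hcb.eq, ← smul_smul, hby]) hby
        exact hxy (fixed_unique hse hco hcx hcy)
      exact Prod.ext rfl (Subtype.ext ((key i hi hb.symm).trans (key j hj e.symm).symm))
    · rintro ⟨⟨a, ha, hax⟩, ⟨b, hb, hby⟩⟩
      obtain ⟨i, hi, hiab, -⟩ := exists_middle ha hb
        (odd_of_fixed_ne hse ha hb hax fun h => hxy (fixed_unique hse hb h hby))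
      refine ⟨(⟨a, ha, hax⟩, ⟨i, hi, fixed_unique hse hb ?_ hby⟩), Prod.ext rfl (Subtype.ext hiab)⟩
      rw [← hiab, mul_smul, mul_smul, inv_smul_smul, hax]
  have := Nat.card_eq_of_bijective f hf
  rw [Nat.card_prod, Nat.card_prod, hI] at this
  exact Nat.eq_of_mul_eq_mul_left Nat.card_pos this

/-- The involutions mapping `x` to `y` are conjugate under the two-point stabilizer. -/
theorem swappers_conj {x y : G ⧸ H} (hxy : x ≠ y) {i u : G} (hi : orderOf i = 2) (hix : i • x = y)
    (hu : orderOf u = 2) (hux : u • x = y) :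
    ∃ f : G, f • x = x ∧ f • y = y ∧ f * u * f⁻¹ = i := by
  set d := u * i with hd
  have huy : u • y = x := by rw [← hux, smul_smul, sq_one hu, one_smul]
  have hiy : i • y = x := by rw [← hix, smul_smul, sq_one hi, one_smul]
  have hdx : d • x = x := by rw [hd, mul_smul, hix, huy]
  have hdy : d • y = y := by rw [hd, mul_smul, hiy, hux]
  obtain ⟨k, hk⟩ : Odd (orderOf d) := by
    refine (Nat.even_or_odd _).resolve_left fun ⟨k, hk⟩ => ?_
    have hpos := orderOf_pos d
    have hw : orderOf (d ^ k) = 2 := by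
      refine orderOf_eq_prime (by rw [pow_two, ← pow_add, ← hk, pow_orderOf_eq_one]) fun e => ?_
      have := Nat.le_of_dvd (by omega) (orderOf_dvd_of_pow_eq_one e)
      omega
    have hfix : ∀ z : G ⧸ H, d • z = z → d ^ k • z = z := fun z hz => by
      induction k generalizing z with
      | zero => simp
      | succ k _ => exact (MulAction.mem_stabilizer_iff).1 (pow_mem (MulAction.mem_stabilizer_iff.2 hz) _)
    exact hxy (fixed_unique hse hw (hfix x hdx) (hfix y hdy))
  set f := d⁻¹ ^ (k + 1) with hf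
  have hmem : ∀ z : G ⧸ H, d • z = z → f • z = z := fun z hz =>
    MulAction.mem_stabilizer_iff.1 (pow_mem (inv_mem (MulAction.mem_stabilizer_iff.2 hz)) _)
  have hflip : u * f * u⁻¹ = f⁻¹ := by
    rw [hf, ← conj_pow, ← inv_pow, inv_inv]
    congr 1
    rw [hd, mul_inv_rev, inv_self hi, inv_self hu]
    calc u * (i * u) * u = u * i * (u * u) := by group
      _ = u * i := by rw [sq_one hu, mul_one]
  refine ⟨f, hmem x hdx, hmem y hdy, ?_⟩
  calc f * u * f⁻¹ = f * u * (u * f * u⁻¹) := by rw [hflip]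
    _ = f * (u * u) * f * u⁻¹ := by group
    _ = f * f * u := by rw [sq_one hu, mul_one, inv_self hu]
    _ = d⁻¹ * u := by
      rw [hf, ← pow_add, show k + 1 + (k + 1) = (2 * k + 1) + 1 by omega, pow_succ, ← hk, inv_pow,
        pow_orderOf_eq_one, inv_one, one_mul]
    _ = i := by
      rw [hd, mul_inv_rev, inv_self hi, inv_self hu, mul_assoc, sq_one hu, mul_one]

/-- The two-point stabilizer is transitive on the involutions fixing the first point. -/
theorem pair_transitive {x y : G ⧸ H} (hyx : y ≠ x) {a b : G} (ha : orderOf a = 2) (hax : a • x = x)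
    (hb : orderOf b = 2) (hbx : b • x = x) :
    ∃ d : G, d • x = x ∧ d • y = y ∧ d * a * d⁻¹ = b := by
  classical
  let OC : G ⧸ H → Set (G ⧸ H) := fun w => {v | ∃ c : G, Commute c a ∧ c • w = v}
  let OH : G ⧸ H → Set (G ⧸ H) := fun w => {v | ∃ h : G, h • x = x ∧ h • w = v}
  let W : Set (G ⧸ H) := {w | w ≠ x}
  have hCx : ∀ c : G, Commute c a → c • x = x := fun c hc =>
    fixed_unique hse ha (by rw [smul_smul, ← hc.eq, ← smul_smul, hax]) hax
  have hOC : ∀ (c : G) (w : G ⧸ H), Commute c a → OC (c • w) = OC w := by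
    intro c w hc
    ext v
    constructor
    · rintro ⟨e, he, rfl⟩
      exact ⟨e * c, he.mul_left hc, mul_smul e c w⟩
    · rintro ⟨e, he, rfl⟩
      exact ⟨e * c⁻¹, he.mul_left hc.inv_left, by rw [mul_smul, inv_smul_smul]⟩
  have hOH : ∀ (h : G) (w : G ⧸ H), h • x = x → OH (h • w) = OH w := by
    intro h w hh
    ext v
    constructor
    · rintro ⟨e, he, rfl⟩
      exact ⟨e * h, by rw [mul_smul, hh, he], mul_smul e h w⟩
    · rintro ⟨e, he, rfl⟩
      refine ⟨e * h⁻¹, ?_, by rw [mul_smul, inv_smul_smul]⟩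
      rw [mul_smul, show h⁻¹ • x = x from inv_smul_eq_iff.2 hh.symm, he]
  have hsw : ∀ w : G ⧸ H, w ≠ x → ∃ g i : G, orderOf i = 2 ∧ i • x = w ∧ g * i * g⁻¹ = a := by
    intro w hw
    have h1 := card_swappers hse (Ne.symm hw)
    haveI : Nonempty {t : G // orderOf t = 2 ∧ t • x = x} := ⟨⟨a, ha, hax⟩⟩
    haveI hne : Nonempty {i : G // orderOf i = 2 ∧ i • x = w} :=
      (Nat.card_pos_iff.1 (h1 ▸ Nat.card_pos)).1
    obtain ⟨i, hi, hiw⟩ := hne
    obtain ⟨g, hg⟩ := isConj_iff.1 (involutions_conj hse hi ha)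
    exact ⟨g, i, hi, hiw, hg⟩
  choose γ ι hι hιw hγ using hsw
  let ψ : G ⧸ H → Set (G ⧸ H) := fun w => if hw : w = x then ∅ else OC (γ w hw • w)
  have hψ : ∀ w (hw : w ≠ x), ψ w = OC (γ w hw • w) := fun w hw => dif_neg hw
  have hψH : ∀ w w', w ≠ x → w' ≠ x → OH w = OH w' → ψ w = ψ w' := by
    intro w w' hw hw' e
    obtain ⟨h, hh, he⟩ : w' ∈ OH w := by
      rw [e]; exact ⟨1, one_smul G x, one_smul G w'⟩
    obtain ⟨f, -, hfw, hf⟩ := swappers_conj hse (Ne.symm hw') (hι w' hw') (hιw w' hw')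
      (conj_involution (hι w hw) h) (by
        rw [mul_smul, mul_smul, show h⁻¹ • x = x from inv_smul_eq_iff.2 hh.symm, hιw w hw, he])
    rw [hψ w hw, hψ w' hw']
    set c := γ w' hw' * f * h * (γ w hw)⁻¹
    have hc : Commute c a := by
      refine mul_inv_eq_iff_eq_mul.1 ?_
      calc c * a * c⁻¹ = c * (γ w hw * ι w hw * (γ w hw)⁻¹) * c⁻¹ := by rw [hγ w hw]
        _ = γ w' hw' * (f * (h * ι w hw * h⁻¹) * f⁻¹) * (γ w' hw')⁻¹ := by simp only [c]; group
        _ = a := by rw [hf, hγ w' hw']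
    rw [← hOC c _ hc, ← mul_smul, show c * γ w hw = γ w' hw' * f * h by simp only [c]; group,
      mul_smul, mul_smul, he, hfw]
  have hψsurj : OC '' W ⊆ ψ '' W := by
    rintro _ ⟨w, hw, rfl⟩
    obtain ⟨k, hk⟩ := exists_smul_eq' x w
    set v := k⁻¹ • a • w with hv
    have hvx : v ≠ x := by
      intro e
      rw [hv, inv_smul_eq_iff, hk] at e
      exact hw (fixed_unique hse ha e hax)
    refine ⟨v, hvx, ?_⟩
    obtain ⟨f, -, hfv, hf⟩ := swappers_conj hse (Ne.symm hvx) (hι v hvx) (hιw v hvx)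
      (conj_involution ha k⁻¹) (by rw [inv_inv, mul_smul, mul_smul, hk])
    set c := γ v hvx * f * k⁻¹
    have hc : Commute c a := by
      refine mul_inv_eq_iff_eq_mul.1 ?_
      calc c * a * c⁻¹ = γ v hvx * (f * (k⁻¹ * a * k⁻¹⁻¹) * f⁻¹) * (γ v hvx)⁻¹ := by simp only [c]; group
        _ = a := by rw [hf, hγ v hvx]
    rw [hψ v hvx, ← hOC a w (Commute.refl a), ← hOC c (a • w) hc, mul_smul, mul_smul, ← hv, hfv]
  have hcard1 : (OC '' W).ncard ≤ (OH '' W).ncard := by
    refine (Set.ncard_le_ncard hψsurj (Set.toFinite _)).trans ?_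
    let φ : Set (G ⧸ H) → Set (G ⧸ H) := fun O => if h : ∃ w, w ≠ x ∧ OH w = O then ψ h.choose else ∅
    have : ψ '' W = φ '' (OH '' W) := by
      rw [Set.image_image]
      refine Set.image_congr fun w hw => ?_
      have h : ∃ w', w' ≠ x ∧ OH w' = OH w := ⟨w, hw, rfl⟩
      simp only [φ, dif_pos h]
      exact hψH _ _ hw h.choose_spec.1 h.choose_spec.2.symm
    rw [this]
    exact Set.ncard_image_le (Set.toFinite _)
  let r : Set (G ⧸ H) → Set (G ⧸ H) := fun O => {v | ∃ o ∈ O, ∃ h : G, h • x = x ∧ h • o = v}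
  have hr : ∀ w, r (OC w) = OH w := by
    intro w
    ext v
    constructor
    · rintro ⟨_, ⟨c, hc, rfl⟩, h, hh, rfl⟩
      exact ⟨h * c, by rw [mul_smul, hCx c hc, hh], mul_smul h c w⟩
    · rintro ⟨h, hh, rfl⟩
      exact ⟨w, ⟨1, Commute.one_left a, one_smul _ _⟩, h, hh, rfl⟩
  have himg : r '' (OC '' W) = OH '' W := by
    rw [Set.image_image]
    exact Set.image_congr fun w _ => hr w
  have hinj : Set.InjOn r (OC '' W) := Set.injOn_of_ncard_image_eq
    (le_antisymm (Set.ncard_image_le (Set.toFinite _)) (himg.symm ▸ hcard1)) (Set.toFinite _)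
  obtain ⟨g, hg⟩ := isConj_iff.1 (involutions_conj hse ha hb)
  have hgx : g • x = x := fixed_unique hse hb
    (by rw [← hg, mul_smul, mul_smul, inv_smul_smul, hax]) hbx
  have hgx' : g⁻¹ • x = x := inv_smul_eq_iff.2 hgx.symm
  have hy' : g⁻¹ • y ≠ x := fun e => hyx (by rw [inv_smul_eq_iff, hgx] at e; exact e)
  have he : OC y = OC (g⁻¹ • y) := hinj (Set.mem_image_of_mem OC hyx) (Set.mem_image_of_mem OC hy')
    (by rw [hr, hr, hOH _ _ hgx'])
  obtain ⟨c, hc, hcy⟩ : g⁻¹ • y ∈ OC y := by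
    rw [he]; exact ⟨1, Commute.one_left a, one_smul G _⟩
  refine ⟨g * c, by rw [mul_smul, hCx c hc, hgx], by rw [mul_smul, hcy, smul_inv_smul], ?_⟩
  calc g * c * a * (g * c)⁻¹ = g * (c * a) * c⁻¹ * g⁻¹ := by group
    _ = g * (a * c) * c⁻¹ * g⁻¹ := by rw [hc.eq]
    _ = g * a * g⁻¹ := by group
    _ = b := hg

end Cfsg.Agent.Fusion.SEPairs
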