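import Cfsg.Prelude.Def_TwoFusion
import Cfsg.Agent.Lib.Fusion.Involutions

/-!
# Isolated involutions in the sense of commuting conjugates
-/

set_option autoImplicit false

namespace Cfsg.Agent.Fusion

variable {G : Type*} [Group G] [Finite G]

theorem isolated_sylow {z : G} (hz : Cfsg.IsIsolatedInvolution z) :
    ∃ P : Sylow 2 G, z ∈ P ∧ ∀ g : G, g * z * g⁻¹ ∈ P → g * z * g⁻¹ = z := by
  obtain ⟨P, hP⟩ := (IsPGroup.of_card (n := 1)
    (by rw [Nat.card_zpowers, hz.1, pow_one]) : IsPGroup 2 (Subgroup.zpowers z)).exists_le_sylow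
  have hzP : z ∈ P := hP (Subgroup.mem_zpowers z)
  refine ⟨P, hzP, fun g hg => hz.2 g ?_⟩
  let T : Subgroup G := (P : Subgroup G) ⊓ Subgroup.centralizer {z}
  have hT : T = (P : Subgroup G) := by
    by_contra hne
    obtain ⟨y, hy, hyT⟩ := SetLike.exists_of_lt
      (SylIn.normalizer_growth (T := T) inf_le_left hne P.2)
    have hzT : z ∈ T := ⟨hzP, Subgroup.mem_centralizer_singleton_iff.2 rfl⟩
    have h1 : y * z * y⁻¹ ∈ T :=
      (Subgroup.mem_normalizer_iff.1 (Subgroup.mem_inf.1 hy).2 z).1 hzT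
    have h2 := hz.2 y (Subgroup.mem_centralizer_singleton_iff.1 (Subgroup.mem_inf.1 h1).2).symm
    refine hyT ⟨(Subgroup.mem_inf.1 hy).1, Subgroup.mem_centralizer_singleton_iff.2 ?_⟩
    exact mul_inv_eq_iff_eq_mul.1 h2
  have : g * z * g⁻¹ ∈ T := hT.symm ▸ hg
  exact (Subgroup.mem_centralizer_singleton_iff.1 (Subgroup.mem_inf.1 this).2).symm

theorem isolated_odd {z : G} (hz : Cfsg.IsIsolatedInvolution z) (g : G) :
    Odd (orderOf (z * (g * z * g⁻¹))) := by
  obtain ⟨P, hP, hiso⟩ := isolated_sylow hz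
  exact odd_orderOf_mul_of_isolated hz.1 hP hiso g

/-- A conjugate of an isolated involution is moved back by a power of the product. -/
theorem isolated_exists_zpowers {z : G} (hz : Cfsg.IsIsolatedInvolution z) (g : G) :
    ∃ s ∈ Subgroup.zpowers (z * (g * z * g⁻¹)), s * (g * z * g⁻¹) * s⁻¹ = z := by
  have hv : orderOf (g * z * g⁻¹) = 2 :=
    (orderOf_injective (MulAut.conj g).toMonoidHom (MulAut.conj g).injective z).trans hz.1
  obtain ⟨k, hk⟩ := isolated_odd hz g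
  refine ⟨(z * (g * z * g⁻¹)) ^ ((k : ℤ) + 1), zpow_mem (Subgroup.mem_zpowers _) _, ?_⟩
  generalize g * z * g⁻¹ = v at hv hk ⊢
  have h1 := invol_conj_zpow hz.1 hv ((k : ℤ) + 1)
  have h2 : v = z * (z * v) := by rw [← mul_assoc, invol_mul_self hz.1, one_mul]
  generalize z * v = r at hk h1 h2 ⊢
  have h3 : r ^ ((2 * k + 1 : ℕ) : ℤ) = 1 := by rw [zpow_natCast, ← hk, pow_orderOf_eq_one]
  rw [mul_inv_eq_iff_eq_mul, zpow_neg] at h1
  rw [h2]
  calc r ^ ((k : ℤ) + 1) * (z * r) * (r ^ ((k : ℤ) + 1))⁻¹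
      = (r ^ ((k : ℤ) + 1) * z * r ^ ((k : ℤ) + 1)) * (r * (r ^ ((k : ℤ) + 1))⁻¹ * (r ^ ((k : ℤ) + 1))⁻¹) := by
        group
    _ = z * (r ^ ((2 * k + 1 : ℕ) : ℤ))⁻¹ := by
        congr 1
        · rw [mul_assoc, h1, ← mul_assoc, mul_inv_cancel, one_mul]
        · rw [← zpow_neg, ← zpow_neg, ← zpow_one_add, ← zpow_add]
          congr 1
          push_cast; ring
    _ = z := by rw [h3, inv_one, mul_one]

end Cfsg.Agent.Fusion
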