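import Mathlib
import Cfsg.Prelude.Def_ConjugacyFunctors
import Cfsg.Prelude.Def_Transfer
import Cfsg.Prelude.Def_Amalgam
import Cfsg.Agent.Lib.Fusion.Basic
import Cfsg.Agent.Lib.Fusion.Cores
import Cfsg.Agent.Lib.Fusion.WellPlaced

/-!
# Conjugacy functors and weak closure
-/

set_option autoImplicit false

open scoped commutatorElement

namespace Cfsg.Agent.Fusion

variable {G : Type*} [Group G] {p : ℕ}

theorem pCoreOf_le (H : Subgroup G) : pCoreOf p H ≤ H := Subgroup.map_subtype_le _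

theorem pCoreOf_isPGroup (H : Subgroup G) : IsPGroup p (pCoreOf p H) :=
  (isPGroup_pCore p H).map _

theorem le_normalizer_pCoreOf (H : Subgroup G) :
    H ≤ Subgroup.normalizer (pCoreOf p H : Set G) := by
  rw [Subgroup.le_normalizer_iff_commutator_le_right, Subgroup.commutator_le]
  rintro h hh _ ⟨y, hy, rfl⟩
  haveI : (pCore p H).Normal := inferInstance
  refine ⟨⁅(⟨h, hh⟩ : H), y⁆, ?_, rfl⟩
  have := mul_mem (Subgroup.Normal.conj_mem inferInstance y hy (⟨h, hh⟩ : H)) (inv_mem hy)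
  simpa [commutatorElement_def, mul_assoc] using this

variable [Finite G] [hp : Fact p.Prime]

theorem le_pCoreOf {H N : Subgroup G} (hNH : N ≤ H) (hn : H ≤ Subgroup.normalizer (N : Set G))
    (hN : IsPGroup p N) : N ≤ pCoreOf p H := by
  haveI : (N.subgroupOf H).Normal := (Subgroup.normal_subgroupOf_iff_le_normalizer hNH).2 hn
  intro x hx
  exact ⟨⟨x, hNH hx⟩, le_pCore (N := N.subgroupOf H) (hN.comap_subtype (K := H)) hx, rfl⟩

theorem pCoreOf_le_sylIn {T H : Subgroup G} (hT : SylIn p T H) : pCoreOf p H ≤ T := by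
  obtain ⟨x, hx, hxT⟩ := hT.conj_le (pCoreOf_isPGroup H) (pCoreOf_le H)
  rwa [cj_eq_self (le_normalizer_pCoreOf H hx)] at hxT

/-- A `p`-subgroup has a conjugate inside `T` whose normalizer meets `T` in a Sylow subgroup;
the conjugating element moves the normalizer in `T` into `T`. -/
theorem exists_extremal_move {T H X : Subgroup G} (hT : SylIn p T H) (hXT : X ≤ T) :
    ∃ c ∈ H, cj X c ≤ T ∧ cj (T ⊓ Subgroup.normalizer (X : Set G)) c ≤ T ∧
      SylIn p (T ⊓ Subgroup.normalizer (cj X c : Set G))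
        (H ⊓ Subgroup.normalizer (cj X c : Set G)) := by
  set N := T ⊓ Subgroup.normalizer (X : Set G)
  have hXN : X ≤ N := le_inf hXT Subgroup.le_normalizer
  obtain ⟨T', hT', hNT'⟩ := exists_sylIn_ge (H := H ⊓ Subgroup.normalizer (X : Set G))
    (hT.isPGroup.to_inf_left (K := Subgroup.normalizer (X : Set G))) (inf_le_inf_right _ hT.le)
  obtain ⟨c, hc, hcT⟩ := hT.conj_le hT'.isPGroup (hT'.le.trans inf_le_left)
  refine ⟨c, hc, (cj_mono (hXN.trans hNT') c).trans hcT, (cj_mono hNT' c).trans hcT, ?_⟩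
  have h1 : SylIn p (cj T' c) (H ⊓ Subgroup.normalizer (cj X c : Set G)) := by
    have := hT'.cj c
    rwa [cj_inf, cj_eq_self (Subgroup.le_normalizer hc), cj_normalizer] at this
  exact h1.of_card_ge hT.isPGroup.to_inf_left (inf_le_inf_right _ hT.le)
    (Subgroup.card_le_of_le (le_inf hcT (h1.le.trans inf_le_right)))

/-- If a normal subgroup centralizing `A` meets `T` outside the `p`-core, and all proper
overgroups of `T` lie in `Γ`, then so does the whole group. -/
theorem le_of_frattini {T H K Γ : Subgroup G} (hT : SylIn p T H) (hKH : K ≤ H)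
    (hKn : H ≤ Subgroup.normalizer (K : Set G)) (hK : K ≤ Γ) (hKT : ¬ T ⊓ K ≤ pCoreOf p H)
    (hprop : ∀ L, T ≤ L → L < H → L ≤ Γ) : H ≤ Γ := by
  set D := T ⊓ K
  have hD : SylIn p D K := hT.inf_normal hKH hKn
  have hTn : T ≤ H ⊓ Subgroup.normalizer (D : Set G) :=
    le_inf hT.le fun t ht => mem_normalizer_iff_cj.2 (by
      rw [cj_inf, cj_eq_self (Subgroup.le_normalizer ht), cj_eq_self (hKn (hT.le ht))])
  have hne : H ⊓ Subgroup.normalizer (D : Set G) ≠ H := fun h =>
    hKT (le_pCoreOf (inf_le_left.trans hT.le) (inf_eq_left.1 h) hD.isPGroup)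
  intro h hh
  obtain ⟨n, hn, hnh⟩ := frattini_conj hD hKn hh
  have := mul_mem (inv_mem (hK hn))
    (hprop _ hTn (lt_of_le_of_ne inf_le_left hne) ⟨mul_mem (hKH hn) hh, hnh⟩)
  rwa [inv_mul_cancel_left] at this

variable {W : Subgroup G → Subgroup G}

/-- Weak closure of `A` with respect to `Γ` follows from the case in which `A` lies in the
`p`-core. -/
theorem weakClosure_induction (hW : IsConjugacyFunctor p W)
    (hWZ : ∀ P : Subgroup G, IsPGroup p P → P ⊓ Subgroup.centralizer (P : Set G) ≤ W P)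
    {A Γ : Subgroup G} {B : Set G} (hΓn : Γ ≤ Subgroup.normalizer (A : Set G))
    (hcore : ∀ H T : Subgroup G, SylIn p T H → A ≤ T → B ⊆ T →
      T ≤ Subgroup.centralizer B → T ≤ Subgroup.centralizer (A : Set G) → A ≤ pCoreOf p H →
      (∀ L, T ≤ L → L < H → L ≤ Γ) → ¬ H ≤ Subgroup.normalizer (W T : Set G) → H ≤ Γ) :
    ∀ H T : Subgroup G, SylIn p T H → A ≤ T → B ⊆ T → T ≤ Subgroup.centralizer B →
      T ≤ Subgroup.centralizer (A : Set G) → H ⊓ Subgroup.normalizer (W T : Set G) ≤ Γ →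
      ∀ h ∈ H, cj A h ≤ T → h ∈ Γ := by
  intro H
  induction hn : Nat.card H using Nat.strong_induction_on generalizing H with
  | _ n IH =>
  intro T hT hAT hBT hTB hTA hNW
  by_cases hAO : A ≤ pCoreOf p H
  · intro h hh _
    by_cases hWn : H ≤ Subgroup.normalizer (W T : Set G)
    · exact hNW ⟨hh, hWn hh⟩
    refine hcore H T hT hAT hBT hTB hTA hAO (fun L hTL hLH l hl => ?_) hWn hh
    have hlt : Nat.card L < n := hn ▸ (by
      by_contra hcon
      exact hLH.ne (Subgroup.eq_of_le_of_card_ge hLH.le (by omega)))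
    refine IH _ hlt L rfl T (hT.mono hTL hLH.le) hAT hBT hTB hTA
      ((inf_le_inf_right _ hLH.le).trans hNW) l hl ?_
    exact ((cj_mono hAO l).trans (cj_eq_self (le_normalizer_pCoreOf H (hLH.le hl))).le).trans
      (pCoreOf_le_sylIn hT)
  have hlt : ∀ {X Y : Subgroup G}, X < Y → Nat.card X < Nat.card Y := fun {X Y} h => by
    by_contra hcon
    exact h.ne (Subgroup.eq_of_le_of_card_ge h.le (by omega))
  have hbig : ∀ {X : Subgroup G}, X ≤ T → X ≠ T →
      Nat.card X < Nat.card (T ⊓ Subgroup.normalizer (X : Set G) : Subgroup G) := fun hX hne =>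
    hlt (SylIn.normalizer_growth (p := p) hX hne hT.isPGroup)
  have hAN : ∀ X : Subgroup G, X ≤ T → A ≤ T ⊓ Subgroup.normalizer (X : Set G) := fun X hX =>
    le_inf hAT ((Subgroup.le_centralizer_iff.1 (hX.trans hTA)).trans
      (Subgroup.centralizer_le_normalizer _))
  -- the claim for a normalizer of an extremal subgroup containing `A`
  have hloc : ∀ U : Subgroup G, A ≤ U → U ≤ T →
      SylIn p (T ⊓ Subgroup.normalizer (U : Set G)) (H ⊓ Subgroup.normalizer (U : Set G)) →
      H ⊓ Subgroup.normalizer (W (T ⊓ Subgroup.normalizer (U : Set G)) : Set G) ≤ Γ →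
      H ⊓ Subgroup.normalizer (U : Set G) ≤ Γ := by
    intro U hAU hUT hQ hQW m hm
    have hne : H ⊓ Subgroup.normalizer (U : Set G) ≠ H := fun h =>
      hAO (hAU.trans (le_pCoreOf (hUT.trans hT.le) (inf_eq_left.1 h) (hT.isPGroup.to_le hUT)))
    have hlt' : Nat.card (H ⊓ Subgroup.normalizer (U : Set G) : Subgroup G) < n :=
      hn ▸ hlt (lt_of_le_of_ne inf_le_left hne)
    have hBU : B ⊆ (T ⊓ Subgroup.normalizer (U : Set G) : Subgroup G) := fun b hb =>
      ⟨hBT hb, Subgroup.centralizer_le_normalizer _ (Subgroup.mem_centralizer_iff.2 fun u hu =>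
        (Subgroup.mem_centralizer_iff.1 (hTB (hUT hu)) b hb).symm)⟩
    refine IH _ hlt' _ rfl _ hQ (hAN U hUT) hBU (inf_le_left.trans hTB) (inf_le_left.trans hTA)
      ((inf_le_inf_right _ inf_le_left).trans hQW) m hm ?_
    exact ((cj_mono hAU m).trans (cj_eq_self hm.2).le).trans (le_inf hUT Subgroup.le_normalizer)
  have key : ∀ k : ℕ,
      (∀ (X : Subgroup G) (g : G), Nat.card T ≤ Nat.card X + k → A ≤ X → X ≤ T → g ∈ H →
        cj X g ≤ T → g ∈ Γ) ∧
      (∀ R : Subgroup G, Nat.card T ≤ Nat.card R + k → A ≤ R → R ≤ T →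
        H ⊓ Subgroup.normalizer (W R : Set G) ≤ Γ) := by
    intro k
    induction k using Nat.strong_induction_on with
    | _ k ihk =>
    have bigA : ∀ (Y : Subgroup G) (h : G) (X : Subgroup G), Nat.card T ≤ Nat.card X + k →
        Nat.card X < Nat.card Y → A ≤ Y → Y ≤ T → h ∈ H → cj Y h ≤ T → h ∈ Γ := by
      intro Y h X hX hXY hAY hY hh hYh
      have := Subgroup.card_le_of_le hY
      exact (ihk (k - 1) (by omega)).1 Y h (by omega) hAY hY hh hYh
    have bigB : ∀ (R X : Subgroup G), Nat.card T ≤ Nat.card X + k →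
        Nat.card X < Nat.card R → A ≤ R → R ≤ T → H ⊓ Subgroup.normalizer (W R : Set G) ≤ Γ := by
      intro R X hX hXR hAR hR
      have := Subgroup.card_le_of_le hR
      exact (ihk (k - 1) (by omega)).2 R (by omega) hAR hR
    refine ⟨fun X g hk hAX hX hg hXg => ?_, fun R hk hAR hR y hy => ?_⟩
    · by_cases hXT : X = T
      · subst hXT
        refine hNW ⟨hg, conjFunctor_normalizer_le hW hT.isPGroup (mem_normalizer_of_cj_le hXg)⟩
      obtain ⟨c, hc, hUT, hcT, hQ⟩ := exists_extremal_move hT hX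
      have hcΓ : c ∈ Γ := bigA _ c X hk (hbig hX hXT) (hAN X hX) inf_le_left hc hcT
      set U := cj X c
      have hAU : A ≤ U := (cj_eq_self (hΓn hcΓ)).ge.trans (cj_mono hAX c)
      set Q := T ⊓ Subgroup.normalizer (U : Set G)
      have hYne : cj X g ≠ T := fun h => hXT
        (Subgroup.eq_of_le_of_card_ge hX (by rw [← h, card_cj]))
      set Y := cj X g
      have hYU : cj Y (c * g⁻¹) = U := by rw [cj_cj, inv_mul_cancel_right]
      have h1 : cj (T ⊓ Subgroup.normalizer (Y : Set G)) (c * g⁻¹) ≤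
          H ⊓ Subgroup.normalizer (U : Set G) := by
        rw [cj_inf, cj_normalizer, hYU]
        exact inf_le_inf_right _ ((cj_mono hT.le _).trans
          (cj_eq_self (Subgroup.le_normalizer (mul_mem hc (inv_mem hg)))).le)
      obtain ⟨m, hm, hm'⟩ := hQ.conj_le (isPGroup_cj hT.isPGroup.to_inf_left _) h1
      rw [cj_cj] at hm'
      have hbΓ : m * (c * g⁻¹) ∈ Γ := by
        refine bigA _ _ X hk ?_ (hAN Y hXg) inf_le_left
          (mul_mem hm.1 (mul_mem hc (inv_mem hg))) (hm'.trans inf_le_left)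
        rw [← card_cj X g]; exact hbig hXg hYne
      have hmΓ : m ∈ Γ := by
        refine hloc U hAU hUT hQ (bigB Q X hk ?_ (hAN U hUT) inf_le_left) hm
        refine lt_of_lt_of_le (hbig hX hXT) ((card_cj _ c).ge.trans (Subgroup.card_le_of_le
          (le_inf hcT ?_)))
        exact (cj_mono inf_le_right c).trans (cj_normalizer X c).le
      have := mul_mem (mul_mem (inv_mem hbΓ) hmΓ) hcΓ
      rwa [show (m * (c * g⁻¹))⁻¹ * m * c = g by group] at this
    · by_cases hRT : R = T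
      · exact hNW (hRT ▸ hy)
      have hRp := hT.isPGroup.to_le hR
      set V := W R
      have hAV : A ≤ V := (le_inf hAR (Subgroup.le_centralizer_iff.1 (hR.trans hTA))).trans
        (hWZ R hRp)
      have hVT : V ≤ T := (conjFunctor_le hW hRp).trans hR
      have hRN : Nat.card R < Nat.card (T ⊓ Subgroup.normalizer (V : Set G) : Subgroup G) :=
        (hbig hR hRT).trans_le (Subgroup.card_le_of_le
          (inf_le_inf_left _ (conjFunctor_normalizer_le hW hRp)))
      obtain ⟨c, hc, hUT, hcT, hQ⟩ := exists_extremal_move hT hVT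
      have hcΓ : c ∈ Γ := bigA _ c R hk hRN (hAN V hVT) inf_le_left hc hcT
      set U := cj V c
      have hAU : A ≤ U := (cj_eq_self (hΓn hcΓ)).ge.trans (cj_mono hAV c)
      set Q := T ⊓ Subgroup.normalizer (U : Set G)
      have hmΓ : c * y * c⁻¹ ∈ Γ := by
        refine hloc U hAU hUT hQ (bigB Q R hk ?_ (hAN U hUT) inf_le_left)
          ⟨H.mul_mem (H.mul_mem hc hy.1) (H.inv_mem hc), ?_⟩
        · refine lt_of_lt_of_le hRN ((card_cj _ c).ge.trans (Subgroup.card_le_of_le
            (le_inf hcT ?_)))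
          exact (cj_mono inf_le_right c).trans (cj_normalizer V c).le
        · rw [← cj_normalizer]; exact conj_mem_cj hy.2
      have := mul_mem (mul_mem (inv_mem hcΓ) hmΓ) hcΓ
      rwa [show c⁻¹ * (c * y * c⁻¹) * c = y by group] at this
  intro h hh hAh
  exact (key (Nat.card T)).1 A h (Nat.le_add_left _ _) le_rfl hAT hh hAh

omit hp in
/-- An element with `p`-th power trivial on an abelian group on which it acts quadratically
centralizes the `p`-th powers. -/
theorem quadratic_centralizes_pow {E : Subgroup G} {g e : G} (hab : E ≤ Subgroup.centralizer E)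
    (hgE : g ∈ Subgroup.normalizer (E : Set G))
    (hquad : ⁅⁅E, Subgroup.zpowers g⁆, Subgroup.zpowers g⁆ = ⊥)
    (hgp : g ^ p ∈ Subgroup.centralizer (E : Set G)) (he : e ∈ E) :
    g * e ^ p * g⁻¹ = e ^ p := by
  have hq : ⁅g, e⁆ ∈ ⁅E, Subgroup.zpowers g⁆ := by
    rw [Subgroup.commutator_comm]
    exact Subgroup.commutator_mem_commutator (Subgroup.mem_zpowers g) he
  set q := ⁅g, e⁆ with hqdef
  have hqE : q ∈ E := (Subgroup.le_normalizer_iff_commutator_le_left.1
    (Subgroup.zpowers_le.2 hgE)) hq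
  have hgq : g * q * g⁻¹ = q := mul_inv_eq_iff_eq_mul.2 (Subgroup.mem_centralizer_iff.1
    (Subgroup.commutator_eq_bot_iff_le_centralizer.1 hquad hq) g (Subgroup.mem_zpowers g))
  have hge : g * e * g⁻¹ = q * e := by rw [hqdef, commutatorElement_def]; group
  have hpow : ∀ k : ℕ, g ^ k * e * (g ^ k)⁻¹ = q ^ k * e := by
    intro k
    induction k with
    | zero => simp
    | succ k ih =>
      have hc : Commute g (q ^ k) := Commute.pow_right (mul_inv_eq_iff_eq_mul.1 hgq) k
      calc g ^ (k + 1) * e * (g ^ (k + 1))⁻¹ = g * (g ^ k * e * (g ^ k)⁻¹) * g⁻¹ := by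
            rw [pow_succ']; group
        _ = (g * q ^ k) * e * g⁻¹ := by rw [ih]; group
        _ = q ^ k * (g * e * g⁻¹) := by rw [hc.eq]; group
        _ = q ^ (k + 1) * e := by rw [hge, pow_succ]; group
  have hqp : q ^ p = 1 := by
    have h1 := hpow p
    rw [mem_centralizer_set.1 hgp e he] at h1
    exact mul_right_cancel (h1.symm.trans (one_mul e).symm)
  have hqe : Commute q e := (Subgroup.mem_centralizer_iff.1 (hab hqE) e he).symm
  rw [← conj_pow, hge, hqe.mul_pow, hqp, one_mul]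

/-- The core case for elements that are `p`-th powers of central elements. -/
theorem core_quadratic {H T A Γ : Subgroup G} {B : Set G} (hT : SylIn p T H) (hBT : B ⊆ T)
    (hTB : T ≤ Subgroup.centralizer B) (hCΓ : Subgroup.centralizer (A : Set G) ≤ Γ)
    (hAB : ∀ a ∈ A, ∃ z ∈ B, z ^ p = a) (hAO : A ≤ pCoreOf p H)
    (hprop : ∀ L, T ≤ L → L < H → L ≤ Γ) {g : G} (hgT : g ∈ T) (hgO : g ∉ pCoreOf p H)
    (hquad : ⁅⁅pCoreOf p H ⊓ Subgroup.centralizer (pCoreOf p H : Set G), Subgroup.zpowers g⁆,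
      Subgroup.zpowers g⁆ = ⊥) : H ≤ Γ := by
  set O := pCoreOf p H
  have hOT : O ≤ T := pCoreOf_le_sylIn hT
  have hnC : H ≤ Subgroup.normalizer (Subgroup.centralizer (O : Set G) : Set G) := fun h hh =>
    mem_normalizer_iff_cj.2 (by rw [cj_centralizer, cj_eq_self (le_normalizer_pCoreOf H hh)])
  by_cases hBO : B ⊆ O
  swap
  · obtain ⟨z, hzB, hzO⟩ := Set.not_subset.1 hBO
    refine le_of_frattini (K := H ⊓ Subgroup.centralizer (O : Set G)) hT inf_le_left
      (fun h hh => mem_normalizer_iff_cj.2 (by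
        rw [cj_inf, cj_eq_self (Subgroup.le_normalizer hh), cj_eq_self (hnC hh)]))
      (inf_le_right.trans ((Subgroup.centralizer_le hAO).trans hCΓ))
      (fun hle => hzO (hle ⟨hBT hzB, hT.le (hBT hzB), Subgroup.mem_centralizer_iff.2 fun o ho =>
        (Subgroup.mem_centralizer_iff.1 (hTB (hOT ho)) z hzB).symm⟩)) hprop
  set E := O ⊓ Subgroup.centralizer (O : Set G)
  have hEn : H ≤ Subgroup.normalizer (E : Set G) := fun h hh => mem_normalizer_iff_cj.2 (by
    rw [cj_inf, cj_eq_self (le_normalizer_pCoreOf H hh), cj_eq_self (hnC hh)])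
  have hBE : B ⊆ E := fun z hz => ⟨hBO hz, Subgroup.mem_centralizer_iff.2 fun o ho =>
    (Subgroup.mem_centralizer_iff.1 (hTB (hOT ho)) z hz).symm⟩
  obtain ⟨d, hd, hdO, hdp⟩ : ∃ d ∈ Subgroup.zpowers g, d ∉ O ∧ d ^ p ∈ O := by
    obtain ⟨k, hk⟩ := hT.isPGroup ⟨g, hgT⟩
    have hk' : g ^ p ^ k ∈ O := by
      rw [show g ^ p ^ k = 1 from congrArg Subtype.val hk]; exact one_mem _
    clear hk
    induction k with
    | zero => exact absurd (by simpa using hk') hgO
    | succ k ih =>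
      by_cases h : g ^ p ^ k ∈ O
      · exact ih h
      · exact ⟨_, pow_mem (Subgroup.mem_zpowers g) _, h, by rwa [← pow_mul, ← pow_succ]⟩
  have hdT : d ∈ T := Subgroup.zpowers_le.2 hgT hd
  have hdquad : ⁅⁅E, Subgroup.zpowers d⁆, Subgroup.zpowers d⁆ = ⊥ :=
    le_bot_iff.1 ((Subgroup.commutator_mono (Subgroup.commutator_mono le_rfl
      (Subgroup.zpowers_le.2 hd)) (Subgroup.zpowers_le.2 hd)).trans hquad.le)
  set P2 : Set G := (fun e : G => e ^ p) '' (E : Set G)
  refine le_of_frattini (K := H ⊓ Subgroup.centralizer P2) hT inf_le_left (fun h hh => ?_)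
    (inf_le_right.trans ((Subgroup.centralizer_le fun a ha => ?_).trans hCΓ))
    (fun hle => hdO (hle ⟨hdT, hT.le hdT, mem_centralizer_set.2 ?_⟩)) hprop
  · refine mem_normalizer_of_cj_le fun x hx => ?_
    obtain ⟨hxH, hxC⟩ := mem_cj.1 hx
    have hxH' : x ∈ H := by
      have := H.mul_mem (H.mul_mem hh hxH) (H.inv_mem hh)
      simpa [mul_assoc] using this
    refine ⟨hxH', mem_centralizer_set.2 ?_⟩
    rintro _ ⟨e, he, rfl⟩
    have h1 := mem_centralizer_set.1 hxC _ ⟨h⁻¹ * e * h⁻¹⁻¹,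
      (Subgroup.mem_normalizer_iff.1 (hEn (H.inv_mem hh)) e).1 he, rfl⟩
    simp only [conj_pow] at h1
    calc x * e ^ p * x⁻¹
        = h * ((h⁻¹ * x * h) * (h⁻¹ * e ^ p * h⁻¹⁻¹) * (h⁻¹ * x * h)⁻¹) * h⁻¹ := by group
      _ = e ^ p := by rw [h1]; group
  · obtain ⟨z, hz, rfl⟩ := hAB a ha
    exact ⟨z, hBE hz, rfl⟩
  · rintro _ ⟨e, he, rfl⟩
    refine quadratic_centralizes_pow (fun x (hx : x ∈ E) => Subgroup.centralizer_le (SetLike.coe_subset_coe.2 inf_le_left) hx.2)
      (hEn (hT.le hdT)) hdquad (mem_centralizer_set.2 fun x hx => ?_) he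
    exact mul_inv_eq_iff_eq_mul.2 (Subgroup.mem_centralizer_iff.1 hx.2 _ hdp)

end Cfsg.Agent.Fusion
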