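import Mathlib
import Cfsg.Prelude.Def_Transfer
import Cfsg.Agent.Lib.Fusion.Basic

/-!
# Weakly closed subgroups
-/

set_option autoImplicit false

namespace Cfsg.Agent.Fusion

variable {G : Type*} [Group G] [Finite G] {p : ℕ} [Fact p.Prime]

/-- A weakly closed subgroup is the only one of its conjugates in a `p`-subgroup containing it. -/
theorem weaklyClosed_eq_of_le {W S : Subgroup G} (hS : SylIn p S ⊤) (hW : IsWeaklyClosed W S)
    {R : Subgroup G} (hR : IsPGroup p R) (hWR : W ≤ R) {g : G} (hg : cj W g ≤ R) :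
    cj W g = W := by
  obtain ⟨h, -, hh⟩ := hS.conj_le hR le_top
  have h1 : cj W h = W := hW.2 h ((cj_mono hWR h).trans hh)
  have h2 : cj W (h * g) = W := hW.2 _ (by
    change cj W (h * g) ≤ S
    rw [← cj_cj]; exact (cj_mono hg h).trans hh)
  rw [← cj_cj] at h2
  have h3 := congrArg (fun K => cj K h⁻¹) (h2.trans h1.symm)
  simpa only [cj_cj_inv] using h3

theorem weaklyClosed_le_normalizer {W S : Subgroup G} (hS : SylIn p S ⊤)
    (hW : IsWeaklyClosed W S) {R : Subgroup G} (hR : IsPGroup p R) (hWR : W ≤ R) :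
    R ≤ Subgroup.normalizer (W : Set G) := by
  intro r hr
  refine mem_normalizer_iff_cj.2 (weaklyClosed_eq_of_le hS hW hR hWR ?_)
  exact (cj_mono hWR r).trans (cj_eq_self_of_mem hr).le

end Cfsg.Agent.Fusion
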