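import Cfsg.Agent.Lib.Solv.Generation

/-!
The order formula for coprime action of a group of type `(p, p)` (Brauer–Wielandt), in element form:
`∏_{a ≠ 1} |C_K(a)| = |K|^(p-1) |C_K(A)|^(p(p-1))`.
-/

set_option autoImplicit false
set_option linter.style.haveILetI false

open scoped Pointwise

namespace Cfsg.Agent.Fusion

open Cfsg.Agent

variable {G : Type*} [Group G] [Finite G]

omit [Finite G] in
theorem fixed_normalized {A K : Subgroup G} (hA : IsMulCommutative A)
    (hAK : A ≤ Subgroup.normalizer (K : Set G)) {s : Set G} (hs : s ⊆ A) :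
    A ≤ Subgroup.normalizer ((K ⊓ Subgroup.centralizer s : Subgroup G) : Set G) := by
  intro a ha
  refine Solv.mem_normalizer_of_conj_smul ?_
  rw [Subgroup.smul_inf, Solv.conj_smul_of_mem_normalizer (hAK ha),
    Subgroup.conj_smul_eq_self_of_mem ?_]
  rw [Subgroup.mem_centralizer_iff]
  intro b hb
  exact congrArg Subtype.val (hA.is_comm.comm ⟨b, hs hb⟩ ⟨a, ha⟩)

/-- An invariant Sylow subgroup meets every fixed point subgroup in a Sylow subgroup. -/
theorem exists_good_sylow {A K : Subgroup G} (hA : IsMulCommutative A)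
    (hAK : A ≤ Subgroup.normalizer (K : Set G)) (hco : (Nat.card A).Coprime (Nat.card K))
    (q : ℕ) [Fact q.Prime] :
    ∃ S : Subgroup G, Solv.IsSylIn q S K ∧ A ≤ Subgroup.normalizer (S : Set G) ∧
      ∀ s : Set G, s ⊆ A → Solv.IsSylIn q (S ⊓ Subgroup.centralizer s) (K ⊓ Subgroup.centralizer s) := by
  have hsol : Group.IsSolvable A := Group.isSolvable_of_comm fun s t => hA.is_comm.comm s t
  obtain ⟨S, hS, hSA⟩ := Solv.exists_invariant_sylow hAK hco (Or.inl hsol) q
  refine ⟨S, hS, hSA, fun s hs => ?_⟩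
  obtain ⟨R, hR, hRA⟩ := Solv.exists_invariant_sylow (fixed_normalized hA hAK hs)
    (hco.coprime_dvd_right (Subgroup.card_dvd_of_le inf_le_left)) (Or.inl hsol) q
  obtain ⟨S', hS', hRS', hSA'⟩ := Solv.exists_invariant_sylow_ge hAK hco (Or.inl hsol) R
    (hR.1.trans inf_le_left) hR.isPGroup hRA
  obtain ⟨c, hc, hcS⟩ := Solv.invariant_sylow_conj hAK hco (Or.inl hsol) hS' hS hSA' hSA
  obtain ⟨hcK, hcA⟩ := Subgroup.mem_inf.1 hc
  have hcC : c ∈ K ⊓ Subgroup.centralizer s :=
    Subgroup.mem_inf.2 ⟨hcK, Subgroup.centralizer_le hs hcA⟩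
  have hR' := hR.conj (Subgroup.le_normalizer (H := K ⊓ Subgroup.centralizer s) hcC)
  have hle : MulAut.conj c • R ≤ S ⊓ Subgroup.centralizer s :=
    le_inf (hcS ▸ Subgroup.pointwise_smul_le_pointwise_smul_iff.2 hRS') (hR'.1.trans inf_le_right)
  have he := hR'.eq_of_le (hS.isPGroup.to_le inf_le_left) (inf_le_inf_right _ hS.1) hle
  exact he ▸ hR'

theorem card_sup_fixed {M K C : Subgroup G} (hMK : M ≤ K)
    (hn : K ≤ Subgroup.normalizer (M : Set G)) (h : M ⊔ (K ⊓ C) = K) :
    Nat.card (K ⊓ C : Subgroup G) * Nat.card M = Nat.card K * Nat.card (M ⊓ C : Subgroup G) := by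
  have h1 := Solv.card_sup_mul_card_inf' M (K ⊓ C) (inf_le_left.trans hn)
  rw [h, show M ⊓ (K ⊓ C) = M ⊓ C by rw [← inf_assoc, inf_eq_left.2 hMK]] at h1
  rw [h1, mul_comm]

/-- The set of non-identity elements of `A`. -/
noncomputable def nonId (A : Subgroup G) : Finset G :=
  ((A : Set G) \ {1}).toFinite.toFinset

theorem mem_nonId {A : Subgroup G} {a : G} : a ∈ nonId A ↔ a ∈ A ∧ a ≠ 1 := by
  rw [nonId, Set.Finite.mem_toFinset]; rfl

theorem card_nonId (A : Subgroup G) : (nonId A).card = Nat.card A - 1 := by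
  rw [nonId, ← Set.ncard_eq_toFinset_card _ _, Set.ncard_sdiff_singleton_of_mem (one_mem A),
    ← Nat.card_coe_set_eq]
  rfl

theorem fixed_formula_pgroup {p q : ℕ} [hp : Fact p.Prime] [Fact q.Prime] {A : Subgroup G}
    (hA : IsMulCommutative A) (hcard : Nat.card A = p ^ 2) (hexp : ∀ a ∈ A, a ^ p = 1) :
    ∀ (n : ℕ) (K : Subgroup G), Nat.card K = n → IsPGroup q K →
      A ≤ Subgroup.normalizer (K : Set G) → (Nat.card A).Coprime (Nat.card K) →
      ∏ a ∈ nonId A, Nat.card (K ⊓ Subgroup.centralizer {a} : Subgroup G) =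
        Nat.card K ^ (p - 1) *
          Nat.card (K ⊓ Subgroup.centralizer (A : Set G) : Subgroup G) ^ (p * (p - 1)) := by
  classical
  intro n
  induction n using Nat.strong_induction_on with
  | _ n ih =>
    intro K hn hK hAK hco
    rcases eq_or_ne K ⊥ with rfl | hKb
    · simp
    obtain ⟨M, -, hMmax⟩ := Finite.exists_le_maximal
      (p := fun M : Subgroup G => M < K ∧ A ≤ Subgroup.normalizer (M : Set G)) (a := ⊥)
      ⟨bot_lt_iff_ne_bot.2 hKb, by rw [Subgroup.normalizer_eq_top]; exact le_top⟩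
    obtain ⟨hMK, hAM⟩ := hMmax.1
    have hsup : ∀ W : Subgroup G, A ≤ Subgroup.normalizer (W : Set G) → M ≤ W → W ≤ K →
        W = M ∨ W = K := fun W hW hMW hWK => or_iff_not_imp_right.2 fun hne =>
      le_antisymm (hMmax.2 ⟨lt_of_le_of_ne hWK hne, hW⟩ hMW) hMW
    have hKM : K ≤ Subgroup.normalizer (M : Set G) := by
      have hinv : A ≤ Subgroup.normalizer ((K ⊓ Subgroup.normalizer (M : Set G) : Subgroup G) : Set G) := by
        intro a ha
        refine Solv.mem_normalizer_of_conj_smul ?_
        rw [Subgroup.smul_inf, Solv.conj_smul_of_mem_normalizer (hAK ha),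
          Subgroup.conj_smul_eq_self_of_mem (hAM ha)]
      rcases hsup _ hinv (le_inf hMK.le Subgroup.le_normalizer) inf_le_left with h | h
      · exfalso
        have := hK.isNilpotent
        have hlt := Group.normalizerCondition_of_isNilpotent (G := K) (M.subgroupOf K)
          (lt_top_iff_ne_top.2 fun h => hMK.not_ge (Subgroup.subgroupOf_eq_top.1 h))
        refine hlt.not_ge fun x hx => ?_
        have h3 := Subgroup.le_normalizer_map K.subtype ⟨x, hx, rfl⟩
        rw [Subgroup.map_subgroupOf_eq_of_le hMK.le] at h3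
        rw [Subgroup.mem_subgroupOf, ← h]
        exact ⟨x.2, h3⟩
      · exact h.ge.trans inf_le_right
    have hcoM : (Nat.card A).Coprime (Nat.card M) := hco.coprime_dvd_right (Subgroup.card_dvd_of_le hMK.le)
    have IH := ih _ (hn ▸ Solv.card_lt_of_lt hMK) M rfl (hK.to_le hMK.le) hAM hcoM
    -- either a fixed point group lies in `M` or it covers `K / M`
    have dich : ∀ s : Set G, s ⊆ A →
        K ⊓ Subgroup.centralizer s ≤ M ∨ M ⊔ (K ⊓ Subgroup.centralizer s) = K := by
      intro s hs
      have hW : A ≤ Subgroup.normalizer ((M ⊔ (K ⊓ Subgroup.centralizer s) : Subgroup G) : Set G) := fun a ha => by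
        refine Solv.mem_normalizer_of_conj_smul ?_
        rw [Subgroup.smul_sup, Solv.conj_smul_of_mem_normalizer (hAM ha),
          Solv.conj_smul_of_mem_normalizer (fixed_normalized hA hAK hs ha)]
      exact (hsup _ hW le_sup_left (sup_le hMK.le inf_le_left)).imp (fun h => le_sup_right.trans h.le) id
    -- the elements acting trivially on `K / M`
    let U : Subgroup G :=
      { carrier := {a | a ∈ A ∧ ∀ k ∈ K, k⁻¹ * (a * k * a⁻¹) ∈ M}
        one_mem' := ⟨one_mem A, fun k _ => by simp⟩
        mul_mem' := by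
          rintro a b ⟨ha, ha'⟩ ⟨hb, hb'⟩
          refine ⟨mul_mem ha hb, fun k hk => ?_⟩
          rw [show k⁻¹ * (a * b * k * (a * b)⁻¹) =
            (k⁻¹ * (a * k * a⁻¹)) * (a * (k⁻¹ * (b * k * b⁻¹)) * a⁻¹) by group]
          exact mul_mem (ha' k hk) (Solv.conj_mem_of_mem_normalizer (hAM ha) (hb' k hk))
        inv_mem' := by
          rintro a ⟨ha, ha'⟩
          refine ⟨inv_mem ha, fun k hk => ?_⟩
          rw [show k⁻¹ * (a⁻¹ * k * a⁻¹⁻¹) = a⁻¹ * (k⁻¹ * (a * k * a⁻¹))⁻¹ * a⁻¹⁻¹ by group]
          exact Solv.conj_mem_of_mem_normalizer (hAM (inv_mem ha)) (inv_mem (ha' k hk)) }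
    have hUA : U ≤ A := fun a ha => ha.1
    have hcover : ∀ a ∈ A, M ⊔ (K ⊓ Subgroup.centralizer {a}) = K → a ∈ U := by
      intro a ha he
      refine ⟨ha, fun k hk => ?_⟩
      have hk' : k ∈ ((M ⊔ (K ⊓ Subgroup.centralizer {a}) : Subgroup G) : Set G) := by rw [he]; exact hk
      rw [Subgroup.coe_mul_of_right_le_normalizer_left M _ (inf_le_left.trans hKM)] at hk'
      obtain ⟨m, hm, c, hc, rfl⟩ := hk'
      have hca : c * a = a * c := Subgroup.mem_centralizer_singleton_iff.1 (Subgroup.mem_inf.1 hc).2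
      have e : (m * c)⁻¹ * (a * (m * c) * a⁻¹) = c⁻¹ * (m⁻¹ * (a * m * a⁻¹)) * c := by
        have : a * (m * c) * a⁻¹ = (a * m * a⁻¹) * c := by
          calc a * (m * c) * a⁻¹ = a * m * (c * a⁻¹) := by group
            _ = a * m * (a⁻¹ * c) := by rw [(show Commute c a from hca).inv_right.eq]
            _ = _ := by group
        rw [this]; group
      rw [e]
      have h1 := Solv.conj_mem_of_mem_normalizer (hKM (inv_mem (Subgroup.mem_inf.1 hc).1))
        (mul_mem (inv_mem hm) (Solv.conj_mem_of_mem_normalizer (hAM ha) hm))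
      rwa [inv_inv] at h1
    have hfix : ∀ B : Subgroup G, B ≤ U → M ⊔ (K ⊓ Subgroup.centralizer (B : Set G)) = K := by
      intro B hB
      refine le_antisymm (sup_le hMK.le inf_le_left) fun k hk => ?_
      obtain ⟨c, hc, hcd⟩ := Solv.exists_fixed_in_coset' B K M ((hB.trans hUA).trans hAK)
        (hco.coprime_dvd_left (Subgroup.card_dvd_of_le (hB.trans hUA)))
        (Or.inl (Group.isSolvable_of_comm fun s t => Subtype.ext
          (by simpa using congrArg Subtype.val (hA.is_comm.comm ⟨(s : G), hUA (hB s.2)⟩ ⟨(t : G), hUA (hB t.2)⟩))))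
        hMK.le ((hB.trans hUA).trans hAM) hk (fun b hb => (hB hb).2 k hk)
      have hk' : k = c * (k⁻¹ * c)⁻¹ := by group
      rw [hk']
      exact mul_mem (Subgroup.mem_sup_right hc) (Subgroup.mem_sup_left (inv_mem hcd))
    have hin : ∀ a ∈ A, a ∈ U →
        Nat.card (K ⊓ Subgroup.centralizer {a} : Subgroup G) * Nat.card M =
          Nat.card K * Nat.card (M ⊓ Subgroup.centralizer {a} : Subgroup G) := by
      intro a _ haU
      refine card_sup_fixed hMK.le hKM (le_antisymm (sup_le hMK.le inf_le_left) ?_)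
      refine (hfix (Subgroup.zpowers a) (Subgroup.zpowers_le.2 haU)).ge.trans (sup_le_sup_left (inf_le_inf_left _ ?_) _)
      exact Subgroup.centralizer_le (Set.singleton_subset_iff.2 (Subgroup.mem_zpowers a))
    have hout : ∀ a ∈ A, a ∉ U →
        (K ⊓ Subgroup.centralizer {a} : Subgroup G) = M ⊓ Subgroup.centralizer {a} := by
      intro a ha haU
      refine le_antisymm (le_inf ?_ inf_le_right) (inf_le_inf_right _ hMK.le)
      exact (dich _ (Set.singleton_subset_iff.2 ha)).resolve_right fun h => haU (hcover a ha h)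
    -- some non-identity element acts trivially
    have hU1 : ∃ b ∈ U, b ≠ 1 := by
      by_contra hno
      refine hMK.not_ge ((Solv.gen_eq A K hA hAK hco).ge.trans (iSup₂_le fun B hB => ?_))
      rcases dich _ hB.1 with h | h
      · exact h
      exfalso
      obtain ⟨b, hbB, hb1⟩ : ∃ b ∈ B, b ≠ 1 := by
        by_contra hB1
        obtain ⟨a, ha, hBa⟩ := hB.2
        have hBbot : B = ⊥ := B.eq_bot_iff_forall.2 fun x hx => by
          by_contra hx1; exact hB1 ⟨x, hx, hx1⟩
        rw [hBbot, bot_sup_eq] at hBa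
        have h1 := hcard
        rw [← hBa, Nat.card_zpowers] at h1
        have h2 : orderOf a ∣ p := orderOf_dvd_of_pow_eq_one (hexp a ha)
        rw [h1] at h2
        exact absurd (Nat.le_of_dvd hp.out.pos h2) (not_le.2 (by nlinarith [hp.out.two_le]))
      refine hno ⟨b, hcover b (hB.1 hbB) (le_antisymm (sup_le hMK.le inf_le_left) ?_), hb1⟩
      exact h.ge.trans (sup_le_sup_left (inf_le_inf_left _
        (Subgroup.centralizer_le (Set.singleton_subset_iff.2 hbB))) _)
    obtain ⟨t, ht⟩ : ∃ t, t = (nonId A).filter (· ∈ U) := ⟨_, rfl⟩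
    have hprod : (∏ a ∈ nonId A, Nat.card (K ⊓ Subgroup.centralizer {a} : Subgroup G)) * Nat.card M ^ t.card =
        Nat.card K ^ t.card * ∏ a ∈ nonId A, Nat.card (M ⊓ Subgroup.centralizer {a} : Subgroup G) := by
      rw [← Finset.prod_filter_mul_prod_filter_not (nonId A) (· ∈ U), ← ht,
        ← Finset.prod_filter_mul_prod_filter_not (nonId A) (· ∈ U)
          (fun a => Nat.card (M ⊓ Subgroup.centralizer {a} : Subgroup G)), ← ht]
      have e1 : ∏ a ∈ (nonId A).filter (¬ · ∈ U), Nat.card (K ⊓ Subgroup.centralizer {a} : Subgroup G) =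
          ∏ a ∈ (nonId A).filter (¬ · ∈ U), Nat.card (M ⊓ Subgroup.centralizer {a} : Subgroup G) :=
        Finset.prod_congr rfl fun a ha => by
          obtain ⟨h1, h2⟩ := Finset.mem_filter.1 ha
          rw [hout a (mem_nonId.1 h1).1 h2]
      have e2 : (∏ a ∈ t, Nat.card (K ⊓ Subgroup.centralizer {a} : Subgroup G)) * Nat.card M ^ t.card =
          Nat.card K ^ t.card * ∏ a ∈ t, Nat.card (M ⊓ Subgroup.centralizer {a} : Subgroup G) := by
        rw [← Finset.prod_const, ← Finset.prod_const, ← Finset.prod_mul_distrib, ← Finset.prod_mul_distrib]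
        refine Finset.prod_congr rfl fun a ha => ?_
        rw [ht, Finset.mem_filter] at ha
        exact hin a (mem_nonId.1 ha.1).1 ha.2
      rw [e1, mul_right_comm, e2, mul_assoc]
    rw [IH] at hprod
    have hpm : p ^ 2 - 1 = (p - 1) + p * (p - 1) := by
      obtain ⟨m, hm⟩ : ∃ m, p = m + 1 := ⟨p - 1, by have := hp.out.two_le; omega⟩
      subst hm
      simp only [Nat.add_sub_cancel]
      rw [show (m + 1) ^ 2 = m + (m + 1) * m + 1 by ring, Nat.add_sub_cancel]
    by_cases htop : U = A
    · have htc : t.card = p ^ 2 - 1 := by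
        rw [ht, Finset.filter_true_of_mem fun a ha => htop.ge (mem_nonId.1 ha).1, card_nonId, hcard]
      have hf := card_sup_fixed hMK.le hKM (hfix A htop.ge)
      refine Nat.eq_of_mul_eq_mul_right (pow_pos (Nat.card_pos (α := M)) t.card) ?_
      rw [hprod, htc, hpm, pow_add, pow_add]
      calc _ = Nat.card K ^ (p - 1) * Nat.card M ^ (p - 1) *
            (Nat.card K * Nat.card (M ⊓ Subgroup.centralizer (A : Set G) : Subgroup G)) ^ (p * (p - 1)) := by
              rw [mul_pow]; ring
        _ = Nat.card K ^ (p - 1) * Nat.card M ^ (p - 1) *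
            (Nat.card (K ⊓ Subgroup.centralizer (A : Set G) : Subgroup G) * Nat.card M) ^ (p * (p - 1)) := by
              rw [hf]
        _ = _ := by rw [mul_pow]; ring
    · obtain ⟨b, hb, hb1⟩ := hU1
      have hUc : Nat.card U = p := by
        have hd : Nat.card U ∣ p ^ 2 := hcard ▸ Subgroup.card_dvd_of_le hUA
        obtain ⟨j, hj, he⟩ := (Nat.dvd_prime_pow hp.out).1 hd
        interval_cases j
        · exfalso
          rw [pow_zero] at he
          exact hb1 (Subgroup.mem_bot.1 (Subgroup.eq_bot_of_card_eq U he ▸ hb))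
        · rw [he, pow_one]
        · exact absurd (Subgroup.eq_of_le_of_card_ge hUA (hcard.trans he.symm).le) htop
      have htc : t.card = p - 1 := by
        have : t = nonId U := by
          ext a
          rw [ht, Finset.mem_filter, mem_nonId, mem_nonId]
          exact ⟨fun h => ⟨h.2, h.1.2⟩, fun h => ⟨⟨hUA h.1, h.2⟩, h.1⟩⟩
        rw [this, card_nonId, hUc]
      obtain ⟨a, ha, haU⟩ := SetLike.exists_of_lt (lt_of_le_of_ne hUA htop)
      have hfA : K ⊓ Subgroup.centralizer (A : Set G) = M ⊓ Subgroup.centralizer (A : Set G) := by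
        refine le_antisymm (le_inf ?_ inf_le_right) (inf_le_inf_right _ hMK.le)
        refine le_trans (inf_le_inf_left K (Subgroup.centralizer_le (Set.singleton_subset_iff.2 ha))) ?_
        exact (hout a ha haU).trans_le inf_le_left
      refine Nat.eq_of_mul_eq_mul_right (pow_pos (Nat.card_pos (α := M)) t.card) ?_
      rw [hprod, htc, hfA]
      ring

/-- The order formula for any finite group acted on coprimely by a group of type `(p, p)`. -/
theorem fixed_formula {p : ℕ} [Fact p.Prime] {A K : Subgroup G} (hA : IsMulCommutative A)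
    (hcard : Nat.card A = p ^ 2) (hexp : ∀ a ∈ A, a ^ p = 1)
    (hAK : A ≤ Subgroup.normalizer (K : Set G)) (hco : (Nat.card A).Coprime (Nat.card K)) :
    ∏ a ∈ nonId A, Nat.card (K ⊓ Subgroup.centralizer {a} : Subgroup G) =
      Nat.card K ^ (p - 1) *
        Nat.card (K ⊓ Subgroup.centralizer (A : Set G) : Subgroup G) ^ (p * (p - 1)) := by
  refine Nat.eq_of_factorization_eq (Finset.prod_ne_zero_iff.2 fun a _ => Nat.card_pos.ne')
    (mul_ne_zero (pow_ne_zero _ Nat.card_pos.ne') (pow_ne_zero _ Nat.card_pos.ne')) fun q => ?_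
  by_cases hq : q.Prime
  · haveI := Fact.mk hq
    obtain ⟨S, hS, hSA, hgood⟩ := exists_good_sylow hA hAK hco q
    have h := fixed_formula_pgroup hA hcard hexp _ S rfl hS.isPGroup hSA
      (hco.coprime_dvd_right (Subgroup.card_dvd_of_le hS.1))
    have e : ∀ a ∈ nonId A, Nat.card (S ⊓ Subgroup.centralizer {a} : Subgroup G) =
        q ^ (Nat.card (K ⊓ Subgroup.centralizer {a} : Subgroup G)).factorization q := fun a ha =>
      (hgood {a} (Set.singleton_subset_iff.2 (mem_nonId.1 ha).1)).2
    rw [Finset.prod_congr rfl e, hS.2, (hgood A subset_rfl).2, Finset.prod_pow_eq_pow_sum,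
      ← pow_mul, ← pow_mul, ← pow_add] at h
    have h' := Nat.pow_right_injective hq.two_le h
    rw [Nat.factorization_prod fun a _ => Nat.card_pos.ne', Finset.sum_apply',
      Nat.factorization_mul (pow_ne_zero _ Nat.card_pos.ne') (pow_ne_zero _ Nat.card_pos.ne'),
      Finsupp.add_apply, Nat.factorization_pow, Nat.factorization_pow, Finsupp.smul_apply, Finsupp.smul_apply,
      smul_eq_mul, smul_eq_mul, h']
    ring
  · simp [Nat.factorization_eq_zero_of_not_prime _ hq]

end Cfsg.Agent.Fusion
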