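import Cfsg.Agent.S1180
import Cfsg.Agent.Lib.Char.ZStar
import Cfsg.Agent.Lib.Fusion.FixedPointFormula
import Cfsg.Agent.Lib.Fusion.Cores

/-!
# Invariant Sylow subgroups and inverted elements of an isolated involution
-/

set_option autoImplicit false
set_option linter.style.haveILetI false

open Cfsg
open scoped Pointwise

namespace Cfsg.Agent.Fusion

variable {G : Type*} [Group G] [Finite G]

/-- Elements inverted by an involution form a transversal of the fixed points in an odd group. -/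
theorem card_inverted {z : G} (hz : orderOf z = 2) {K : Subgroup G}
    (hzK : z ∈ Subgroup.normalizer (K : Set G)) (hK : Odd (Nat.card K)) :
    (K ⊓ Subgroup.centralizer ({z} : Set G)).relIndex K =
      Nat.card {x : G // x ∈ K ∧ z * x * z⁻¹ = x⁻¹} := by
  obtain ⟨k, hk⟩ := hK
  have hpow : ∀ x ∈ K, x ^ (2 * k + 1) = 1 := fun x hx => by
    obtain ⟨c, hc⟩ := hk ▸ Subgroup.orderOf_dvd_natCard K hx
    rw [hc, pow_mul, pow_orderOf_eq_one, one_pow]
  have hzz := invol_inv hz
  set C := K ⊓ Subgroup.centralizer ({z} : Set G)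
  symm
  refine Nat.card_eq_of_bijective
    (fun x => (QuotientGroup.mk (⟨x.1, x.2.1⟩ : K) : K ⧸ C.subgroupOf K)) ⟨?_, ?_⟩
  · rintro ⟨y, hy, hyi⟩ ⟨x, hx, hxi⟩ h
    have h1 := Subgroup.mem_subgroupOf.1 (QuotientGroup.eq.1 h)
    push_cast at h1
    obtain ⟨hcK, hcz⟩ := Subgroup.mem_inf.1 h1
    rw [Subgroup.mem_centralizer_singleton_iff] at hcz
    obtain ⟨c, hc⟩ : ∃ c, c = y⁻¹ * x := ⟨_, rfl⟩
    rw [← hc] at hcK hcz
    have hxc : x = y * c := by rw [hc]; group
    have e1 : x⁻¹ = y⁻¹ * c := by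
      rw [← hxi, hxc]
      calc z * (y * c) * z⁻¹ = z * y * z⁻¹ * (z * c * z⁻¹) := by group
        _ = _ := by rw [hyi, ← hcz, mul_inv_cancel_right]
    have e2 : y * c⁻¹ * y⁻¹ = c := by
      calc y * c⁻¹ * y⁻¹ = y * x⁻¹ := by rw [hxc]; group
        _ = c := by rw [e1]; group
    have e3 : y * c * y⁻¹ = c⁻¹ := by
      have := congrArg (fun t => t⁻¹) e2
      simpa [mul_assoc] using this
    have e4 : Commute (y ^ 2) c := by
      show y ^ 2 * c = c * y ^ 2
      calc y ^ 2 * c = y * (y * c * y⁻¹) * y⁻¹ * y ^ 2 := by rw [sq]; group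
        _ = c * y ^ 2 := by rw [e3, e2]
    have e5 : Commute y c := by
      have := e4.pow_left (k + 1)
      rwa [← pow_mul, show 2 * (k + 1) = (2 * k + 1) + 1 by ring, pow_succ, hpow y hy, one_mul] at this
    have e6 : c = 1 := by
      rw [e5.eq, mul_inv_cancel_right] at e3
      have e7 : c ^ 2 = 1 := by rw [sq]; exact mul_eq_one_iff_eq_inv.2 e3
      have e8 := hpow c hcK
      rwa [pow_succ, pow_mul, e7, one_pow, one_mul] at e8
    exact Subtype.ext (inv_mul_eq_one.1 (hc ▸ e6))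
  · intro q
    induction q using QuotientGroup.induction_on with
    | _ g =>
      set d := (g : G) * z * (g : G)⁻¹ * z⁻¹ with hd
      have hdK : d ∈ K := by
        rw [hd, show (g : G) * z * (g : G)⁻¹ * z⁻¹ = g * (z * (g : G)⁻¹ * z⁻¹) by group]
        exact mul_mem g.2 ((Subgroup.mem_normalizer_iff.1 hzK _).1 (inv_mem g.2))
      have hdi : z * d * z⁻¹ = d⁻¹ := by
        have h2 : z * z = 1 := invol_mul_self hz
        rw [hd]
        simp only [hzz, mul_inv_rev, inv_inv, mul_assoc, h2, mul_one]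
      set x := d ^ (k + 1) with hx
      have hxi : z * x * z⁻¹ = x⁻¹ := by rw [hx, ← conj_pow, hdi, inv_pow]
      refine ⟨⟨x, pow_mem hdK _, hxi⟩, QuotientGroup.eq.2 (Subgroup.mem_subgroupOf.2 ?_)⟩
      push_cast
      refine Subgroup.mem_inf.2 ⟨mul_mem (inv_mem (pow_mem hdK _)) g.2,
        Subgroup.mem_centralizer_singleton_iff.2 ?_⟩
      have e0 : x * x = d := by
        rw [hx, ← pow_add, show k + 1 + (k + 1) = (2 * k + 1) + 1 by ring, pow_succ, hpow d hdK, one_mul]
      have e1 : x * z * x⁻¹ = (g : G) * z * (g : G)⁻¹ := by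
        have e2 : z * x⁻¹ * z⁻¹ = x := by
          have := congrArg (fun t => t⁻¹) hxi
          simpa [mul_assoc] using this
        calc x * z * x⁻¹ = x * (z * x⁻¹ * z⁻¹) * z := by group
          _ = (g : G) * z * (g : G)⁻¹ := by rw [e2, e0, hd]; group
      calc x⁻¹ * (g : G) * z = x⁻¹ * ((g : G) * z * (g : G)⁻¹) * g := by group
        _ = z * (x⁻¹ * g) := by rw [← e1]; group

theorem isolated_normalizes {z : G} (hz : Cfsg.IsIsolatedInvolution z) {K : Subgroup G}
    (hK : oddCore G ≤ K) : z ∈ Subgroup.normalizer (K : Set G) := by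
  refine mem_normalizer_of_cj_le ?_
  rintro _ ⟨a, ha, rfl⟩
  have h := mul_mem (hK (Char.zStar_isolated hz a)) ha
  simpa using h

/-- Invariant Sylow subgroups above invariant `p`-subgroups. -/
theorem exists_isolated_invariant_sylow {z : G} (hz : Cfsg.IsIsolatedInvolution z) {p : ℕ}
    [hp : Fact p.Prime] (hp2 : p ≠ 2) {Q : Subgroup G} (hQ : IsPGroup p Q)
    (hzQ : z ∈ Subgroup.normalizer (Q : Set G)) :
    ∃ P : Sylow p G, Q ≤ P ∧ z ∈ Subgroup.normalizer ((P : Subgroup G) : Set G) := by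
  obtain ⟨P₀, hQP⟩ := hQ.exists_le_sylow
  set K := oddCore G ⊔ (P₀ : Subgroup G) with hK
  have hKodd : (Nat.card K).Coprime 2 := by
    rw [hK, sup_comm]
    refine Nat.Coprime.coprime_dvd_left (card_sup_dvd (oddCore G) (P₀ : Subgroup G))
      (Nat.Coprime.mul_left ?_ (card_pPrimeCore_coprime 2 G))
    obtain ⟨k, hk⟩ := IsPGroup.iff_card.1 P₀.isPGroup'
    rw [hk]
    exact Nat.Coprime.pow_left k ((Nat.coprime_primes hp.out Nat.prime_two).2 hp2)
  have hco : (Nat.card (Subgroup.zpowers z)).Coprime (Nat.card K) := by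
    rw [Nat.card_zpowers, hz.1]; exact hKodd.symm
  obtain ⟨V, hV, hQV, hzV⟩ := Solv.exists_invariant_sylow_ge
    (Subgroup.zpowers_le.2 (isolated_normalizes hz le_sup_left)) hco
    (Or.inl (Group.isSolvable_of_comm fun a b =>
      (inferInstance : IsMulCommutative (Subgroup.zpowers z)).is_comm.comm a b)) Q (hQP.trans le_sup_right) hQ
    (Subgroup.zpowers_le.2 hzQ)
  obtain ⟨T, hT⟩ := hV.isPGroup.exists_le_sylow
  refine ⟨T, hQV.trans hT, ?_⟩
  have : V = (T : Subgroup G) := Subgroup.eq_of_le_of_card_ge hT (by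
    rw [hV.2, T.card_eq_multiplicity]
    refine Nat.pow_le_pow_right hp.out.pos ?_
    obtain ⟨e, he⟩ := IsPGroup.iff_card.1 P₀.isPGroup'
    have h1 : (Nat.card G).factorization p = e :=
      Nat.pow_right_injective hp.out.two_le (P₀.card_eq_multiplicity.symm.trans he)
    rw [h1]
    exact (hp.out.pow_dvd_iff_le_factorization Nat.card_pos.ne').1 (he ▸ Subgroup.card_dvd_of_le le_sup_right))
  exact this ▸ hzV (Subgroup.mem_zpowers z)

end Cfsg.Agent.Fusion
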