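import Cfsg.Agent.Lib.Fusion.SL2Sections
import Cfsg.Agent.Lib.Fusion.NPC
import Cfsg.Agent.Lib.Solv.UniqueSub
import Cfsg.Agent.Lib.Perm.Fpf.QuatAut
import Cfsg.Agent.Lib.Lead.SL23

/-!
# A quaternion subgroup with a nontrivial automorphism of odd order gives a section `SL₂(3)`
-/

set_option autoImplicit false
set_option linter.style.haveILetI false

open Cfsg
open QuaternionGroup (a xa)

namespace Cfsg.Agent.Fusion

universe u

open Lead.SL23 (qFun qHom qHom_inj)
open Perm.Fpf.QuatAut (img aut_img aut_perm gen_ext)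

theorem exists_sl23_conj : ∀ w v : QuaternionGroup 2, w * w = a 2 → v * v = a 2 → w * v * w = v →
    img w v (img w v w) = a 1 → img w v (img w v v) = xa 0 → (w ≠ a 1 ∨ v ≠ xa 0) →
    ∃ t : Matrix.SpecialLinearGroup (Fin 2) (ZMod 3), t * t * t = 1 ∧ t ≠ 1 ∧
      t * qFun (a 1) = qFun w * t ∧ t * qFun (xa 0) = qFun v * t := by
  decide +kernel

theorem card_sl23 : Nat.card (Matrix.SpecialLinearGroup (Fin 2) (ZMod 3)) = 24 := by
  rw [Nat.card_eq_fintype_card]
  decide +kernel

variable {G : Type u} [Group G] [Finite G]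

/-- A quaternion subgroup moved by an element of `3`-power order. -/
theorem involves_sl23_of_quaternion {Q : Subgroup G} (e : QuaternionGroup 2 ≃* Q) {g : G}
    (hg : g ∈ Subgroup.normalizer (Q : Set G)) (hg3 : ∃ k : ℕ, g ^ 3 ^ k = 1)
    (hgQ : g ∉ Subgroup.centralizer (Q : Set G)) :
    Cfsg.Involves (Matrix.SpecialLinearGroup (Fin 2) (ZMod 3)) G := by
  classical
  obtain ⟨k, hk⟩ := hg3
  haveI : Fact (Nat.Prime 3) := ⟨Nat.prime_three⟩
  let ι : QuaternionGroup 2 →* G := Q.subtype.comp e.toMonoidHom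
  set f : MulAut (QuaternionGroup 2) :=
    (e.trans (Q.normalizerMonoidHom ⟨g, hg⟩)).trans e.symm with hf
  have hconj : ∀ x, ι (f x) = g * ι x * g⁻¹ := fun x => by
    show ((e (e.symm (Q.normalizerMonoidHom ⟨g, hg⟩ (e x))) : Q) : G) = _
    rw [e.apply_symm_apply]
    rfl
  have hconjpow : ∀ (i : ℤ) x, ι ((f ^ i) x) = g ^ i * ι x * (g ^ i)⁻¹ := by
    intro i
    induction i using Int.induction_on with
    | zero => intro x; simp
    | succ i ih =>
      intro x
      rw [zpow_add_one, MulAut.mul_apply, ih, hconj, zpow_add_one]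
      group
    | pred i ih =>
      intro x
      rw [zpow_sub_one, MulAut.mul_apply, ih]
      have h := hconj (f⁻¹ x)
      rw [← MulAut.mul_apply, mul_inv_cancel, MulAut.one_apply] at h
      rw [zpow_sub_one, h]
      group
  have hι : Function.Injective ι := Q.subtype_injective.comp e.injective
  have hf1 : f ≠ 1 := by
    intro h
    refine hgQ (mem_centralizer_set.2 fun q hq => ?_)
    have h1 := hconj (e.symm ⟨q, hq⟩)
    rw [h, MulAut.one_apply, show ι (e.symm ⟨q, hq⟩) = q from congrArg Subtype.val (e.apply_symm_apply _)] at h1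
    exact h1.symm
  have hfk : f ^ (3 ^ k : ℕ) = 1 := by
    refine MulEquiv.ext fun x => hι ?_
    have := hconjpow (3 ^ k : ℕ) x
    rw [zpow_natCast, zpow_natCast, hk] at this
    simpa using this
  have hf3 : f ^ 3 = 1 := by
    obtain ⟨φ, hφ⟩ := aut_perm
    refine hφ ?_
    have h1 : φ f ^ 3 ^ k = 1 := by rw [← map_pow, hfk, map_one]
    obtain ⟨j, hjk, hj⟩ := (Nat.dvd_prime_pow Nat.prime_three).1 (orderOf_dvd_of_pow_eq_one h1)
    have h24 : orderOf (φ f) ∣ 24 := by
      have := orderOf_dvd_natCard (φ f)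
      rwa [Nat.card_eq_fintype_card, Fintype.card_perm, Fintype.card_fin] at this
    rw [map_pow, map_one]
    refine orderOf_dvd_iff_pow_eq_one.1 ?_
    rw [hj] at h24 ⊢
    rcases j with _ | _ | j
    · exact one_dvd _
    · exact dvd_rfl
    · exact absurd ((pow_dvd_pow 3 (show 2 ≤ j + 1 + 1 by omega)).trans h24) (by norm_num)
  obtain ⟨hw2, hv2, hwvw, himg⟩ := aut_img f
  have hcube : ∀ x, img (f (a 1)) (f (xa 0)) (img (f (a 1)) (f (xa 0)) (f x)) = x := fun x => by
    rw [← himg]
    have : (f ^ 3) x = x := by rw [hf3]; rfl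
    rwa [pow_succ, pow_succ, pow_one] at this
  have hne : f (a 1) ≠ a 1 ∨ f (xa 0) ≠ xa 0 := by
    by_contra h
    push Not at h
    exact hf1 (MulEquiv.ext fun x =>
      DFunLike.congr_fun (gen_ext (f := f.toMonoidHom) (g := MonoidHom.id _) h.1 h.2) x)
  obtain ⟨t, ht3, ht1, hta, htx⟩ :=
    exists_sl23_conj _ _ hw2 hv2 hwvw (hcube (a 1)) (hcube (xa 0)) hne
  have htf : ∀ x, qHom (f x) = t * qHom x * t⁻¹ := fun x =>
    DFunLike.congr_fun (gen_ext (f := qHom.comp f.toMonoidHom)
      (g := (MulAut.conj t).toMonoidHom.comp qHom)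
      (by show qFun (f (a 1)) = t * qFun (a 1) * t⁻¹; rw [hta, mul_inv_cancel_right])
      (by show qFun (f (xa 0)) = t * qFun (xa 0) * t⁻¹; rw [htx, mul_inv_cancel_right])) x
  have htfpow : ∀ (i : ℤ) x, qHom ((f ^ i) x) = t ^ i * qHom x * (t ^ i)⁻¹ := by
    intro i
    induction i using Int.induction_on with
    | zero => intro x; simp
    | succ i ih =>
      intro x
      rw [zpow_add_one, MulAut.mul_apply, ih, htf, zpow_add_one]
      group
    | pred i ih =>
      intro x
      rw [zpow_sub_one, MulAut.mul_apply, ih]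
      have h := htf (f⁻¹ x)
      rw [← MulAut.mul_apply, mul_inv_cancel, MulAut.one_apply] at h
      rw [zpow_sub_one, h]
      group
  let φ : Multiplicative ℤ →* MulAut (QuaternionGroup 2) := zpowersHom _ f
  let f1 : SemidirectProduct (QuaternionGroup 2) (Multiplicative ℤ) φ →* G :=
    SemidirectProduct.lift ι (zpowersHom G g) fun n => MonoidHom.ext fun x => hconjpow n.toAdd x
  let f2 : SemidirectProduct (QuaternionGroup 2) (Multiplicative ℤ) φ →*
      Matrix.SpecialLinearGroup (Fin 2) (ZMod 3) :=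
    SemidirectProduct.lift qHom (zpowersHom _ t) fun n => MonoidHom.ext fun x => htfpow n.toAdd x
  have hf2 : Function.Surjective f2 := by
    rw [← MonoidHom.range_eq_top]
    refine Subgroup.eq_top_of_card_eq _ (Nat.dvd_antisymm (Subgroup.card_subgroup_dvd_card _) ?_)
    rw [card_sl23]
    have h8 : 8 ∣ Nat.card f2.range := by
      have h : Nat.card qHom.range = 8 := by
        rw [← Nat.card_congr (MonoidHom.ofInjective qHom_inj).toEquiv, Nat.card_eq_fintype_card,
          QuaternionGroup.card]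
      rw [← h]
      refine Subgroup.card_dvd_of_le ?_
      rintro _ ⟨x, rfl⟩
      exact ⟨SemidirectProduct.inl x, SemidirectProduct.lift_inl _ _ _ x⟩
    have h3 : 3 ∣ Nat.card f2.range := by
      have ho : orderOf t = 3 := orderOf_eq_prime (by rw [pow_succ, pow_succ, pow_one]; exact ht3) ht1
      have hm : t ∈ f2.range := ⟨SemidirectProduct.inr (Multiplicative.ofAdd 1), by
        rw [SemidirectProduct.lift_inr]; simp⟩
      have := orderOf_dvd_natCard (⟨t, hm⟩ : f2.range)
      rwa [Subgroup.orderOf_mk, ho] at this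
    exact Nat.Coprime.mul_dvd_of_dvd_of_dvd (by norm_num) h8 h3
  have hker : f1.ker ≤ f2.ker := by
    rintro ⟨x, n⟩ hm
    rw [MonoidHom.mem_ker] at hm ⊢
    change ι x * g ^ n.toAdd = 1 at hm
    show qHom x * t ^ n.toAdd = 1
    have hgQ' : g ^ n.toAdd ∈ Q := by
      rw [eq_inv_of_mul_eq_one_right hm]; exact inv_mem (e x).2
    have hg1 : g ^ n.toAdd = 1 := by
      refine orderOf_eq_one_iff.1 (Nat.eq_one_of_dvd_coprimes
        (Nat.Coprime.pow k 3 (by norm_num : Nat.Coprime 3 2))
        ((orderOf_dvd_of_mem_zpowers (Subgroup.zpow_mem_zpowers g _)).trans (orderOf_dvd_of_pow_eq_one hk)) ?_)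
      have := orderOf_dvd_natCard (⟨_, hgQ'⟩ : Q)
      rw [Subgroup.orderOf_mk, ← Nat.card_congr e.toEquiv, Nat.card_eq_fintype_card,
        QuaternionGroup.card] at this
      exact this
    rw [hg1, mul_one, ← map_one ι] at hm
    rw [hι hm, map_one, one_mul]
    have h3g : 3 ∣ orderOf g := by
      obtain ⟨j, -, hj⟩ := (Nat.dvd_prime_pow Nat.prime_three).1 (orderOf_dvd_of_pow_eq_one hk)
      rcases j with _ | j
      · rw [pow_zero, orderOf_eq_one_iff] at hj
        exact absurd (hj ▸ one_mem _) hgQ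
      · exact hj ▸ dvd_pow_self 3 (by omega)
    refine orderOf_dvd_iff_zpow_eq_one.1 ?_
    rw [orderOf_eq_prime (by rw [pow_succ, pow_succ, pow_one]; exact ht3) ht1]
    exact (Int.natCast_dvd_natCast.2 h3g).trans (orderOf_dvd_iff_zpow_eq_one.2 hg1)
  refine involves_of_surjective (K := f1.range)
    (f1.rangeRestrict.liftOfSurjective f1.rangeRestrict_surjective
      ⟨f2, by rw [MonoidHom.ker_rangeRestrict]; exact hker⟩) fun w => ?_
  obtain ⟨m, rfl⟩ := hf2 w
  exact ⟨f1.rangeRestrict m, MonoidHom.liftOfRightInverse_comp_apply _ _ _ _ m⟩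

/-- Normal `2`-complement or a section `SL₂(3)`. -/
theorem hnpc_or_involves_sl23 (T : Sylow 2 G) {n : ℕ}
    (hT : Nonempty ((T : Subgroup G) ≃* QuaternionGroup (2 ^ n))) :
    Cfsg.HasNormalPComplement 2 G ∨ Cfsg.Involves (Matrix.SpecialLinearGroup (Fin 2) (ZMod 3)) G := by
  classical
  haveI : Fact (Nat.Prime 2) := ⟨Nat.prime_two⟩
  haveI : NeZero (2 ^ n : ℕ) := ⟨pow_ne_zero _ two_ne_zero⟩
  by_contra hcon
  push Not at hcon
  obtain ⟨hnp, hninv⟩ := hcon
  refine hnp (hnpc_of_centralize (sylIn_top T) fun Q hQT g hg hgo => ?_)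
  by_contra hgQ
  obtain ⟨eT⟩ := hT
  let jT : Q →* QuaternionGroup (2 ^ n) := eT.toMonoidHom.comp (Subgroup.inclusion hQT)
  have hjT : Function.Injective jT := eT.injective.comp (Subgroup.inclusion_injective hQT)
  have hQp : IsPGroup 2 Q := T.2.to_le hQT
  have hsq : ∀ x : QuaternionGroup (2 ^ n), x ^ 2 = 1 → x = 1 ∨ x = a ((2 ^ n : ℕ) : ZMod (2 * 2 ^ n)) := by
    intro x hx
    rw [pow_two] at hx
    cases x with
    | xa i =>
      rw [QuaternionGroup.xa_mul_xa, QuaternionGroup.one_def, add_sub_cancel_right] at hx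
      injection hx with h
      rw [ZMod.natCast_eq_zero_iff] at h
      have hle := Nat.le_of_dvd (by positivity) h
      have hpos : 0 < 2 ^ n := by positivity
      omega
    | a i =>
      rw [QuaternionGroup.a_mul_a, QuaternionGroup.one_def] at hx
      injection hx with h
      rw [← ZMod.natCast_zmod_val i, ← Nat.cast_add, ZMod.natCast_eq_zero_iff] at h
      have hlt := ZMod.val_lt i
      rcases eq_or_ne i.val 0 with h0 | h0
      · exact Or.inl (by rw [QuaternionGroup.one_def, (ZMod.val_eq_zero i).1 h0])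
      · refine Or.inr ?_
        have hle := Nat.le_of_dvd (by omega) h
        obtain ⟨c, hc⟩ := h
        have hc1 : c = 1 := by
          rcases c with _ | _ | c
          · omega
          · rfl
          · exfalso; nlinarith
        rw [← ZMod.natCast_zmod_val i, show i.val = 2 ^ n by subst hc1; omega]
  have hu : Solv.UniqueOrderP 2 Q := by
    intro x y hx hy hy1
    rcases eq_or_ne x 1 with rfl | hx1
    · exact one_mem _
    have hx' := (hsq (jT x) (by rw [← map_pow, hx, map_one])).resolve_left (fun h => hx1 (hjT (by rw [h, map_one])))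
    have hy' := (hsq (jT y) (by rw [← map_pow, hy, map_one])).resolve_left (fun h => hy1 (hjT (by rw [h, map_one])))
    rw [hjT (hx'.trans hy'.symm)]
    exact Subgroup.mem_zpowers y
  set g' : Subgroup.normalizer (Q : Set G) := ⟨g, hg⟩
  have hodd : Odd (orderOf g) := Nat.coprime_two_right.1 hgo
  have hact : Q.normalizerMonoidHom g' ≠ 1 := by
    intro h
    refine hgQ (mem_centralizer_set.2 fun q hq => ?_)
    exact congrArg Subtype.val (DFunLike.congr_fun h (⟨q, hq⟩ : Q))
  have hactodd : (Q.normalizerMonoidHom g') ^ orderOf g = 1 := by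
    rw [← map_pow, show g' ^ orderOf g = 1 from Subtype.ext (pow_orderOf_eq_one g), map_one]
  rcases Solv.cyclic_or_quaternion hQp hu with hc | ⟨-, m, ⟨e⟩⟩
  · haveI := hc
    exact hact (Perm.Fpf.QuatAut.eq_one_of_odd_cyclic hQp hodd hactodd)
  · haveI : NeZero (2 ^ m : ℕ) := ⟨pow_ne_zero _ two_ne_zero⟩
    rcases m with _ | _ | m
    · haveI : IsCyclic Q := by
        haveI : IsCyclic (QuaternionGroup (2 ^ 0)) := isCyclic_of_orderOf_eq_card (xa 0) (by
          rw [QuaternionGroup.orderOf_xa, Nat.card_eq_fintype_card, QuaternionGroup.card]; norm_num)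
        exact isCyclic_of_surjective e.symm.toMonoidHom e.symm.surjective
      exact hact (Perm.Fpf.QuatAut.eq_one_of_odd_cyclic hQp hodd hactodd)
    · obtain ⟨b, c, hc, hbc⟩ := Nat.exists_eq_pow_mul_and_not_dvd (orderOf_pos g).ne' 3 (by norm_num)
      by_cases hgc : g ^ c ∈ Subgroup.centralizer (Q : Set G)
      · -- `g ^ c` centralizes, and the action has order `1` or `3`
        set ψ : MulAut Q := Q.normalizerMonoidHom g'
        have h1 : ψ ^ c = 1 := by
          rw [← map_pow]
          refine MulEquiv.ext fun q => Subtype.ext ?_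
          exact mem_centralizer_set.1 hgc (q : G) q.2
        obtain ⟨φ, hφ⟩ := aut_perm
        let ψ' := φ (MulAut.congr e ψ)
        have hord : orderOf ψ' = orderOf ψ := by
          rw [orderOf_injective φ hφ]; exact MulEquiv.orderOf_eq (MulAut.congr e) ψ
        have h24 : orderOf ψ ∣ 24 := by
          have := orderOf_dvd_natCard ψ'
          rwa [hord, Nat.card_eq_fintype_card, Fintype.card_perm, Fintype.card_fin] at this
        refine hact (orderOf_eq_one_iff.1 ?_)
        have h3 : (orderOf ψ).Coprime 3 :=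
          Nat.Coprime.coprime_dvd_left (orderOf_dvd_of_pow_eq_one h1)
            (Nat.Coprime.symm (Nat.prime_three.coprime_iff_not_dvd.2 hc))
        have h2 : (orderOf ψ).Coprime 8 :=
          Nat.Coprime.coprime_dvd_left (orderOf_dvd_of_pow_eq_one hactodd)
            ((Nat.coprime_two_right.2 hodd).pow_right 3)
        exact Nat.eq_one_of_dvd_coprimes (h3.mul_right h2) dvd_rfl h24
      · exact hninv (involves_sl23_of_quaternion e.symm (pow_mem hg c) ⟨b, by
          rw [← pow_mul, mul_comm, ← hbc, pow_orderOf_eq_one]⟩ hgc)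
    · have h2 : IsPGroup 2 (QuaternionGroup (2 ^ (m + 1 + 1))) := hQp.of_equiv e
      have h := Perm.Fpf.QuatAut.eq_one_of_odd_big (n := 2 ^ (m + 1 + 1))
        (by calc 3 ≤ 2 ^ 2 := by norm_num
              _ ≤ _ := pow_le_pow_right' (by norm_num : 1 ≤ 2) (by omega)) h2
        (f := MulAut.congr e (Q.normalizerMonoidHom g')) hodd (by rw [← map_pow, hactodd, map_one])
      exact hact ((MulAut.congr e).injective (h.trans (map_one _).symm))

end Cfsg.Agent.Fusion
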