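import Cfsg.Agent.Lib.Fusion.LinearStable
import Cfsg.Agent.Lib.Solv.PSolvHall
import Cfsg.Agent.Lib.Char.PSolvHeight
import Cfsg.Agent.Lib.Small.SL2.Sylow
import Cfsg.Prelude.Def_PLocal

/-!
# Groups involving `SL₂(p)`, and action stability in their absence
-/

set_option autoImplicit false
set_option linter.style.haveILetI false

open Matrix
open scoped commutatorElement Pointwise

namespace Cfsg.Agent.Fusion

universe u

variable {p : ℕ} [hp : Fact p.Prime]

/-- For odd `p`, two noncommuting elements of `SL₂(p)` lie in a `2`-subgroup. -/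
theorem exists_sl2_noncomm_two (hp2 : p ≠ 2) :
    ∃ (Q : Subgroup (Matrix.SpecialLinearGroup (Fin 2) (ZMod p))), IsPGroup 2 Q ∧
      ∃ x ∈ Q, ∃ y ∈ Q, x * y ≠ y * x := by
  obtain ⟨a, b, hab⟩ := ZMod.sq_add_sq p (-1)
  let x : Matrix.SpecialLinearGroup (Fin 2) (ZMod p) :=
    ⟨!![0, -1; 1, 0], by simp [Matrix.det_fin_two]⟩
  let y : Matrix.SpecialLinearGroup (Fin 2) (ZMod p) :=
    ⟨!![a, b; b, -a], by simp [Matrix.det_fin_two]; linear_combination -hab⟩
  let z : Matrix.SpecialLinearGroup (Fin 2) (ZMod p) :=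
    ⟨-1, by simp [Matrix.det_fin_two]⟩
  have hz1 : z ≠ 1 := by
    intro h
    have h1 := congrArg (fun M : Matrix.SpecialLinearGroup (Fin 2) (ZMod p) => M.1 0 0) h
    simp [z] at h1
    have h2 : ((2 : ℕ) : ZMod p) = 0 := by push_cast; linear_combination -h1
    rw [ZMod.natCast_eq_zero_iff] at h2
    exact hp2 ((Nat.prime_dvd_prime_iff_eq hp.out Nat.prime_two).1 h2)
  have hzc : ∀ g, z * g = g * z := fun g => Subtype.ext (by
    show (-1 : Matrix (Fin 2) (Fin 2) (ZMod p)) * g.1 = g.1 * (-1)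
    rw [neg_one_mul, mul_neg_one])
  have hxx : x * x = z := Subtype.ext (by
    show !![(0 : ZMod p), -1; 1, 0] * !![(0 : ZMod p), -1; 1, 0] = -1
    ext i j; fin_cases i <;> fin_cases j <;> simp [Matrix.mul_apply, Fin.sum_univ_two])
  have hyy : y * y = z := Subtype.ext (by
    show !![a, b; b, -a] * !![a, b; b, -a] = -1
    ext i j; fin_cases i <;> fin_cases j <;> simp [Matrix.mul_apply, Fin.sum_univ_two] <;>
      first | linear_combination hab | ring)
  have hzz : z * z = 1 := Subtype.ext (by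
    show (-1 : Matrix (Fin 2) (Fin 2) (ZMod p)) * (-1) = 1
    rw [neg_mul_neg, one_mul])
  have hyx : y * x = x * y * z := Subtype.ext (by
    show !![a, b; b, -a] * !![(0 : ZMod p), -1; 1, 0] = !![(0 : ZMod p), -1; 1, 0] * !![a, b; b, -a] * (-1)
    rw [mul_neg_one]
    ext i j; fin_cases i <;> fin_cases j <;> simp [Matrix.mul_apply, Fin.sum_univ_two])
  have hne : x * y ≠ y * x := by
    rw [hyx]
    exact fun h => hz1 (left_eq_mul.1 h)
  have hpow : ∀ w, w * w = z → IsPGroup 2 (Subgroup.zpowers w) := fun w hw => by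
    refine IsPGroup.of_card_dvd_pow (n := 2) ?_
    rw [Nat.card_zpowers]
    exact orderOf_dvd_of_pow_eq_one (by rw [show (2 : ℕ) ^ 2 = 2 * 2 from rfl, pow_mul, pow_two, pow_two, hw, hzz])
  have hconj : x * y * x⁻¹ = y⁻¹ := by
    have h1 : y⁻¹ = y * z := inv_eq_of_mul_eq_one_right (by rw [← mul_assoc, hyy, hzz])
    rw [mul_inv_eq_iff_eq_mul, h1, mul_assoc y z x, hzc x, ← mul_assoc, hyx, mul_assoc (x * y) z z, hzz, mul_one]
  have hnorm : Subgroup.zpowers x ≤ Subgroup.normalizer (Subgroup.zpowers y : Set _) := by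
    rw [Subgroup.zpowers_le, Subgroup.mem_normalizer_iff]
    intro w
    have hmap : (Subgroup.zpowers y).map (MulAut.conj x).toMonoidHom = Subgroup.zpowers y := by
      rw [MonoidHom.map_zpowers, show (MulAut.conj x).toMonoidHom y = y⁻¹ from hconj, Subgroup.zpowers_inv]
    constructor
    · intro hw
      rw [← hmap]; exact ⟨w, hw, rfl⟩
    · intro hw
      rw [← hmap] at hw
      obtain ⟨w', hw', hwe⟩ := hw
      exact (MulAut.conj x).injective hwe ▸ hw'
  exact ⟨Subgroup.zpowers x ⊔ Subgroup.zpowers y, IsPGroup.to_sup_of_normal_right' (hpow x hxx) (hpow y hyy) hnorm,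
    x, Subgroup.mem_sup_left (Subgroup.mem_zpowers x), y, Subgroup.mem_sup_right (Subgroup.mem_zpowers y), hne⟩

/-- A group involving `SL₂(p)` for odd `p` has nonabelian Sylow `2`-subgroups. -/
theorem not_isMulCommutative_of_involves {H : Type u} [Group H] [Finite H] (hp2 : p ≠ 2)
    (h : Cfsg.Involves (Matrix.SpecialLinearGroup (Fin 2) (ZMod p)) H) (T : Sylow 2 H) :
    ¬ IsMulCommutative (T : Subgroup H) := by
  haveI : Fact (Nat.Prime 2) := ⟨Nat.prime_two⟩
  intro hT
  obtain ⟨K, f, hf⟩ := involves_exists_surjective h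
  obtain ⟨P⟩ : Nonempty (Sylow 2 K) := inferInstance
  obtain ⟨Q, hQ, x, hx, y, hy, hxy⟩ := exists_sl2_noncomm_two hp2 (p := p)
  obtain ⟨S, hS⟩ := hQ.exists_le_sylow
  obtain ⟨g, hg⟩ := MulAction.exists_smul_eq (Matrix.SpecialLinearGroup (Fin 2) (ZMod p))
    (P.mapSurjective hf) S
  obtain ⟨T', hT'⟩ := (P.2.map K.subtype).exists_le_sylow
  obtain ⟨c, rfl⟩ := MulAction.exists_smul_eq H T T'
  have hPc : ∀ u ∈ (P : Subgroup K), ∀ v ∈ (P : Subgroup K), u * v = v * u := by
    intro u hu v hv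
    obtain ⟨u', hu', hue⟩ := hT' ⟨u, hu, rfl⟩
    obtain ⟨v', hv', hve⟩ := hT' ⟨v, hv, rfl⟩
    refine Subtype.ext ?_
    show (u : H) * v = v * u
    have := congrArg Subtype.val (hT.is_comm.comm ⟨u', hu'⟩ ⟨v', hv'⟩)
    rw [show (u : H) = MulAut.conj c u' from hue.symm, show (v : H) = MulAut.conj c v' from hve.symm,
      ← map_mul, ← map_mul]
    exact congrArg (MulAut.conj c) this
  obtain ⟨x', hx', hxe⟩ : x ∈ (((g • P.mapSurjective hf : Sylow 2 _)) : Subgroup _) := hg ▸ hS hx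
  obtain ⟨y', hy', hye⟩ : y ∈ (((g • P.mapSurjective hf : Sylow 2 _)) : Subgroup _) := hg ▸ hS hy
  obtain ⟨u, hu, rfl⟩ := hx'
  obtain ⟨v, hv, rfl⟩ := hy'
  refine hxy ?_
  rw [← hxe, ← hye]
  show MulAut.conj g (f u) * MulAut.conj g (f v) = MulAut.conj g (f v) * MulAut.conj g (f u)
  rw [← map_mul, ← map_mul, ← map_mul, ← map_mul, hPc u hu v hv]

/-- `SL₂(p)` is not `p`-solvable for `p ≥ 5`. -/
theorem eq_three_of_psolvable_involves {H : Type u} [Group H] [Finite H] (hp2 : p ≠ 2)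
    (hH : Cfsg.IsPSolvable p H)
    (h : Cfsg.Involves (Matrix.SpecialLinearGroup (Fin 2) (ZMod p)) H) : p = 3 := by
  obtain ⟨K, f, hf⟩ := involves_exists_surjective h
  by_contra hp3
  have h5 : 5 ≤ p := by
    have h2 := hp.out.two_le
    by_contra hlt
    have : p = 4 := by omega
    exact (by norm_num : ¬ Nat.Prime 4) (this ▸ hp.out)
  have hps := Solv.isPSolvable_map hp.out (Solv.isPSolvable_map hp.out
    (Char.isPSolvable_subgroup hp.out hH K) f hf)
    (QuotientGroup.mk' (Subgroup.center (Matrix.SpecialLinearGroup (Fin 2) (ZMod p))))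
    (QuotientGroup.mk'_surjective _)
  haveI hsimple : IsSimpleGroup (Matrix.ProjectiveSpecialLinearGroup (Fin 2) (ZMod p)) :=
    Matrix.ProjectiveSpecialLinearGroup.rank_two_simple (by rw [Nat.card_zmod]; omega)
  haveI : Finite (Matrix.ProjectiveSpecialLinearGroup (Fin 2) (ZMod p)) :=
    Finite.of_surjective (QuotientGroup.mk' (Subgroup.center (Matrix.SpecialLinearGroup (Fin 2) (ZMod p))))
      (QuotientGroup.mk'_surjective _)
  obtain ⟨N, hN, hN1, hNc⟩ := Solv.exists_normal_pgroup_or_coprime hps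
  have hNt : N = ⊤ := (hN.eq_bot_or_eq_top).resolve_left hN1
  subst hNt
  have hcard := Subgroup.card_eq_card_quotient_mul_card_subgroup
    (Subgroup.center (Matrix.SpecialLinearGroup (Fin 2) (ZMod p)))
  rw [Small.SL2C.q_mul_sq, Small.SL2C.center_card_odd (fun h2 => by
    have h2' : ((2 : ℕ) : ZMod p) = 0 := by exact_mod_cast h2
    rw [ZMod.natCast_eq_zero_iff] at h2'
    exact hp2 ((Nat.prime_dvd_prime_iff_eq hp.out Nat.prime_two).1 h2')), ZMod.card] at hcard
  obtain ⟨k, hk⟩ := hp.out.odd_of_ne_two hp2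
  rcases hNc with hpg | hco
  · obtain ⟨m, hm⟩ := IsPGroup.iff_card.1 hpg
    rw [Subgroup.card_top] at hm
    rw [hm] at hcard
    have h4 : 2 ∣ p ^ m := by
      rw [hk, show 2 * k + 1 - 1 = 2 * k by omega] at hcard
      refine ⟨(2 * k + 1) * (k * (k + 1)), ?_⟩
      rw [hk]
      nlinarith [hcard]
    exact hp2 ((Nat.prime_dvd_prime_iff_eq Nat.prime_two hp.out).1 (Nat.prime_two.dvd_of_dvd_pow h4)).symm
  · rw [Subgroup.card_top] at hco
    have hdvd : p ∣ Nat.card (Matrix.SpecialLinearGroup (Fin 2) (ZMod p) ⧸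
        Subgroup.center (Matrix.SpecialLinearGroup (Fin 2) (ZMod p))) * 2 := by
      rw [← hcard]; exact dvd_mul_right _ _
    rcases hp.out.dvd_mul.1 hdvd with h' | h'
    · exact (hp.out.coprime_iff_not_dvd.1 (Nat.Coprime.symm hco)) h'
    · exact hp2 ((Nat.prime_dvd_prime_iff_eq hp.out Nat.prime_two).1 h')

variable {G : Type u} [Group G] [Finite G]

/-- A section of a subgroup is a section of it. -/
theorem involves_subtype {H K L : Subgroup G} {hL : (L.subgroupOf K).Normal} (hK : K ≤ H) {X : Type*} [Group X]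
    (h : Nonempty ((K ⧸ L.subgroupOf K) ≃* X)) : Cfsg.Involves X H := by
  obtain ⟨e⟩ := h
  exact involves_of_surjective (K := K.subgroupOf H)
    ((e.toMonoidHom.comp (QuotientGroup.mk' _)).comp (Subgroup.subgroupOfEquivOfLe hK).toMonoidHom)
    ((e.surjective.comp (QuotientGroup.mk'_surjective _)).comp (Subgroup.subgroupOfEquivOfLe hK).surjective)

/-- A quadratic element of a faithful group outside the `p`-core gives a section `SL₂(p)`. -/
theorem exists_sl2_section_of_not_mem_pCore (hp2 : p ≠ 2) {V H : Subgroup G}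
    (hV : Cfsg.IsElementaryAbelian p V) (hHV : H ≤ Subgroup.normalizer (V : Set G))
    (hf : H ⊓ Subgroup.centralizer (V : Set G) = ⊥) {a : G} (haH : a ∈ H)
    (hq : ⁅⁅V, Subgroup.zpowers a⁆, Subgroup.zpowers a⁆ = ⊥)
    (hna : a ∉ (Cfsg.pCore p H).map H.subtype) :
    ∃ (K L : Subgroup G) (hL : (L.subgroupOf K).Normal), K ≤ H ∧
      Nonempty ((K ⧸ L.subgroupOf K) ≃* Matrix.SpecialLinearGroup (Fin 2) (ZMod p)) := by
  classical
  set A := Subgroup.zpowers (⟨a, haH⟩ : H) with hA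
  have hqa : ∀ v ∈ V, ⁅⁅v, a⁆, a⁆ = 1 := fun v hv => by
    rw [← Subgroup.mem_bot, ← hq]
    exact Subgroup.commutator_mem_commutator
      (Subgroup.commutator_mem_commutator hv (Subgroup.mem_zpowers a)) (Subgroup.mem_zpowers a)
  by_contra hcon
  refine hna ⟨⟨a, haH⟩, Solv.baer_suzuki A (fun g => ?_) (Subgroup.mem_zpowers _), rfl⟩
  set y : G := (g : G) * a * (g : G)⁻¹ with hy
  have hyH : y ∈ H := mul_mem (mul_mem g.2 haH) (inv_mem g.2)
  have hqy : ∀ v ∈ V, ⁅⁅v, y⁆, y⁆ = 1 := by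
    intro v hv
    have hv' : (g : G)⁻¹ * v * (g : G) ∈ V :=
      (Subgroup.mem_normalizer_iff''.1 (hHV g.2) v).1 hv
    have e : ⁅⁅v, y⁆, y⁆ = (g : G) * ⁅⁅(g : G)⁻¹ * v * (g : G), a⁆, a⁆ * (g : G)⁻¹ := by
      simp only [hy, commutatorElement_def]; group
    rw [e, hqa _ hv', mul_one, mul_inv_cancel]
  have hP : IsPGroup p (Subgroup.closure ({a, y} : Set G)) := by
    by_contra hP
    obtain ⟨L, M, hM, hL, hiso⟩ :=
      involves_sl2_of_quadratic_pair hp2 V H hV hHV hf haH hyH hqa hqy hP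
    exact hcon ⟨L, M, hM, hL, hiso⟩
  refine (hP.comap_of_injective H.subtype H.subtype_injective).to_le (sup_le ?_ ?_)
  · exact Subgroup.zpowers_le.2 (Subgroup.subset_closure (by simp))
  · rintro _ ⟨z, hz, rfl⟩
    obtain ⟨i, rfl⟩ := Subgroup.mem_zpowers_iff.1 hz
    show (((MulAut.conj g) ((⟨a, haH⟩ : H) ^ i) : H) : G) ∈ Subgroup.closure ({a, y} : Set G)
    have e : (((MulAut.conj g) ((⟨a, haH⟩ : H) ^ i) : H) : G) = y ^ i := by
      rw [MulAut.conj_apply, hy, conj_zpow]; rfl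
    rw [e]
    exact zpow_mem (Subgroup.subset_closure (by simp)) i

theorem mk_mem_pCore_of_not_involves (hp2 : p ≠ 2)
    (h : ¬ Cfsg.Involves (Matrix.SpecialLinearGroup (Fin 2) (ZMod p)) G)
    {P : Subgroup G} [P.Normal] (hP : IsPGroup p P) : Cfsg.IsPStableOn p P := by
  intro a hq
  by_contra hcon
  exact h (involves_sl2_of_quadratic_normal hp2 hP hq hcon)

/-- Without a section `SL₂(p)` a group is action stable. -/
theorem isActionPStable_of_not_involves (hp2 : p ≠ 2)
    (h : ¬ Cfsg.Involves (Matrix.SpecialLinearGroup (Fin 2) (ZMod p)) G) :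
    Cfsg.IsActionPStable p G := by
  classical
  refine ⟨fun V _ hV => mk_mem_pCore_of_not_involves hp2 h (fun x => ⟨1, ?_⟩), ?_, ?_⟩
  · rw [pow_one]; exact Subtype.ext (hV.2 x x.2)
  · intro a hq
    set K := Cfsg.pCore p G
    set N := (frattini ↥K).map K.subtype
    set π := QuotientGroup.mk' N
    have hπ : Function.Surjective π := QuotientGroup.mk'_surjective N
    have hKn : K.Normal := inferInstance
    haveI : (K.map π).Normal := hKn.map π hπ
    have hnot : ¬ Cfsg.Involves (Matrix.SpecialLinearGroup (Fin 2) (ZMod p)) (G ⧸ N) := fun hi =>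
      h (involves_trans hi (involves_surjective involves_refl π hπ))
    have hq' : ⁅⁅K.map π, Subgroup.zpowers (π a)⁆, Subgroup.zpowers (π a)⁆ = ⊥ := by
      rw [← MonoidHom.map_zpowers, ← Subgroup.map_commutator, ← Subgroup.map_commutator,
        Subgroup.map_eq_bot_iff, QuotientGroup.ker_mk']
      exact hq
    have hmem := mk_mem_pCore_of_not_involves hp2 hnot ((isPGroup_pCore p G).map π) (π a) hq'
    set C := Subgroup.centralizer ((K.map π : Subgroup (G ⧸ N)) : Set (G ⧸ N))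
    set ρ := (QuotientGroup.mk' C).comp π with hρ
    have hker : Cfsg.sectionKernel K N = ρ.ker := by
      rw [hρ, ← MonoidHom.comap_ker, QuotientGroup.ker_mk']; rfl
    refine ⟨(Cfsg.pCore p ((G ⧸ N) ⧸ C)).comap ρ, inferInstance, ?_, ?_, hmem⟩
    · rw [hker]; exact MonoidHom.ker_le_comap ρ _
    · obtain ⟨k, hk⟩ := IsPGroup.iff_card.1 (isPGroup_pCore p ((G ⧸ N) ⧸ C))
      refine ⟨k, ?_⟩
      rw [hker, ← MonoidHom.comap_bot ρ, Subgroup.relIndex_comap, Subgroup.relIndex_bot_left,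
        Subgroup.map_comap_eq_self_of_surjective (show Function.Surjective ρ from fun w => by
          obtain ⟨u, rfl⟩ := QuotientGroup.mk'_surjective C w
          obtain ⟨v, rfl⟩ := hπ u
          exact ⟨v, rfl⟩), hk]
  · intro S V _ hV
    refine mk_mem_pCore_of_not_involves hp2 (fun hi => h ?_) ?_
    · exact involves_trans hi (involves_subgroup involves_refl _)
    · exact ((S.2.to_le (hV.trans (Subgroup.map_subtype_le _))).comap_of_injective
        _ (Subgroup.subtype_injective _)).to_le (Subgroup.le_comap_map _ _)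

end Cfsg.Agent.Fusion
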