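import Cfsg.Agent.Lib.Fusion.QuasiDihedralFusion

/-!
# The four fusion cases for quasidihedral Sylow 2-subgroups
-/

set_option autoImplicit false
set_option linter.unusedSectionVars false
set_option linter.style.haveILetI false

namespace Cfsg.Agent.Fusion

open Cfsg

variable {G : Type*} [Group G] [Finite G] {S : Sylow 2 G} {n : ℕ} (D : QDData (S : Subgroup G) n)

namespace QDData

/-- The involutions outside the centre fuse with the central one. -/
def FusedTwo : Prop := IsConj (D.z : G) ((D.y : ↥(S : Subgroup G)) : G)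

/-- The two classes of elements of order four of the Sylow subgroup fuse. -/
def FusedFour : Prop :=
  IsConj ((D.x ^ D.q : ↥(S : Subgroup G)) : G) ((D.x * D.y : ↥(S : Subgroup G)) : G)

theorem isConj_coe {a b : ↥(S : Subgroup G)} (h : IsConj a b) : IsConj (a : G) (b : G) :=
  (S : Subgroup G).subtype.map_isConj h

theorem conj_y {i : ℤ} (hi : Even i) :
    IsConj ((D.x ^ i * D.y : ↥(S : Subgroup G)) : G) ((D.y : ↥(S : Subgroup G)) : G) := by
  obtain ⟨j, hj⟩ := D.conj_same_parity (i := i) (k := 0) (by simpa using hi)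
  rw [zpow_zero, one_mul] at hj
  exact isConj_coe (isConj_iff.2 ⟨_, hj⟩)

theorem conj_xy {i : ℤ} (hi : Odd i) :
    IsConj ((D.x ^ i * D.y : ↥(S : Subgroup G)) : G) ((D.x * D.y : ↥(S : Subgroup G)) : G) := by
  obtain ⟨j, hj⟩ := D.conj_same_parity (i := i) (k := 1) (Odd.sub_odd odd_one hi)
  rw [zpow_one] at hj
  exact isConj_coe (isConj_iff.2 ⟨_, hj⟩)

theorem conj_w_inv :
    IsConj ((D.x ^ (-D.q) : ↥(S : Subgroup G)) : G) ((D.x ^ D.q : ↥(S : Subgroup G)) : G) :=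
  isConj_coe (isConj_iff.2 ⟨D.x ^ (0 : ℤ) * D.y, by
    have h := D.conj_a 0
    have h2 : (D.x ^ (0 : ℤ) * D.y) * D.x ^ (-D.q) * (D.x ^ (0 : ℤ) * D.y)⁻¹ =
        ((D.x ^ (0 : ℤ) * D.y) * D.x ^ D.q * (D.x ^ (0 : ℤ) * D.y)⁻¹)⁻¹ := by
      rw [zpow_neg]; group
    rw [h2, h, zpow_neg, inv_inv]⟩)

theorem T_index_iff {T : Subgroup G} (hT : IsKleinFour T) (hTS : T ≤ S) :
    ((Subgroup.centralizer (T : Set G)).relIndex (Subgroup.normalizer (T : Set G)) = 6 ↔ D.FusedTwo) ∧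
      ((Subgroup.centralizer (T : Set G)).relIndex (Subgroup.normalizer (T : Set G)) = 2 ∨
        (Subgroup.centralizer (T : Set G)).relIndex (Subgroup.normalizer (T : Set G)) = 6) := by
  have hT' : IsKleinFour (T.subgroupOf (S : Subgroup G)) := by
    have e := Subgroup.subgroupOfEquivOfLe hTS
    exact ⟨(Nat.card_congr e.toEquiv).trans hT.card_four,
      (Monoid.exponent_eq_of_mulEquiv e).trans hT.exponent_two⟩
  obtain ⟨i, hi, hTi⟩ := D.four_eq hT'
  have hTe : (Subgroup.centralizer ({D.x ^ i * D.y} : Set ↥(S : Subgroup G))).map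
      (S : Subgroup G).subtype = T := by
    rw [← hTi]; exact Subgroup.map_subgroupOf_eq_of_le hTS
  have h := D.exists_T_data hi
  simp only [hTe] at h
  obtain ⟨h1, h2, h3⟩ := h
  refine ⟨⟨fun h6 => ?_, fun hf => h3 ((D.conj_y hi).trans hf.symm)⟩, h1⟩
  obtain ⟨a, -, ha⟩ := h2 h6
  exact (isConj_iff.2 ⟨a, ha⟩).trans (D.conj_y hi)

theorem Q_index_iff {Q : Subgroup G} (hQS : Q ≤ S) (eQ : Q ≃* QuaternionGroup 2) :
    ((Q ⊔ Subgroup.centralizer (Q : Set G)).relIndex (Subgroup.normalizer (Q : Set G)) = 6 ↔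
        D.FusedFour) ∧
      ((Q ⊔ Subgroup.centralizer (Q : Set G)).relIndex (Subgroup.normalizer (Q : Set G)) = 2 ∨
        (Q ⊔ Subgroup.centralizer (Q : Set G)).relIndex (Subgroup.normalizer (Q : Set G)) = 6) := by
  have e : Q.subgroupOf (S : Subgroup G) ≃* QuaternionGroup 2 :=
    (Subgroup.subgroupOfEquivOfLe hQS).trans eQ
  obtain ⟨i, hi, hQi⟩ := D.quat_eq e
  have hQe : (D.quat i).map (S : Subgroup G).subtype = Q := by
    rw [← hQi]; exact Subgroup.map_subgroupOf_eq_of_le hQS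
  have h := D.exists_Q_data hi ((MulEquiv.subgroupCongr hQi.symm).trans e)
  simp only [hQe] at h
  obtain ⟨h1, h2, h3⟩ := h
  refine ⟨⟨fun h6 => ?_, fun hf => h3 ((D.conj_xy hi).trans hf.symm)⟩, h1⟩
  obtain ⟨a, -, ha, -⟩ := h2 h6
  rw [cj_zpowers] at ha
  have hw : orderOf ((D.x ^ D.q : ↥(S : Subgroup G)) : G) = 4 := by
    rw [Subgroup.orderOf_coe]; exact D.orderOf_a
  rcases conj_eq_or_inv (by
      rw [show a * ((D.x ^ D.q : ↥(S : Subgroup G)) : G) * a⁻¹ =
        MulAut.conj a ((D.x ^ D.q : ↥(S : Subgroup G)) : G) from rfl, MulEquiv.orderOf_eq, hw])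
      (by rw [Subgroup.orderOf_coe]; exact D.refl_orderOf_odd hi) ha with he | he
  · exact (isConj_iff.2 ⟨a, he⟩).trans (D.conj_xy hi)
  · refine D.conj_w_inv.symm.trans ((isConj_iff.2 ⟨a, ?_⟩).trans (D.conj_xy hi))
    rw [zpow_neg, Subgroup.coe_inv, ← conj_inv, he, inv_inv]

theorem involution_cases' {s : ↥(S : Subgroup G)} (hs : orderOf (s : G) = 2) :
    IsConj (s : G) (D.z : G) ∨ IsConj (s : G) ((D.y : ↥(S : Subgroup G)) : G) := by
  rw [Subgroup.orderOf_coe] at hs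
  rcases D.invol_cases hs with rfl | ⟨i, hi, rfl⟩
  · exact Or.inl (IsConj.refl _)
  · exact Or.inr (D.conj_y hi)

theorem four_element_cases {s : ↥(S : Subgroup G)} (hs : orderOf (s : G) = 4) :
    IsConj (s : G) ((D.x ^ D.q : ↥(S : Subgroup G)) : G) ∨
      IsConj (s : G) ((D.x * D.y : ↥(S : Subgroup G)) : G) := by
  rw [Subgroup.orderOf_coe] at hs
  rcases D.four_cases hs with rfl | rfl | ⟨i, hi, rfl⟩
  · exact Or.inl (IsConj.refl _)
  · exact Or.inl D.conj_w_inv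
  · exact Or.inr (D.conj_xy hi)

theorem orders : orderOf (D.z : G) = 2 ∧ orderOf ((D.y : ↥(S : Subgroup G)) : G) = 2 ∧
    orderOf ((D.x ^ D.q : ↥(S : Subgroup G)) : G) = 4 ∧
    orderOf ((D.x * D.y : ↥(S : Subgroup G)) : G) = 4 := by
  refine ⟨?_, ?_, ?_, ?_⟩ <;> rw [Subgroup.orderOf_coe]
  · exact D.orderOf_z
  · exact D.oy
  · exact D.orderOf_a
  · have := D.refl_orderOf_odd (i := 1) odd_one; rwa [zpow_one] at this

theorem card_two_classes :
    (D.FusedTwo → Nat.card {C : ConjClasses G // ∃ t : G, orderOf t = 2 ∧ ConjClasses.mk t = C} = 1) ∧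
    (¬ D.FusedTwo → Nat.card {C : ConjClasses G // ∃ t : G, orderOf t = 2 ∧ ConjClasses.mk t = C} = 2) := by
  have h : Nat.card {C : ConjClasses G // ∃ t : G, orderOf t = 2 ∧ ConjClasses.mk t = C} =
      ({ConjClasses.mk (D.z : G), ConjClasses.mk ((D.y : ↥(S : Subgroup G)) : G)} :
        Set (ConjClasses G)).ncard := by
    have := card_classes S 1 {(D.z : G), ((D.y : ↥(S : Subgroup G)) : G)}
      (by rintro r (rfl | rfl); exacts [D.orders.1, D.orders.2.1]) (fun s hs hso => by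
        rcases D.involution_cases' (s := ⟨s, hs⟩) hso with h | h
        · exact ⟨_, Or.inl rfl, h⟩
        · exact ⟨_, Or.inr rfl, h⟩)
    rw [pow_one, Set.image_pair] at this
    exact this
  rw [h]
  constructor
  · intro hf
    rw [ConjClasses.mk_eq_mk_iff_isConj.2 hf, Set.pair_eq_singleton, Set.ncard_singleton]
  · intro hf
    exact Set.ncard_pair fun he => hf (ConjClasses.mk_eq_mk_iff_isConj.1 he)

theorem card_four_classes :
    (D.FusedFour → Nat.card {C : ConjClasses G // ∃ t : G, orderOf t = 4 ∧ ConjClasses.mk t = C} = 1) ∧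
    (¬ D.FusedFour → Nat.card {C : ConjClasses G // ∃ t : G, orderOf t = 4 ∧ ConjClasses.mk t = C} = 2) := by
  have h : Nat.card {C : ConjClasses G // ∃ t : G, orderOf t = 4 ∧ ConjClasses.mk t = C} =
      ({ConjClasses.mk ((D.x ^ D.q : ↥(S : Subgroup G)) : G),
        ConjClasses.mk ((D.x * D.y : ↥(S : Subgroup G)) : G)} : Set (ConjClasses G)).ncard := by
    have := card_classes S 2
      {((D.x ^ D.q : ↥(S : Subgroup G)) : G), ((D.x * D.y : ↥(S : Subgroup G)) : G)}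
      (by rintro r (rfl | rfl); exacts [D.orders.2.2.1, D.orders.2.2.2]) (fun s hs hso => by
        rcases D.four_element_cases (s := ⟨s, hs⟩) hso with h | h
        · exact ⟨_, Or.inl rfl, h⟩
        · exact ⟨_, Or.inr rfl, h⟩)
    rw [show (2 : ℕ) ^ 2 = 4 from rfl, Set.image_pair] at this
    exact this
  rw [h]
  constructor
  · intro hf
    rw [ConjClasses.mk_eq_mk_iff_isConj.2 hf, Set.pair_eq_singleton, Set.ncard_singleton]
  · intro hf
    exact Set.ncard_pair fun he => hf (ConjClasses.mk_eq_mk_iff_isConj.1 he)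

theorem index_two_mem {H : Subgroup G} (hH : H.index = 2) :
    (∀ j : ℤ, Even j → ((D.x ^ j : ↥(S : Subgroup G)) : G) ∈ H) ∧
    (D.FusedTwo → ((D.y : ↥(S : Subgroup G)) : G) ∈ H) ∧
    (D.FusedFour → ((D.x * D.y : ↥(S : Subgroup G)) : G) ∈ H) := by
  obtain ⟨hsq, hcj, -⟩ := index_two_facts hH
  have heven : ∀ j : ℤ, Even j → ((D.x ^ j : ↥(S : Subgroup G)) : G) ∈ H := by
    rintro _ ⟨c, rfl⟩
    rw [zpow_add, Subgroup.coe_mul]
    exact hsq _
  have htr : ∀ a b : G, IsConj a b → a ∈ H → b ∈ H := by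
    intro a b hab ha
    obtain ⟨c, rfl⟩ := isConj_iff.1 hab
    exact (hcj c a).1 ha
  refine ⟨heven, fun hf => htr _ _ hf ?_, fun hf => htr _ _ hf (heven _ ?_)⟩
  · exact heven D.h ⟨2 * (2 : ℤ) ^ (n - 3), by rw [D.h_eq]; ring⟩
  · exact ⟨(2 : ℤ) ^ (n - 3), by rw [D.q_eq]; ring⟩

theorem no_index_two (h2 : D.FusedTwo) (h4 : D.FusedFour) (H : Subgroup G) : H.index ≠ 2 := by
  intro hH
  obtain ⟨he, ht, hf⟩ := D.index_two_mem hH
  have hy := ht h2
  have hxy := hf h4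
  refine index_ne_two_of_sylow_le S (fun s hs => ?_) hH
  have hx : ((D.x : ↥(S : Subgroup G)) : G) ∈ H := by
    rw [Subgroup.coe_mul] at hxy
    exact (H.mul_mem_cancel_right hy).1 hxy
  obtain ⟨i, hi | hi⟩ := D.exists_form (⟨s, hs⟩ : ↥(S : Subgroup G)) <;>
    rw [show s = ((⟨s, hs⟩ : ↥(S : Subgroup G)) : G) from rfl, hi]
  · rw [Subgroup.coe_zpow]; exact zpow_mem hx i
  · rw [Subgroup.coe_mul, Subgroup.coe_zpow]; exact mul_mem (zpow_mem hx i) hy

/-- `M e` is the intersection of the Sylow subgroup with an index two subgroup containing the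
reflections of parity `e` and avoiding one of the other parity. -/
theorem inf_eq_M {K : Subgroup G} [K.Normal] (hK : K.index = 2) {e : ℤ}
    (hr : ∀ i : ℤ, Even (i - e) → ((D.x ^ i * D.y : ↥(S : Subgroup G)) : G) ∈ K) :
    (S : Subgroup G) ⊓ K = (D.M e).map (S : Subgroup G).subtype := by
  have hle : (D.M e).map (S : Subgroup G).subtype ≤ (S : Subgroup G) ⊓ K := by
    refine le_inf (Subgroup.map_subtype_le _) ?_
    rintro _ ⟨s, hs, rfl⟩
    rcases hs with ⟨i, hi, rfl⟩ | ⟨i, hi, rfl⟩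
    · exact (D.index_two_mem hK).1 i hi
    · exact hr i hi
  refine (Subgroup.eq_of_le_of_card_ge hle ?_).symm
  rw [Subgroup.card_map_of_injective (S : Subgroup G).subtype_injective, (D.card_M e).1]
  have h1 := relIndex_inf_normal S (k := 1) (K := K) (by rw [hK, pow_one])
  have h2 := (((S : Subgroup G) ⊓ K).subgroupOf (S : Subgroup G)).card_mul_index
  rw [Nat.card_congr (Subgroup.subgroupOfEquivOfLe inf_le_left).toEquiv,
    show (((S : Subgroup G) ⊓ K).subgroupOf (S : Subgroup G)).index = 2 from h1, D.hcard,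
    pow_succ] at h2
  omega

theorem exists_K_quaternion (h2 : ¬ D.FusedTwo) :
    ∃ K : Subgroup G, K.Normal ∧ K.index = 2 ∧ ((D.y : ↥(S : Subgroup G)) : G) ∉ K := by
  refine exists_index_two_of_controlled S (M := (D.M 1).map (S : Subgroup G).subtype) ?_
    (D.y : ↥(S : Subgroup G)).2 ?_ ?_
  · rw [Subgroup.relIndex, Subgroup.subgroupOf, Subgroup.comap_map_eq_self_of_injective
      (S : Subgroup G).subtype_injective]
    exact (D.card_M 1).2
  · rintro ⟨s, hs, he⟩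
    obtain rfl : s = D.y := Subtype.ext he
    rcases hs with ⟨i, -, hi⟩ | ⟨i, hi, hi'⟩
    · exact D.refl_ne_rot 0 i (by rw [zpow_zero, one_mul, hi])
    · have h0 : D.x ^ i = D.x ^ (0 : ℤ) := by
        rw [zpow_zero]; exact right_eq_mul.1 hi'
      rw [D.zpow_eq_iff] at h0
      obtain ⟨c, hc⟩ := h0
      obtain ⟨d, hd⟩ := hi
      have : Even i := by
        rw [show i = -((2 : ℤ) ^ n * c) by linarith]
        exact ((even_two.pow_of_ne_zero (by have := D.hn; omega)).mul_right c).neg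
      obtain ⟨b, rfl⟩ := this
      omega
  · intro m a hmem
    have hy2 : ((D.y : ↥(S : Subgroup G)) : G) ^ 2 = 1 := by
      rw [sq, invol_mul_self D.orders.2.1]
    constructor
    · intro hM
      by_contra hodd
      obtain ⟨c, rfl⟩ := Nat.not_even_iff_odd.1 hodd
      rw [pow_succ, pow_mul, hy2, one_pow, one_mul] at hmem hM
      obtain ⟨s, hs, hse⟩ := hM
      have hso : orderOf (s : G) = 2 := by
        rw [show (s : G) = a * ((D.y : ↥(S : Subgroup G)) : G) * a⁻¹ from hse,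
          show a * ((D.y : ↥(S : Subgroup G)) : G) * a⁻¹ = MulAut.conj a ((D.y : ↥(S : Subgroup G)) : G) from rfl,
          MulEquiv.orderOf_eq, D.orders.2.1]
      rw [Subgroup.orderOf_coe] at hso
      rcases D.invol_cases hso with rfl | ⟨i, hi, rfl⟩
      · exact h2 ((isConj_iff.2 ⟨a, hse.symm⟩).symm)
      · rcases hs with ⟨k, -, hk⟩ | ⟨k, hk, hk'⟩
        · exact D.refl_ne_rot i k hk
        · have h0 := mul_right_cancel hk'
          rw [D.zpow_eq_iff] at h0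
          obtain ⟨c', hc'⟩ := h0
          obtain ⟨d, hd⟩ := hk
          obtain ⟨b, rfl⟩ := hi
          obtain ⟨b', hb'⟩ : Even ((2 : ℤ) ^ n * c') :=
            (even_two.pow_of_ne_zero (by have := D.hn; omega)).mul_right c'
          omega
    · rintro ⟨c, rfl⟩
      rw [← two_mul, pow_mul, hy2, one_pow, mul_one, mul_inv_cancel]
      exact one_mem _

theorem exists_K_dihedral (h4 : ¬ D.FusedFour) :
    ∃ K : Subgroup G, K.Normal ∧ K.index = 2 ∧ ((D.x * D.y : ↥(S : Subgroup G)) : G) ∉ K := by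
  refine exists_index_two_of_controlled S (M := (D.M 0).map (S : Subgroup G).subtype) ?_
    (D.x * D.y : ↥(S : Subgroup G)).2 ?_ ?_
  · rw [Subgroup.relIndex, Subgroup.subgroupOf, Subgroup.comap_map_eq_self_of_injective
      (S : Subgroup G).subtype_injective]
    exact (D.card_M 0).2
  · rintro ⟨s, hs, he⟩
    obtain rfl : s = D.x * D.y := Subtype.ext he
    refine D.x_not_mem_M 0 ((Subgroup.mul_mem_cancel_right _ ?_).1 hs)
    exact Or.inr ⟨0, by simp, by simp⟩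
  · intro m a hmem
    set v : G := ((D.x * D.y : ↥(S : Subgroup G)) : G) with hv
    have hv4 : orderOf v = 4 := D.orders.2.2.2
    constructor
    · intro hM
      by_contra hodd
      have hodd' := Nat.not_even_iff_odd.1 hodd
      have ho : orderOf (v ^ m) = 4 := by
        rw [Nat.Coprime.orderOf_pow, hv4]
        rw [hv4, show (4 : ℕ) = 2 ^ 2 from rfl]
        exact (Nat.coprime_two_left.2 hodd').pow_left 2
      obtain ⟨s, hs, hse⟩ := hM
      have hso : orderOf s = 4 := by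
        rw [← Subgroup.orderOf_coe, show (s : G) = a * v ^ m * a⁻¹ from hse,
          show a * v ^ m * a⁻¹ = MulAut.conj a (v ^ m) from rfl, MulEquiv.orderOf_eq, ho]
      have hsw : IsConj (s : G) ((D.x ^ D.q : ↥(S : Subgroup G)) : G) := by
        rcases D.four_cases hso with rfl | rfl | ⟨i, hi, rfl⟩
        · exact IsConj.refl _
        · exact D.conj_w_inv
        · rcases hs with ⟨k, -, hk⟩ | ⟨k, hk, hk'⟩
          · exact absurd hk (D.refl_ne_rot i k)
          · have h0 := mul_right_cancel hk'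
            rw [D.zpow_eq_iff] at h0
            obtain ⟨c', hc'⟩ := h0
            obtain ⟨d, hd⟩ := hk
            obtain ⟨b, rfl⟩ := hi
            obtain ⟨b', hb'⟩ : Even ((2 : ℤ) ^ n * c') :=
              (even_two.pow_of_ne_zero (by have := D.hn; omega)).mul_right c'
            omega
      have hvm : IsConj (v ^ m) ((D.x ^ D.q : ↥(S : Subgroup G)) : G) :=
        (isConj_iff.2 ⟨a, hse.symm⟩).trans hsw
      apply h4
      rcases (show m % 4 = 1 ∨ m % 4 = 3 by obtain ⟨c, rfl⟩ := hodd'; omega) with hm | hm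
      · rw [← pow_mod_orderOf, hv4, hm, pow_one] at hvm
        exact hvm.symm
      · rw [← pow_mod_orderOf, hv4, hm] at hvm
        obtain ⟨c, hc⟩ := isConj_iff.1 hvm
        refine D.conj_w_inv.symm.trans (IsConj.symm (isConj_iff.2 ⟨c, ?_⟩))
        rw [zpow_neg, Subgroup.coe_inv, ← hc, show v ^ 3 = v⁻¹ by
          refine eq_inv_of_mul_eq_one_left ?_
          rw [← pow_succ, show 3 + 1 = orderOf v by rw [hv4], pow_orderOf_eq_one]]
        rw [hv]; group
    · rintro ⟨c, rfl⟩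
      obtain ⟨s, hse⟩ : ∃ s : ↥(S : Subgroup G), (s : G) = a * v ^ (c + c) * a⁻¹ := ⟨⟨_, hmem⟩, rfl⟩
      have hs2 : s * s = 1 := Subtype.ext (by
        show (s : G) * s = 1
        rw [hse, show a * v ^ (c + c) * a⁻¹ * (a * v ^ (c + c) * a⁻¹) = a * (v ^ (c + c) * v ^ (c + c)) * a⁻¹
          by group, ← pow_add, show c + c + (c + c) = orderOf v * c by rw [hv4]; ring, pow_mul,
          pow_orderOf_eq_one, one_pow, mul_one, mul_inv_cancel])
      refine ⟨s, ?_, hse⟩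
      by_cases hs1 : s = 1
      · rw [hs1]; exact one_mem (D.M 0)
      rcases D.invol_cases (orderOf_eq_prime (by rw [sq, hs2]) hs1) with rfl | ⟨i, hi, rfl⟩
      · exact D.rot_mem_M ⟨2 * (2 : ℤ) ^ (n - 3), by rw [D.h_eq]; ring⟩
      · exact D.refl_mem_M (by simpa using hi)

theorem K_quaternion_perfect (h4 : D.FusedFour) {K : Subgroup G} [K.Normal] (hK : K.index = 2)
    (hKS : (S : Subgroup G) ⊓ K = (D.M 1).map (S : Subgroup G).subtype)
    (eq8 : D.quat 1 ≃* QuaternionGroup 2) (H : Subgroup K) : H.index ≠ 2 := by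
  intro hH
  haveI : Fact (Nat.Prime 2) := ⟨Nat.prime_two⟩
  obtain ⟨hsq, hcj, hxor⟩ := index_two_facts hH
  have hodd : ∀ a : G, Odd (orderOf a) → a ∈ K := by
    intro a ha
    obtain ⟨c, hc⟩ := ha
    have h1 : a = ((a ^ (c + 1)) * (a ^ (c + 1))) := by
      rw [← pow_add, show c + 1 + (c + 1) = orderOf a + 1 by omega, pow_succ, pow_orderOf_eq_one,
        one_mul]
    rw [h1]
    exact (index_two_facts hK).1 _
  have hmemK : ∀ s ∈ D.M 1, (s : G) ∈ K := fun s hs =>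
    (Subgroup.mem_inf.1 (hKS.ge ⟨s, hs, rfl⟩)).2
  have key : ∀ i : ℤ, ∀ hi : Odd i, (⟨((D.x ^ i * D.y : ↥(S : Subgroup G)) : G),
      hmemK _ (D.refl_mem_M (hi.sub_odd odd_one))⟩ : K) ∈ H := by
    intro i hi
    have e : D.quat i ≃* QuaternionGroup 2 := by
      refine ((Subgroup.equivMapOfInjective (D.quat 1)
        (MulAut.conj (D.x ^ (Classical.choose (D.conj_same_parity (i := 1) (k := i) (hi.sub_odd odd_one))))).toMonoidHom
        (MulAut.conj _).injective).trans (MulEquiv.subgroupCongr ?_)).symm.trans eq8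
      rw [D.quat_map, QDData.quat, QDData.quat, ← D.conj_refl,
        Classical.choose_spec (D.conj_same_parity (i := 1) (k := i) (hi.sub_odd odd_one))]
    obtain ⟨-, h2, h3⟩ := D.exists_Q_data hi e
    obtain ⟨a, hao, ha1, ha2⟩ := h2 (h3 ((D.conj_xy hi).trans h4.symm))
    set w : ↥(S : Subgroup G) := D.x ^ D.q
    set v : ↥(S : Subgroup G) := D.x ^ i * D.y
    have hw : (w : G) ∈ K := hmemK _ (D.rot_mem_M ⟨(2 : ℤ) ^ (n - 3), by rw [D.q_eq]; ring⟩)
    have hv : (v : G) ∈ K := hmemK _ (D.refl_mem_M (hi.sub_odd odd_one))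
    have ht : ∀ (p q : ↥(S : Subgroup G)) (hp : (p : G) ∈ K) (hq : (q : G) ∈ K),
        cj (Subgroup.zpowers (p : G)) a = Subgroup.zpowers (q : G) →
        (⟨_, hp⟩ : K) ∈ H → (⟨_, hq⟩ : K) ∈ H := by
      intro p q hp hq hpq hH'
      rw [cj_zpowers] at hpq
      obtain ⟨k, hk⟩ := Subgroup.mem_zpowers_iff.1 (hpq.ge (Subgroup.mem_zpowers (q : G)))
      have : (⟨_, hq⟩ : K) = ((⟨a, hodd a hao⟩ : K) * ⟨_, hp⟩ * (⟨a, hodd a hao⟩ : K)⁻¹) ^ k :=
        Subtype.ext (by simp [← hk])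
      rw [this]
      exact zpow_mem ((hcj _ _).1 hH') k
    have ht' : ∀ (p q : ↥(S : Subgroup G)) (hp : (p : G) ∈ K) (hq : (q : G) ∈ K),
        cj (Subgroup.zpowers (p : G)) a = Subgroup.zpowers (q : G) →
        (⟨_, hq⟩ : K) ∈ H → (⟨_, hp⟩ : K) ∈ H := by
      intro p q hp hq hpq hH'
      rw [cj_zpowers] at hpq
      obtain ⟨k, hk⟩ := Subgroup.mem_zpowers_iff.1 (hpq.le (Subgroup.mem_zpowers _))
      have : (⟨a, hodd a hao⟩ : K) * ⟨_, hp⟩ * (⟨a, hodd a hao⟩ : K)⁻¹ = (⟨_, hq⟩ : K) ^ k :=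
        Subtype.ext (by simp [← hk])
      exact (hcj _ _).2 (this ▸ zpow_mem hH' k)
    have e1 : (⟨_, hw⟩ : K) ∈ H ↔ (⟨_, hv⟩ : K) ∈ H := ⟨ht w v hw hv ha1, ht' w v hw hv ha1⟩
    have hwv : ((w * v : ↥(S : Subgroup G)) : G) ∈ K := mul_mem hw hv
    have e2 : (⟨_, hv⟩ : K) ∈ H ↔ (⟨_, hwv⟩ : K) ∈ H := ⟨ht v _ hv hwv ha2, ht' v _ hv hwv ha2⟩
    have e3 : (⟨_, hwv⟩ : K) ∈ H ↔ ((⟨_, hw⟩ : K) ∈ H ↔ (⟨_, hv⟩ : K) ∈ H) := hxor ⟨_, hw⟩ ⟨_, hv⟩
    exact e2.2 (e3.2 e1)
  have h1 : SylIn 2 ((S : Subgroup G) ⊓ K) K :=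
    (sylIn_top S).inf_normal le_top (Subgroup.normalizer_eq_top K).ge
  obtain ⟨P, hP⟩ := h1.exists_sylow_subgroupOf
  refine index_ne_two_of_sylow_le P ?_ hH
  rintro p hp
  rw [hP, hKS] at hp
  obtain ⟨s, hs, hse⟩ := hp
  rcases hs with ⟨i, hi, rfl⟩ | ⟨i, hi, rfl⟩
  · obtain ⟨c, rfl⟩ := hi
    have h1 : Odd (1 + (c + c)) := ⟨c, by ring⟩
    have h2 : p = ⟨((D.x ^ (1 + (c + c)) * D.y : ↥(S : Subgroup G)) : G),
        hmemK _ (D.refl_mem_M (h1.sub_odd odd_one))⟩ *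
        (⟨((D.x ^ (1 : ℤ) * D.y : ↥(S : Subgroup G)) : G),
          hmemK _ (D.refl_mem_M (e := 1) (i := 1) (by simp))⟩ : K)⁻¹ := by
      refine Subtype.ext (hse.symm.trans ?_)
      show ((D.x ^ (c + c) : ↥(S : Subgroup G)) : G) = _
      exact congrArg Subtype.val
        (show D.x ^ (c + c) = D.x ^ (1 + (c + c)) * D.y * (D.x ^ (1 : ℤ) * D.y)⁻¹ by group)
    rw [h2]
    exact mul_mem (key _ h1) (inv_mem (key 1 odd_one))
  · have h1 : Odd i := by
      obtain ⟨c, hc⟩ := hi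
      exact ⟨c, by omega⟩
    rw [show p = ⟨_, hmemK _ (D.refl_mem_M hi)⟩ from Subtype.ext hse.symm]
    exact key i h1

theorem K_dihedral_perfect (h2 : D.FusedTwo) {K : Subgroup G} [K.Normal] (hK : K.index = 2)
    (hKS : (S : Subgroup G) ⊓ K = (D.M 0).map (S : Subgroup G).subtype)
    (H : Subgroup K) : H.index ≠ 2 := by
  intro hH
  haveI : Fact (Nat.Prime 2) := ⟨Nat.prime_two⟩
  obtain ⟨hsq, hcj, hxor⟩ := index_two_facts hH
  have hodd : ∀ a : G, Odd (orderOf a) → a ∈ K := by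
    intro a ha
    obtain ⟨c, hc⟩ := ha
    rw [show a = ((a ^ (c + 1)) * (a ^ (c + 1))) by
      rw [← pow_add, show c + 1 + (c + 1) = orderOf a + 1 by omega, pow_succ, pow_orderOf_eq_one,
        one_mul]]
    exact (index_two_facts hK).1 _
  have hmemK : ∀ s ∈ D.M 0, (s : G) ∈ K := fun s hs =>
    (Subgroup.mem_inf.1 (hKS.ge ⟨s, hs, rfl⟩)).2
  have hzK : (D.z : G) ∈ K := hmemK _ (D.rot_mem_M ⟨2 * (2 : ℤ) ^ (n - 3), by rw [D.h_eq]; ring⟩)
  have hzH : (⟨_, hzK⟩ : K) ∈ H := by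
    have hqK : ((D.x ^ D.q : ↥(S : Subgroup G)) : G) ∈ K :=
      hmemK _ (D.rot_mem_M ⟨(2 : ℤ) ^ (n - 3), by rw [D.q_eq]; ring⟩)
    have : (⟨_, hzK⟩ : K) = ⟨_, hqK⟩ * ⟨_, hqK⟩ := by
      refine Subtype.ext ?_
      show (D.z : G) = _
      rw [z, ← D.two_q, two_mul, zpow_add]; rfl
    rw [this]; exact hsq _
  have key : ∀ i : ℤ, ∀ hi : Even i, (⟨((D.x ^ i * D.y : ↥(S : Subgroup G)) : G),
      hmemK _ (D.refl_mem_M (by simpa using hi))⟩ : K) ∈ H := by
    intro i hi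
    obtain ⟨-, h2', h3⟩ := D.exists_T_data hi
    obtain ⟨a, hao, ha⟩ := h2' (h3 ((D.conj_y hi).trans h2.symm))
    have := (hcj ⟨a, hodd a hao⟩ ⟨_, hzK⟩).1 hzH
    convert this using 1
    exact Subtype.ext ha.symm
  have h1 : SylIn 2 ((S : Subgroup G) ⊓ K) K :=
    (sylIn_top S).inf_normal le_top (Subgroup.normalizer_eq_top K).ge
  obtain ⟨P, hP⟩ := h1.exists_sylow_subgroupOf
  refine index_ne_two_of_sylow_le P ?_ hH
  rintro p hp
  rw [hP, hKS] at hp
  obtain ⟨s, hs, hse⟩ := hp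
  rcases hs with ⟨i, hi, rfl⟩ | ⟨i, hi, rfl⟩
  · have h2 : p = ⟨((D.x ^ i * D.y : ↥(S : Subgroup G)) : G),
        hmemK _ (D.refl_mem_M (by simpa using hi))⟩ *
        (⟨((D.x ^ (0 : ℤ) * D.y : ↥(S : Subgroup G)) : G),
          hmemK _ (D.refl_mem_M (by simp))⟩ : K)⁻¹ := by
      refine Subtype.ext (hse.symm.trans ?_)
      show ((D.x ^ i : ↥(S : Subgroup G)) : G) = _
      exact congrArg Subtype.val
        (show D.x ^ i = D.x ^ i * D.y * (D.x ^ (0 : ℤ) * D.y)⁻¹ by group)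
    rw [h2]
    exact mul_mem (key i hi) (inv_mem (key 0 Even.zero))
  · have h1 : Even i := by simpa using hi
    rw [show p = ⟨_, hmemK _ (D.refl_mem_M hi)⟩ from Subtype.ext hse.symm]
    exact key i h1

theorem hnpc_of_no_fusion (h2 : ¬ D.FusedTwo) (h4 : ¬ D.FusedFour) :
    Cfsg.HasNormalPComplement 2 G := by
  haveI : Fact (Nat.Prime 2) := ⟨Nat.prime_two⟩
  obtain ⟨K₁, hn1, hi1, hy⟩ := D.exists_K_quaternion h2
  obtain ⟨K₂, hn2, hi2, hv⟩ := D.exists_K_dihedral h4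
  haveI := hn1; haveI := hn2
  have hidx : (K₁ ⊓ K₂).index ∣ 2 ^ 2 := by
    rw [← Subgroup.relIndex_mul_index (inf_le_left : K₁ ⊓ K₂ ≤ K₁), Subgroup.inf_relIndex_left,
      hi1, sq]
    exact Nat.mul_dvd_mul_right (hi2 ▸ Subgroup.relIndex_dvd_index_of_normal K₂ K₁) 2
  obtain ⟨k, -, hk⟩ := (Nat.dvd_prime_pow Nat.prime_two).1 hidx
  refine hnpc_of_normal_cyclic S hk ?_
  have hle : (S : Subgroup G) ⊓ (K₁ ⊓ K₂) ≤
      (Subgroup.zpowers D.x).map (S : Subgroup G).subtype := by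
    intro s hs
    obtain ⟨hsS, hs1, hs2⟩ := hs
    obtain ⟨i, hi | hi⟩ := D.exists_form (⟨s, hsS⟩ : ↥(S : Subgroup G))
    · exact ⟨_, Subgroup.zpow_mem_zpowers _ i, (congrArg Subtype.val hi).symm⟩
    · exfalso
      have hs' : s = ((D.x ^ i * D.y : ↥(S : Subgroup G)) : G) := congrArg Subtype.val hi
      rw [hs'] at hs1 hs2
      rcases Int.even_or_odd i with he | he
      · refine hy ((Subgroup.mul_mem_cancel_left _ ((D.index_two_mem hi1).1 i he)).1 ?_)
        rw [← Subgroup.coe_mul]; exact hs1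
      · refine hv ?_
        have h1 : ((D.x * D.y : ↥(S : Subgroup G)) : G) =
            ((D.x ^ (1 - i) : ↥(S : Subgroup G)) : G) * ((D.x ^ i * D.y : ↥(S : Subgroup G)) : G) := by
          rw [← Subgroup.coe_mul, ← mul_assoc, ← zpow_add, sub_add_cancel, zpow_one]
        rw [h1]
        exact mul_mem ((D.index_two_mem hi2).1 _ (Odd.sub_odd odd_one he)) hs2
  haveI : IsCyclic ↥((Subgroup.zpowers D.x).map (S : Subgroup G).subtype) :=
    isCyclic_of_surjective _ (Subgroup.equivMapOfInjective _ _ (S : Subgroup G).subtype_injective).surjective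
  exact isCyclic_of_injective (Subgroup.inclusion hle) (Subgroup.inclusion_injective hle)

theorem center_weaklyClosed (h2 : ¬ D.FusedTwo) :
    Cfsg.IsWeaklyClosed ((Subgroup.center (S : Subgroup G)).map (S : Subgroup G).subtype)
      (S : Subgroup G) := by
  refine ⟨Subgroup.map_subtype_le _, fun g hg => ?_⟩
  rw [D.center_eq, MonoidHom.map_zpowers] at hg ⊢
  rw [MonoidHom.map_zpowers] at hg ⊢
  rw [Subgroup.zpowers_le] at hg
  congr 1
  show g * (D.z : G) * g⁻¹ = (D.z : G)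
  obtain ⟨s, hse⟩ : ∃ s : ↥(S : Subgroup G), (s : G) = g * (D.z : G) * g⁻¹ := ⟨⟨_, hg⟩, rfl⟩
  have hso : orderOf s = 2 := by
    rw [← Subgroup.orderOf_coe, hse, show g * (D.z : G) * g⁻¹ = MulAut.conj g (D.z : G) from rfl,
      MulEquiv.orderOf_eq, D.orders.1]
  rcases D.invol_cases hso with rfl | ⟨i, hi, rfl⟩
  · exact hse.symm
  · exact absurd ((isConj_iff.2 ⟨g, hse.symm⟩).trans (D.conj_y hi)) h2

end QDData

end Cfsg.Agent.Fusion
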