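import Cfsg.Agent.Lib.Fusion.Cores
import Mathlib.GroupTheory.Transfer

/-!
# Transfer of an element whose powers are controlled modulo the kernel
-/

set_option autoImplicit false

namespace Cfsg.Agent.Fusion

variable {G : Type*} [Group G] [Finite G]

theorem transfer_eq_map_pow {H : Subgroup G} {A : Type*} [CommGroup A] (ϕ : H →* A) (g : G) (hg : g ∈ H)
    (hctrl : ∀ (m : ℕ) (a : G) (h : a⁻¹ * g ^ m * a ∈ H), ϕ ⟨_, h⟩ = ϕ ⟨g, hg⟩ ^ m) :
    MonoidHom.transfer ϕ g = ϕ ⟨g, hg⟩ ^ H.index := by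
  classical
  letI := H.fintypeQuotientOfFiniteIndex
  rw [MonoidHom.transfer_eq_prod_quotient_orbitRel_zpowers_quot, H.index_eq_sum_minimalPeriod g,
    ← Finset.prod_pow_eq_pow_sum]
  exact Finset.prod_congr rfl fun q _ => hctrl _ _ _

/-- An element of `H` killed by every map to an abelian group cannot have a nontrivial controlled image. -/
theorem transfer_ne_one {H : Subgroup G} {A : Type*} [CommGroup A] (ϕ : H →* A) (g : G) (hg : g ∈ H)
    {p k : ℕ} [Fact p.Prime] (hk : orderOf g = p ^ k) (hidx : Nat.Coprime p H.index)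
    (hne : ϕ ⟨g, hg⟩ ≠ 1)
    (hctrl : ∀ (m : ℕ) (a : G) (h : a⁻¹ * g ^ m * a ∈ H), ϕ ⟨_, h⟩ = ϕ ⟨g, hg⟩ ^ m) :
    MonoidHom.transfer ϕ g ≠ 1 := by
  rw [transfer_eq_map_pow ϕ g hg hctrl]
  intro h
  refine hne (orderOf_eq_one_iff.1 (Nat.eq_one_of_dvd_coprimes (hidx.pow_left k) ?_ (orderOf_dvd_of_pow_eq_one h)))
  rw [← hk, ← Subgroup.orderOf_mk g hg]
  exact orderOf_map_dvd ϕ _

end Cfsg.Agent.Fusion
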