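import Cfsg.Agent.Lib.Fusion.WreathedFusion
import Cfsg.Agent.Lib.Fusion.TransferPow

/-!
# The four fusion cases for wreathed Sylow 2-subgroups
-/

set_option autoImplicit false
set_option linter.unusedSectionVars false
set_option linter.style.haveILetI false

namespace Cfsg.Agent.Fusion

open Cfsg

variable {G : Type*} [Group G] [Finite G] {S : Sylow 2 G} {n : ℕ} (D : WRData (S : Subgroup G) n)

namespace WRData

include D

theorem isConj_refl_refl (i j : ℤ) : IsConj (D.fg i) (D.fg j) := by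
  show IsConj ((S : Subgroup G).subtype (D.el i (-i) * D.t)) ((S : Subgroup G).subtype (D.el j (-j) * D.t))
  refine (S : Subgroup G).subtype.map_isConj (isConj_iff.2 ⟨D.el (j - i) 0, ?_⟩)
  rw [D.conj_refl_el, add_sub_cancel]

theorem isConj_eg' : IsConj D.eg (D.el 0 D.h : G) := by
  show IsConj ((S : Subgroup G).subtype (D.el D.h 0)) ((S : Subgroup G).subtype (D.el 0 D.h))
  exact (S : Subgroup G).subtype.map_isConj
    (isConj_iff.2 ⟨D.t, by rw [D.t_mul_el, mul_inv_cancel_right]⟩)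

theorem Zg_eq : D.Zg = Subgroup.zpowers (D.el 1 1 : G) := by
  rw [Zg, D.center_eq, MonoidHom.map_zpowers]; rfl

theorem mem_centralizer_Zg {c : G} (h : c * (D.el 1 1 : G) = (D.el 1 1 : G) * c) {z : G}
    (hz : z ∈ D.Zg) : c * z = z * c := by
  rw [D.Zg_eq] at hz
  obtain ⟨k, rfl⟩ := Subgroup.mem_zpowers_iff.1 hz
  exact (Commute.zpow_right (show Commute c (D.el 1 1 : G) from h) k).eq

theorem sylIn_Ag_centralizer {x : G} (hx : x ∈ D.Ag) (hno : ¬ ∃ c ∈ D.Zg, IsConj c x) :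
    SylIn 2 D.Ag (Subgroup.centralizer ({x} : Set G)) := by
  haveI : Fact (Nat.Prime 2) := ⟨Nat.prime_two⟩
  obtain ⟨P, hP, hle⟩ := exists_sylIn_ge (S.isPGroup'.to_le D.Ag_le)
    (H := Subgroup.centralizer ({x} : Set G))
    (fun a ha => Subgroup.mem_centralizer_singleton_iff.2 (D.Ag_comm ha hx))
  obtain ⟨h, -, hh⟩ := (sylIn_top S).conj_le hP.isPGroup le_top
  have hAh : cj D.Ag h = D.Ag := D.cj_Ag_eq ((cj_mono hle h).trans hh)
  have hPA : cj P h ≤ D.Ag := by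
    intro w hw
    by_contra hwA
    obtain ⟨w0, hw0⟩ : ∃ w0 : ↥(S : Subgroup G), (w0 : G) = w := ⟨⟨w, hh hw⟩, rfl⟩
    obtain ⟨x0, hx0, hx0e⟩ : h * x * h⁻¹ ∈ D.Ag := hAh.le (conj_mem_cj hx)
    have hx0e' : (x0 : G) = h * x * h⁻¹ := hx0e
    have hcm : (x0 : G) * w0 = w0 * x0 := by
      rw [hw0, hx0e']
      have h1 : h⁻¹ * w * h * x = x * (h⁻¹ * w * h) :=
        Subgroup.mem_centralizer_singleton_iff.1 (hP.le (mem_cj.1 hw))
      calc h * x * h⁻¹ * w = h * (x * (h⁻¹ * w * h)) * h⁻¹ := by group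
        _ = h * (h⁻¹ * w * h * x) * h⁻¹ := by rw [h1]
        _ = _ := by group
    have hz := D.mem_center_of_commute_out hx0 (b := w0)
      (fun h' => hwA (hw0 ▸ D.mem_Ag.2 h')) (Subtype.ext hcm)
    exact hno ⟨x0, D.mem_Zg.2 hz, (isConj_iff.2 ⟨h, hx0e'.symm⟩).symm⟩
  have hPe : P = D.Ag := by
    refine (Subgroup.eq_of_le_of_card_ge hle ?_).symm
    rw [← card_cj P h]
    exact Subgroup.card_le_of_le hPA
  exact hPe ▸ hP

theorem exists_centralizing_to_A {i : ℤ} (h : IsConj (D.fg i) D.ug ∨ IsConj (D.fg i) D.eg) :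
    ∃ c : G, (∀ z ∈ D.Zg, c * z = z * c) ∧ c * D.fg i * c⁻¹ ∈ D.Ag := by
  haveI : Fact (Nat.Prime 2) := ⟨Nat.prime_two⟩
  set w : G := (D.el 1 1 : G) with hw
  have hwZ : w ∈ D.Zg := D.mem_Zg.2 (D.diag_central 1)
  have huA : D.ug ∈ D.Ag := D.mem_Ag.2 (D.el_mem _ _)
  have hwu : w ^ D.h = D.ug := by
    rw [hw, ug, ← Subgroup.coe_zpow, D.el_zpow, one_mul]
  set T : Subgroup G := D.Zg ⊔ Subgroup.zpowers (D.fg i) with hT
  have hfS : D.fg i ∈ (S : Subgroup G) := (D.el i (-i) * D.t : ↥(S : Subgroup G)).2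
  have hTS : T ≤ (S : Subgroup G) := sup_le D.Zg_le (Subgroup.zpowers_le.2 hfS)
  have hTC : T ≤ Subgroup.centralizer ({D.fg i} : Set G) :=
    sup_le (fun z hz => Subgroup.mem_centralizer_singleton_iff.2 (D.Zg_central hz hfS).symm)
      (Subgroup.zpowers_le.2 (Subgroup.mem_centralizer_singleton_iff.2 rfl))
  have hwT : w ∈ T := Subgroup.mem_sup_left hwZ
  have hfT : D.fg i ∈ T := Subgroup.mem_sup_right (Subgroup.mem_zpowers _)
  suffices ∃ k : G, k * w * k⁻¹ ∈ D.Ag ∧ k * D.fg i * k⁻¹ ∈ D.Ag by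
    obtain ⟨k, hk1, hk2⟩ := this
    obtain ⟨a, ha, hak⟩ := D.fusion_in_A (D.Zg_le_Ag hwZ) hk1 (isConj_iff.2 ⟨k, rfl⟩)
    refine ⟨a⁻¹ * k, fun z hz => D.mem_centralizer_Zg ?_ hz, ?_⟩
    · show a⁻¹ * k * w = w * (a⁻¹ * k)
      calc a⁻¹ * k * w = a⁻¹ * (k * w * k⁻¹) * k := by group
        _ = w * (a⁻¹ * k) := by rw [← hak]; group
    · rw [show a⁻¹ * k * D.fg i * (a⁻¹ * k)⁻¹ = a⁻¹ * (k * D.fg i * k⁻¹) * a⁻¹⁻¹ by group]
      exact (Subgroup.mem_normalizer_iff.1 (inv_mem ha) _).1 hk2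
  have hu_case : IsConj (D.fg i) D.ug → ∃ k : G, k * w * k⁻¹ ∈ D.Ag ∧ k * D.fg i * k⁻¹ ∈ D.Ag := by
    intro hfu
    obtain ⟨g, hg⟩ := isConj_iff.1 hfu.symm
    obtain ⟨d, hd, hdS⟩ := (D.sylIn_conj_centralizer (D.mem_Zg.2 (D.diag_central D.h)) hg).conj_le
      (S.isPGroup'.to_le hTS) hTC
    have hd' : d * D.fg i = D.fg i * d := Subgroup.mem_centralizer_singleton_iff.1 hd
    have hkT : cj T (g⁻¹ * d) ≤ (S : Subgroup G) := by rw [← cj_cj, cj_le_iff, inv_inv]; exact hdS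
    have hkf : g⁻¹ * d * D.fg i * (g⁻¹ * d)⁻¹ = D.ug := by
      calc g⁻¹ * d * D.fg i * (g⁻¹ * d)⁻¹ = g⁻¹ * (d * D.fg i * d⁻¹) * g := by group
        _ = g⁻¹ * D.fg i * g := by rw [hd', mul_inv_cancel_right]
        _ = D.ug := by rw [← hg]; group
    refine ⟨g⁻¹ * d, ?_, hkf ▸ huA⟩
    by_contra hnot
    obtain ⟨s, hs⟩ : ∃ s : ↥(S : Subgroup G), (s : G) = g⁻¹ * d * w * (g⁻¹ * d)⁻¹ :=
      ⟨⟨_, hkT (conj_mem_cj hwT)⟩, rfl⟩
    obtain ⟨p, q, rfl | rfl⟩ := D.exists_form s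
    · exact hnot (hs ▸ D.mem_Ag.2 (D.el_mem p q))
    have h2 : (g⁻¹ * d) * D.ug * (g⁻¹ * d)⁻¹ = ((D.el (p + q) (p + q) ^ D.q4 : ↥(S : Subgroup G)) : G) := by
      rw [Subgroup.coe_zpow, ← D.out_sq, Subgroup.coe_mul, hs, ← hwu]
      rw [conj_mul, conj_zpow, ← zpow_two, ← zpow_mul, D.two_q4]
    have hcen : D.el (p + q) (p + q) ^ D.q4 ∈ Subgroup.center (S : Subgroup G) :=
      zpow_mem (D.diag_central _) _
    have ho : orderOf (D.el (p + q) (p + q) ^ D.q4) = 2 := by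
      rw [← Subgroup.orderOf_coe, ← h2,
        show g⁻¹ * d * D.ug * (g⁻¹ * d)⁻¹ = MulAut.conj (g⁻¹ * d) D.ug from rfl, MulEquiv.orderOf_eq,
        D.orderOf_ug]
    rw [D.center_invol hcen ho] at h2
    have h3 : D.fg i = D.ug := mul_left_cancel (mul_right_cancel (hkf.trans h2.symm))
    exact D.out_not_mem i (-i) ((Subtype.ext h3 : D.el i (-i) * D.t = D.el D.h D.h) ▸ D.el_mem _ _)
  rcases h with h | h
  · exact hu_case h
  by_cases hA : D.FusedA
  · exact hu_case (h.trans hA.symm)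
  have hno : ¬ ∃ c ∈ D.Zg, IsConj c D.eg := by
    rintro ⟨c, ⟨c0, hc0, rfl⟩, hce⟩
    obtain ⟨g, hg⟩ := isConj_iff.1 hce
    have ho : orderOf c0 = 2 := by
      rw [← Subgroup.orderOf_coe]
      refine Eq.trans ?_ D.orderOf_eg
      rw [← hg]
      exact ((MulAut.conj g).orderOf_eq _).symm
    obtain rfl := D.center_invol hc0 ho
    exact hA hce
  obtain ⟨g, hg⟩ := isConj_iff.1 h
  have hgT : cj T g ≤ Subgroup.centralizer ({D.eg} : Set G) := by
    rintro _ ⟨x, hx, rfl⟩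
    rw [Subgroup.mem_centralizer_singleton_iff, ← hg]
    show g * x * g⁻¹ * (g * D.fg i * g⁻¹) = g * D.fg i * g⁻¹ * (g * x * g⁻¹)
    rw [conj_mul, conj_mul, Subgroup.mem_centralizer_singleton_iff.1 (hTC hx)]
  obtain ⟨d, hd, hdA⟩ := (D.sylIn_Ag_centralizer (D.mem_Ag.2 (D.el_mem _ _)) hno).conj_le
    (isPGroup_cj (S.isPGroup'.to_le hTS) g) hgT
  rw [cj_cj] at hdA
  exact ⟨d * g, hdA (conj_mem_cj hwT), hdA (conj_mem_cj hfT)⟩

theorem conj_refl_of_mem_E {i : ℤ} {s : ↥(S : Subgroup G)} (hs : s ∈ D.E i) :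
    s * (D.el i (-i) * D.t) * s⁻¹ = D.el i (-i) * D.t ∨
      s * (D.el i (-i) * D.t) * s⁻¹ = D.el i (-i) * D.t * D.el D.h D.h := by
  obtain ⟨z, hz, hs⟩ := D.E_cases hs
  have he : D.el D.h 0 * (D.el i (-i) * D.t) * (D.el D.h 0)⁻¹ =
      D.el i (-i) * D.t * D.el D.h D.h := (D.conj_refl_el i D.h).trans (D.refl_add_h i)
  have hzc : ∀ p : ↥(S : Subgroup G), (z * p) * (D.el i (-i) * D.t) * (z * p)⁻¹ =
      p * (D.el i (-i) * D.t) * p⁻¹ := fun p => by
    rw [show z * p * (D.el i (-i) * D.t) * (z * p)⁻¹ = z * (p * (D.el i (-i) * D.t) * p⁻¹) * z⁻¹ by group,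
      ← Subgroup.mem_center_iff.1 hz, mul_inv_cancel_right]
  rcases hs with rfl | rfl | rfl | rfl
  · left; rw [← Subgroup.mem_center_iff.1 hz, mul_inv_cancel_right]
  · right; rw [hzc, he]
  · left; rw [hzc, mul_inv_cancel_right]
  · right
    rw [hzc, show D.el D.h 0 * (D.el i (-i) * D.t) * (D.el i (-i) * D.t) *
      (D.el D.h 0 * (D.el i (-i) * D.t))⁻¹ = D.el D.h 0 * (D.el i (-i) * D.t) * (D.el D.h 0)⁻¹ by group, he]

theorem exists_normalizer_Eg_to_A {i : ℤ} {c : G} (hcZ : ∀ z ∈ D.Zg, c * z = z * c)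
    (hcA : c * D.fg i * c⁻¹ ∈ D.Ag) :
    ∃ a ∈ Subgroup.normalizer (D.Eg i : Set G),
      a * D.fg i * a⁻¹ ∈ ({D.eg, (D.el 0 D.h : G)} : Set G) := by
  haveI : Fact (Nat.Prime 2) := ⟨Nat.prime_two⟩
  have hu : D.ug ∈ D.Zg := D.mem_Zg.2 (D.diag_central D.h)
  have he' : (D.el 0 D.h : G) = D.eg * D.ug := congrArg Subtype.val D.el_zero_h
  have hu2 : D.ug * D.ug = 1 := invol_mul_self D.orderOf_ug
  have hnoncentral : ∀ g : G, (∀ z ∈ D.Zg, g * z = z * g) → g * D.fg i * g⁻¹ ∈ D.Ag →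
      g * D.fg i * g⁻¹ = D.eg ∨ g * D.fg i * g⁻¹ = (D.el 0 D.h : G) := by
    rintro g hgZ ⟨s, hs, hse⟩
    have hse' : (s : G) = g * D.fg i * g⁻¹ := hse
    have ho : orderOf s = 2 := by
      rw [← Subgroup.orderOf_coe, hse', show g * D.fg i * g⁻¹ = MulAut.conj g (D.fg i) from rfl,
        MulEquiv.orderOf_eq, D.orderOf_fg]
    rw [← hse']
    rcases D.invol_cases ho with rfl | rfl | rfl | ⟨k, rfl⟩
    · exact Or.inl rfl
    · exact Or.inr rfl
    · exfalso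
      have h1 : D.fg i = D.ug := by
        refine mul_left_cancel (a := g) (mul_right_cancel (b := g⁻¹) ?_)
        rw [← hse', hgZ _ hu, mul_inv_cancel_right]
        rfl
      exact D.out_not_mem i (-i) ((Subtype.ext h1 : D.el i (-i) * D.t = D.el D.h D.h) ▸ D.el_mem _ _)
    · exact absurd hs (D.out_not_mem k (-k))
  set F : Subgroup G := Subgroup.zpowers D.ug ⊔ Subgroup.zpowers D.eg with hF
  have huF : D.ug ∈ F := Subgroup.mem_sup_left (Subgroup.mem_zpowers _)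
  have heF : D.eg ∈ F := Subgroup.mem_sup_right (Subgroup.mem_zpowers _)
  have hnormF : ∀ g : G, g * D.ug * g⁻¹ = D.ug → g * D.eg * g⁻¹ ∈ F →
      g ∈ Subgroup.normalizer (F : Set G) := by
    intro g h1 h2
    refine mem_normalizer_of_cj_le ?_
    show F.map _ ≤ F
    rw [hF, Subgroup.map_sup, MonoidHom.map_zpowers, MonoidHom.map_zpowers, sup_le_iff,
      Subgroup.zpowers_le, Subgroup.zpowers_le]
    exact ⟨show g * D.ug * g⁻¹ ∈ F from h1.symm ▸ huF, h2⟩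
  set Ne : Subgroup G := Subgroup.centralizer (D.Zg : Set G) ⊓ Subgroup.normalizer (F : Set G) with hNe
  have hSNe : SylIn 2 (S : Subgroup G) Ne := by
    refine (sylIn_top S).mono (fun s hs => Subgroup.mem_inf.2 ⟨?_, hnormF s ?_ ?_⟩) le_top
    · exact Subgroup.mem_centralizer_iff.2 fun z hz => (D.Zg_central hz hs).symm
    · rw [D.Zg_central hu hs, mul_inv_cancel_right]
    · obtain ⟨p, q, hp | hp⟩ := D.exists_form (⟨s, hs⟩ : ↥(S : Subgroup G))
      · have hsA : s ∈ D.Ag := by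
          rw [show s = (D.el p q : G) from congrArg Subtype.val hp]
          exact D.mem_Ag.2 (D.el_mem p q)
        rw [D.Ag_comm hsA (show D.eg ∈ D.Ag from D.mem_Ag.2 (D.el_mem D.h 0)), mul_inv_cancel_right]
        exact heF
      · have : s * D.eg * s⁻¹ = (D.el 0 D.h : G) := by
          rw [show s = ((⟨s, hs⟩ : ↥(S : Subgroup G)) : G) from rfl, hp]
          exact congrArg Subtype.val (D.conj_el_h p q)
        rw [this, he']
        exact mul_mem heF huF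
  have hy := hnoncentral c hcZ hcA
  have hEN : cj (D.Eg i) c ≤ Ne := by
    rintro _ ⟨_, ⟨s, hs, rfl⟩, rfl⟩
    show c * (s : G) * c⁻¹ ∈ Ne
    have hsZ : ∀ z ∈ D.Zg, (s : G) * z = z * s := fun z hz => D.Zg_central hz s.2
    have hwZ : ∀ z ∈ D.Zg, c * (s : G) * c⁻¹ * z = z * (c * (s : G) * c⁻¹) := fun z hz => by
      have hc' : Commute c⁻¹ z := (show Commute c z from hcZ z hz).inv_left
      exact (((show Commute c z from hcZ z hz).mul_left (hsZ z hz)).mul_left hc').eq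
    refine Subgroup.mem_inf.2 ⟨Subgroup.mem_centralizer_iff.2 fun z hz => (hwZ z hz).symm,
      hnormF _ (by rw [hwZ _ hu, mul_inv_cancel_right]) ?_⟩
    have hcu : c * D.ug * c⁻¹ = D.ug := by rw [hcZ _ hu, mul_inv_cancel_right]
    have h1 : (c * (s : G) * c⁻¹) * (c * D.fg i * c⁻¹) * (c * (s : G) * c⁻¹)⁻¹ =
        c * ((s : G) * D.fg i * (s : G)⁻¹) * c⁻¹ := by group
    have h2 : (c * (s : G) * c⁻¹) * (c * D.fg i * c⁻¹) * (c * (s : G) * c⁻¹)⁻¹ ∈ F := by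
      rw [h1]
      have hyF : c * D.fg i * c⁻¹ ∈ F := by
        rcases hy with h | h <;> rw [h]
        · exact heF
        · rw [he']; exact mul_mem heF huF
      rcases D.conj_refl_of_mem_E hs with h | h <;> have h' := congrArg Subtype.val h <;>
        simp only [Subgroup.coe_mul, Subgroup.coe_inv] at h' <;>
        rw [show (s : G) * D.fg i * (s : G)⁻¹ = _ from h']
      · exact hyF
      · rw [← conj_mul]
        exact mul_mem hyF (hcu.symm ▸ huF : c * (D.el D.h D.h : G) * c⁻¹ ∈ F)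
    rcases hy with h | h
    · rwa [h] at h2
    · rw [h, he', ← conj_mul, show c * (s : G) * c⁻¹ * D.ug * (c * (s : G) * c⁻¹)⁻¹ = D.ug by
        rw [hwZ _ hu, mul_inv_cancel_right]] at h2
      have := mul_mem h2 huF
      rwa [mul_assoc, hu2, mul_one] at this
  obtain ⟨d, hd, hdS⟩ := hSNe.conj_le (isPGroup_cj (S.isPGroup'.to_le (D.Eg_le i)) c) hEN
  rw [cj_cj] at hdS
  obtain ⟨hdZ, hdF⟩ := Subgroup.mem_inf.1 hd
  set g := d * c with hg
  have hgZ : ∀ z ∈ D.Zg, g * z = z * g := fun z hz =>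
    ((show Commute d z from (Subgroup.mem_centralizer_iff.1 hdZ z hz).symm).mul_left (hcZ z hz)).eq
  have hFA : F ≤ D.Ag := sup_le (Subgroup.zpowers_le.2 (D.Zg_le_Ag hu))
    (Subgroup.zpowers_le.2 (D.mem_Ag.2 (D.el_mem D.h 0)))
  have hgA : g * D.fg i * g⁻¹ ∈ D.Ag := by
    refine hFA ?_
    rw [show g * D.fg i * g⁻¹ = d * (c * D.fg i * c⁻¹) * d⁻¹ by rw [hg]; group]
    refine (Subgroup.mem_normalizer_iff.1 hdF _).1 ?_
    rcases hy with h | h <;> rw [h]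
    · exact heF
    · rw [he']; exact mul_mem heF huF
  have hgf := hnoncentral g hgZ hgA
  -- the image of the inner involution is outer
  obtain ⟨k, hk⟩ : ∃ k : ℤ, g * D.eg * g⁻¹ = D.fg k := by
    obtain ⟨s, hs⟩ : ∃ s : ↥(S : Subgroup G), (s : G) = g * D.eg * g⁻¹ :=
      ⟨⟨_, hdS (conj_mem_cj (D.mem_Eg.2 (D.el_h_mem_E i)))⟩, rfl⟩
    have ho : orderOf s = 2 := by
      rw [← Subgroup.orderOf_coe, hs, show g * D.eg * g⁻¹ = MulAut.conj g D.eg from rfl,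
        MulEquiv.orderOf_eq, D.orderOf_eg]
    rw [← hs]
    rcases D.invol_cases ho with rfl | rfl | rfl | ⟨k, rfl⟩
    case _ => exact absurd (D.el_mem D.h 0) (fun h' => notA _ h' hs hgA)
    case _ => exact absurd (D.el_mem 0 D.h) (fun h' => notA _ h' hs hgA)
    case _ => exact absurd (D.el_mem D.h D.h) (fun h' => notA _ h' hs hgA)
    exact ⟨k, rfl⟩
  have hle : cj (D.Eg i) g ≤ D.Eg k := by
    have h1 : D.E i ≤ (D.Eg k).comap ((MulAut.conj g).toMonoidHom.comp (S : Subgroup G).subtype) := by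
      refine D.E_le_iff (fun z hz => ?_) ?_ ?_
      · show g * (z : G) * g⁻¹ ∈ D.Eg k
        rw [hgZ _ (D.mem_Zg.2 hz), mul_inv_cancel_right]
        exact D.mem_Eg.2 (D.center_le_E k hz)
      · show g * D.eg * g⁻¹ ∈ D.Eg k
        rw [hk]; exact D.mem_Eg.2 (D.refl_mem_E k)
      · show g * D.fg i * g⁻¹ ∈ D.Eg k
        rcases hgf with h | h <;> rw [h] <;> refine D.mem_Eg.2 (D.el_mem_E.2 ?_) <;> simp
    rintro _ ⟨_, ⟨s, hs, rfl⟩, rfl⟩
    exact h1 hs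
  obtain ⟨s, hs⟩ : ∃ s : G, s = (D.el (i - k) 0 : G) := ⟨_, rfl⟩
  have hsA : s ∈ D.Ag := hs ▸ D.mem_Ag.2 (D.el_mem _ _)
  have hle2 : cj (D.Eg k) s ≤ D.Eg i := by
    have h1 : D.E k ≤ (D.Eg i).comap ((MulAut.conj s).toMonoidHom.comp (S : Subgroup G).subtype) := by
      refine D.E_le_iff (fun z hz => ?_) ?_ ?_
      · show s * (z : G) * s⁻¹ ∈ D.Eg i
        rw [D.Ag_comm hsA (D.Zg_le_Ag (D.mem_Zg.2 hz)), mul_inv_cancel_right]
        exact D.mem_Eg.2 (D.center_le_E i hz)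
      · show s * D.eg * s⁻¹ ∈ D.Eg i
        rw [D.Ag_comm hsA (show D.eg ∈ D.Ag from D.mem_Ag.2 (D.el_mem D.h 0)), mul_inv_cancel_right]
        exact D.mem_Eg.2 (D.el_h_mem_E i)
      · show s * D.fg k * s⁻¹ ∈ D.Eg i
        rw [hs, show (D.el (i - k) 0 : G) * D.fg k * (D.el (i - k) 0 : G)⁻¹ =
          ((D.el (i - k) 0 * (D.el k (-k) * D.t) * (D.el (i - k) 0)⁻¹ : ↥(S : Subgroup G)) : G) from rfl,
          D.conj_refl_el, add_sub_cancel]
        exact D.mem_Eg.2 (D.refl_mem_E i)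
    rintro _ ⟨_, ⟨x, hx, rfl⟩, rfl⟩
    exact h1 hx
  refine ⟨s * g, mem_normalizer_of_cj_le ?_, ?_⟩
  · rw [← cj_cj]; exact (cj_mono hle s).trans hle2
  · rw [show s * g * D.fg i * (s * g)⁻¹ = s * (g * D.fg i * g⁻¹) * s⁻¹ by group,
      D.Ag_comm hsA hgA, mul_inv_cancel_right]
    exact hgf
where
  notA (v : ↥(S : Subgroup G)) (hv : v ∈ D.A) {g : G} {i : ℤ}
      (hs : (v : G) = g * D.eg * g⁻¹) (hA : g * D.fg i * g⁻¹ ∈ D.Ag) : False := by
    refine D.el_refl_not_commute i (Subtype.ext ?_)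
    have h1 := D.Ag_comm (hs ▸ D.mem_Ag.2 hv) hA
    rw [conj_mul, conj_mul] at h1
    exact mul_left_cancel (mul_right_cancel h1)

theorem A_index_iff :
    let r := (Subgroup.centralizer (D.Ag : Set G)).relIndex (Subgroup.normalizer (D.Ag : Set G))
    (r = 6 ↔ D.FusedA) ∧ (r = 2 ∨ r = 6) := by
  intro r
  obtain ⟨h1, -, h3, h4⟩ := D.A_action
  refine ⟨⟨fun h => ?_, h4⟩, h1⟩
  obtain ⟨a, -, -, ha, -⟩ := h3 h
  exact isConj_iff.2 ⟨a, ha⟩

theorem E_index_iff (i : ℤ) :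
    let r := (D.Eg i ⊔ Subgroup.centralizer (D.Eg i : Set G)).relIndex
      (Subgroup.normalizer (D.Eg i : Set G))
    (r = 6 ↔ D.FusedE) ∧ (r = 2 ∨ r = 6) := by
  intro r
  obtain ⟨h1, -, h3, h4⟩ := D.E_action i
  refine ⟨⟨fun h => ?_, fun hf => ?_⟩, h1⟩
  · obtain ⟨a, -, -, -, -, ha⟩ := h3 h
    rcases ha with ha | ha
    · exact (isConj_iff.2 ⟨a, ha⟩).trans (D.isConj_refl_refl i 0)
    · exact (isConj_iff.2 ⟨a, ha⟩).trans (D.isConj_refl_refl _ 0)
  · obtain ⟨c, hc, hcA⟩ := D.exists_centralizing_to_A (i := i)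
      (Or.inr ((D.isConj_refl_refl i 0).trans hf.symm))
    exact h4 (D.exists_normalizer_Eg_to_A hc hcA)

theorem fusedE_of_ug {i : ℤ} (h : IsConj D.ug (D.fg i)) : D.FusedE ∧ D.FusedA := by
  have hE : D.FusedE := by
    obtain ⟨c, hc, hcA⟩ := D.exists_centralizing_to_A (i := i) (Or.inl h.symm)
    exact (D.E_index_iff i).1.1 ((D.E_action i).2.2.2 (D.exists_normalizer_Eg_to_A hc hcA))
  exact ⟨hE, h.trans ((D.isConj_refl_refl i 0).trans hE.symm)⟩

theorem involution_cases' {s : ↥(S : Subgroup G)} (hs : orderOf (s : G) = 2) :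
    IsConj (s : G) D.ug ∨ IsConj (s : G) D.eg ∨ IsConj (s : G) (D.fg 0) := by
  rw [Subgroup.orderOf_coe] at hs
  rcases D.invol_cases hs with rfl | rfl | rfl | ⟨i, rfl⟩
  · exact Or.inr (Or.inl (IsConj.refl _))
  · exact Or.inr (Or.inl D.isConj_eg'.symm)
  · exact Or.inl (IsConj.refl _)
  · exact Or.inr (Or.inr (D.isConj_refl_refl i 0))

theorem card_classes_eq :
    Nat.card {C : ConjClasses G // ∃ t : G, orderOf t = 2 ∧ ConjClasses.mk t = C} =
      ({ConjClasses.mk D.ug, ConjClasses.mk D.eg, ConjClasses.mk (D.fg 0)} :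
        Set (ConjClasses G)).ncard := by
  have := card_classes S 1 {D.ug, D.eg, D.fg 0}
    (by rintro r (rfl | rfl | rfl); exacts [D.orderOf_ug, D.orderOf_eg, D.orderOf_fg 0])
    (fun s hs hso => by
      rcases D.involution_cases' (s := ⟨s, hs⟩) hso with h | h | h
      · exact ⟨_, Or.inl rfl, h⟩
      · exact ⟨_, Or.inr (Or.inl rfl), h⟩
      · exact ⟨_, Or.inr (Or.inr rfl), h⟩)
  rw [pow_one, Set.image_insert_eq, Set.image_pair] at this
  exact this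

theorem classes_cases :
    (D.FusedA → D.FusedE →
      Nat.card {C : ConjClasses G // ∃ t : G, orderOf t = 2 ∧ ConjClasses.mk t = C} = 1) ∧
    (D.FusedA → ¬ D.FusedE →
      Nat.card {C : ConjClasses G // ∃ t : G, orderOf t = 2 ∧ ConjClasses.mk t = C} = 2) ∧
    (¬ D.FusedA → D.FusedE →
      Nat.card {C : ConjClasses G // ∃ t : G, orderOf t = 2 ∧ ConjClasses.mk t = C} = 2) ∧
    (¬ D.FusedA → ¬ D.FusedE →
      Nat.card {C : ConjClasses G // ∃ t : G, orderOf t = 2 ∧ ConjClasses.mk t = C} = 3) := by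
  rw [D.card_classes_eq]
  have e : ∀ {a b : G}, ConjClasses.mk a = ConjClasses.mk b ↔ IsConj a b :=
    ConjClasses.mk_eq_mk_iff_isConj
  refine ⟨fun h1 h2 => ?_, fun h1 h2 => ?_, fun h1 h2 => ?_, fun h1 h2 => ?_⟩
  · rw [← e.2 h2, Set.pair_eq_singleton, ← e.2 h1, Set.pair_eq_singleton, Set.ncard_singleton]
  · rw [← e.2 h1, Set.insert_eq_of_mem (Set.mem_insert _ _)]
    exact Set.ncard_pair fun h => h2 (h1.symm.trans (e.1 h))
  · rw [← e.2 h2, Set.pair_eq_singleton]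
    exact Set.ncard_pair fun h => h1 (e.1 h)
  · refine Set.ncard_eq_three.2 ⟨_, _, _, fun h => h1 (e.1 h), fun h => ?_, fun h => h2 (e.1 h), rfl⟩
    exact h1 (D.fusedE_of_ug (e.1 h)).2

theorem el_decomp (i j : ℤ) : D.el i j = D.el 1 0 ^ i * (D.t * D.el 1 0 * D.t⁻¹) ^ j := by
  rw [D.t_mul_el, mul_inv_cancel_right, D.el_zpow, D.el_zpow, D.el_mul]
  congr 1 <;> ring

/-- A character of `S` controlled on the generators extends, up to an odd power. -/
theorem exists_extension {A : Type*} [CommGroup A] (χ : ↥(S : Subgroup G) →* A)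
    (h₁ : ∀ (m : ℕ) (a : G) (h : a * (D.el 1 0 : G) ^ m * a⁻¹ ∈ (S : Subgroup G)),
      χ ⟨_, h⟩ = χ (D.el 1 0) ^ m)
    (h₂ : ∀ (m : ℕ) (a : G) (h : a * (D.t : G) ^ m * a⁻¹ ∈ (S : Subgroup G)),
      χ ⟨_, h⟩ = χ D.t ^ m) :
    ∃ f : G →* A, ∃ k : ℕ, Odd k ∧ ∀ s : ↥(S : Subgroup G), f s = χ s ^ k := by
  haveI : Fact (Nat.Prime 2) := ⟨Nat.prime_two⟩
  set k := (S : Subgroup G).index with hk
  have hctrl : ∀ g : ↥(S : Subgroup G), (∀ (m : ℕ) (a : G) (h : a * (g : G) ^ m * a⁻¹ ∈ (S : Subgroup G)),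
      χ ⟨_, h⟩ = χ g ^ m) → MonoidHom.transfer χ (g : G) = χ g ^ k := by
    intro g hg
    refine transfer_eq_map_pow χ (g : G) g.2 fun m a h => ?_
    have h2 : a⁻¹ * (g : G) ^ m * (a⁻¹)⁻¹ ∈ (S : Subgroup G) := by rwa [inv_inv]
    rw [← hg m a⁻¹ h2]
    exact congrArg χ (Subtype.ext (by simp))
  refine ⟨MonoidHom.transfer χ, k, Nat.odd_iff.2 (Nat.two_dvd_ne_zero.1 S.not_dvd_index), fun s => ?_⟩
  set f := MonoidHom.transfer χ
  have hg := hctrl (D.el 1 0) h₁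
  have ht := hctrl D.t h₂
  have hel : ∀ i j : ℤ, f (D.el i j : G) = χ (D.el i j) ^ k := by
    intro i j
    rw [D.el_decomp i j]
    simp only [Subgroup.coe_mul, Subgroup.coe_zpow, Subgroup.coe_inv, map_mul, map_zpow, map_inv, hg, ht,
      mul_pow, inv_pow, mul_inv_cancel_comm, ← zpow_natCast, ← zpow_mul]
    simp only [mul_comm (k : ℤ)]
    rw [mul_zpow, ← zpow_mul, ← zpow_mul]
  obtain ⟨i, j, rfl | rfl⟩ := D.exists_form s
  · exact hel i j
  · rw [Subgroup.coe_mul, map_mul, map_mul, mul_pow, hel, ht]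

open Classical in
/-- The character with kernel `Y`. -/
theorem exists_chi : ∃ χ : ↥(S : Subgroup G) →* Multiplicative (ZMod (2 ^ n)),
    (∀ i j : ℤ, χ (D.el i j) = Multiplicative.ofAdd ((i + j : ℤ) : ZMod (2 ^ n))) ∧
    (∀ i j : ℤ, χ (D.el i j * D.t) = Multiplicative.ofAdd ((i + j + D.h : ℤ) : ZMod (2 ^ n))) := by
  have hN : ∀ a b : ℤ, D.N ∣ a - b → ((a : ZMod (2 ^ n)) = (b : ZMod (2 ^ n))) := fun a b h => by
    rw [← sub_eq_zero, ← Int.cast_sub, ZMod.intCast_zmod_eq_zero_iff_dvd]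
    convert h using 1
    rw [N]; push_cast; rfl
  choose fi fj hf using fun s : ↥(S : Subgroup G) => D.exists_form s
  let v : ↥(S : Subgroup G) → ℤ := fun s => if s ∈ D.A then fi s + fj s else fi s + fj s + D.h
  have hv1 : ∀ i j : ℤ, ((v (D.el i j) : ZMod (2 ^ n))) = ((i + j : ℤ) : ZMod (2 ^ n)) := by
    intro i j
    simp only [v, if_pos (D.el_mem i j)]
    refine hN _ _ ?_
    rcases hf (D.el i j) with h | h
    · obtain ⟨h1, h2⟩ := (D.el_eq_iff _ _ _ _).1 h.symm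
      rw [show fi (D.el i j) + fj (D.el i j) - (i + j) = (fi (D.el i j) - i) + (fj (D.el i j) - j) by ring]
      exact dvd_add h1 h2
    · exact absurd (h ▸ D.el_mem i j) (D.out_not_mem _ _)
  have hv2 : ∀ i j : ℤ, ((v (D.el i j * D.t) : ZMod (2 ^ n))) = ((i + j + D.h : ℤ) : ZMod (2 ^ n)) := by
    intro i j
    simp only [v, if_neg (D.out_not_mem i j)]
    refine hN _ _ ?_
    rcases hf (D.el i j * D.t) with h | h
    · exact absurd (h.symm ▸ D.el_mem _ _ : D.el i j * D.t ∈ D.A) (D.out_not_mem _ _)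
    · obtain ⟨h1, h2⟩ := (D.el_eq_iff _ _ _ _).1 (mul_right_cancel h.symm)
      rw [show fi (D.el i j * D.t) + fj (D.el i j * D.t) + D.h - (i + j + D.h) =
        (fi (D.el i j * D.t) - i) + (fj (D.el i j * D.t) - j) by ring]
      exact dvd_add h1 h2
  refine ⟨MonoidHom.mk' (fun s => Multiplicative.ofAdd ((v s : ℤ) : ZMod (2 ^ n))) (fun a b => ?_),
    fun i j => congrArg Multiplicative.ofAdd (hv1 i j), fun i j => congrArg Multiplicative.ofAdd (hv2 i j)⟩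
  rw [← ofAdd_add]
  refine congrArg Multiplicative.ofAdd ?_
  obtain ⟨i, j, rfl | rfl⟩ := D.exists_form a <;> obtain ⟨k, l, rfl | rfl⟩ := D.exists_form b
  · rw [D.el_mul, hv1, hv1, hv1]; push_cast; ring
  · rw [← mul_assoc, D.el_mul, hv2, hv1, hv2]; push_cast; ring
  · rw [mul_assoc, D.t_mul_el, ← mul_assoc, D.el_mul, hv2, hv2, hv1]; push_cast; ring
  · rw [D.out_mul_out, hv1, hv2, hv2]
    have h2 : ((2 * D.h : ℤ) : ZMod (2 ^ n)) = 0 := by
      have := hN (2 * D.h) 0 (by rw [sub_zero, ← D.N_eq])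
      simpa using this
    push_cast at h2 ⊢
    linear_combination -h2

/-- When `N(A)` induces a 2-group on `A`, conjugate elements of `A` differ by `t`. -/
theorem conj_in_A (hA : ¬ D.FusedA) {x x' : G} (hx : x ∈ D.Ag) (hx' : x' ∈ D.Ag) (h : IsConj x x') :
    x' = x ∨ x' = (D.t : G) * x * (D.t : G)⁻¹ := by
  obtain ⟨h1, h2⟩ := D.A_index_iff
  obtain ⟨a, ha, rfl⟩ := D.fusion_in_A hx hx' h
  rcases (D.A_action).2.1 (h2.resolve_right fun h6 => hA (h1.1 h6)) a ha with h | h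
  · exact Or.inl (h x hx)
  · exact Or.inr (h x hx)

/-- An element of order dividing `2 ^ n` conjugate to a power of `el 1 0`. -/
theorem outer_conj_pow (hA : ¬ D.FusedA) {p q : ℤ} {m : ℕ}
    (h : IsConj ((D.el 1 0 : G) ^ m) ((D.el p q * D.t : ↥(S : Subgroup G)) : G)) :
    D.N ∣ p + q ∧ D.N ∣ (m : ℤ) - D.h := by
  obtain ⟨a, ha⟩ := isConj_iff.1 h
  have hpow : (D.el 1 0 : G) ^ m = (D.el (m : ℤ) 0 : G) := by
    rw [← Subgroup.coe_pow, ← zpow_natCast, D.el_zpow, one_mul, zero_mul]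
  rw [hpow] at ha
  have hsq : IsConj (D.el (2 * (m : ℤ)) 0 : G) (D.el (p + q) (p + q) : G) := by
    refine isConj_iff.2 ⟨a, ?_⟩
    rw [← D.out_sq p q, Subgroup.coe_mul, ← ha,
      show (D.el (2 * (m : ℤ)) 0 : G) = (D.el (m : ℤ) 0 : G) * (D.el (m : ℤ) 0 : G) by
        rw [← Subgroup.coe_mul, D.el_mul, two_mul, add_zero]]
    group
  have h4 : D.N ∣ p + q ∧ D.N ∣ 2 * (m : ℤ) := by
    rcases D.conj_in_A hA (D.mem_Ag.2 (D.el_mem _ _)) (D.mem_Ag.2 (D.el_mem _ _)) hsq with h' | h'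
    · obtain ⟨e1, e2⟩ := (D.el_eq_iff _ _ _ _).1 (Subtype.ext h')
      rw [sub_zero] at e2
      exact ⟨e2, by simpa using dvd_sub e2 e1⟩
    · rw [← Subgroup.coe_inv, ← Subgroup.coe_mul, ← Subgroup.coe_mul, D.t_mul_el, mul_inv_cancel_right] at h'
      obtain ⟨e1, e2⟩ := (D.el_eq_iff _ _ _ _).1 (Subtype.ext h')
      rw [sub_zero] at e1
      exact ⟨e1, by simpa using dvd_sub e1 e2⟩
  refine ⟨h4.1, ?_⟩
  rw [D.N_eq, mul_dvd_mul_iff_left two_ne_zero] at h4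
  rcases D.h_dvd_cases h4.2 with h5 | h5
  · exfalso
    rw [(D.el_eq_one _ _).2 ⟨h5, dvd_zero _⟩, Subgroup.coe_one, mul_one, mul_inv_cancel] at ha
    exact D.out_not_mem p q ((Subtype.ext ha.symm : D.el p q * D.t = 1) ▸ one_mem _)
  · exact h5

/-- Conjugates of `t`. -/
theorem inner_conj_t (hA : ¬ D.FusedA) {p q : ℤ}
    (h : IsConj (D.t : G) (D.el p q : G)) :
    D.N ∣ p + q - D.h ∧ D.FusedE := by
  have ht : (D.t : G) = D.fg 0 := by rw [fg, neg_zero, D.el_zero, one_mul]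
  have ho : orderOf (D.el p q) = 2 := by
    obtain ⟨a, ha⟩ := isConj_iff.1 h
    rw [← Subgroup.orderOf_coe, ← ha, show a * (D.t : G) * a⁻¹ = MulAut.conj a (D.t : G) from rfl,
      MulEquiv.orderOf_eq, Subgroup.orderOf_coe, D.ot]
  rcases D.invol_cases ho with he | he | he | ⟨k, he⟩
  · rw [he] at h
    obtain ⟨e1, e2⟩ := (D.el_eq_iff _ _ _ _).1 he
    rw [sub_zero] at e2
    exact ⟨by rw [show p + q - D.h = (p - D.h) + q by ring]; exact dvd_add e1 e2, (ht ▸ h).symm⟩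
  · rw [he] at h
    obtain ⟨e1, e2⟩ := (D.el_eq_iff _ _ _ _).1 he
    rw [sub_zero] at e1
    exact ⟨by rw [show p + q - D.h = p + (q - D.h) by ring]; exact dvd_add e1 e2,
      D.isConj_eg'.trans (ht ▸ h).symm⟩
  · rw [he] at h
    exact absurd (D.fusedE_of_ug (ht ▸ h).symm).2 hA
  · exact absurd (he ▸ D.el_mem p q) (D.out_not_mem k (-k))

theorem exists_kernel (hA : ¬ D.FusedA) :
    ∃ f : G →* Multiplicative (ZMod (2 ^ n)), Function.Surjective f ∧
      ∀ s : ↥(S : Subgroup G), f s = 1 ↔ s ∈ D.Y := by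
  haveI : Fact (Nat.Prime 2) := ⟨Nat.prime_two⟩
  haveI : NeZero (2 ^ n : ℕ) := ⟨pow_ne_zero _ two_ne_zero⟩
  obtain ⟨χ, hχ1, hχ2⟩ := D.exists_chi
  have hcast : ∀ a b : ℤ, D.N ∣ a - b → (a : ZMod (2 ^ n)) = (b : ZMod (2 ^ n)) := fun a b h => by
    rw [← sub_eq_zero, ← Int.cast_sub, ZMod.intCast_zmod_eq_zero_iff_dvd]
    convert h using 1
    rw [N]; push_cast; rfl
  have hχg : ∀ m : ℕ, χ (D.el 1 0) ^ m = Multiplicative.ofAdd (((m : ℤ)) : ZMod (2 ^ n)) := fun m => by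
    rw [hχ1, ← ofAdd_nsmul]; congr 1; simp
  have hχt : χ D.t = Multiplicative.ofAdd ((D.h : ℤ) : ZMod (2 ^ n)) := by
    have := hχ2 0 0
    rwa [D.el_zero, one_mul, zero_add, zero_add] at this
  have hχt2 : χ D.t ^ 2 = 1 := by rw [sq, ← map_mul, D.t_sq, map_one]
  obtain ⟨f, k, hk, hf⟩ := D.exists_extension χ (fun m a h => by
      rw [hχg]
      obtain ⟨p, q, hpq | hpq⟩ := D.exists_form (⟨_, h⟩ : ↥(S : Subgroup G))
      · rw [hpq, hχ1]
        refine congrArg Multiplicative.ofAdd (hcast _ _ ?_)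
        have hpow : (D.el 1 0 : G) ^ m = (D.el (m : ℤ) 0 : G) := by
          rw [← Subgroup.coe_pow, ← zpow_natCast, D.el_zpow, one_mul, zero_mul]
        rcases D.conj_in_A hA (D.mem_Ag.2 (D.el_mem _ _)) (D.mem_Ag.2 (D.el_mem p q))
          (isConj_iff.2 ⟨a, by rw [← hpow]; exact congrArg Subtype.val hpq⟩) with h' | h'
        · obtain ⟨e1, e2⟩ := (D.el_eq_iff _ _ _ _).1 (Subtype.ext h')
          rw [show p + q - (m : ℤ) = (p - m) + (q - 0) by ring]
          exact dvd_add e1 e2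
        · rw [← Subgroup.coe_inv, ← Subgroup.coe_mul, ← Subgroup.coe_mul, D.t_mul_el,
            mul_inv_cancel_right] at h'
          obtain ⟨e1, e2⟩ := (D.el_eq_iff _ _ _ _).1 (Subtype.ext h')
          rw [show p + q - (m : ℤ) = (p - 0) + (q - m) by ring]
          exact dvd_add e1 e2
      · rw [hpq, hχ2]
        refine congrArg Multiplicative.ofAdd (hcast _ _ ?_)
        obtain ⟨e1, e2⟩ := D.outer_conj_pow hA (m := m) (isConj_iff.2 ⟨a, congrArg Subtype.val hpq⟩)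
        rw [show p + q + D.h - (m : ℤ) = (p + q) - ((m : ℤ) - D.h) by ring]
        exact dvd_sub e1 e2)
    (fun m a h => by
      have ht2 : (D.t : G) ^ 2 = 1 := by rw [sq]; exact congrArg Subtype.val D.t_sq
      rcases Nat.even_or_odd' m with ⟨c, rfl | rfl⟩
      · have hz : (⟨_, h⟩ : ↥(S : Subgroup G)) = 1 :=
          Subtype.ext (by show a * (D.t : G) ^ (2 * c) * a⁻¹ = 1; rw [pow_mul, ht2, one_pow]; group)
        rw [hz, map_one, pow_mul, hχt2, one_pow]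
      · conv_rhs => rw [pow_succ, pow_mul, hχt2, one_pow, one_mul, hχt]
        obtain ⟨p, q, hpq | hpq⟩ := D.exists_form (⟨_, h⟩ : ↥(S : Subgroup G))
        · have he : a * (D.t : G) * a⁻¹ = (D.el p q : G) := by
            have := congrArg Subtype.val hpq
            simpa [pow_succ, pow_mul, ht2] using this
          rw [hpq, hχ1]
          exact congrArg Multiplicative.ofAdd (hcast _ _ (D.inner_conj_t hA (isConj_iff.2 ⟨a, he⟩)).1)
        · rw [hpq, hχ2]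
          refine congrArg Multiplicative.ofAdd (hcast _ _ ?_)
          have he : a * (D.t : G) * a⁻¹ = ((D.el p q * D.t : ↥(S : Subgroup G)) : G) := by
            have := congrArg Subtype.val hpq
            simpa [pow_succ, pow_mul, ht2] using this
          have hsq : D.el (p + q) (p + q) = 1 := by
            rw [← D.out_sq]
            refine Subtype.ext ?_
            rw [Subgroup.coe_mul, ← he, conj_mul, ← sq, ht2, mul_one, mul_inv_cancel, Subgroup.coe_one]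
          rw [show p + q + D.h - D.h = p + q by ring]
          exact ((D.el_eq_one _ _).1 hsq).1)
  have hcop : ∀ x : Multiplicative (ZMod (2 ^ n)), (orderOf x).Coprime k := by
    intro x
    have h1 : orderOf x ∣ 2 ^ n := by
      refine (orderOf_dvd_natCard x).trans ?_
      rw [Nat.card_eq_fintype_card, Fintype.card_multiplicative, ZMod.card]
    exact Nat.Coprime.coprime_dvd_left h1 ((Nat.coprime_two_left.2 hk).pow_left n)
  refine ⟨f, ?_, fun s => ?_⟩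
  · rw [← MonoidHom.range_eq_top]
    refine Subgroup.eq_top_of_le_card _ ?_
    have hmem : χ (D.el 1 0) ^ k ∈ f.range := ⟨_, hf _⟩
    have h1 := Subgroup.card_le_of_le (Subgroup.zpowers_le.2 hmem)
    rw [Nat.card_zpowers, (hcop _).orderOf_pow, hχ1, orderOf_ofAdd_eq_addOrderOf] at h1
    rw [Nat.card_eq_fintype_card (α := Multiplicative (ZMod (2 ^ n))), Fintype.card_multiplicative,
      ZMod.card]
    simpa using h1
  · rw [hf]
    constructor
    · intro h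
      have h1 : χ s = 1 := by
        rw [← orderOf_eq_one_iff]
        exact Nat.eq_one_of_dvd_coprimes (hcop (χ s)) dvd_rfl (orderOf_dvd_of_pow_eq_one h)
      obtain ⟨i, j, rfl | rfl⟩ := D.exists_form s
      · rw [hχ1, ofAdd_eq_one, ZMod.intCast_zmod_eq_zero_iff_dvd] at h1
        exact Or.inl ⟨i, j, by convert h1 using 1; rw [N]; push_cast; rfl, rfl⟩
      · rw [hχ2, ofAdd_eq_one, ZMod.intCast_zmod_eq_zero_iff_dvd] at h1
        refine Or.inr ⟨i, j, ?_, rfl⟩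
        rw [show i + j - D.h = (i + j + D.h) - 2 * D.h by ring, ← D.N_eq]
        refine dvd_sub ?_ dvd_rfl
        rw [show D.N = ((2 ^ n : ℕ) : ℤ) by rw [N]; push_cast; rfl]
        exact h1
    · rintro (⟨i, j, hij, rfl⟩ | ⟨i, j, hij, rfl⟩)
      · rw [hχ1, hcast (i + j) 0 (by rwa [sub_zero]), Int.cast_zero, ofAdd_zero, one_pow]
      · rw [hχ2, hcast (i + j + D.h) 0 (by
          rw [sub_zero, show i + j + D.h = (i + j - D.h) + 2 * D.h by ring, ← D.N_eq]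
          exact dvd_add hij dvd_rfl), Int.cast_zero, ofAdd_zero, one_pow]

theorem setup {U Q : Subgroup G} (hUS : U ≤ S) (hUab : IsMulCommutative U)
    (hUcard : Nat.card U = 2 ^ (2 * n)) (hQS : Q ≤ S) (eQ : Q ≃* QuaternionGroup 2) :
    U = D.Ag ∧ ∃ i : ℤ,
      Q ⊔ ((Subgroup.center (S : Subgroup G)).map (S : Subgroup G).subtype) = D.Eg i := by
  refine ⟨D.Ag_unique hUS (fun a ha b hb => congrArg Subtype.val (hUab.is_comm.comm ⟨a, ha⟩ ⟨b, hb⟩))
    (by rw [hUcard, Ag, Subgroup.card_map_of_injective (S : Subgroup G).subtype_injective, D.card_A]), ?_⟩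
  obtain ⟨i, hi⟩ := D.quat_sup_center ((Subgroup.subgroupOfEquivOfLe hQS).trans eQ)
  refine ⟨i, ?_⟩
  rw [Eg, ← hi, Subgroup.map_sup, Subgroup.map_subgroupOf_eq_of_le hQS]

theorem odd_mem_of_index {K : Subgroup G} [K.Normal] {k : ℕ} (hK : K.index = 2 ^ k) {a : G}
    (ha : Odd (orderOf a)) : a ∈ K := by
  haveI : Fact (Nat.Prime 2) := ⟨Nat.prime_two⟩
  exact pResidual_le_of_isPGroup_quotient
    (IsPGroup.of_card (n := k) (by rw [← Subgroup.index_eq_card, hK]))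
    (Subgroup.subset_closure (Nat.coprime_two_right.2 ha))

theorem A_le_index_two (hA : D.FusedA) {H : Subgroup G} (hH : H.index = 2) : D.Ag ≤ H := by
  obtain ⟨hsq, hcj, -⟩ := index_two_facts hH
  have heven : ∀ c d : ℤ, (D.el (2 * c) (2 * d) : G) ∈ H := fun c d => by
    have := hsq (D.el c d : G)
    rwa [← Subgroup.coe_mul, D.el_mul, ← two_mul, ← two_mul] at this
  obtain ⟨a, ha, -, hau, -⟩ := D.A_action.2.2.1 (D.A_index_iff.1.2 hA)
  have hw : (D.el 1 1 : G) ∈ H := by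
    have := hsq ((D.el 1 0 * D.t : ↥(S : Subgroup G)) : G)
    rwa [← Subgroup.coe_mul, D.out_sq, add_zero] at this
  obtain ⟨w1, hw1, hw1e⟩ : a * (D.el 1 1 : G) * a⁻¹ ∈ D.Ag :=
    (Subgroup.mem_normalizer_iff.1 ha _).1 (D.mem_Ag.2 (D.el_mem 1 1))
  obtain ⟨p, q, rfl⟩ := hw1
  have hpq : (D.el p q : G) = a * (D.el 1 1 : G) * a⁻¹ := hw1e
  obtain ⟨c, d, hc, hd⟩ : ∃ c d : ℤ, 1 - p = 2 * c ∧ -q = 2 * d := by
    have h1 : D.el p q ^ D.h = D.el D.h 0 := by
      refine Subtype.ext ?_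
      rw [Subgroup.coe_zpow, hpq, conj_zpow, ← Subgroup.coe_zpow, D.el_zpow, one_mul]
      exact hau
    rw [D.el_zpow, D.el_eq_iff] at h1
    obtain ⟨⟨x, hx⟩, ⟨y, hy⟩⟩ := h1
    rw [D.N_eq] at hx hy
    refine ⟨-x, -y, ?_, ?_⟩
    · exact mul_left_cancel₀ D.h_pos.ne' (by linear_combination -hx)
    · exact mul_left_cancel₀ D.h_pos.ne' (by linear_combination -hy)
  have h10 : (D.el 1 0 : G) ∈ H := by
    rw [show (D.el 1 0 : G) = (D.el p q : G) * (D.el (2 * c) (2 * d) : G) by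
      rw [← Subgroup.coe_mul, D.el_mul, ← hc, ← hd]; congr 2 <;> ring]
    exact mul_mem (hpq ▸ (hcj a _).1 hw) (heven c d)
  rintro _ ⟨_, ⟨i, j, rfl⟩, rfl⟩
  show (D.el i j : G) ∈ H
  rw [show D.el i j = D.el 1 1 ^ j * D.el 1 0 ^ (i - j) by
    rw [D.el_zpow, D.el_zpow, D.el_mul]; congr 1 <;> ring, Subgroup.coe_mul, Subgroup.coe_zpow,
    Subgroup.coe_zpow]
  exact mul_mem (zpow_mem hw j) (zpow_mem h10 _)

theorem no_index_two (hA : D.FusedA) (hE : D.FusedE) (H : Subgroup G) : H.index ≠ 2 := by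
  intro hH
  have hle := D.A_le_index_two hA hH
  obtain ⟨c, hc⟩ := isConj_iff.1 hE
  have hf : D.fg 0 ∈ H := hc ▸ ((index_two_facts hH).2.1 c _).1 (hle (D.mem_Ag.2 (D.el_mem D.h 0)))
  refine index_ne_two_of_sylow_le S (fun s hs => ?_) hH
  obtain ⟨i, j, h | h⟩ := D.exists_form (⟨s, hs⟩ : ↥(S : Subgroup G))
  · rw [show s = (D.el i j : G) from congrArg Subtype.val h]
    exact hle (D.mem_Ag.2 (D.el_mem i j))
  · rw [show s = (D.el i j : G) * D.fg 0 by
      rw [show s = ((D.el i j * D.t : ↥(S : Subgroup G)) : G) from congrArg Subtype.val h, fg, neg_zero,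
        D.el_zero, one_mul, Subgroup.coe_mul]]
    exact mul_mem (hle (D.mem_Ag.2 (D.el_mem i j))) hf

theorem exists_K_abelian (hA : D.FusedA) (hE : ¬ D.FusedE) :
    ∃ K : Subgroup G, K.Normal ∧ K.index = 2 ∧ D.Ag ≤ K ∧ ∀ H : Subgroup K, H.index ≠ 2 := by
  haveI : Fact (Nat.Prime 2) := ⟨Nat.prime_two⟩
  have ht : (D.t : G) = D.fg 0 := by rw [fg, neg_zero, D.el_zero, one_mul]
  have ht2 : (D.t : G) ^ 2 = 1 := by rw [sq]; exact congrArg Subtype.val D.t_sq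
  obtain ⟨K, hKn, hK, htK⟩ := exists_index_two_of_controlled S (M := D.Ag) (by
      rw [Ag, Subgroup.relIndex, Subgroup.subgroupOf, Subgroup.comap_map_eq_self_of_injective
        (S : Subgroup G).subtype_injective]
      exact D.index_A) D.t.2 (fun h => D.t_not_mem (D.mem_Ag.1 h)) (fun m a hmem => by
    constructor
    · intro hM
      by_contra hodd
      obtain ⟨c, rfl⟩ := Nat.not_even_iff_odd.1 hodd
      rw [pow_succ, pow_mul, ht2, one_pow, one_mul] at hM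
      obtain ⟨s, ⟨p, q, rfl⟩, hse⟩ := hM
      have hconj : IsConj (D.fg 0) (D.el p q : G) := isConj_iff.2 ⟨a, by rw [← ht]; exact hse.symm⟩
      have ho : orderOf (D.el p q : G) = 2 := by
        obtain ⟨b, hb⟩ := isConj_iff.1 hconj
        rw [← hb, show b * D.fg 0 * b⁻¹ = MulAut.conj b (D.fg 0) from rfl, MulEquiv.orderOf_eq,
          D.orderOf_fg]
      rw [Subgroup.orderOf_coe] at ho
      rcases D.invol_cases ho with he | he | he | ⟨k, he⟩
      · rw [he] at hconj; exact hE hconj.symm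
      · rw [he] at hconj; exact hE (D.isConj_eg'.trans hconj.symm)
      · rw [he] at hconj; exact hE (D.fusedE_of_ug hconj.symm).1
      · exact D.out_not_mem k (-k) (he ▸ D.el_mem p q)
    · rintro ⟨c, rfl⟩
      rw [← two_mul, pow_mul, ht2, one_pow, mul_one, mul_inv_cancel]
      exact one_mem _)
  haveI := hKn
  have hAK := D.A_le_index_two hA hK
  refine ⟨K, hKn, hK, hAK, fun H hH => ?_⟩
  obtain ⟨hsq, hcj, hxor⟩ := index_two_facts hH
  obtain ⟨a, ha, hao, hau, hae⟩ := D.A_action.2.2.1 (D.A_index_iff.1.2 hA)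
  have haK : a ∈ K := D.odd_mem_of_index (k := 1) (by rw [hK, pow_one]) hao
  have hel : ∀ i j : ℤ, (D.el i j : G) ∈ K := fun i j => hAK (D.mem_Ag.2 (D.el_mem i j))
  let P : ℤ → ℤ → Prop := fun i j => (⟨_, hel i j⟩ : K) ∈ H
  have hadd : ∀ i j k l : ℤ, P (i + k) (j + l) ↔ (P i j ↔ P k l) := fun i j k l => by
    refine Iff.trans ?_ (hxor ⟨_, hel i j⟩ ⟨_, hel k l⟩)
    rw [show (⟨_, hel i j⟩ : K) * ⟨_, hel k l⟩ = ⟨_, hel (i + k) (j + l)⟩ from
      Subtype.ext (show (D.el i j : G) * (D.el k l : G) = (D.el (i + k) (j + l) : G) from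
        congrArg Subtype.val (D.el_mul i j k l))]
  have heven : ∀ c d : ℤ, P (2 * c) (2 * d) := fun c d => by
    rw [two_mul, two_mul, hadd]
  have hpar : ∀ i j k l : ℤ, 2 ∣ i - k → 2 ∣ j - l → (P i j ↔ P k l) := by
    rintro i j k l ⟨c, hc⟩ ⟨d, hd⟩
    have := (hadd k l (2 * c) (2 * d))
    rw [show k + 2 * c = i by linarith, show l + 2 * d = j by linarith] at this
    simp only [heven c d, iff_true] at this
    exact this
  have himg : ∀ (x : ↥(S : Subgroup G)) i j, a * (x : G) * a⁻¹ = (D.el i j : G) →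
      ∀ k l, x = D.el k l → (P k l ↔ P i j) := by
    rintro _ i j he k l rfl
    refine (hcj ⟨a, haK⟩ ⟨_, hel k l⟩).trans ?_
    rw [show (⟨a, haK⟩ : K) * ⟨_, hel k l⟩ * (⟨a, haK⟩ : K)⁻¹ = ⟨_, hel i j⟩ from Subtype.ext he]
  have hcl : ∀ k l : ℤ, ∃ i j : ℤ, a * (D.el k l : G) * a⁻¹ = (D.el i j : G) := by
    intro k l
    obtain ⟨w, ⟨i, j, rfl⟩, hw⟩ := (Subgroup.mem_normalizer_iff.1 ha _).1 (D.mem_Ag.2 (D.el_mem k l))
    exact ⟨i, j, hw.symm⟩
  have hpow : ∀ k l i j : ℤ, a * (D.el k l : G) * a⁻¹ = (D.el i j : G) →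
      a * (D.el (k * D.h) (l * D.h) : G) * a⁻¹ = (D.el (i * D.h) (j * D.h) : G) := fun k l i j he => by
    rw [← D.el_zpow, ← D.el_zpow, Subgroup.coe_zpow, Subgroup.coe_zpow, ← conj_zpow, he]
  have hmod : ∀ i e : ℤ, D.N ∣ i * D.h - e * D.h → 2 ∣ i - e := fun i e ⟨x, hx⟩ => by
    refine ⟨x, mul_right_cancel₀ D.h_pos.ne' ?_⟩
    rw [D.N_eq] at hx
    linear_combination hx
  obtain ⟨p, q, hpq⟩ := hcl 1 1
  obtain ⟨r, s, hrs⟩ := hcl p q
  have h1 : 2 ∣ p - 1 ∧ 2 ∣ q - 0 := by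
    have h2 := hpow _ _ _ _ hpq
    rw [one_mul] at h2
    obtain ⟨e1, e2⟩ := (D.el_eq_iff _ _ _ _).1 (Subtype.ext ((h2.symm.trans hau)) :
      D.el (p * D.h) (q * D.h) = D.el D.h 0)
    exact ⟨hmod _ _ (by rwa [one_mul]), hmod _ _ (by rwa [zero_mul])⟩
  have h2 : 2 ∣ r - 0 ∧ 2 ∣ s - 1 := by
    have h3 := hpow _ _ _ _ hrs
    have he : D.el (p * D.h) (q * D.h) = D.el D.h 0 := by
      rw [D.el_eq_iff]
      obtain ⟨x, hx⟩ := h1.1
      obtain ⟨y, hy⟩ := h1.2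
      exact ⟨⟨x, by rw [D.N_eq]; linear_combination D.h * hx⟩, ⟨y, by rw [D.N_eq]; linear_combination D.h * hy⟩⟩
    rw [he] at h3
    obtain ⟨e1, e2⟩ := (D.el_eq_iff _ _ _ _).1 (Subtype.ext (h3.symm.trans hae) :
      D.el (r * D.h) (s * D.h) = D.el 0 D.h)
    exact ⟨hmod _ _ (by rwa [zero_mul]), hmod _ _ (by rwa [one_mul])⟩
  have hw12 : P 1 1 ↔ P p q := himg _ p q hpq 1 1 rfl
  have hw23 : P p q ↔ P r s := himg _ r s hrs p q rfl
  have e1 : P p q ↔ P 1 0 := hpar _ _ _ _ h1.1 h1.2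
  have e2 : P r s ↔ P 0 1 := hpar _ _ _ _ h2.1 h2.2
  have e3 : P 1 1 ↔ (P 1 0 ↔ P 0 1) := by
    have := hadd 1 0 0 1
    rwa [add_zero, zero_add] at this
  have h11 : P 1 1 := e3.2 (e1.symm.trans (hw23.trans e2))
  have h10 : P 1 0 := e1.1 (hw12.1 h11)
  have hall : ∀ i j : ℤ, P i j := by
    intro i j
    rcases Int.even_or_odd i with ⟨c, hc⟩ | ⟨c, hc⟩ <;> rcases Int.even_or_odd j with ⟨d, hd⟩ | ⟨d, hd⟩
    · exact (hpar i j (2 * 0) (2 * 0) ⟨c, by omega⟩ ⟨d, by omega⟩).2 (heven 0 0)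
    · exact (hpar i j 0 1 ⟨c, by omega⟩ ⟨d, by omega⟩).2 (e2.1 (hw23.1 (hw12.1 h11)))
    · exact (hpar i j 1 0 ⟨c, by omega⟩ ⟨d, by omega⟩).2 h10
    · exact (hpar i j 1 1 ⟨c, by omega⟩ ⟨d, by omega⟩).2 h11
  have h1' : SylIn 2 ((S : Subgroup G) ⊓ K) K :=
    (sylIn_top S).inf_normal le_top (Subgroup.normalizer_eq_top K).ge
  obtain ⟨P', hP'⟩ := h1'.exists_sylow_subgroupOf
  refine index_ne_two_of_sylow_le P' ?_ hH
  rintro ⟨x, hxK⟩ hx
  rw [hP'] at hx
  obtain ⟨i, j, h | h⟩ := D.exists_form (⟨x, hx.1⟩ : ↥(S : Subgroup G))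
  · rw [show (⟨x, hxK⟩ : K) = ⟨_, hel i j⟩ from Subtype.ext (congrArg Subtype.val h :)]
    exact hall i j
  · refine absurd ?_ htK
    have hx' : x = (D.el i j : G) * (D.t : G) := congrArg Subtype.val h
    rw [hx'] at hxK
    exact (K.mul_mem_cancel_left (hel i j)).1 hxK

theorem outer_Y_commute {i : ℤ} {s : ↥(S : Subgroup G)} (hs : s ∈ D.Y) (ho : orderOf s = 4)
    (hc : Commute s (D.el i (-i) * D.t)) :
    s = D.el (i + D.q4) (D.q4 - i) * D.t ∨ s = (D.el (i + D.q4) (D.q4 - i) * D.t)⁻¹ := by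
  rcases hs with ⟨k, l, hkl, rfl⟩ | ⟨k, l, hkl, rfl⟩
  · exfalso
    have h1 := (D.commute_out_el _ _ _ _).1 hc
    have h2 : orderOf (D.el k l) ∣ 2 := by
      refine orderOf_dvd_of_pow_eq_one ?_
      rw [sq, D.el_mul, D.el_eq_one]
      exact ⟨by rw [show k + k = (k + l) + (k - l) by ring]; exact dvd_add hkl h1,
        by rw [show l + l = (k + l) - (k - l) by ring]; exact dvd_sub hkl h1⟩
    rw [ho] at h2; norm_num at h2
  · have h1 := hc.eq
    rw [D.out_mul_out, D.out_mul_out, D.el_eq_iff] at h1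
    have h2 : D.N ∣ 2 * (k - i - D.q4) := by
      rw [show 2 * (k - i - D.q4) = (k + -i - (i + l)) + (k + l - D.h) by rw [← D.two_q4]; ring]
      exact dvd_add h1.1 hkl
    rw [D.N_eq, mul_dvd_mul_iff_left two_ne_zero] at h2
    rcases D.h_dvd_cases h2 with h3 | h3
    · left
      rw [mul_left_inj, D.el_eq_iff]
      exact ⟨by rw [show k - (i + D.q4) = k - i - D.q4 by ring]; exact h3, by
        rw [show l - (D.q4 - i) = (k + l - D.h) - (k - i - D.q4) by rw [← D.two_q4]; ring]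
        exact dvd_sub hkl h3⟩
    · right
      rw [mul_inv_rev, D.t_inv, D.el_inv, D.t_mul_el, mul_left_inj, D.el_eq_iff]
      constructor
      · rw [show k - -(D.q4 - i) = k - i - D.q4 - D.h + 2 * D.h - 0 * D.N by rw [← D.two_q4]; ring,
          ← D.N_eq]
        exact dvd_sub (dvd_add h3 dvd_rfl) (dvd_mul_left _ _)
      · rw [show l - -(i + D.q4) = (k + l - D.h) - (k - i - D.q4 - D.h) by rw [← D.two_q4]; ring]
        exact dvd_sub hkl h3

theorem kernel_perfect (hE : D.FusedE) {K : Subgroup G} [K.Normal] (hK : K.index = 2 ^ n)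
    (hKS : ∀ s : ↥(S : Subgroup G), (s : G) ∈ K ↔ s ∈ D.Y) (H : Subgroup K) : H.index ≠ 2 := by
  intro hH
  haveI : Fact (Nat.Prime 2) := ⟨Nat.prime_two⟩
  obtain ⟨hsq, hcj, hxor⟩ := index_two_facts hH
  have hp0Y : D.el D.q4 (-D.q4) ∈ D.Y := Or.inl ⟨_, _, by simp, rfl⟩
  have hpY : ∀ i : ℤ, D.el (i + D.q4) (D.q4 - i) * D.t ∈ D.Y := fun i =>
    Or.inr ⟨_, _, by rw [← D.two_q4]; exact ⟨0, by ring⟩, rfl⟩
  have hordp : ∀ i : ℤ, orderOf (D.el (i + D.q4) (D.q4 - i) * D.t) = 4 := by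
    intro i
    have h2 : (D.el (i + D.q4) (D.q4 - i) * D.t) ^ 2 = D.el D.h D.h := by
      rw [sq, D.out_sq, show i + D.q4 + (D.q4 - i) = 2 * D.q4 by ring, D.two_q4]
    refine orderOf_eq_prime_pow (p := 2) (n := 1) ?_ ?_
    · rw [pow_one, h2]; intro h; exact D.not_N_dvd_h ((D.el_eq_one _ _).1 h).1
    · rw [pow_succ, pow_one, pow_mul, h2, sq]; exact invol_mul_self D.orderOf_u
  have hord0 : orderOf (D.el D.q4 (-D.q4)) = 4 := by
    have h2 : D.el D.q4 (-D.q4) ^ 2 = D.el D.h D.h := by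
      rw [sq, D.el_mul, D.el_eq_iff, ← D.two_q4]
      exact ⟨by ring_nf; simp, ⟨-1, by rw [← D.four_q4]; ring⟩⟩
    refine orderOf_eq_prime_pow (p := 2) (n := 1) ?_ ?_
    · rw [pow_one, h2]; intro h; exact D.not_N_dvd_h ((D.el_eq_one _ _).1 h).1
    · rw [pow_succ, pow_one, pow_mul, h2, sq]; exact invol_mul_self D.orderOf_u
  have huY : D.el D.h D.h ∈ D.Y := Or.inl ⟨_, _, ⟨1, by rw [D.N_eq]; ring⟩, rfl⟩
  let P : ↥(S : Subgroup G) → Prop := fun s => ∃ hs : (s : G) ∈ K, (⟨_, hs⟩ : K) ∈ H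
  have hPmk : ∀ (s : ↥(S : Subgroup G)) (hs : (s : G) ∈ K), P s → (⟨_, hs⟩ : K) ∈ H := fun s hs h => h.2
  have hPinv : ∀ s, P s → P s⁻¹ := fun s h => ⟨inv_mem h.1, inv_mem h.2⟩
  have hPu : P (D.el D.h D.h) := by
    have hp := (hKS _).2 (hpY 0)
    refine ⟨(hKS _).2 huY, ?_⟩
    have := hsq (⟨_, hp⟩ : K)
    convert this using 1
    refine Subtype.ext ?_
    show (D.el D.h D.h : G) = _
    rw [show ((⟨_, hp⟩ : K) * ⟨_, hp⟩ : K).1 = (((D.el (0 + D.q4) (D.q4 - 0) * D.t) *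
      (D.el (0 + D.q4) (D.q4 - 0) * D.t) : ↥(S : Subgroup G)) : G) from rfl, D.out_sq,
      show 0 + D.q4 + (D.q4 - 0) = 2 * D.q4 by ring, D.two_q4]
  have key : ∀ i : ℤ, P (D.el (i + D.q4) (D.q4 - i) * D.t) := by
    intro i
    obtain ⟨a, ha, hao, h0, h1, -⟩ := (D.E_action i).2.2.1 ((D.E_index_iff i).1.2 hE)
    have haK : a ∈ K := D.odd_mem_of_index hK hao
    have hstep : ∀ (x : ↥(S : Subgroup G)) (f g : G) (j : ℤ),
        cj (D.Eg i ⊓ Subgroup.centralizer ({f} : Set G)) a = D.Eg i ⊓ Subgroup.centralizer ({g} : Set G) →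
        g = D.fg j → x ∈ D.E i → (x : G) * f = f * x → orderOf x = 4 → x ∈ D.Y →
        (P x ↔ P (D.el (j + D.q4) (D.q4 - j) * D.t)) := by
      intro x f g j hcjM hg hxE hxf hxo hxY
      have hm : a * (x : G) * a⁻¹ ∈ D.Eg i ⊓ Subgroup.centralizer ({g} : Set G) := by
        rw [← hcjM]
        exact conj_mem_cj (Subgroup.mem_inf.2 ⟨D.mem_Eg.2 hxE, Subgroup.mem_centralizer_singleton_iff.2 hxf⟩)
      obtain ⟨hmE, hmC⟩ := Subgroup.mem_inf.1 hm
      obtain ⟨y, hy, hye⟩ := hmE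
      have hye' : (y : G) = a * (x : G) * a⁻¹ := hye
      have hxK : (x : G) ∈ K := (hKS x).2 hxY
      have hyK : (y : G) ∈ K := hye' ▸ Subgroup.Normal.conj_mem inferInstance _ hxK a
      have hyo : orderOf y = 4 := by
        rw [← Subgroup.orderOf_coe, hye', show a * (x : G) * a⁻¹ = MulAut.conj a (x : G) from rfl,
          MulEquiv.orderOf_eq, Subgroup.orderOf_coe, hxo]
      have hiff : P x ↔ P y := by
        have heq : (⟨a, haK⟩ : K) * ⟨_, hxK⟩ * (⟨a, haK⟩ : K)⁻¹ = ⟨_, hyK⟩ := Subtype.ext hye'.symm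
        exact ⟨fun h => ⟨hyK, heq ▸ (hcj _ _).1 h.2⟩, fun h => ⟨hxK, (hcj _ _).2 (heq.symm ▸ h.2)⟩⟩
      rw [hiff]
      have hcm : Commute y (D.el j (-j) * D.t) := Subtype.ext (by
        have := Subgroup.mem_centralizer_singleton_iff.1 hmC
        rw [← hye', hg] at this
        exact this)
      rcases D.outer_Y_commute ((hKS y).1 hyK) hyo hcm with he | he <;> rw [he]
      exact ⟨fun h => by simpa using hPinv _ h, fun h => hPinv _ h⟩
    have hqh : D.q4 - -D.q4 = D.h := by rw [← D.two_q4]; ring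
    have hp0E : D.el D.q4 (-D.q4) ∈ D.E i := D.el_mem_E.2 (by rw [hqh])
    have hp1E : D.el (i + D.q4) (D.q4 - i) * D.t ∈ D.E i := D.out_mem_E.2 (by
      rw [show i + D.q4 - (D.q4 - i) - 2 * i = 0 by ring]; exact dvd_zero _)
    have e1 := hstep (D.el D.q4 (-D.q4)) D.eg (D.fg i) i h0 rfl hp0E
      (congrArg Subtype.val (D.A_comm (D.el_mem D.q4 (-D.q4)) (D.el_mem D.h 0))) hord0 hp0Y
    have e2 := hstep (D.el (i + D.q4) (D.q4 - i) * D.t) (D.fg i) (D.fg (i - D.q4)) (i - D.q4) h1 rfl hp1E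
      (by
        refine congrArg Subtype.val (?_ : _ * (D.el i (-i) * D.t) = D.el i (-i) * D.t * _)
        rw [D.out_mul_out, D.out_mul_out]; congr 1 <;> ring) (hordp i) (hpY i)
    have hprod : D.el (i - D.q4 + D.q4) (D.q4 - (i - D.q4)) * D.t =
        D.el D.q4 (-D.q4) * (D.el (i + D.q4) (D.q4 - i) * D.t) * D.el D.h D.h := by
      rw [← mul_assoc (D.el D.q4 (-D.q4)), D.el_mul, mul_assoc _ D.t, D.t_mul_el, ← mul_assoc, D.el_mul,
        mul_left_inj, D.el_eq_iff]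
      exact ⟨⟨-1, by rw [← D.four_q4, ← D.two_q4]; ring⟩, ⟨0, by rw [← D.two_q4]; ring⟩⟩
    have hK0 := (hKS _).2 hp0Y
    have hK1 := (hKS _).2 (hpY i)
    have hxor' : P (D.el (i - D.q4 + D.q4) (D.q4 - (i - D.q4)) * D.t) ↔
        (P (D.el D.q4 (-D.q4)) ↔ P (D.el (i + D.q4) (D.q4 - i) * D.t)) := by
      have hK2 := (hKS _).2 (hpY (i - D.q4))
      have heq : (⟨_, hK2⟩ : K) = ⟨_, hK0⟩ * ⟨_, hK1⟩ * ⟨_, hPu.1⟩ := Subtype.ext (congrArg Subtype.val hprod :)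
      constructor
      · intro h
        have h' := h.2
        rw [heq, Subgroup.mul_mem_cancel_right _ hPu.2] at h'
        have := (hxor _ _).1 h'
        exact ⟨fun h0' => ⟨hK1, this.1 h0'.2⟩, fun h1' => ⟨hK0, this.2 h1'.2⟩⟩
      · intro h
        refine ⟨hK2, ?_⟩
        rw [heq, Subgroup.mul_mem_cancel_right _ hPu.2]
        exact (hxor _ _).2 ⟨fun h0' => hPmk _ _ (h.1 ⟨hK0, h0'⟩), fun h1' => hPmk _ _ (h.2 ⟨hK1, h1'⟩)⟩
    exact e2.2 (hxor'.2 e1)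
  have h1' : SylIn 2 ((S : Subgroup G) ⊓ K) K :=
    (sylIn_top S).inf_normal le_top (Subgroup.normalizer_eq_top K).ge
  obtain ⟨P', hP'⟩ := h1'.exists_sylow_subgroupOf
  refine index_ne_two_of_sylow_le P' ?_ hH
  rintro ⟨x, hxK⟩ hx
  rw [hP'] at hx
  obtain ⟨s, hsx⟩ : ∃ s : ↥(S : Subgroup G), (s : G) = x := ⟨⟨x, hx.1⟩, rfl⟩
  subst hsx
  refine hPmk s hxK ?_
  have hmulP : ∀ a b, P a → P b → P (a * b) := fun a b ha hb => ⟨mul_mem ha.1 hb.1, mul_mem ha.2 hb.2⟩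
  rcases (hKS s).1 hxK with ⟨i, j, hij, rfl⟩ | ⟨i, j, hij, rfl⟩
  · have he : D.el i j = D.el (i + D.q4) (D.q4 - i) * D.t * (D.el (0 + D.q4) (D.q4 - 0) * D.t)⁻¹ := by
      rw [mul_inv_rev, D.t_inv, D.el_inv, ← mul_assoc, mul_assoc _ D.t D.t, D.t_sq, mul_one, D.el_mul,
        D.el_eq_iff]
      refine ⟨⟨0, by ring⟩, ?_⟩
      rw [show j - (D.q4 - i + -(D.q4 - 0)) = i + j by ring]
      exact hij
    rw [he]
    exact hmulP _ _ (key i) (hPinv _ (key 0))
  · rw [show D.el i j * D.t = D.el (i - D.q4 + D.q4) (D.q4 - (i - D.q4)) * D.t by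
      rw [mul_left_inj, D.el_eq_iff]
      exact ⟨⟨0, by ring⟩, by
        rw [show j - (D.q4 - (i - D.q4)) = i + j - D.h by rw [← D.two_q4]; ring]; exact hij⟩]
    exact key _

theorem center_weaklyClosed_all (hA : ¬ D.FusedA) (Z₀ : Subgroup G)
    (hZ : Z₀ ≤ (Subgroup.center (S : Subgroup G)).map (S : Subgroup G).subtype) :
    Cfsg.IsWeaklyClosed Z₀ (S : Subgroup G) := by
  have hu : ∀ g : G, g * D.ug * g⁻¹ ∈ (S : Subgroup G) → g * D.ug * g⁻¹ = D.ug := by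
    intro g hg
    obtain ⟨s, hs⟩ : ∃ s : ↥(S : Subgroup G), (s : G) = g * D.ug * g⁻¹ := ⟨⟨_, hg⟩, rfl⟩
    have hconj : IsConj D.ug (s : G) := isConj_iff.2 ⟨g, hs.symm⟩
    have ho : orderOf s = 2 := by
      rw [← Subgroup.orderOf_coe, hs, show g * D.ug * g⁻¹ = MulAut.conj g D.ug from rfl,
        MulEquiv.orderOf_eq, D.orderOf_ug]
    rw [← hs]
    rcases D.invol_cases ho with rfl | rfl | rfl | ⟨i, rfl⟩
    · exact absurd hconj hA
    · exact absurd (hconj.trans D.isConj_eg'.symm) hA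
    · rfl
    · exact absurd (D.fusedE_of_ug hconj).2 hA
  refine ⟨hZ.trans (Subgroup.map_subtype_le _), fun g hg => ?_⟩
  have hfix : ∀ z ∈ Z₀, g * z * g⁻¹ = z := by
    intro z hz
    obtain ⟨y, hy, rfl⟩ := hZ hz
    exact center_isolated_of_wreathed S D hu hy g (hg ⟨_, hz, rfl⟩)
  ext w
  constructor
  · rintro ⟨z, hz, rfl⟩
    show g * z * g⁻¹ ∈ Z₀
    rwa [hfix z hz]
  · intro hw
    exact ⟨w, hw, hfix w hw⟩

theorem hnpc_of_no_fusion (hA : ¬ D.FusedA) (hE : ¬ D.FusedE) : Cfsg.HasNormalPComplement 2 G := by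
  haveI : Fact (Nat.Prime 2) := ⟨Nat.prime_two⟩
  haveI : NeZero (2 ^ n : ℕ) := ⟨pow_ne_zero _ two_ne_zero⟩
  obtain ⟨f, -, hfY⟩ := D.exists_kernel hA
  -- the character with kernel `A`
  classical
  let χ : ↥(S : Subgroup G) →* Multiplicative (ZMod 2) :=
    MonoidHom.mk' (fun s => if s ∈ D.A then 1 else Multiplicative.ofAdd 1) (fun a b => by
      by_cases ha : a ∈ D.A <;> by_cases hb : b ∈ D.A <;>
        simp [Subgroup.mul_mem_iff_of_index_two D.index_A, ha, hb]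
      exact mul_zmod_two_facts.1)
  have hχA : ∀ i j : ℤ, χ (D.el i j) = 1 := fun i j => if_pos (D.el_mem i j)
  have hχt : χ D.t = Multiplicative.ofAdd 1 := if_neg D.t_not_mem
  have hχo : ∀ i j : ℤ, χ (D.el i j * D.t) = Multiplicative.ofAdd 1 := fun i j => if_neg (D.out_not_mem i j)
  have ht : (D.t : G) = D.fg 0 := by rw [fg, neg_zero, D.el_zero, one_mul]
  have ht2 : (D.t : G) ^ 2 = 1 := by rw [sq]; exact congrArg Subtype.val D.t_sq
  obtain ⟨f₂, k, hk, hf₂⟩ := D.exists_extension χ (fun m a h => by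
      rw [hχA 1 0, one_pow]
      obtain ⟨p, q, hpq | hpq⟩ := D.exists_form (⟨_, h⟩ : ↥(S : Subgroup G))
      · rw [hpq, hχA]
      · exfalso
        obtain ⟨e1, e2⟩ := D.outer_conj_pow hA (m := m) (isConj_iff.2 ⟨a, congrArg Subtype.val hpq⟩)
        refine hE (IsConj.trans (isConj_iff.2 ⟨a, ?_⟩) (D.isConj_refl_refl p 0))
        show a * (D.el D.h 0 : G) * a⁻¹ = ((D.el p (-p) * D.t : ↥(S : Subgroup G)) : G)
        rw [show D.el p (-p) * D.t = D.el p q * D.t by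
          rw [mul_left_inj, D.el_eq_iff]
          exact ⟨by simp, by rw [show -p - q = -(p + q) by ring]; exact e1.neg_right⟩,
          show D.el D.h 0 = D.el (m : ℤ) 0 by
            rw [D.el_eq_iff]
            exact ⟨by rw [show D.h - (m : ℤ) = -((m : ℤ) - D.h) by ring]; exact e2.neg_right, by simp⟩,
          show D.el (m : ℤ) 0 = D.el 1 0 ^ m by rw [← zpow_natCast, D.el_zpow, one_mul, zero_mul],
          Subgroup.coe_pow]
        exact congrArg Subtype.val hpq)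
    (fun m a h => by
      rcases Nat.even_or_odd' m with ⟨c, rfl | rfl⟩
      · have hz : (⟨_, h⟩ : ↥(S : Subgroup G)) = 1 :=
          Subtype.ext (by show a * (D.t : G) ^ (2 * c) * a⁻¹ = 1; rw [pow_mul, ht2, one_pow]; group)
        rw [hz, map_one, pow_mul, hχt, mul_zmod_two_facts.2.1, one_pow]
      · obtain ⟨p, q, hpq | hpq⟩ := D.exists_form (⟨_, h⟩ : ↥(S : Subgroup G))
        · exfalso
          have he : a * (D.t : G) * a⁻¹ = (D.el p q : G) := by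
            have := congrArg Subtype.val hpq
            simpa [pow_succ, pow_mul, ht2] using this
          exact hE (D.inner_conj_t hA (isConj_iff.2 ⟨a, he⟩)).2
        · rw [hpq, hχo, hχt, pow_succ, pow_mul, mul_zmod_two_facts.2.1, one_pow, one_mul])
  set L := f.ker ⊓ f₂.ker with hL
  have hidx : L.index ∣ 2 ^ (n + 1) := by
    rw [hL, ← Subgroup.relIndex_mul_index (inf_le_left : f.ker ⊓ f₂.ker ≤ f.ker), Subgroup.inf_relIndex_left,
      pow_succ']
    refine Nat.mul_dvd_mul ((Subgroup.relIndex_dvd_index_of_normal f₂.ker f.ker).trans ?_) ?_ <;>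
      rw [Subgroup.index_ker] <;> refine (Subgroup.card_subgroup_dvd_card _).trans ?_ <;>
      rw [Nat.card_eq_fintype_card, Fintype.card_multiplicative, ZMod.card]
  obtain ⟨j, -, hj⟩ := (Nat.dvd_prime_pow Nat.prime_two).1 hidx
  refine hnpc_of_normal_cyclic S hj ?_
  have hle : (S : Subgroup G) ⊓ L ≤
      (Subgroup.zpowers (D.el 1 (-1))).map (S : Subgroup G).subtype := by
    rintro x ⟨hxS, hx1, hx2⟩
    obtain ⟨s, hs⟩ : ∃ s : ↥(S : Subgroup G), (s : G) = x := ⟨⟨x, hxS⟩, rfl⟩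
    subst hs
    refine ⟨s, ?_, rfl⟩
    rcases (hfY s).1 hx1 with ⟨p, q, hpq, rfl⟩ | ⟨p, q, hpq, rfl⟩
    · refine ⟨p, ?_⟩
      show D.el 1 (-1) ^ p = D.el p q
      rw [D.el_zpow, D.el_eq_iff, one_mul, sub_self]
      exact ⟨dvd_zero _, by rw [show -1 * p - q = -(p + q) by ring]; exact hpq.neg_right⟩
    · exfalso
      have h := hf₂ (D.el p q * D.t)
      obtain ⟨c, rfl⟩ := hk
      rw [show f₂ ((D.el p q * D.t : ↥(S : Subgroup G)) : G) = 1 from hx2, hχo, pow_succ, pow_mul,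
        mul_zmod_two_facts.2.1, one_pow, one_mul] at h
      exact mul_zmod_two_facts.2.2 h.symm
  haveI : IsCyclic ↥((Subgroup.zpowers (D.el 1 (-1))).map (S : Subgroup G).subtype) :=
    isCyclic_of_surjective _ (Subgroup.equivMapOfInjective _ _ (S : Subgroup G).subtype_injective).surjective
  exact isCyclic_of_injective (Subgroup.inclusion hle) (Subgroup.inclusion_injective hle)

end WRData

end Cfsg.Agent.Fusion
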