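import Cfsg.Agent.Lib.Fusion.Basic
import Mathlib.GroupTheory.Transfer

/-!
Extremal form of the Thompson transfer lemma for a cyclic quotient of a Sylow 2-subgroup.
-/

set_option autoImplicit false
set_option linter.style.haveILetI false

namespace Cfsg.Agent.Fusion

variable {G : Type*} [Group G] [Finite G]

open MulAction in
theorem extremal_transfer_cyclic_of_kills (S : Sylow 2 G) (T : Subgroup G) (hTS : T ≤ S)
    [hTn : (T.subgroupOf (S : Subgroup G)).Normal]
    (hcyc : IsCyclic (↥(S : Subgroup G) ⧸ T.subgroupOf (S : Subgroup G)))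
    {y : G} (hy : orderOf y = 2) (hyS : y ∈ S) (hyT : y ∉ T)
    (hkill : ∀ f : G →* (↥(S : Subgroup G) ⧸ T.subgroupOf (S : Subgroup G)), f y = 1) :
    ∃ g : G, g * y * g⁻¹ ∈ T ∧
      ¬ 2 ∣ ((S : Subgroup G) ⊓ Subgroup.centralizer {g * y * g⁻¹}).relIndex
          (Subgroup.centralizer {g * y * g⁻¹}) ∧
      ((S : Subgroup G) ⊓ Subgroup.centralizer {y}).map (MulAut.conj g).toMonoidHom ≤
        (S : Subgroup G) ⊓ Subgroup.centralizer {g * y * g⁻¹} := by
  classical
  haveI : Fact (Nat.Prime 2) := ⟨Nat.prime_two⟩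
  obtain ⟨H, hH⟩ : ∃ H : Subgroup G, H = (S : Subgroup G) := ⟨_, rfl⟩
  obtain ⟨R, hR, hSR⟩ := exists_sylIn_ge (p := 2)
    (S.isPGroup'.to_inf_left (K := Subgroup.centralizer {y})) inf_le_right
  revert hTS hTn hcyc hkill
  rw [← hH] at hSR ⊢
  intro hTS hTn hcyc hkill
  have hyH : y ∈ H := hH ▸ hyS
  haveI := hTn
  letI : CommGroup (↥H ⧸ T.subgroupOf H) := IsCyclic.commGroup
  haveI : H.FiniteIndex := inferInstance
  set ϕ : ↥H →* ↥H ⧸ T.subgroupOf H := QuotientGroup.mk' _ with hϕ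
  have hy2 : y ^ 2 = 1 := hy ▸ pow_orderOf_eq_one y
  obtain ⟨τ, hτ⟩ : ∃ τ, τ = ϕ ⟨y, hyH⟩ := ⟨_, rfl⟩
  have hτ1 : τ ≠ 1 := fun h => hyT ((QuotientGroup.eq_one_iff (N := T.subgroupOf H) ⟨y, hyH⟩).1 (hτ.symm.trans h))
  have hτ2 : τ ^ 2 = 1 := by
    rw [hτ, ← map_pow, show (⟨y, hyH⟩ : ↥H) ^ 2 = 1 from Subtype.ext hy2, map_one]
  -- involutive values are `1` or `τ`
  have hval : ∀ v : ↥H ⧸ T.subgroupOf H, v ^ 2 = 1 → v = 1 ∨ v = τ := by
    intro v hv
    by_contra hne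
    push Not at hne
    haveI := Fintype.ofFinite (↥H ⧸ T.subgroupOf H)
    have h3 := IsCyclic.card_pow_eq_one_le (α := ↥H ⧸ T.subgroupOf H) (n := 2) two_pos
    have hsub : ({1, τ, v} : Finset (↥H ⧸ T.subgroupOf H)) ⊆ Finset.univ.filter fun a => a ^ 2 = 1 := by
      intro a ha
      simp only [Finset.mem_insert, Finset.mem_singleton] at ha
      rcases ha with rfl | rfl | rfl <;> simp [hv, hτ2]
    have h4 := Finset.card_le_card hsub
    rw [Finset.card_eq_three.2 ⟨1, τ, v, hτ1.symm, hne.1.symm, hne.2.symm, rfl⟩] at h4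
    omega
  -- the good and bad fixed cosets
  obtain ⟨F, hF⟩ : ∃ F : Set (G ⧸ H), F = {c | y • c = c} := ⟨_, rfl⟩
  obtain ⟨good, hgood⟩ : ∃ good : Set (G ⧸ H), good = {c | y • c = c ∧ c.out⁻¹ * y * c.out ∈ T} := ⟨_, rfl⟩
  have hinT : ∀ (x : G), x⁻¹ * y * x ∈ T → ∀ h ∈ H, (x * h)⁻¹ * y * (x * h) ∈ T := by
    intro x hx h hh
    rw [show (x * h)⁻¹ * y * (x * h) = h⁻¹ * (x⁻¹ * y * x) * h⁻¹⁻¹ by group]
    exact hTn.conj_mem ⟨_, hTS hx⟩ hx ⟨h⁻¹, inv_mem hh⟩
  have hyp : IsPGroup 2 ↥(Subgroup.zpowers y) := IsPGroup.of_card (n := 1) (by rw [Nat.card_zpowers, hy, pow_one])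
  have hodd : ¬ 2 ∣ Nat.card (G ⧸ H) := by
    rw [← Subgroup.index_eq_card, hH]; exact S.not_dvd_index
  have hFodd : ¬ 2 ∣ F.ncard := by
    intro hd
    have h1 := hyp.card_modEq_card_fixedPoints (G ⧸ H)
    have h2 : fixedPoints ↥(Subgroup.zpowers y) (G ⧸ H) = F := by
      ext c
      rw [hF]
      constructor
      · exact fun h => h ⟨y, Subgroup.mem_zpowers y⟩
      · rintro (h : y • c = c) ⟨z, i, rfl⟩
        exact Subgroup.zpow_mem (stabilizer G c) h i
    rw [h2, Nat.card_coe_set_eq] at h1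
    exact hodd ((Nat.ModEq.dvd_iff h1 dvd_rfl).2 hd)
  -- transfer
  haveI := Fintype.ofFinite (Quotient (orbitRel (Subgroup.zpowers y) (G ⧸ H)))
  haveI := Fintype.ofFinite (G ⧸ H)
  have htr : MonoidHom.transfer ϕ y = 1 := hkill _
  rw [MonoidHom.transfer_eq_prod_quotient_orbitRel_zpowers_quot] at htr
  obtain ⟨bad, hbad⟩ : ∃ bad : Set (G ⧸ H), bad = F \ good := ⟨_, rfl⟩
  have hper : ∀ c : G ⧸ H, y • c = c → Function.minimalPeriod (y • ·) c = 1 := fun c hc =>
    Function.minimalPeriod_eq_one_iff_isFixedPt.2 hc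
  obtain ⟨Sb, hSb⟩ : ∃ Sb : Finset (Quotient (orbitRel (Subgroup.zpowers y) (G ⧸ H))),
      Sb = Finset.univ.filter fun q => q.out ∈ bad := ⟨_, rfl⟩
  have hterm : ∀ q : Quotient (orbitRel (Subgroup.zpowers y) (G ⧸ H)),
      ϕ ⟨q.out.out⁻¹ * y ^ Function.minimalPeriod (y • ·) q.out * q.out.out,
        QuotientGroup.out_conj_pow_minimalPeriod_mem H y q.out⟩ = if q ∈ Sb then τ else 1 := by
    intro q
    obtain ⟨m, hm⟩ : ∃ m, m = Function.minimalPeriod (y • ·) q.out := ⟨_, rfl⟩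
    have hmem := QuotientGroup.out_conj_pow_minimalPeriod_mem H y q.out
    by_cases hfix : y • q.out = q.out
    · have hm1 : Function.minimalPeriod (y • ·) q.out = 1 := hper _ hfix
      simp only [hm1, pow_one] at hmem ⊢
      have hsq : (⟨q.out.out⁻¹ * y * q.out.out, hmem⟩ : ↥H) ^ 2 = 1 := Subtype.ext (by
        show (q.out.out⁻¹ * y * q.out.out) ^ 2 = 1
        calc _ = q.out.out⁻¹ * y ^ 2 * q.out.out := by rw [pow_two, pow_two]; group
          _ = 1 := by rw [hy2]; group)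
      by_cases hq : q ∈ Sb
      · rw [if_pos hq]
        refine (hval _ (by rw [← map_pow, hsq, map_one])).resolve_left fun h1 => ?_
        rw [hSb, Finset.mem_filter, hbad] at hq
        exact hq.2.2 (hgood ▸ ⟨hfix, (QuotientGroup.eq_one_iff (N := T.subgroupOf H) _).1 h1⟩)
      · rw [if_neg hq]
        refine (QuotientGroup.eq_one_iff (N := T.subgroupOf H) _).2 ?_
        by_contra hnT
        refine hq ?_
        rw [hSb, Finset.mem_filter, hbad]
        refine ⟨Finset.mem_univ _, hF ▸ hfix, fun hg => hnT ?_⟩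
        rw [hgood] at hg
        exact hg.2
    · have hm2 : Function.minimalPeriod (y • ·) q.out ∣ 2 := by
        refine Function.IsPeriodicPt.minimalPeriod_dvd ?_
        show (y • ·)^[2] q.out = q.out
        rw [Function.iterate_succ_apply, Function.iterate_one, ← mul_smul, ← pow_two, hy2, one_smul]
      have hne : Function.minimalPeriod (y • ·) q.out ≠ 1 := fun h =>
        hfix (Function.minimalPeriod_eq_one_iff_isFixedPt.1 h)
      have h22 : Function.minimalPeriod (y • ·) q.out = 2 := ((Nat.dvd_prime Nat.prime_two).1 hm2).resolve_left hne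
      have hq : q ∉ Sb := by
        rw [hSb, Finset.mem_filter, hbad]
        rintro ⟨-, hq, -⟩
        exact hfix (hF ▸ hq : q.out ∈ {c : G ⧸ H | y • c = c})
      rw [if_neg hq]
      have he : (⟨q.out.out⁻¹ * y ^ Function.minimalPeriod (y • ·) q.out * q.out.out, hmem⟩ : ↥H) = 1 :=
        Subtype.ext (show q.out.out⁻¹ * y ^ Function.minimalPeriod (y • ·) q.out * q.out.out = 1 by
          rw [h22, hy2]; group)
      exact (congrArg ϕ he).trans (map_one ϕ)
  rw [Finset.prod_congr rfl fun q _ => hterm q, Finset.prod_ite_mem, Finset.univ_inter, Finset.prod_const] at htr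
  have hbadeven : 2 ∣ Sb.card := (orderOf_eq_prime hτ2 hτ1) ▸ orderOf_dvd_of_pow_eq_one htr
  have hcardbad : Sb.card = bad.ncard := by
    rw [Set.ncard_eq_toFinset_card _ (Set.toFinite _)]
    refine Finset.card_bij (fun q _ => q.out) (fun q hq => ?_) (fun a _ b _ h => ?_) (fun c hc => ?_)
    · rw [hSb, Finset.mem_filter] at hq
      exact (Set.Finite.mem_toFinset _).2 hq.2
    · rw [← Quotient.out_eq a, ← Quotient.out_eq b, h]
    · have hc' := (Set.Finite.mem_toFinset _).1 hc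
      have hfix : y • c = c := by
        rw [hbad, hF] at hc'; exact hc'.1
      have he : (Quotient.mk (orbitRel (Subgroup.zpowers y) (G ⧸ H)) c).out = c := by
        have h1 : (Quotient.mk (orbitRel (Subgroup.zpowers y) (G ⧸ H)) c).out ∈ orbit (Subgroup.zpowers y) c :=
          Quotient.mk_out (s := orbitRel (Subgroup.zpowers y) (G ⧸ H)) c
        obtain ⟨⟨z, i, rfl⟩, hz⟩ := h1
        rw [← hz]
        exact Subgroup.zpow_mem (stabilizer G c) hfix i
      exact ⟨_, by rw [hSb, Finset.mem_filter, he]; exact ⟨Finset.mem_univ _, hc'⟩, he⟩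
  have hgoododd : ¬ 2 ∣ good.ncard := by
    intro hd
    refine hFodd ?_
    have hsub : good ⊆ F := by rw [hgood, hF]; exact fun c hc => hc.1
    have h5 := Set.ncard_sdiff_add_ncard_of_subset hsub (Set.toFinite F)
    rw [← h5, ← hbad, ← hcardbad]
    exact dvd_add hbadeven hd
  -- `R` acts on the good cosets
  have hRy : ∀ r ∈ R, r * y = y * r := fun r hr => Subgroup.mem_centralizer_singleton_iff.1 (hR.le hr)
  have hinv : ∀ (r : ↥R) (c : G ⧸ H), c ∈ good → (r : G) • c ∈ good := by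
    intro r c hc
    rw [hgood] at hc ⊢
    obtain ⟨hc1, hc2⟩ := hc
    refine ⟨by rw [← mul_smul, ← hRy r r.2, mul_smul, hc1], ?_⟩
    have hcos : (((r : G) * c.out : G) : G ⧸ H) = (r : G) • c := by
      conv_rhs => rw [← QuotientGroup.out_eq' c]
      rfl
    have hmem : ((r : G) * c.out)⁻¹ * ((r : G) • c).out ∈ H :=
      QuotientGroup.eq.1 (hcos.trans (QuotientGroup.out_eq' _).symm)
    have h6 : ((r : G) * c.out)⁻¹ * y * ((r : G) * c.out) ∈ T := by
      rw [show ((r : G) * c.out)⁻¹ * y * ((r : G) * c.out) = c.out⁻¹ * ((r : G)⁻¹ * (y * r)) * c.out by group,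
        ← hRy r r.2, inv_mul_cancel_left]
      exact hc2
    have h7 := hinT _ h6 _ hmem
    rwa [mul_inv_cancel_left] at h7
  letI : MulAction ↥R ↥good :=
    { smul := fun r c => ⟨(r : G) • (c : G ⧸ H), hinv r c c.2⟩
      one_smul := fun c => Subtype.ext (one_smul G (c : G ⧸ H))
      mul_smul := fun r s c => Subtype.ext (mul_smul (r : G) (s : G) (c : G ⧸ H)) }
  obtain ⟨⟨c, hc⟩, hcfix⟩ : ∃ c : ↥good, c ∈ fixedPoints ↥R ↥good := by
    by_contra hno
    have h8 := hR.isPGroup.card_modEq_card_fixedPoints ↥good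
    have h12 : fixedPoints ↥R ↥good = ∅ := Set.eq_empty_iff_forall_notMem.2 fun c hc => hno ⟨c, hc⟩
    rw [h12, Nat.card_coe_set_eq, Nat.card_coe_set_eq, Set.ncard_empty] at h8
    exact hgoododd (Nat.modEq_zero_iff_dvd.1 h8)
  rw [hgood] at hc
  obtain ⟨x, hx⟩ : ∃ x, x = c.out := ⟨_, rfl⟩
  obtain ⟨hc1, hc2⟩ := hc
  have hRH : ∀ r ∈ R, x⁻¹ * r * x ∈ H := by
    intro r hr
    have h9 : r • c = c := congrArg Subtype.val (hcfix ⟨r, hr⟩)
    rw [← QuotientGroup.out_eq' c, ← hx] at h9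
    have := QuotientGroup.eq.1 (show ((r * x : G) : G ⧸ H) = (x : G ⧸ H) from h9)
    have h10 := inv_mem this
    rw [mul_inv_rev, inv_inv, ← mul_assoc] at h10
    simpa [mul_assoc] using h10
  refine ⟨x⁻¹, by rw [inv_inv, hx]; exact hc2, ?_, ?_⟩
  · have hce : Subgroup.centralizer ({x⁻¹ * y * x⁻¹⁻¹} : Set G) = cj (Subgroup.centralizer {y}) x⁻¹ := by
      ext w
      rw [mem_cj, Subgroup.mem_centralizer_singleton_iff, Subgroup.mem_centralizer_singleton_iff, inv_inv]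
      constructor
      · intro h
        calc x * w * x⁻¹ * y = x * (w * (x⁻¹ * y * x)) * x⁻¹ := by group
          _ = x * (x⁻¹ * y * x * w) * x⁻¹ := by rw [h]
          _ = _ := by group
      · intro h
        calc w * (x⁻¹ * y * x) = x⁻¹ * (x * w * x⁻¹ * y) * x := by group
          _ = x⁻¹ * (y * (x * w * x⁻¹)) * x := by rw [h]
          _ = _ := by group
    have h11 := hR.cj x⁻¹
    rw [← hce] at h11
    refine fun hd => h11.not_dvd (hd.trans (Subgroup.relIndex_dvd_of_le_left _ (le_inf ?_ h11.le)))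
    rintro _ ⟨r, hr, rfl⟩
    simpa using hRH r hr
  · rintro _ ⟨w, hw, rfl⟩
    have hwR : w ∈ R := hSR (hH ▸ hw)
    refine Subgroup.mem_inf.2 ⟨by simpa using hRH w hwR, ?_⟩
    rw [Subgroup.mem_centralizer_singleton_iff]
    show x⁻¹ * w * x⁻¹⁻¹ * (x⁻¹ * y * x⁻¹⁻¹) = x⁻¹ * y * x⁻¹⁻¹ * (x⁻¹ * w * x⁻¹⁻¹)
    calc _ = x⁻¹ * (w * y) * x⁻¹⁻¹ := by group
      _ = x⁻¹ * (y * w) * x⁻¹⁻¹ := by rw [hRy w hwR]
      _ = _ := by group

theorem extremal_transfer_cyclic (hperf : commutator G = ⊤) (S : Sylow 2 G) (T : Subgroup G) (hTS : T ≤ S)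
    [hTn : (T.subgroupOf (S : Subgroup G)).Normal]
    (hcyc : IsCyclic (↥(S : Subgroup G) ⧸ T.subgroupOf (S : Subgroup G)))
    {y : G} (hy : orderOf y = 2) (hyS : y ∈ S) (hyT : y ∉ T) :
    ∃ g : G, g * y * g⁻¹ ∈ T ∧
      ¬ 2 ∣ ((S : Subgroup G) ⊓ Subgroup.centralizer {g * y * g⁻¹}).relIndex
          (Subgroup.centralizer {g * y * g⁻¹}) ∧
      ((S : Subgroup G) ⊓ Subgroup.centralizer {y}).map (MulAut.conj g).toMonoidHom ≤
        (S : Subgroup G) ⊓ Subgroup.centralizer {g * y * g⁻¹} :=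
  extremal_transfer_cyclic_of_kills S T hTS hcyc hy hyS hyT fun f => by
    letI : CommGroup (↥(S : Subgroup G) ⧸ T.subgroupOf (S : Subgroup G)) := IsCyclic.commGroup
    exact MonoidHom.mem_ker.1 (Abelianization.commutator_subset_ker f (hperf ▸ Subgroup.mem_top y))

end Cfsg.Agent.Fusion
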