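import Cfsg.Agent.Lib.Fusion.Wreathed

/-!
# The quaternion subgroup and the involution closure of a wreathed 2-group
-/

set_option autoImplicit false
set_option linter.style.haveILetI false
set_option linter.unusedSectionVars false

namespace Cfsg.Agent.Fusion

theorem quaternion_group_facts {m : ℕ} [NeZero m] (hm : 2 ≤ m) :
    (∃ a b : QuaternionGroup m, a * b ≠ b * a) ∧
    (∀ v w : QuaternionGroup m, v ≠ 1 → v * v = 1 → w ≠ 1 → w * w = 1 → v = w) ∧
    (∀ c : QuaternionGroup m, (∀ w, c * w = w * c) → c * c = 1) := by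
  have h1 : (1 : ZMod (2 * m)) + 1 ≠ 0 := by
    intro h
    have h' : ((2 : ℕ) : ZMod (2 * m)) = 0 := by push_cast; rw [← h]; norm_num
    rw [ZMod.natCast_eq_zero_iff] at h'
    have := Nat.le_of_dvd two_pos h'
    omega
  have key : ∀ i : ZMod (2 * m), i + i = 0 → i = 0 ∨ i = ((m : ℕ) : ZMod (2 * m)) := by
    intro i hi
    rw [← ZMod.natCast_rightInverse i, ← Nat.cast_add, ZMod.natCast_eq_zero_iff] at hi
    obtain ⟨c, hc⟩ := hi
    have hlt := ZMod.val_lt i
    have h2 : c < 2 := by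
      by_contra h
      have := Nat.mul_le_mul_left (2 * m) (not_lt.1 h)
      omega
    rcases (show c = 0 ∨ c = 1 by omega) with rfl | rfl
    · rw [mul_zero] at hc
      exact Or.inl ((ZMod.val_eq_zero i).1 (by omega))
    · rw [mul_one] at hc
      right
      rw [← ZMod.natCast_rightInverse i, show i.val = m by omega]
  have hne : ((m : ℕ) : ZMod (2 * m)) ≠ 0 := by
    intro h
    rw [ZMod.natCast_eq_zero_iff] at h
    have := Nat.le_of_dvd (by omega) h
    omega
  have hinv : ∀ v : QuaternionGroup m, v ≠ 1 → v * v = 1 → v = QuaternionGroup.a ((m : ℕ) : ZMod (2 * m)) := by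
    intro v hv hv2
    cases v with
    | a i =>
      rw [QuaternionGroup.a_mul_a, QuaternionGroup.one_def] at hv2
      rcases key i (QuaternionGroup.a.inj hv2) with h | h
      · exact absurd (by rw [h, QuaternionGroup.one_def]) hv
      · rw [h]
    | xa i =>
      rw [QuaternionGroup.xa_mul_xa, QuaternionGroup.one_def] at hv2
      exact absurd (by simpa using QuaternionGroup.a.inj hv2) hne
  refine ⟨⟨QuaternionGroup.a 1, QuaternionGroup.xa 0, fun h => ?_⟩, fun v w hv hv2 hw hw2 =>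
    (hinv v hv hv2).trans (hinv w hw hw2).symm, fun c hc => ?_⟩
  · rw [QuaternionGroup.a_mul_xa, QuaternionGroup.xa_mul_a] at h
    have h' := QuaternionGroup.xa.inj h
    simp only [zero_sub, zero_add] at h'
    exact h1 (by linear_combination -h')
  · cases c with
    | a i =>
      have h := hc (QuaternionGroup.xa 0)
      rw [QuaternionGroup.a_mul_xa, QuaternionGroup.xa_mul_a] at h
      have h' := QuaternionGroup.xa.inj h
      simp only [zero_sub, zero_add] at h'
      rw [QuaternionGroup.a_mul_a, QuaternionGroup.one_def]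
      congr 1
      linear_combination -h'
    | xa i =>
      exfalso
      have h := hc (QuaternionGroup.a 1)
      rw [QuaternionGroup.a_mul_xa, QuaternionGroup.xa_mul_a] at h
      have h' := QuaternionGroup.xa.inj h
      exact h1 (by linear_combination h')

variable {S : Type*} [Group S] [Finite S]

namespace WRData

variable {n : ℕ} (D : WRData S n)
include D

/-- The generalized quaternion subgroup. -/
def Y : Subgroup S where
  carrier := {s | (∃ i j : ℤ, D.N ∣ i + j ∧ s = D.el i j) ∨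
    ∃ i j : ℤ, D.N ∣ i + j - D.h ∧ s = D.el i j * D.t}
  one_mem' := Or.inl ⟨0, 0, by simp, D.el_zero.symm⟩
  mul_mem' := by
    rintro a b (⟨i, j, hij, rfl⟩ | ⟨i, j, hij, rfl⟩) (⟨k, l, hkl, rfl⟩ | ⟨k, l, hkl, rfl⟩)
    · exact Or.inl ⟨i + k, j + l, by rw [show i + k + (j + l) = (i + j) + (k + l) by ring]; exact dvd_add hij hkl,
        D.el_mul _ _ _ _⟩
    · exact Or.inr ⟨i + k, j + l,
        by rw [show i + k + (j + l) - D.h = (i + j) + (k + l - D.h) by ring]; exact dvd_add hij hkl,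
        by rw [← mul_assoc, D.el_mul]⟩
    · exact Or.inr ⟨i + l, j + k,
        by rw [show i + l + (j + k) - D.h = (k + l) + (i + j - D.h) by ring]; exact dvd_add hkl hij,
        by rw [mul_assoc, D.t_mul_el, ← mul_assoc, D.el_mul]⟩
    · refine Or.inl ⟨i + l, j + k, ?_, D.out_mul_out _ _ _ _⟩
      rw [show i + l + (j + k) = (i + j - D.h) + (k + l - D.h) + 2 * D.h by ring, ← D.N_eq]
      exact dvd_add (dvd_add hij hkl) dvd_rfl
  inv_mem' := by
    rintro a (⟨i, j, hij, rfl⟩ | ⟨i, j, hij, rfl⟩)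
    · exact Or.inl ⟨-i, -j, by rw [← neg_add]; exact hij.neg_right, D.el_inv _ _⟩
    · refine Or.inr ⟨-j, -i, ?_, by rw [mul_inv_rev, D.t_inv, D.el_inv, D.t_mul_el]⟩
      rw [show -j + -i - D.h = -(i + j - D.h) - 2 * D.h by ring, ← D.N_eq]
      exact dvd_sub hij.neg_right dvd_rfl

theorem orderOf_anti : orderOf (D.el 1 (-1)) = 2 ^ n := by
  refine Nat.dvd_antisymm (orderOf_dvd_of_pow_eq_one ?_) ?_
  · rw [← zpow_natCast, D.el_zpow, D.el_eq_one]; push_cast; simp [N]
  · have h1 := pow_orderOf_eq_one (D.el 1 (-1))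
    rw [← zpow_natCast, D.el_zpow, D.el_eq_one, one_mul] at h1
    exact_mod_cast (show ((2 ^ n : ℕ) : ℤ) ∣ (orderOf (D.el 1 (-1)) : ℤ) by push_cast; exact h1.1)

theorem card_Y : Nat.card D.Y = 2 ^ (n + 1) := by
  have h1 : ¬ D.Y ≤ D.A := fun hle => D.out_not_mem D.h 0 (hle (Or.inr ⟨D.h, 0, by simp, rfl⟩))
  have h2 : D.Y ⊓ D.A = Subgroup.zpowers (D.el 1 (-1)) := by
    refine le_antisymm (fun s hs => ?_) (le_inf (Subgroup.zpowers_le.2 (Or.inl ⟨1, -1, by simp, rfl⟩))
      (Subgroup.zpowers_le.2 (D.el_mem _ _)))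
    obtain ⟨hs1, hsA⟩ := Subgroup.mem_inf.1 hs
    rcases hs1 with ⟨i, j, hij, rfl⟩ | ⟨i, j, -, rfl⟩
    · refine ⟨i, ?_⟩
      show D.el 1 (-1) ^ i = D.el i j
      rw [D.el_zpow, D.el_eq_iff, one_mul, sub_self]
      exact ⟨dvd_zero _, by rw [show -1 * i - j = -(i + j) by ring]; exact hij.neg_right⟩
    · exact absurd hsA (D.out_not_mem i j)
  rw [D.card_eq_two_mul _ h1, h2, Nat.card_zpowers, D.orderOf_anti, pow_succ']

theorem Y_quaternion : Nonempty (D.Y ≃* QuaternionGroup (2 ^ (n - 1))) := by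
  haveI : Fact (Nat.Prime 2) := ⟨Nat.prime_two⟩
  have key : ∀ s : D.Y, s ^ 2 = 1 → s ≠ 1 → (s : S) = D.el D.h D.h := by
    intro s hs hs1
    have h2 : (s : S) * s = 1 := by rw [sq] at hs; exact congrArg Subtype.val hs
    rcases s.2 with ⟨i, j, hij, he⟩ | ⟨i, j, hij, he⟩
    · rw [he] at h2 ⊢
      obtain ⟨hi, hj⟩ := D.sq_el_eq_one h2
      rw [D.el_eq_iff]
      rcases D.h_dvd_cases hi with hi' | hi'
      · refine absurd (Subtype.ext (he.trans ((D.el_eq_one _ _).2 ⟨hi', ?_⟩))) hs1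
        have := dvd_sub hij hi'
        rwa [add_sub_cancel_left] at this
      · refine ⟨hi', ?_⟩
        have := dvd_sub (dvd_sub hij hi') (show D.N ∣ 2 * D.h from ⟨1, by rw [D.N_eq, mul_one]⟩)
        rwa [show i + j - (i - D.h) - 2 * D.h = j - D.h by ring] at this
    · rw [he, D.out_sq, D.el_eq_one] at h2
      have := dvd_sub h2.1 hij
      rw [sub_sub_cancel] at this
      exact absurd this D.not_N_dvd_h
  have hu : Solv.UniqueOrderP 2 D.Y := by
    intro a b ha hb hb1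
    by_cases ha1 : a = 1
    · rw [ha1]; exact one_mem _
    · rw [show a = b from Subtype.ext ((key a ha ha1).trans (key b hb hb1).symm)]
      exact Subgroup.mem_zpowers b
  rcases Solv.cyclic_or_quaternion (D.isPGroup.to_subgroup D.Y) hu with hc | ⟨-, k, ⟨e⟩⟩
  · exfalso
    obtain ⟨g, hg⟩ := hc.exists_generator
    obtain ⟨i, hi⟩ := Subgroup.mem_zpowers_iff.1 (hg ⟨D.el 1 (-1), Or.inl ⟨1, -1, by simp, rfl⟩⟩)
    obtain ⟨j, hj⟩ := Subgroup.mem_zpowers_iff.1 (hg ⟨D.el D.h 0 * D.t, Or.inr ⟨D.h, 0, by simp, rfl⟩⟩)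
    have hcc : Commute (g ^ i) (g ^ j) := (Commute.refl g).zpow_zpow i j
    rw [hi, hj] at hcc
    have h1 : Commute (D.el 1 (-1)) (D.el D.h 0 * D.t) := congrArg Subtype.val hcc
    rw [D.commute_out_el] at h1
    obtain ⟨c, hc⟩ := h1
    rw [D.N_eq, D.h_eq] at hc
    have h4 : (4 : ℤ) ∣ 2 := ⟨(2 : ℤ) ^ (n - 2) * c, by linarith⟩
    norm_num at h4
  · have hc := Nat.card_congr e.toEquiv
    haveI : NeZero (2 ^ k : ℕ) := ⟨pow_ne_zero _ two_ne_zero⟩
    rw [D.card_Y, Nat.card_eq_fintype_card, QuaternionGroup.card, show (4 : ℕ) = 2 ^ 2 by norm_num,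
      ← pow_add] at hc
    have hk : k = n - 1 := by have := Nat.pow_right_injective (le_refl 2) hc; omega
    exact ⟨hk ▸ e⟩

theorem Y_unique {Y' : Subgroup S} (hc : Nat.card Y' = 2 ^ (n + 1))
    (e : Y' ≃* QuaternionGroup (2 ^ (n - 1))) : Y' = D.Y := by
  haveI : NeZero (2 ^ (n - 1) : ℕ) := ⟨pow_ne_zero _ two_ne_zero⟩
  obtain ⟨⟨a', b', hab⟩, huniq, hcent⟩ := quaternion_group_facts (m := 2 ^ (n - 1))
    (Nat.le_self_pow (by have := D.hn; omega) 2)
  have hnle : ¬ Y' ≤ D.A := fun hle => hab (e.symm.injective (Subtype.ext (by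
    simp only [map_mul, Subgroup.coe_mul]
    exact D.A_comm (hle (e.symm a').2) (hle (e.symm b').2))))
  have hcent' : ∀ c ∈ Y', (∀ w ∈ Y', c * w = w * c) → c * c = 1 := by
    intro c hc hcc
    have := hcent (e ⟨c, hc⟩) fun w => by
      obtain ⟨w, rfl⟩ := e.surjective w
      rw [← map_mul, ← map_mul]
      exact congrArg e (Subtype.ext (hcc w w.2))
    rw [← map_mul, map_eq_one_iff e e.injective] at this
    exact congrArg Subtype.val this
  have huniq' : ∀ v ∈ Y', ∀ w ∈ Y', v ≠ 1 → v * v = 1 → w ≠ 1 → w * w = 1 → v = w := by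
    intro v hv w hw v1 v2 w1 w2
    have := huniq (e ⟨v, hv⟩) (e ⟨w, hw⟩) (by simpa using v1)
      (by rw [← map_mul, show (⟨v, hv⟩ : Y') * ⟨v, hv⟩ = 1 from Subtype.ext v2, map_one])
      (by simpa using w1) (by rw [← map_mul, show (⟨w, hw⟩ : Y') * ⟨w, hw⟩ = 1 from Subtype.ext w2, map_one])
    exact congrArg Subtype.val (e.injective this)
  have houter : ∀ i j : ℤ, D.el i j * D.t ∈ Y' → D.N ∣ i + j - D.h := by
    intro i j hm
    have hsq : D.el (i + j) (i + j) ∈ Y' := D.out_sq i j ▸ mul_mem hm hm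
    have h2 := hcent' _ hsq fun w _ => (Subgroup.mem_center_iff.1 (D.diag_central (i + j)) w).symm
    obtain ⟨hd, -⟩ := D.sq_el_eq_one h2
    rcases D.h_dvd_cases hd with hd' | hd'
    · exfalso
      have hs2 : D.el i j * D.t * (D.el i j * D.t) = 1 := by rw [D.out_sq, D.el_eq_one]; exact ⟨hd', hd'⟩
      have hA2 : ∃ c ∈ Y', c ∈ D.A ∧ c ≠ 1 ∧ c * c = 1 := by
        have h1 := D.card_eq_two_mul Y' hnle
        rw [hc, pow_succ'] at h1
        have h2' : 2 ∣ Nat.card ↥(Y' ⊓ D.A) := by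
          rw [← Nat.eq_of_mul_eq_mul_left two_pos h1]
          exact dvd_pow_self 2 (by have := D.hn; omega)
        obtain ⟨⟨c, hcm⟩, hco⟩ := exists_prime_orderOf_dvd_card' 2 h2'
        rw [Subgroup.orderOf_mk] at hco
        exact ⟨c, (Subgroup.mem_inf.1 hcm).1, (Subgroup.mem_inf.1 hcm).2,
          fun h' => by rw [h', orderOf_one] at hco; omega, invol_mul_self hco⟩
      obtain ⟨c, hcY, hcA, hc1, hc2⟩ := hA2
      have := huniq' _ hm c hcY (fun h' => D.out_not_mem i j (h' ▸ one_mem _)) hs2 hc1 hc2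
      exact D.out_not_mem i j (this ▸ hcA)
    · exact hd'
  refine Subgroup.eq_of_le_of_card_ge (fun s hs => ?_) (by rw [hc, D.card_Y])
  obtain ⟨i, j, rfl | rfl⟩ := D.exists_form s
  · obtain ⟨s', hs', hsA⟩ := SetLike.not_le_iff_exists.1 hnle
    obtain ⟨k, l, rfl | rfl⟩ := D.exists_form s'
    · exact absurd (D.el_mem _ _) hsA
    · have hm : D.el (i + k) (j + l) * D.t ∈ Y' := by
        rw [← D.el_mul, mul_assoc]; exact mul_mem hs hs'
      refine Or.inl ⟨i, j, ?_, rfl⟩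
      have := dvd_sub (houter _ _ hm) (houter _ _ hs')
      rwa [show i + k + (j + l) - D.h - (k + l - D.h) = i + j by ring] at this
  · exact Or.inr ⟨i, j, houter i j hs, rfl⟩

theorem Y_normal : D.Y.Normal := by
  refine ⟨fun s hs g => ?_⟩
  have h : D.Y.map (MulAut.conj g).toMonoidHom = D.Y := by
    obtain ⟨e⟩ := D.Y_quaternion
    exact D.Y_unique (by rw [Subgroup.card_map_of_injective (MulAut.conj g).injective, D.card_Y])
      ((MulEquiv.subgroupMap (MulAut.conj g) D.Y).symm.trans e)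
  rw [← h]; exact ⟨s, hs, rfl⟩

/-- The subgroup generated by the involutions. -/
def K : Subgroup S where
  carrier := {s | ∃ i j : ℤ, D.h ∣ i + j ∧ (s = D.el i j ∨ s = D.el i j * D.t)}
  one_mem' := ⟨0, 0, by simp, Or.inl D.el_zero.symm⟩
  mul_mem' := by
    rintro a b ⟨i, j, hij, ha⟩ ⟨k, l, hkl, hb⟩
    rcases ha with rfl | rfl <;> rcases hb with rfl | rfl
    · exact ⟨i + k, j + l, by rw [show i + k + (j + l) = (i + j) + (k + l) by ring]; exact dvd_add hij hkl,
        Or.inl (D.el_mul _ _ _ _)⟩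
    · exact ⟨i + k, j + l, by rw [show i + k + (j + l) = (i + j) + (k + l) by ring]; exact dvd_add hij hkl,
        Or.inr (by rw [← mul_assoc, D.el_mul])⟩
    · exact ⟨i + l, j + k, by rw [show i + l + (j + k) = (i + j) + (k + l) by ring]; exact dvd_add hij hkl,
        Or.inr (by rw [mul_assoc, D.t_mul_el, ← mul_assoc, D.el_mul])⟩
    · exact ⟨i + l, j + k, by rw [show i + l + (j + k) = (i + j) + (k + l) by ring]; exact dvd_add hij hkl,
        Or.inl (D.out_mul_out _ _ _ _)⟩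
  inv_mem' := by
    rintro a ⟨i, j, hij, ha⟩
    rcases ha with rfl | rfl
    · exact ⟨-i, -j, by rw [← neg_add]; exact hij.neg_right, Or.inl (D.el_inv _ _)⟩
    · exact ⟨-j, -i, by rw [show -j + -i = -(i + j) by ring]; exact hij.neg_right,
        Or.inr (by rw [mul_inv_rev, D.t_inv, D.el_inv, D.t_mul_el])⟩

theorem closure_invol : Subgroup.closure {s : S | orderOf s = 2} = D.K := by
  refine le_antisymm ((Subgroup.closure_le _).2 fun s hs => ?_) ?_
  · rcases D.invol_cases hs with rfl | rfl | rfl | ⟨i, rfl⟩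
    · exact ⟨D.h, 0, by simp, Or.inl rfl⟩
    · exact ⟨0, D.h, by simp, Or.inl rfl⟩
    · exact ⟨D.h, D.h, dvd_add dvd_rfl dvd_rfl, Or.inl rfl⟩
    · exact ⟨i, -i, by simp, Or.inr rfl⟩
  · obtain ⟨C, hC⟩ : ∃ C, C = Subgroup.closure {s : S | orderOf s = 2} := ⟨_, rfl⟩
    rw [← hC]
    have ht : D.t ∈ C := hC ▸ Subgroup.subset_closure D.ot
    have hanti : ∀ i : ℤ, D.el i (-i) ∈ C := fun i => by
      have h1 : D.el i (-i) * D.t ∈ C := hC ▸ Subgroup.subset_closure (D.outer_invol i)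
      have := mul_mem h1 ht
      rwa [mul_assoc, D.t_sq, mul_one] at this
    have hh : D.el 0 D.h ∈ C := hC ▸ Subgroup.subset_closure
      (D.el_h_order (dvd_zero _) dvd_rfl (fun h' => D.not_N_dvd_h h'.2))
    have hel : ∀ i j : ℤ, D.h ∣ i + j → D.el i j ∈ C := fun i j hij => by
      obtain ⟨c, hc⟩ := hij
      have := mul_mem (hanti i) (zpow_mem hh c)
      rw [D.el_zpow, zero_mul, D.el_mul, add_zero, show -i + D.h * c = j by linarith] at this
      exact this
    rintro s ⟨i, j, hij, rfl | rfl⟩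
    · exact hel i j hij
    · exact mul_mem (hel i j hij) ht

theorem card_K : Nat.card D.K = 2 ^ (n + 2) := by
  have h1 : ¬ D.K ≤ D.A := fun hle => D.out_not_mem 0 0 (hle ⟨0, 0, by simp, Or.inr rfl⟩)
  have hmem : ∀ (a : Fin (2 ^ n)) (b : Fin 2), D.el (a.val : ℤ) (-(a.val : ℤ) + D.h * (b.val : ℤ)) ∈ D.K ⊓ D.A :=
    fun a b => Subgroup.mem_inf.2 ⟨⟨_, _, ⟨(b.val : ℤ), by ring⟩, Or.inl rfl⟩, D.el_mem _ _⟩
  have hf : Function.Bijective (fun p : Fin (2 ^ n) × Fin 2 => (⟨_, hmem p.1 p.2⟩ : ↥(D.K ⊓ D.A))) := by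
    constructor
    · rintro ⟨a, b⟩ ⟨c, d⟩ he
      obtain ⟨h1, h2⟩ := (D.el_eq_iff _ _ _ _).1 (congrArg Subtype.val he)
      have h3 := D.fin_inj h1
      subst h3
      rw [show -(a.val : ℤ) + D.h * (b.val : ℤ) - (-(a.val : ℤ) + D.h * (d.val : ℤ)) =
        D.h * ((b.val : ℤ) - d.val) by ring, D.N_eq, mul_comm 2, mul_dvd_mul_iff_left D.h_pos.ne'] at h2
      refine Prod.ext rfl (Fin.ext ?_)
      show b.val = d.val
      have := b.isLt; have := d.isLt; omega
    · rintro ⟨s, hs⟩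
      obtain ⟨⟨i, j, hij, rfl | rfl⟩, hsA⟩ := Subgroup.mem_inf.1 hs
      · obtain ⟨a, ha⟩ := D.fin_repr i
        obtain ⟨b, hb⟩ : ∃ b : Fin 2, D.N ∣ D.h * (b.val : ℤ) - (i + j) := by
          rcases D.h_dvd_cases hij with h | h
          · exact ⟨0, by simpa using h.neg_right⟩
          · exact ⟨1, by rw [show D.h * ((1 : Fin 2).val : ℤ) - (i + j) = -(i + j - D.h) by simp]; exact h.neg_right⟩
        refine ⟨(a, b), Subtype.ext ((D.el_eq_iff _ _ _ _).2 ⟨dvd_sub_comm.1 ha, ?_⟩)⟩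
        rw [show -(a.val : ℤ) + D.h * (b.val : ℤ) - j = (D.h * (b.val : ℤ) - (i + j)) + (i - a.val) by ring]
        exact dvd_add hb ha
      · exact absurd hsA (D.out_not_mem i j)
  rw [D.card_eq_two_mul _ h1, ← Nat.card_eq_of_bijective _ hf, Nat.card_prod, Nat.card_fin, Nat.card_fin]
  ring

theorem K_sup_top : D.K ⊔ Subgroup.zpowers (D.el 1 0) = ⊤ := by
  refine (Subgroup.eq_top_iff' _).2 fun s => ?_
  have hel : ∀ i j : ℤ, D.el i j ∈ D.K ⊔ Subgroup.zpowers (D.el 1 0) := fun i j => by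
    have h1 : D.el (-j) j ∈ D.K ⊔ Subgroup.zpowers (D.el 1 0) :=
      Subgroup.mem_sup_left ⟨-j, j, by simp, Or.inl rfl⟩
    have h2 : D.el 1 0 ^ (i + j) ∈ D.K ⊔ Subgroup.zpowers (D.el 1 0) :=
      Subgroup.mem_sup_right (Subgroup.zpow_mem_zpowers _ _)
    have := mul_mem h2 h1
    rwa [D.el_zpow, one_mul, zero_mul, D.el_mul, add_neg_cancel_right, zero_add] at this
  obtain ⟨i, j, rfl | rfl⟩ := D.exists_form s
  · exact hel i j
  · exact mul_mem (hel i j) (Subgroup.mem_sup_left ⟨0, 0, by simp, Or.inr (by rw [D.el_zero, one_mul])⟩)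

end WRData

end Cfsg.Agent.Fusion
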