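import Cfsg.Agent.Lib.Fusion.ElemCentralizers

/-!
The action on the cosets of `N(T)`: sharp triple transitivity.
-/

set_option autoImplicit false
set_option linter.style.haveILetI false

open Cfsg Cfsg.Agent Cfsg.Agent.Fusion

namespace Cfsg.Agent.ECent

variable {G : Type*} [Group G] [Finite G] {T : Sylow 2 G} (h : Ctx T)
variable {u : G} (huu : u * u = 1) (huH : u ∉ Hn T)

omit [Finite G] in
theorem base_eq {g : G} : g • (QuotientGroup.mk 1 : G ⧸ Hn T) = QuotientGroup.mk g := by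
  rw [MulAction.Quotient.smul_mk, smul_eq_mul, mul_one]

omit [Finite G] in
theorem fix_base {g : G} : g • (QuotientGroup.mk 1 : G ⧸ Hn T) = QuotientGroup.mk 1 ↔ g ∈ Hn T := by
  rw [base_eq, QuotientGroup.eq]; simp

omit [Finite G] in
theorem ne_base {g : G} : (QuotientGroup.mk g : G ⧸ Hn T) ≠ QuotientGroup.mk 1 ↔ g ∉ Hn T := by
  rw [Ne, QuotientGroup.eq]; simp

include h huu huH

theorem mk_tu {x : G ⧸ Hn T} (hx : x ≠ QuotientGroup.mk 1) :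
    ∃ t ∈ (T : Subgroup G), (QuotientGroup.mk (t * u) : G ⧸ Hn T) = x := by
  obtain ⟨g, rfl⟩ := QuotientGroup.mk_surjective x
  obtain ⟨t, ht, e⟩ := bruhat h huu huH (ne_base.1 hx)
  exact ⟨t, ht, QuotientGroup.eq.2 e⟩

theorem mk_tu_inj {t t' : G} (ht : t ∈ (T : Subgroup G)) (ht' : t' ∈ (T : Subgroup G))
    (e : (QuotientGroup.mk (t * u) : G ⧸ Hn T) = QuotientGroup.mk (t' * u)) : t = t' :=
  free h huu huH ht ht' (QuotientGroup.eq.1 e)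

omit h huu in
theorem tu_ne_base {t : G} (ht : t ∈ (T : Subgroup G)) : (QuotientGroup.mk (t * u) : G ⧸ Hn T) ≠ QuotientGroup.mk 1 :=
  ne_base.2 fun e => huH ((Subgroup.mul_mem_cancel_left _ (T_le ht)).1 e)

theorem D_on_tu {d t : G} (hd : d ∈ Dg T u) :
    d • (QuotientGroup.mk (t * u) : G ⧸ Hn T) = QuotientGroup.mk (d * t * d⁻¹ * u) := by
  rw [MulAction.Quotient.smul_mk, smul_eq_mul, QuotientGroup.eq]
  have e := u_inverts h huu huH hd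
  have : (d * (t * u))⁻¹ * (d * t * d⁻¹ * u) = d := by
    calc (d * (t * u))⁻¹ * (d * t * d⁻¹ * u) = u⁻¹ * d⁻¹ * u := by group
      _ = u⁻¹ * (u * d * u⁻¹) * u := by rw [e]
      _ = d := by group
  rw [this]; exact (mem_Dg.1 hd).1

theorem to_standard {x₁ x₂ x₃ : G ⧸ Hn T} (h12 : x₁ ≠ x₂) (h13 : x₁ ≠ x₃) (h23 : x₂ ≠ x₃)
    {t₁ : G} (ht₁ : t₁ ∈ (T : Subgroup G)) (ht₁1 : t₁ ≠ 1) :
    ∃ g : G, g • x₁ = QuotientGroup.mk 1 ∧ g • x₂ = QuotientGroup.mk u ∧ g • x₃ = QuotientGroup.mk (t₁ * u) := by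
  obtain ⟨a, rfl⟩ := QuotientGroup.mk_surjective x₁
  have ha : a⁻¹ • (QuotientGroup.mk a : G ⧸ Hn T) = QuotientGroup.mk 1 := by
    rw [MulAction.Quotient.smul_mk, smul_eq_mul, inv_mul_cancel]
  obtain ⟨t, ht, e2⟩ := mk_tu h huu huH (x := a⁻¹ • x₂) fun e => h12 (MulAction.injective a⁻¹ (ha.trans e.symm))
  have hb1 : (t⁻¹ * a⁻¹) • (QuotientGroup.mk a : G ⧸ Hn T) = QuotientGroup.mk 1 := by
    rw [mul_smul, ha, fix_base]; exact inv_mem (T_le ht)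
  have hb2 : (t⁻¹ * a⁻¹) • x₂ = QuotientGroup.mk u := by
    rw [mul_smul, ← e2, MulAction.Quotient.smul_mk, smul_eq_mul, inv_mul_cancel_left]
  obtain ⟨s, hs, e3⟩ := mk_tu h huu huH (x := (t⁻¹ * a⁻¹) • x₃)
    fun e => h13 (MulAction.injective (t⁻¹ * a⁻¹) (hb1.trans e.symm))
  have hs1 : s ≠ 1 := fun e => h23 (MulAction.injective (t⁻¹ * a⁻¹) (by simp only []; rw [hb2, ← e3, e, one_mul]))
  obtain ⟨d, hd, ed⟩ := conj_D h huu huH hs hs1 ht₁ ht₁1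
  refine ⟨d * (t⁻¹ * a⁻¹), ?_, ?_, ?_⟩
  · rw [mul_smul, hb1, fix_base]; exact (mem_Dg.1 hd).1
  · rw [mul_smul, hb2]
    have := D_on_tu h huu huH (t := 1) hd
    simpa using this
  · rw [mul_smul, ← e3, D_on_tu h huu huH hd, ed]

theorem exists_t1 : ∃ t ∈ (T : Subgroup G), t ≠ 1 := by
  by_contra hno
  push Not at hno
  have := four_le h
  rw [(Subgroup.eq_bot_iff_forall _).2 hno, Subgroup.card_bot] at this
  omega

theorem fix_standard {g t₁ : G} (ht₁ : t₁ ∈ (T : Subgroup G)) (ht₁1 : t₁ ≠ 1)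
    (e1 : g • (QuotientGroup.mk 1 : G ⧸ Hn T) = QuotientGroup.mk 1)
    (e2 : g • (QuotientGroup.mk u : G ⧸ Hn T) = QuotientGroup.mk u)
    (e3 : g • (QuotientGroup.mk (t₁ * u) : G ⧸ Hn T) = QuotientGroup.mk (t₁ * u)) : g = 1 := by
  have hgD : g ∈ Dg T u := mem_Dg.2 ⟨fix_base.1 e1, by
    rw [MulAction.Quotient.smul_mk, smul_eq_mul, QuotientGroup.eq] at e2
    have := inv_mem e2
    simpa [mul_assoc] using this⟩
  rw [D_on_tu h huu huH hgD] at e3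
  have e := mk_tu_inj h huu huH (conj_T (mem_Dg.1 hgD).1 ht₁) ht₁ e3
  exact Dg_T h huH hgD (cent_T h ht₁ ht₁1 (mul_inv_eq_iff_eq_mul.1 e))

theorem free3 {g : G} {x₁ x₂ x₃ : G ⧸ Hn T} (h12 : x₁ ≠ x₂) (h13 : x₁ ≠ x₃) (h23 : x₂ ≠ x₃)
    (e1 : g • x₁ = x₁) (e2 : g • x₂ = x₂) (e3 : g • x₃ = x₃) : g = 1 := by
  obtain ⟨t₁, ht₁, ht₁1⟩ := exists_t1 h huu huH
  obtain ⟨k, k1, k2, k3⟩ := to_standard h huu huH h12 h13 h23 ht₁ ht₁1
  have hk : ∀ x : G ⧸ Hn T, g • x = x → (k * g * k⁻¹) • (k • x) = k • x := fun x e => by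
    rw [← mul_smul, inv_mul_cancel_right, mul_smul, e]
  have := fix_standard h huu huH ht₁ ht₁1 (k1 ▸ hk _ e1) (k2 ▸ hk _ e2) (k3 ▸ hk _ e3)
  simpa using this

theorem triple {x₁ x₂ x₃ y₁ y₂ y₃ : G ⧸ Hn T} (h12 : x₁ ≠ x₂) (h13 : x₁ ≠ x₃) (h23 : x₂ ≠ x₃)
    (k12 : y₁ ≠ y₂) (k13 : y₁ ≠ y₃) (k23 : y₂ ≠ y₃) : ∃ g : G, g • x₁ = y₁ ∧ g • x₂ = y₂ ∧ g • x₃ = y₃ := by
  obtain ⟨t₁, ht₁, ht₁1⟩ := exists_t1 h huu huH
  obtain ⟨a, a1, a2, a3⟩ := to_standard h huu huH h12 h13 h23 ht₁ ht₁1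
  obtain ⟨b, b1, b2, b3⟩ := to_standard h huu huH k12 k13 k23 ht₁ ht₁1
  exact ⟨b⁻¹ * a, by rw [mul_smul, a1, ← b1, inv_smul_smul], by rw [mul_smul, a2, ← b2, inv_smul_smul],
    by rw [mul_smul, a3, ← b3, inv_smul_smul]⟩

end Cfsg.Agent.ECent
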