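import Cfsg.Agent.Lib.Solv.MaxClass
import Cfsg.Agent.Lib.Fusion.Dihedral

/-!
# Further properties of groups of maximal class
-/

set_option autoImplicit false
set_option linter.style.haveILetI false

open scoped commutatorElement

namespace Cfsg.Agent.Fusion

universe u

variable {G : Type u} [Group G] [Finite G] {p : ℕ} [hp : Fact p.Prime]

theorem lcs_ne_bot_of_le {k i : ℕ} (hne : (⊤ : Subgroup G).lowerCentralSeries k ≠ ⊥) (hik : i ≤ k) :
    (⊤ : Subgroup G).lowerCentralSeries i ≠ ⊥ := fun h =>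
  hne (eq_bot_iff.2 (((⊤ : Subgroup G).lowerCentralSeries_antitone hik).trans h.le))

/-- The terms of the lower central series of a group of maximal class. -/
theorem lcs_card_eq (hG : IsPGroup p G) {n : ℕ} (hn : Nat.card G = p ^ (n + 2))
    (hne : (⊤ : Subgroup G).lowerCentralSeries n ≠ ⊥) {i : ℕ} (h1 : 1 ≤ i) (hin : i ≤ n + 1) :
    Nat.card ((⊤ : Subgroup G).lowerCentralSeries i) = p ^ (n + 1 - i) := by
  haveI := hG.isNilpotent
  have key : ∀ d : ℕ, d ≤ n → p ^ (d + 1) ≤ Nat.card ((⊤ : Subgroup G).lowerCentralSeries (n - d)) := by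
    intro d hd
    induction d with
    | zero =>
      rw [Nat.sub_zero, zero_add, pow_one]
      obtain ⟨a, ha⟩ := (hG.to_subgroup ((⊤ : Subgroup G).lowerCentralSeries n)).exists_card_eq
      rw [ha]
      have ha0 : a ≠ 0 := fun h0 => hne (Subgroup.card_eq_one.1 (by rw [ha, h0, pow_zero]))
      exact Nat.le_self_pow ha0 p
    | succ d ihd =>
      have hlo := ihd (by omega)
      obtain ⟨j, hj⟩ : ∃ j, n - (d + 1) = j := ⟨_, rfl⟩
      rw [show n - d = j + 1 by omega] at hlo
      rw [hj]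
      haveI := Solv.lowerCentralSeries_normal' (⊤ : Subgroup G) j
      have hb : (⊤ : Subgroup G).lowerCentralSeries j ≠ ⊥ := lcs_ne_bot_of_le hne (by omega)
      have hlt := Solv.commutator_top_lt _ hb
      rw [← Subgroup.lowerCentralSeries_succ] at hlt
      obtain ⟨a, ha⟩ := (hG.to_subgroup ((⊤ : Subgroup G).lowerCentralSeries (j + 1))).exists_card_eq
      obtain ⟨b, hb'⟩ := (hG.to_subgroup ((⊤ : Subgroup G).lowerCentralSeries j)).exists_card_eq
      have hab : a < b := by
        by_contra h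
        refine hlt.ne (Subgroup.eq_of_le_of_card_ge hlt.le ?_)
        rw [ha, hb']; exact Nat.pow_le_pow_right hp.out.pos (not_lt.1 h)
      rw [ha, Nat.pow_le_pow_iff_right hp.out.one_lt] at hlo
      rw [hb']
      exact Nat.pow_le_pow_right hp.out.pos (by omega)
  rcases eq_or_lt_of_le hin with rfl | hlt
  · have h := Solv.lcs_eq_bot hG hn (by omega)
    rw [show n + 2 - 1 = n + 1 from rfl] at h
    rw [h, Subgroup.card_bot, Nat.sub_self, pow_zero]
  · refine le_antisymm ?_ ?_
    · have h := (Solv.lcs_card_le hG hn (by omega) i h1).resolve_left (lcs_ne_bot_of_le hne (by omega))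
      rw [show p ^ (n + 2) = p ^ (n + 1 - i) * p ^ (i + 1) by rw [← pow_add]; congr 1; omega] at h
      exact Nat.le_of_mul_le_mul_right h (pow_pos hp.out.pos _)
    · have h := key (n - i) (by omega)
      rw [show n - (n - i) = i by omega, show n - i + 1 = n + 1 - i by omega] at h
      exact h

theorem commutator_index_of_maxClass (hG : IsPGroup p G) {n : ℕ} (hn : Nat.card G = p ^ (n + 2))
    (hne : (⊤ : Subgroup G).lowerCentralSeries n ≠ ⊥) : (commutator G).index = p ^ 2 := by
  have h := lcs_card_eq hG hn hne (le_refl 1) (by omega)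
  rw [Subgroup.lowerCentralSeries_succ, Subgroup.lowerCentralSeries_zero] at h
  have h2 := (commutator G).card_mul_index
  rw [commutator_def, h, hn, show n + 1 - 1 = n from rfl, pow_add] at h2
  rw [commutator_def]
  exact Nat.eq_of_mul_eq_mul_left (pow_pos hp.out.pos n) h2

omit [Finite G] in
theorem not_isCyclic_abelianization_of_noncomm (hG : IsPGroup p G) [Finite G]
    (hna : ∃ a b : G, a * b ≠ b * a) : ¬ IsCyclic (G ⧸ commutator G) := by
  intro hc
  obtain ⟨g, hg⟩ := hc.exists_generator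
  obtain ⟨x, rfl⟩ := QuotientGroup.mk'_surjective (commutator G) g
  have hx : Subgroup.zpowers x ⊔ commutator G = ⊤ := by
    refine eq_top_iff.2 fun y _ => ?_
    obtain ⟨j, hj⟩ := hg y
    have hj' : ((x ^ j : G) : G ⧸ commutator G) = y := hj
    rw [QuotientGroup.eq] at hj'
    rw [show y = x ^ j * ((x ^ j)⁻¹ * y) by group]
    exact mul_mem (Subgroup.mem_sup_left (zpow_mem (Subgroup.mem_zpowers x) j)) (Subgroup.mem_sup_right hj')
  have htop : Subgroup.zpowers x = ⊤ := frattini_nongenerating (eq_top_iff.2 (hx.symm.trans_le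
    (sup_le_sup_left (Solv.commutator_le_frattini_pgroup hG) _)))
  obtain ⟨a, b, hab⟩ := hna
  obtain ⟨i, rfl⟩ := Subgroup.mem_zpowers_iff.1 (htop.ge (Subgroup.mem_top a))
  obtain ⟨j, rfl⟩ := Subgroup.mem_zpowers_iff.1 (htop.ge (Subgroup.mem_top b))
  exact hab ((Commute.refl x).zpow_zpow i j).eq

omit hp in
/-- An abelian subgroup of index two gives a small centralizer when `G/G'` has order four. -/
theorem small_centralizer_of_abelian_index_two {A : Subgroup G} (hAi : A.index = 2)
    (hAab : ∀ a ∈ A, ∀ b ∈ A, a * b = b * a) (hidx : (commutator G).index = 4) :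
    ∃ t : G, Nat.card (Subgroup.centralizer ({t} : Set G)) ≤ 4 := by
  classical
  haveI := Subgroup.normal_of_index_eq_two hAi
  obtain ⟨g, hg⟩ : ∃ g, g ∉ A := by
    by_contra h
    have : A = ⊤ := (Subgroup.eq_top_iff' A).2 fun x => by_contra fun hx => h ⟨x, hx⟩
    rw [this, Subgroup.index_top] at hAi; omega
  let f : A →* A := MonoidHom.mk' (fun y => (⟨⁅g, (y : G)⁆, by
      rw [commutatorElement_def]
      exact mul_mem (Subgroup.Normal.conj_mem inferInstance _ y.2 g) (inv_mem y.2)⟩ : A)) fun y z => by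
    refine Subtype.ext ?_
    show ⁅g, (y : G) * z⁆ = ⁅g, (y : G)⁆ * ⁅g, (z : G)⁆
    have hc : ⁅g, (z : G)⁆ ∈ A := by
      rw [commutatorElement_def]
      exact mul_mem (Subgroup.Normal.conj_mem inferInstance _ z.2 g) (inv_mem z.2)
    calc ⁅g, (y : G) * z⁆ = ⁅g, (y : G)⁆ * ((y : G) * ⁅g, (z : G)⁆ * (y : G)⁻¹) := by
          rw [commutatorElement_def, commutatorElement_def, commutatorElement_def]; group
      _ = _ := by rw [hAab _ y.2 _ hc, mul_inv_cancel_right]
  obtain ⟨N, hN⟩ : ∃ N, N = f.range.map A.subtype := ⟨_, rfl⟩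
  have hNA : N ≤ A := hN ▸ Subgroup.map_subtype_le _
  have hmemN : ∀ y ∈ A, ⁅g, y⁆ ∈ N := fun y hy => hN ▸ ⟨_, ⟨⟨y, hy⟩, rfl⟩, rfl⟩
  have hgen : ∀ h : G, ∃ a ∈ A, h = a ∨ h = a * g := fun h => by
    by_cases hh : h ∈ A
    · exact ⟨h, hh, Or.inl rfl⟩
    · exact ⟨h * g⁻¹, (Subgroup.mul_mem_iff_of_index_two hAi).2
        (iff_of_false hh fun h' => hg (inv_mem_iff.1 h')), Or.inr (by group)⟩
  haveI hNn : N.Normal := by
    refine ⟨fun y hy h => ?_⟩
    have hyg : g * y * g⁻¹ ∈ N := by
      rw [show g * y * g⁻¹ = ⁅g, y⁆ * y by rw [commutatorElement_def]; group]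
      exact mul_mem (hmemN y (hNA hy)) hy
    obtain ⟨a, ha, rfl | rfl⟩ := hgen h
    · rw [hAab _ ha y (hNA hy), mul_inv_cancel_right]; exact hy
    · rw [show a * g * y * (a * g)⁻¹ = a * (g * y * g⁻¹) * a⁻¹ by group, hAab _ ha _ (hNA hyg),
        mul_inv_cancel_right]; exact hyg
  obtain ⟨π, hπ⟩ : ∃ π, π = QuotientGroup.mk' N := ⟨_, rfl⟩
  have hgA : ∀ a ∈ A, Commute (π g) (π a) := fun a ha => by
    show π g * π a = π a * π g
    rw [← commutatorElement_eq_one_iff_mul_comm, ← map_commutatorElement, hπ, QuotientGroup.mk'_apply,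
      QuotientGroup.eq_one_iff]
    exact hmemN a ha
  have hG' : commutator G ≤ N := by
    rw [commutator_def, Subgroup.commutator_le]
    intro a _ b _
    rw [← QuotientGroup.ker_mk' N, MonoidHom.mem_ker, ← hπ, map_commutatorElement,
      commutatorElement_eq_one_iff_mul_comm]
    obtain ⟨a', ha', rfl | rfl⟩ := hgen a <;> obtain ⟨b', hb', rfl | rfl⟩ := hgen b <;>
      (try simp only [map_mul])
    · rw [← map_mul, ← map_mul, hAab _ ha' _ hb']
    · exact ((show Commute (π a) (π b') from by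
        show π a * π b' = π b' * π a; rw [← map_mul, ← map_mul, hAab _ ha' _ hb']).mul_right (hgA _ ha').symm).eq
    · exact ((show Commute (π a') (π b) from by
        show π a' * π b = π b * π a'; rw [← map_mul, ← map_mul, hAab _ ha' _ hb']).mul_left (hgA _ hb')).eq
    · exact (((show Commute (π a') (π b') from by
        show π a' * π b' = π b' * π a'; rw [← map_mul, ← map_mul, hAab _ ha' _ hb']).mul_right
          (hgA _ ha').symm).mul_left ((hgA _ hb').mul_right (Commute.refl _))).eq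
  refine ⟨g, ?_⟩
  set C := Subgroup.centralizer ({g} : Set G) with hC
  have hker : f.ker = C.subgroupOf A := by
    ext y
    rw [MonoidHom.mem_ker, Subgroup.mem_subgroupOf, hC, Subgroup.mem_centralizer_singleton_iff,
      ← OneMemClass.coe_eq_one]
    show ⁅g, (y : G)⁆ = 1 ↔ _
    rw [commutatorElement_eq_one_iff_mul_comm]
    exact eq_comm
  have h1 : Nat.card (f.ker) * Nat.card f.range = Nat.card A := by
    rw [← Subgroup.index_ker, Subgroup.card_mul_index]
  have h2 : Nat.card N = Nat.card f.range := by rw [hN, Subgroup.card_map_of_injective A.subtype_injective]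
  have h3 : Nat.card G ≤ 4 * Nat.card f.range := by
    rw [← (commutator G).card_mul_index, hidx, mul_comm, ← h2]
    exact Nat.mul_le_mul_left _ (Subgroup.card_le_of_le hG')
  have h4 : Nat.card A * 2 = Nat.card G := by rw [← hAi, A.card_mul_index]
  have h5 : Nat.card (C.subgroupOf A) ≤ 2 := by
    rw [← hker]
    have : 0 < Nat.card f.range := Nat.card_pos
    nlinarith
  have h6 : (C.subgroupOf A).index ≠ 0 := Subgroup.index_ne_zero_of_finite
  have h7 : A.relIndex C ∣ A.index := Subgroup.relIndex_dvd_index_of_normal _ _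
  rw [hAi] at h7
  have h8 : Nat.card (A.subgroupOf C) * A.relIndex C = Nat.card C := Subgroup.card_mul_index _
  have h9 : Nat.card (A.subgroupOf C) = Nat.card (C.subgroupOf A) := by
    rw [← Subgroup.inf_subgroupOf_right A C, ← Subgroup.inf_subgroupOf_right C A,
      Nat.card_congr (Subgroup.subgroupOfEquivOfLe (inf_le_right : A ⊓ C ≤ C)).toEquiv,
      Nat.card_congr (Subgroup.subgroupOfEquivOfLe (inf_le_right : C ⊓ A ≤ A)).toEquiv, inf_comm]
  rw [← h8, h9]
  exact (Nat.mul_le_mul h5 (Nat.le_of_dvd two_pos h7)).trans (by norm_num)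

omit [Finite G] hp in
/-- Taussky: `|G/G'| = 4` forces maximal class. -/
theorem lcs_ne_bot_of_commutator_index_four : ∀ (m : ℕ) {G : Type u} [Group G] [Finite G],
    Nat.card G = 2 ^ (m + 3) → (commutator G).index = 4 →
      (⊤ : Subgroup G).lowerCentralSeries (m + 1) ≠ ⊥ := by
  haveI : Fact (Nat.Prime 2) := ⟨Nat.prime_two⟩
  intro m
  induction m with
  | zero =>
    intro G _ _ hn hidx h
    rw [Subgroup.lowerCentralSeries_succ, Subgroup.lowerCentralSeries_zero, ← commutator_def] at h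
    rw [h, Subgroup.index_bot, hn] at hidx
    norm_num at hidx
  | succ m ih =>
    intro G _ _ hn hidx
    have hG : IsPGroup 2 G := IsPGroup.of_card hn
    haveI : Nontrivial ↥(commutator G) := by
      rw [Subgroup.nontrivial_iff_ne_bot]
      intro h
      rw [h, Subgroup.index_bot, hn] at hidx
      have : 2 ^ 4 ≤ 2 ^ (m + 1 + 3) := Nat.pow_le_pow_right two_pos (by omega)
      omega
    obtain ⟨z, hzG', hzc, hz1⟩ := Perm.exists_ne_one_center hG (commutator G)
    obtain ⟨k, hk⟩ := IsPGroup.iff_orderOf.1 hG z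
    have hk0 : k ≠ 0 := by rintro rfl; exact hz1 (orderOf_eq_one_iff.1 (by simpa using hk))
    obtain ⟨w, hw⟩ : ∃ w, w = z ^ 2 ^ (k - 1) := ⟨_, rfl⟩
    have hw2 : orderOf w = 2 := by
      rw [hw, orderOf_pow_of_dvd (pow_ne_zero _ two_ne_zero) (hk ▸ pow_dvd_pow 2 (by omega)), hk,
        Nat.pow_div (by omega) two_pos, show k - (k - 1) = 1 by omega, pow_one]
    haveI : (Subgroup.zpowers w).Normal := ⟨fun x hx g => by
      have : x ∈ Subgroup.center G := (Subgroup.zpowers_le.2 (hw ▸ pow_mem hzc _)) hx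
      rw [Subgroup.mem_center_iff.1 this g, mul_inv_cancel_right]; exact hx⟩
    have hcard : Nat.card (G ⧸ Subgroup.zpowers w) = 2 ^ (m + 3) := by
      have h := Subgroup.card_eq_card_quotient_mul_card_subgroup (Subgroup.zpowers w)
      rw [hn, Nat.card_zpowers, hw2, show m + 1 + 3 = m + 3 + 1 by omega, pow_succ] at h
      omega
    have hcm : (commutator G).map (QuotientGroup.mk' (Subgroup.zpowers w)) = commutator (G ⧸ Subgroup.zpowers w) := by
      rw [commutator_def, Subgroup.map_commutator, Subgroup.map_top_of_surjective _ (QuotientGroup.mk'_surjective _),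
        commutator_def]
    have hq := ih hcard (by
      rw [← hcm, Subgroup.index_map_eq _ (QuotientGroup.mk'_surjective _) (by
        rw [QuotientGroup.ker_mk', Subgroup.zpowers_le]; exact hw ▸ pow_mem hzG' _)]
      exact hidx)
    obtain ⟨xb, hxb⟩ := Solv.exists_cyclic_index_two m hcard hq
    obtain ⟨A, hA⟩ : ∃ A, A = (Subgroup.zpowers xb).comap (QuotientGroup.mk' (Subgroup.zpowers w)) := ⟨_, rfl⟩
    have hAi : A.index = 2 := by
      rw [hA, Subgroup.index_comap_of_surjective _ (QuotientGroup.mk'_surjective _)]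
      have h := (Subgroup.zpowers xb).card_mul_index
      rw [Nat.card_zpowers, hxb, hcard, pow_succ 2 (m + 2)] at h
      exact Nat.eq_of_mul_eq_mul_left (pow_pos two_pos _) h
    have hAab : ∀ a ∈ A, ∀ b ∈ A, a * b = b * a := by
      obtain ⟨x, rfl⟩ := QuotientGroup.mk'_surjective (Subgroup.zpowers w) xb
      have hdec : ∀ a ∈ A, ∃ i : ℤ, ∃ c ∈ Subgroup.center G, a = x ^ i * c := by
        intro a ha
        rw [hA, Subgroup.mem_comap] at ha
        obtain ⟨i, hi⟩ := Subgroup.mem_zpowers_iff.1 ha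
        rw [← map_zpow] at hi
        exact ⟨i, _, Subgroup.zpowers_le.2 (hw ▸ pow_mem hzc _) (QuotientGroup.eq.1 hi), by group⟩
      intro a ha b hb
      obtain ⟨i, c, hc, rfl⟩ := hdec a ha
      obtain ⟨j, d, hd, rfl⟩ := hdec b hb
      have hcd : ∀ (c : G), c ∈ Subgroup.center G → ∀ y, Commute c y := fun c hc y =>
        (Subgroup.mem_center_iff.1 hc y).symm
      exact ((((Commute.refl x).zpow_zpow i j).mul_right (hcd d hd _).symm).mul_left
        (hcd c hc _)).eq
    obtain ⟨t, ht⟩ := small_centralizer_of_abelian_index_two hAi hAab hidx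
    exact Solv.lcs_ne_bot_of_small_centralizer (p := 2) (m + 2) (by rw [hn]) ⟨t, by simpa using ht⟩

omit hp in
theorem central_quotient_dihedral {n : ℕ} (hn : Nat.card G = 2 ^ (n + 3))
    (hne : (⊤ : Subgroup G).lowerCentralSeries (n + 1) ≠ ⊥) :
    Nonempty (G ⧸ Subgroup.center G ≃* DihedralGroup (2 ^ (n + 1))) := by
  haveI : Fact (Nat.Prime 2) := ⟨Nat.prime_two⟩
  obtain ⟨x, hx⟩ := Solv.exists_cyclic_index_two n hn hne
  have hG : IsPGroup 2 G := IsPGroup.of_card hn
  have hidx : (Subgroup.zpowers x).index = 2 := by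
    have h := (Subgroup.zpowers x).card_mul_index
    rw [Nat.card_zpowers, hx, hn, pow_succ 2 (n + 2)] at h
    exact Nat.eq_of_mul_eq_mul_left (pow_pos two_pos _) h
  haveI := Subgroup.normal_of_index_eq_two hidx
  obtain ⟨g, hg⟩ : ∃ g, g ∉ Subgroup.zpowers x := by
    by_contra h
    have : Subgroup.zpowers x = ⊤ := (Subgroup.eq_top_iff' _).2 fun y => by_contra fun hy => h ⟨y, hy⟩
    rw [this, Subgroup.index_top] at hidx; omega
  have hcomm2 : ∀ j : ℤ, Commute g (x ^ j) → (x ^ j) ^ 2 = 1 := fun j hj =>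
    Solv.sq_eq_one_of_commute hn hne hx hg j hj
  have hgx : ∀ a : G, a ∉ Subgroup.zpowers x → ∃ (i : ℤ), a = x ^ i * g := fun a ha => by
    obtain ⟨i, hi⟩ := Subgroup.mem_zpowers_iff.1 ((Subgroup.mul_mem_iff_of_index_two hidx).2
      (iff_of_false ha fun h' => hg (inv_mem_iff.1 h')) : a * g⁻¹ ∈ Subgroup.zpowers x)
    exact ⟨i, by rw [hi]; group⟩
  -- central elements
  have hcent : ∀ c : G, c ∈ Subgroup.center G ↔ c ∈ Subgroup.zpowers x ∧ Commute g c := by
    intro c
    constructor
    · intro hc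
      refine ⟨?_, Subgroup.mem_center_iff.1 hc g⟩
      by_contra hcx
      obtain ⟨i, rfl⟩ := hgx c hcx
      have h1 : Commute x g := by
        have h2 := Subgroup.mem_center_iff.1 hc x
        show x * g = g * x
        refine mul_left_cancel (a := x ^ i) ?_
        calc x ^ i * (x * g) = x * (x ^ i * g) := by group
          _ = x ^ i * g * x := h2
          _ = x ^ i * (g * x) := by group
      have h3 := hcomm2 1 (by rw [zpow_one]; exact h1.symm)
      rw [zpow_one, ← orderOf_dvd_iff_pow_eq_one, hx] at h3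
      have := Nat.le_of_dvd two_pos h3
      have : 2 ^ 2 ≤ 2 ^ (n + 2) := Nat.pow_le_pow_right two_pos (by omega)
      omega
    · rintro ⟨hcx, hcg⟩
      obtain ⟨j, rfl⟩ := Subgroup.mem_zpowers_iff.1 hcx
      refine Subgroup.mem_center_iff.2 fun a => ?_
      by_cases ha : a ∈ Subgroup.zpowers x
      · obtain ⟨i, rfl⟩ := Subgroup.mem_zpowers_iff.1 ha
        exact ((Commute.refl x).zpow_zpow i j).eq
      · obtain ⟨i, rfl⟩ := hgx a ha
        exact (((Commute.refl x).zpow_zpow i j).mul_left hcg).eq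
  obtain ⟨π, hπ⟩ : ∃ π, π = QuotientGroup.mk' (Subgroup.center G) := ⟨_, rfl⟩
  have hker : ∀ c, π c = 1 ↔ c ∈ Subgroup.center G := fun c => by
    rw [hπ, QuotientGroup.mk'_apply, QuotientGroup.eq_one_iff]
  have hsq : g * g ∈ Subgroup.center G :=
    (hcent _).2 ⟨(Subgroup.mul_mem_iff_of_index_two hidx).2 Iff.rfl, (Commute.refl g).mul_right (Commute.refl g)⟩
  have hinv : g * x * g⁻¹ * x ∈ Subgroup.center G := by
    have hgxm : g * x * g⁻¹ ∈ Subgroup.zpowers x := Subgroup.Normal.conj_mem inferInstance _ (Subgroup.mem_zpowers x) g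
    obtain ⟨r, hr⟩ := Subgroup.mem_zpowers_iff.1 hgxm
    refine (hcent _).2 ⟨mul_mem hgxm (Subgroup.mem_zpowers x), ?_⟩
    show g * (g * x * g⁻¹ * x) = g * x * g⁻¹ * x * g
    have hg2 : g * g * x * (g * g)⁻¹ = x := by
      rw [← Subgroup.mem_center_iff.1 hsq x, mul_inv_cancel_right]
    have h1 : g * (g * x * g⁻¹ * x) * g⁻¹ = g * x * g⁻¹ * x := by
      calc g * (g * x * g⁻¹ * x) * g⁻¹ = (g * g * x * (g * g)⁻¹) * (g * x * g⁻¹) := by group
        _ = x * (g * x * g⁻¹) := by rw [hg2]
        _ = _ := by rw [← hr]; group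
    exact mul_inv_eq_iff_eq_mul.1 h1
  have hxi : π g * π x * (π g)⁻¹ = (π x)⁻¹ := by
    rw [eq_inv_iff_mul_eq_one, ← map_inv, ← map_mul, ← map_mul, ← map_mul, hker]
    exact hinv
  have hg1 : π g ≠ 1 := fun h => hg ((hcent g).1 ((hker g).1 h)).1
  have ho : orderOf (π g) = 2 := orderOf_eq_prime (by rw [sq, ← map_mul, hker]; exact hsq) hg1
  have hgg : π g * π g = 1 := invol_mul_self ho
  obtain ⟨z, hz⟩ : ∃ z, z = x ^ 2 ^ (n + 1) := ⟨_, rfl⟩
  have hxo : orderOf (π x) = 2 ^ (n + 1) := by
    obtain ⟨k, hk, hkk⟩ := (Nat.dvd_prime_pow Nat.prime_two).1 (hx ▸ orderOf_map_dvd π x)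
    have hzc : z ∈ Subgroup.center G := by
      refine (hcent _).2 ⟨hz ▸ pow_mem (Subgroup.mem_zpowers x) _, ?_⟩
      have hz2 : z * z = 1 := by rw [hz, ← pow_add, ← two_mul, ← pow_succ', ← hx, pow_orderOf_eq_one]
      have hgz : g * z * g⁻¹ = z := by
        obtain ⟨r, hr⟩ := Subgroup.mem_zpowers_iff.1
          (Subgroup.Normal.conj_mem inferInstance _ (Subgroup.mem_zpowers x) g : g * x * g⁻¹ ∈ Subgroup.zpowers x)
        have h1 : g * z * g⁻¹ = z ^ r := by
          rw [hz, ← conj_pow, ← hr, ← zpow_natCast, ← zpow_mul, mul_comm, zpow_mul, zpow_natCast]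
        rcases Int.even_or_odd r with ⟨s, hs⟩ | ⟨s, hs⟩
        · rw [hs, ← two_mul, zpow_mul, zpow_two, hz2, one_zpow, conj_eq_one_iff] at h1
          rw [h1]; group
        · rw [h1, hs, zpow_add_one, zpow_mul, zpow_two, hz2, one_zpow, one_mul]
      exact mul_inv_eq_iff_eq_mul.1 hgz
    have h1 : π (x ^ 2 ^ (n + 1)) = 1 := (hker _).2 (hz ▸ hzc)
    rw [map_pow, ← orderOf_dvd_iff_pow_eq_one, hkk, Nat.pow_dvd_pow_iff_le_right (by norm_num)] at h1
    have h2 : n + 1 ≤ k := by
      by_contra hlt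
      have h3 : x ^ 2 ^ k ∈ Subgroup.center G := by
        rw [← hker, map_pow, ← hkk, pow_orderOf_eq_one]
      have h4 := hcomm2 ((2 ^ k : ℕ) : ℤ) (by rw [zpow_natCast]; exact ((hcent _).1 h3).2)
      rw [zpow_natCast, ← pow_mul, ← orderOf_dvd_iff_pow_eq_one, hx, ← pow_succ,
        Nat.pow_dvd_pow_iff_le_right (by norm_num)] at h4
      omega
    rw [hkk, le_antisymm h1 h2]
  have ho2 : orderOf (π g * π x) = 2 := by
    refine orderOf_eq_prime ?_ fun h => ?_
    · rw [sq]
      calc π g * π x * (π g * π x) = π g * π x * (π g)⁻¹ * (π g * π g) * π x := by group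
        _ = 1 := by rw [hxi, hgg, mul_one, inv_mul_cancel]
    · rw [← map_mul, hker] at h
      refine hg ?_
      have := mul_mem ((hcent _).1 h).1 (inv_mem (Subgroup.mem_zpowers x))
      rwa [mul_inv_cancel_right] at this
  have hne' : π g ≠ π g * π x := fun h => by
    have : π x = 1 := by simpa using h.symm
    rw [this, orderOf_one] at hxo
    exact absurd hxo (Nat.one_lt_pow (by omega) (by norm_num)).ne
  obtain ⟨e⟩ := closure_pair_equiv_dihedral ho ho2 hne'
  have htop : Subgroup.closure ({π g, π g * π x} : Set (G ⧸ Subgroup.center G)) = ⊤ := by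
    refine (Subgroup.eq_top_iff' _).2 fun a => ?_
    obtain ⟨a, rfl⟩ := (hπ ▸ QuotientGroup.mk'_surjective (Subgroup.center G) : Function.Surjective π) a
    have hgm : π g ∈ Subgroup.closure ({π g, π g * π x} : Set (G ⧸ Subgroup.center G)) :=
      Subgroup.subset_closure (by simp)
    have hxm : π x ∈ Subgroup.closure ({π g, π g * π x} : Set (G ⧸ Subgroup.center G)) := by
      have := mul_mem (inv_mem hgm) (Subgroup.subset_closure (by simp : π g * π x ∈ ({π g, π g * π x} : Set _)))
      rwa [inv_mul_cancel_left] at this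
    by_cases ha : a ∈ Subgroup.zpowers x
    · obtain ⟨i, rfl⟩ := Subgroup.mem_zpowers_iff.1 ha
      rw [map_zpow]; exact zpow_mem hxm i
    · obtain ⟨i, rfl⟩ := hgx a ha
      rw [map_mul, map_zpow]; exact mul_mem (zpow_mem hxm i) hgm
  have e2 := (MulEquiv.subgroupCongr htop).trans Subgroup.topEquiv
  rw [show π g * (π g * π x) = π x by rw [← mul_assoc, hgg, one_mul], hxo] at e
  exact ⟨e2.symm.trans e⟩

end Cfsg.Agent.Fusion

namespace Cfsg.Agent.Fusion

theorem card_order_p_subgroups_of_sq {Q : Type*} [Group Q] [Finite Q] {p : ℕ} [hp : Fact p.Prime]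
    (hQ : Nat.card Q = p ^ 2) (hnc : ¬ IsCyclic Q) : Nat.card {H : Subgroup Q // Nat.card H = p} = p + 1 := by
  classical
  haveI : Fintype Q := Fintype.ofFinite Q
  haveI : Fintype {H : Subgroup Q // Nat.card H = p} := Fintype.ofFinite _
  have hord : ∀ x : Q, x ≠ 1 → orderOf x = p := fun x hx => by
    obtain ⟨k, hk, hk'⟩ := (Nat.dvd_prime_pow hp.out).1 (hQ ▸ orderOf_dvd_natCard x)
    rcases (show k = 0 ∨ k = 1 ∨ k = 2 by omega) with rfl | rfl | rfl
    · exact absurd (orderOf_eq_one_iff.1 (by simpa using hk')) hx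
    · simpa using hk'
    · exact absurd (isCyclic_of_orderOf_eq_card x (hk'.trans hQ.symm)) hnc
  let f : {x : Q // x ≠ 1} → {H : Subgroup Q // Nat.card H = p} := fun x =>
    ⟨Subgroup.zpowers x.1, by rw [Nat.card_zpowers, hord _ x.2]⟩
  have hfib : ∀ H, Nat.card {x : {x : Q // x ≠ 1} // f x = H} = p - 1 := by
    rintro ⟨H, hH⟩
    have e : {x : {x : Q // x ≠ 1} // f x = ⟨H, hH⟩} ≃ {y : H // y ≠ 1} :=
      { toFun := fun x => ⟨⟨x.1.1, (show Subgroup.zpowers x.1.1 = H from congrArg Subtype.val x.2).le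
          (Subgroup.mem_zpowers x.1.1)⟩, fun h => x.1.2 (congrArg Subtype.val h)⟩
        invFun := fun y => ⟨⟨y.1.1, fun h => y.2 (Subtype.ext h)⟩, Subtype.ext
          (Subgroup.eq_of_le_of_card_ge (Subgroup.zpowers_le.2 y.1.2) (by
            rw [hH]; show p ≤ Nat.card (Subgroup.zpowers (y.1.1 : Q))
            rw [Nat.card_zpowers, hord _ (fun h => y.2 (Subtype.ext h))]))⟩
        left_inv := fun _ => rfl
        right_inv := fun _ => rfl }
    rw [Nat.card_congr e, Nat.card_eq_fintype_card (α := {y : H // y ≠ 1}), Fintype.card_subtype_compl,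
      Fintype.card_subtype_eq, ← Nat.card_eq_fintype_card, hH]
  have h1 := Nat.card_congr (Equiv.sigmaFiberEquiv f)
  rw [Nat.card_sigma, Finset.sum_congr rfl (fun H _ => hfib H), Finset.sum_const, smul_eq_mul,
    Finset.card_univ, Nat.card_eq_fintype_card (α := {x : Q // x ≠ 1}), Fintype.card_subtype_compl,
    Fintype.card_subtype_eq, ← Nat.card_eq_fintype_card, ← Nat.card_eq_fintype_card, hQ] at h1
  have h2 : p ^ 2 - 1 = (p + 1) * (p - 1) := by
    rw [← Nat.sq_sub_sq, one_pow]
  rw [h2] at h1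
  exact Nat.eq_of_mul_eq_mul_right (by have := hp.out.two_le; omega) h1

theorem card_normal_index_p {G : Type*} [Group G] [Finite G] {p : ℕ} [hp : Fact p.Prime] (hG : IsPGroup p G)
    (hidx : (commutator G).index = p ^ 2) (hnc : ¬ IsCyclic (G ⧸ commutator G)) :
    Nat.card {N : Subgroup G // N.Normal ∧ N.index = p} = p + 1 := by
  rw [← card_order_p_subgroups_of_sq (Q := G ⧸ commutator G) (p := p)
    (by rw [← Subgroup.index_eq_card, hidx]) hnc]
  obtain ⟨π, hπ⟩ : ∃ π, π = QuotientGroup.mk' (commutator G) := ⟨_, rfl⟩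
  have hker : π.ker = commutator G := hπ ▸ QuotientGroup.ker_mk' _
  have hsurj : Function.Surjective π := hπ ▸ QuotientGroup.mk'_surjective _
  have hci : ∀ H : Subgroup (G ⧸ commutator G), H.index * Nat.card H = p ^ 2 := fun H => by
    rw [mul_comm, H.card_mul_index, ← Subgroup.index_eq_card, hidx]
  have hcle : ∀ N : Subgroup G, N.Normal → N.index = p → commutator G ≤ N := fun N hN hNi => by
    haveI := hN
    haveI : IsCyclic (G ⧸ N) := isCyclic_of_prime_card (p := p) (by rw [← Subgroup.index_eq_card, hNi])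
    letI : CommGroup (G ⧸ N) := IsCyclic.commGroup
    simpa using Abelianization.commutator_subset_ker (QuotientGroup.mk' N)
  exact Nat.card_congr
    { toFun := fun N => ⟨N.1.map π, by
        have h1 : (N.1.map π).index = p := by
          rw [Subgroup.index_map_eq _ hsurj (hker.trans_le (hcle _ N.2.1 N.2.2)), N.2.2]
        have h2 := hci (N.1.map π)
        rw [h1, sq] at h2
        exact Nat.eq_of_mul_eq_mul_left hp.out.pos h2⟩
      invFun := fun H => ⟨H.1.comap π, by
        have h1 : (H.1.comap π).index = p := by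
          rw [Subgroup.index_comap_of_surjective _ hsurj]
          have h2 := hci H.1
          rw [H.2, sq] at h2
          exact Nat.eq_of_mul_eq_mul_right hp.out.pos h2
        refine ⟨⟨fun x hx g => ?_⟩, h1⟩
        have hc : g * x * g⁻¹ * x⁻¹ ∈ H.1.comap π := by
          show π (g * x * g⁻¹ * x⁻¹) ∈ H.1
          have hk : g * x * g⁻¹ * x⁻¹ ∈ commutator G :=
            Subgroup.commutator_mem_commutator (Subgroup.mem_top g) (Subgroup.mem_top x)
          rw [show π (g * x * g⁻¹ * x⁻¹) = 1 from MonoidHom.mem_ker.1 (by rw [hker]; exact hk)]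
          exact one_mem _
        have := mul_mem hc hx
        rwa [inv_mul_cancel_right] at this⟩
      left_inv := fun N => Subtype.ext (Subgroup.comap_map_eq_self (hker.trans_le (hcle _ N.2.1 N.2.2)))
      right_inv := fun H => Subtype.ext (Subgroup.map_comap_eq_self_of_surjective hsurj _) }

end Cfsg.Agent.Fusion
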