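import Cfsg.Agent.Lib.Fusion.SubgroupCountSq

/-!
# Cyclic and maximal class maximal subgroups, counted modulo `p`
-/

set_option autoImplicit false
set_option linter.style.haveILetI false

open scoped commutatorElement

namespace Cfsg.Agent.CountSq

universe u

variable {G : Type u} [Group G] [Finite G] {p : ℕ} [hp : Fact p.Prime]

theorem coatom_card (hG : IsPGroup p G) {M : Subgroup G} (hM : IsCoatom M) :
    Nat.card M * p = Nat.card G := by
  have h := M.card_mul_index
  rwa [Solv.coatom_index hG hM] at h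

omit [Finite G] hp in
theorem commutator_eq_bot_of_comm (h : ∀ x y : G, x * y = y * x) : commutator G = ⊥ := by
  rw [commutator_def, eq_bot_iff, Subgroup.commutator_le]
  intro x _ y _
  rw [Subgroup.mem_bot, commutatorElement_eq_one_iff_mul_comm]
  exact h x y

omit [Finite G] hp in
theorem commutator_index_of_cyclic [IsCyclic G] : (commutator G).index = Nat.card G := by
  letI : CommGroup G := IsCyclic.commGroup
  rw [commutator_eq_bot_of_comm (fun x y => mul_comm x y), Subgroup.index_bot]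

omit [Finite G] hp in
theorem comm_of_closed_mul (S : Subgroup G) {a b : G} (hab : a * b = b * a)
    (hgen : Subgroup.zpowers a ⊔ Subgroup.zpowers b = S) : ∀ x ∈ S, ∀ y ∈ S, x * y = y * x := by
  have hcom : ∀ g, g * a = a * g → g * b = b * g → ∀ x ∈ S, g * x = x * g := by
    intro g ha hb x hx
    have h1 : S ≤ Subgroup.centralizer ({g} : Set G) := hgen ▸ sup_le
      (Subgroup.zpowers_le.2 (Subgroup.mem_centralizer_singleton_iff.2 ha.symm))
      (Subgroup.zpowers_le.2 (Subgroup.mem_centralizer_singleton_iff.2 hb.symm))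
    exact (Subgroup.mem_centralizer_singleton_iff.1 (h1 hx)).symm
  intro x hx y hy
  exact hcom x (hcom a rfl hab x hx).symm (hcom b hab.symm rfl x hx).symm y hy

/-- With a cyclic maximal subgroup, outside maximal class: all commutators are central of order
dividing `p`. -/
theorem cyclic_maximal_class_two {N : ℕ} (hN : 2 ≤ N) (hG : Nat.card G = p ^ (N + 1))
    (C : Subgroup G) (hC : IsCyclic C) (hCi : C.index = p)
    (hex : ¬ (p = 2 ∧ (commutator G).index = 4)) :
    (∀ x y : G, x * y = y * x) ∨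
      ((∀ x y z : G, Commute ⁅x, y⁆ z ∧ ⁅x, y⁆ ^ p = 1) ∧ (p = 2 → 3 ≤ N)) := by
  by_cases hab : ∀ x y : G, x * y = y * x
  · exact Or.inl hab
  right
  push Not at hab
  have hGp : IsPGroup p G := IsPGroup.of_card hG
  obtain ⟨a, b, hao, hb, hrel, hN3⟩ : ∃ a b : G, orderOf a = p ^ N ∧ b ∉ Subgroup.zpowers a ∧
      b * a * b⁻¹ = a ^ (1 + p ^ (N - 1)) ∧ (p = 2 → 3 ≤ N) := by
    rcases eq_or_ne p 2 with rfl | hp2
    · obtain ⟨a, b, hao, hb, hcases⟩ := Fusion.cyclic_maximal_two hN hG C hC hCi hab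
      have hidx : ∀ t : G, t ∈ commutator G → orderOf t = 2 ^ (N - 1) → False := by
        intro t ht hto
        apply hex
        refine ⟨rfl, le_antisymm ?_ ?_⟩
        · have h1 : 2 ^ (N - 1) ≤ Nat.card (commutator G) := by
            rw [← hto, ← Nat.card_zpowers]
            exact Subgroup.card_le_of_le (Subgroup.zpowers_le.2 ht)
          have h2 := (commutator G).card_mul_index
          rw [hG, show 2 ^ (N + 1) = 2 ^ (N - 1) * 4 by
            rw [show N + 1 = N - 1 + 2 by omega, pow_add]; norm_num] at h2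
          refine Nat.le_of_mul_le_mul_left ?_ (show 0 < 2 ^ (N - 1) from pow_pos two_pos _)
          rw [← h2]
          exact Nat.mul_le_mul_right _ h1
        · exact Solv.commutator_index_ge_sq hGp hG (by omega)
      have hcm : ⁅b, a⁆ ∈ commutator G :=
        Subgroup.commutator_mem_commutator (Subgroup.mem_top b) (Subgroup.mem_top a)
      have hord : ∀ j : ℕ, Odd j → orderOf (a ^ (2 * j)) = 2 ^ (N - 1) := by
        intro j hj
        have h1 : orderOf (a ^ 2) = 2 ^ (N - 1) := by
          rw [orderOf_pow_of_dvd two_ne_zero (hao ▸ dvd_pow_self 2 (by omega)), hao]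
          nth_rewrite 1 [show N = N - 1 + 1 by omega]
          rw [pow_succ, Nat.mul_div_cancel _ two_pos]
        rw [pow_mul, Nat.Coprime.orderOf_pow (h1 ▸ (Nat.coprime_two_left.2 hj).pow_left _), h1]
      rcases hcases with ⟨-, h⟩ | ⟨-, h⟩ | ⟨h3, -, h⟩ | ⟨h3, -, h⟩
      · exfalso
        refine hidx _ (inv_mem hcm) ?_
        rw [commutatorElement_def, h, mul_inv_rev, inv_inv, ← pow_two, ← mul_one 2]
        exact hord 1 odd_one
      · exfalso
        refine hidx _ (inv_mem hcm) ?_
        rw [commutatorElement_def, h, mul_inv_rev, inv_inv, ← pow_two, ← mul_one 2]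
        exact hord 1 odd_one
      · exact ⟨a, b, hao, hb, h, fun _ => h3⟩
      · exfalso
        refine hidx _ hcm ?_
        obtain ⟨j, hj, hje⟩ : ∃ j : ℕ, Odd j ∧ 2 ^ (N - 1) - 1 = 2 * j + 1 := by
          have e : 2 ^ (N - 1) = 4 * 2 ^ (N - 3) := by
            rw [show N - 1 = 2 + (N - 3) by omega, pow_add]; norm_num
          have := Nat.one_le_two_pow (n := N - 3)
          exact ⟨2 * (2 ^ (N - 3) - 1) + 1, ⟨2 ^ (N - 3) - 1, rfl⟩, by omega⟩
        rw [commutatorElement_def, h, hje, pow_succ, mul_inv_cancel_right]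
        exact hord j hj
    · obtain ⟨a, b, hao, -, hb, h⟩ := Fusion.cyclic_maximal_odd hp2 hN hG C hC hCi hab
      exact ⟨a, b, hao, hb, h, fun h => absurd h hp2⟩
  refine ⟨fun x y z => ?_, hN3⟩
  obtain ⟨q, hq⟩ : ∃ q, q = p ^ (N - 1) := ⟨_, rfl⟩
  rw [← hq] at hrel
  have hqp : q * p = p ^ N := by rw [hq, ← pow_succ, Nat.sub_add_cancel (by omega)]
  have hgen : Subgroup.zpowers a ⊔ Subgroup.zpowers b = ⊤ := by
    have hi : (Subgroup.zpowers a).index = p := by
      have h := (Subgroup.zpowers a).card_mul_index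
      rw [Nat.card_zpowers, hao, hG, pow_succ] at h
      exact Nat.eq_of_mul_eq_mul_left (pow_pos hp.out.pos _) h
    exact (coatom_of_index hi).2 _ (lt_of_le_of_ne le_sup_left fun h =>
      hb (h.symm ▸ Subgroup.mem_sup_right (Subgroup.mem_zpowers b)))
  have hzc : ∀ g : G, a ^ q * g = g * a ^ q := by
    have h0 : b * a ^ q * b⁻¹ = a ^ q := by
      rw [← conj_pow, hrel, ← pow_mul, Nat.add_mul, one_mul, pow_add]
      have h1 : p ^ N ∣ q * q := by
        rw [hq, ← pow_add]
        exact pow_dvd_pow p (by omega)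
      rw [orderOf_dvd_iff_pow_eq_one.1 (hao ▸ h1 : orderOf a ∣ q * q), mul_one]
    intro g
    have h1 : (⊤ : Subgroup G) ≤ Subgroup.centralizer ({a ^ q} : Set G) := hgen ▸ sup_le
      (Subgroup.zpowers_le.2 (Subgroup.mem_centralizer_singleton_iff.2 ((Commute.refl a).pow_right q).eq))
      (Subgroup.zpowers_le.2 (Subgroup.mem_centralizer_singleton_iff.2 (mul_inv_eq_iff_eq_mul.1 h0)))
    exact (Subgroup.mem_centralizer_singleton_iff.1 (h1 (Subgroup.mem_top g))).symm
  let Z := Subgroup.zpowers (a ^ q)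
  haveI : Z.Normal := Solv.normal_of_le_center'
    (Subgroup.zpowers_le.2 (Subgroup.mem_center_iff.2 fun g => (hzc g).symm))
  have hba : QuotientGroup.mk' Z a * QuotientGroup.mk' Z b
      = QuotientGroup.mk' Z b * QuotientGroup.mk' Z a := by
    have h : b * a = a * b * a ^ q := by
      rw [mul_inv_eq_iff_eq_mul.1 hrel, pow_add, pow_one, mul_assoc, hzc b, ← mul_assoc]
    have hq1 : QuotientGroup.mk' Z (a ^ q) = 1 :=
      (QuotientGroup.eq_one_iff _).2 (Subgroup.mem_zpowers _)
    rw [← map_mul, ← map_mul, h, map_mul _ (a * b), hq1, mul_one]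
  have hxyZ : ⁅x, y⁆ ∈ Z := by
    have h := comm_of_closed_mul (⊤ : Subgroup (G ⧸ Z)) hba (by
      rw [← MonoidHom.map_zpowers, ← MonoidHom.map_zpowers, ← Subgroup.map_sup, hgen,
        Subgroup.map_top_of_surjective _ (QuotientGroup.mk'_surjective Z)])
      (QuotientGroup.mk' Z x) (Subgroup.mem_top _) (QuotientGroup.mk' Z y) (Subgroup.mem_top _)
    rw [← commutatorElement_eq_one_iff_mul_comm, ← map_commutatorElement, QuotientGroup.mk'_apply,
      QuotientGroup.eq_one_iff] at h
    exact h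
  obtain ⟨j, hj⟩ := Subgroup.mem_zpowers_iff.1 hxyZ
  rw [← hj]
  refine ⟨(show Commute (a ^ q) z from hzc z).zpow_left j, ?_⟩
  rw [← zpow_natCast, ← zpow_mul, mul_comm, zpow_mul, zpow_natCast, ← pow_mul, hqp, ← hao,
    pow_orderOf_eq_one, one_zpow]

/-- The number of cyclic maximal subgroups is divisible by `p` outside maximal class. -/
theorem cyclic_coatoms_modEq {N : ℕ} (hN : 2 ≤ N) (hG : Nat.card G = p ^ (N + 1)) (hnc : ¬ IsCyclic G)
    (hex : ¬ (p = 2 ∧ (commutator G).index = 4)) :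
    Nat.card {M : Subgroup G // IsCoatom M ∧ IsCyclic M} ≡ 0 [MOD p] := by
  classical
  have hGp : IsPGroup p G := IsPGroup.of_card hG
  by_cases h0 : ∃ C : Subgroup G, IsCoatom C ∧ IsCyclic C
  swap
  · rw [show Nat.card {M : Subgroup G // IsCoatom M ∧ IsCyclic M} = 0 from
      Nat.card_eq_zero.2 (Or.inl ⟨fun M => h0 ⟨M.1, M.2⟩⟩)]
  obtain ⟨C, hC, hCc⟩ := h0
  have hCi := Solv.coatom_index hGp hC
  obtain ⟨q, hq⟩ : ∃ q, q = p ^ (N - 1) := ⟨_, rfl⟩
  have hqp : q * p = p ^ N := by rw [hq, ← pow_succ, Nat.sub_add_cancel (by omega)]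
  have hdata := cyclic_maximal_class_two hN hG C hCc hCi hex
  have hmul : ∀ x y : G, (x * y) ^ q = x ^ q * y ^ q := by
    rcases hdata with hab | ⟨hc, h3⟩
    · exact fun x y => Commute.mul_pow (hab x y) q
    · intro x y
      obtain ⟨cc, hcc⟩ : ∃ cc, cc = ⁅y⁻¹, x⁻¹⁆ := ⟨_, rfl⟩
      have hyx : y * x = x * y * cc := by rw [hcc, commutatorElement_def]; group
      rw [Solv.mul_pow_comm_central hyx (hcc ▸ (hc _ _ x).1) (hcc ▸ (hc _ _ y).1)]
      have hdvd : p ∣ q.choose 2 := by
        rw [Nat.choose_two_right]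
        rcases eq_or_ne p 2 with rfl | hp2
        · have := h3 rfl
          have e : q = 4 * 2 ^ (N - 3) := by
            rw [hq, show N - 1 = 2 + (N - 3) by omega, pow_add]; norm_num
          rw [e, show 4 * 2 ^ (N - 3) * (4 * 2 ^ (N - 3) - 1)
            = 2 * (2 * (2 ^ (N - 3) * (4 * 2 ^ (N - 3) - 1))) by ring, Nat.mul_div_cancel_left _ two_pos]
          exact dvd_mul_right 2 _
        · have hodd : Odd q := hq ▸ (hp.out.odd_of_ne_two hp2).pow
          obtain ⟨t, ht⟩ := hodd
          rw [show q * (q - 1) = 2 * (q * t) by rw [ht, Nat.add_sub_cancel]; ring,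
            Nat.mul_div_cancel_left _ two_pos]
          exact (hq ▸ dvd_pow_self p (by omega : N - 1 ≠ 0)).mul_right t
      obtain ⟨r, hr⟩ := hdvd
      rw [hr, pow_mul, hcc, (hc y⁻¹ x⁻¹ 1).2, one_pow, mul_one]
  let φ : G →* G := MonoidHom.mk' (fun x => x ^ q) hmul
  obtain ⟨⟨a, haC⟩, ha⟩ := hCc.exists_generator
  have hao : orderOf a = p ^ N := by
    have h1 : orderOf (⟨a, haC⟩ : C) = Nat.card C := orderOf_eq_card_of_forall_mem_zpowers ha
    rw [← Subgroup.orderOf_coe] at h1
    have h2 := coatom_card hGp hC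
    rw [hG, pow_succ] at h2
    exact h1.trans (Nat.eq_of_mul_eq_mul_right hp.out.pos h2)
  have hCa : C = Subgroup.zpowers a := by
    refine (Subgroup.eq_of_le_of_card_ge (Subgroup.zpowers_le.2 haC) ?_).symm
    rw [Nat.card_zpowers, hao]
    have h2 := coatom_card hGp hC
    rw [hG, pow_succ] at h2
    exact (Nat.eq_of_mul_eq_mul_right hp.out.pos h2).le
  -- every `q`-th power lies in the subgroup of order `p` of `⟨a⟩`
  have himg : φ.range ≤ Subgroup.zpowers (a ^ q) := by
    rintro _ ⟨x, rfl⟩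
    show x ^ q ∈ _
    haveI : C.Normal := Solv.coatom_normal hGp hC
    obtain ⟨i, hi⟩ : x ^ p ∈ Subgroup.zpowers a := hCa ▸ (hCi ▸ C.pow_index_mem x)
    have hi : a ^ i = x ^ p := hi
    by_cases hpi : (p : ℤ) ∣ i
    · obtain ⟨r, rfl⟩ := hpi
      have e : x ^ q = (x ^ p) ^ p ^ (N - 2) := by
        rw [← pow_mul, hq, ← pow_succ', show N - 2 + 1 = N - 1 by omega]
      rw [e, ← hi, ← zpow_natCast (a ^ ((p : ℤ) * r)), ← zpow_mul,
        show (p : ℤ) * r * ((p ^ (N - 2) : ℕ) : ℤ) = ((q : ℕ) : ℤ) * r by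
          rw [hq, show N - 1 = N - 2 + 1 by omega, pow_succ]; push_cast; ring,
        zpow_mul, zpow_natCast]
      exact zpow_mem (Subgroup.mem_zpowers _) _
    · exfalso
      apply hnc
      refine isCyclic_of_orderOf_eq_card x ?_
      have hcop : IsCoprime i ((p : ℤ) ^ N) :=
        (((Nat.prime_iff_prime_int.1 hp.out).coprime_iff_not_dvd).2 hpi).pow_left.symm
      obtain ⟨u, v, huv⟩ := hcop
      have hax : a ∈ Subgroup.zpowers (x ^ p) := by
        refine ⟨u, ?_⟩
        show (x ^ p) ^ u = a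
        rw [← hi, ← zpow_mul, show i * u = 1 - v * (p : ℤ) ^ N by linear_combination huv, zpow_sub,
          zpow_one, mul_comm v, zpow_mul, ← Nat.cast_pow, zpow_natCast, ← hao, pow_orderOf_eq_one,
          one_zpow, inv_one, mul_one]
      have h1 : p ^ N ∣ orderOf (x ^ p) := by
        have h := Subgroup.card_dvd_of_le (Subgroup.zpowers_le.2 hax)
        rwa [Nat.card_zpowers, Nat.card_zpowers, hao] at h
      obtain ⟨k, hk⟩ := IsPGroup.iff_orderOf.1 hGp x
      have hk0 : k ≠ 0 := by
        rintro rfl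
        rw [pow_zero, orderOf_eq_one_iff] at hk
        rw [hk, one_pow, orderOf_one] at h1
        have := Nat.le_of_dvd one_pos h1
        have := Nat.one_lt_pow (show N ≠ 0 by omega) hp.out.one_lt
        omega
      rw [orderOf_pow_of_dvd hp.out.ne_zero (hk ▸ dvd_pow_self p hk0), hk] at h1
      rw [show p ^ k = p ^ (k - 1) * p by rw [← pow_succ, Nat.sub_add_cancel (by omega)],
        Nat.mul_div_cancel _ hp.out.pos] at h1
      have h2 := (Nat.pow_dvd_pow_iff_le_right hp.out.one_lt).1 h1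
      have h3 : p ^ k ∣ p ^ (N + 1) := by rw [← hk, ← hG]; exact orderOf_dvd_natCard x
      have h4 := (Nat.pow_dvd_pow_iff_le_right hp.out.one_lt).1 h3
      rw [hk, hG]
      congr 1
      omega
  have haker : a ∉ φ.ker := by
    intro h
    have h1 : a ^ q = 1 := h
    have h2 := Nat.le_of_dvd (hq ▸ pow_pos hp.out.pos _) (orderOf_dvd_of_pow_eq_one h1)
    rw [hao, ← hqp] at h2
    have : q * 2 ≤ q * p := Nat.mul_le_mul_left q hp.out.two_le
    have hq0 : 0 < q := hq ▸ pow_pos hp.out.pos _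
    omega
  have hzc : Nat.card (Subgroup.zpowers (a ^ q)) = p := by
    rw [Nat.card_zpowers, orderOf_pow_of_dvd (hq ▸ pow_ne_zero _ hp.out.ne_zero)
      (hao ▸ hqp ▸ dvd_mul_right q p), hao, ← hqp, Nat.mul_div_cancel_left _ (hq ▸ pow_pos hp.out.pos _)]
  have hKi : φ.ker.index = p := by
    rw [Subgroup.index_ker]
    refine ((Nat.dvd_prime hp.out).1 (hzc ▸ Subgroup.card_dvd_of_le himg)).resolve_left fun h => haker ?_
    have h' : φ a ∈ φ.range := ⟨a, rfl⟩
    rw [Subgroup.card_eq_one.1 h, Subgroup.mem_bot] at h'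
    exact h'
  have hKc : IsCoatom φ.ker := coatom_of_index hKi
  have hKnc : ¬ IsCyclic φ.ker := by
    intro hc
    obtain ⟨⟨k, hk⟩, hgen⟩ := hc.exists_generator
    have h1 : orderOf (⟨k, hk⟩ : φ.ker) = Nat.card φ.ker := orderOf_eq_card_of_forall_mem_zpowers hgen
    rw [← Subgroup.orderOf_coe] at h1
    have h2 := coatom_card hGp hKc
    rw [hG, pow_succ] at h2
    have hk' : k ^ q = 1 := hk
    have h3 : Nat.card φ.ker ∣ q := h1 ▸ orderOf_dvd_of_pow_eq_one hk'
    rw [Nat.eq_of_mul_eq_mul_right hp.out.pos h2, ← hqp] at h3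
    have h4 := Nat.le_of_dvd (hq ▸ pow_pos hp.out.pos _) h3
    have : q * 2 ≤ q * p := Nat.mul_le_mul_left q hp.out.two_le
    have hq0 : 0 < q := hq ▸ pow_pos hp.out.pos _
    omega
  have huniq : ∀ M : Subgroup G, IsCoatom M → ¬ IsCyclic M → M = φ.ker := by
    intro M hM hMnc
    have hle : M ≤ φ.ker := by
      intro x hx
      show x ^ q = 1
      obtain ⟨k, hk⟩ := IsPGroup.iff_orderOf.1 hGp x
      have hMcard : Nat.card M = p ^ N := by
        have h2 := coatom_card hGp hM
        rw [hG, pow_succ] at h2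
        exact Nat.eq_of_mul_eq_mul_right hp.out.pos h2
      have hdvd : orderOf x ∣ p ^ N := by
        rw [← hMcard, ← Subgroup.orderOf_mk x hx]
        exact orderOf_dvd_natCard _
      have hkN : k < N := by
        rw [hk] at hdvd
        refine lt_of_le_of_ne ((Nat.pow_dvd_pow_iff_le_right hp.out.one_lt).1 hdvd) fun h => hMnc ?_
        refine isCyclic_of_orderOf_eq_card (⟨x, hx⟩ : M) ?_
        rw [Subgroup.orderOf_mk, hk, h, hMcard]
      rw [← orderOf_dvd_iff_pow_eq_one, hk, hq]
      exact pow_dvd_pow p (by omega)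
    exact (hM.le_iff.1 hle).resolve_left hKc.1 ▸ rfl
  have hall := (card_coatoms_modEq hGp hnc)
  have hsplit : Nat.card {M : Subgroup G // IsCoatom M}
      = Nat.card {M : Subgroup G // IsCoatom M ∧ IsCyclic M} + 1 := by
    rw [← Nat.card_congr (Equiv.sumCompl fun M : {M : Subgroup G // IsCoatom M} => IsCyclic M.1),
      Nat.card_sum]
    congr 1
    · exact Nat.card_congr (Equiv.subtypeSubtypeEquivSubtypeInter (fun M : Subgroup G => IsCoatom M)
        (fun M => IsCyclic M))
    · rw [Nat.card_eq_one_iff_unique]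
      exact ⟨⟨fun A B => Subtype.ext (Subtype.ext
        ((huniq _ A.1.2 A.2).trans (huniq _ B.1.2 B.2).symm))⟩, ⟨⟨⟨_, hKc⟩, hKnc⟩⟩⟩
  rw [hsplit, add_comm 1 p] at hall
  refine ((Nat.ModEq.add_right_cancel' 1 hall).of_dvd ?_).trans ?_
  · exact dvd_pow_self p two_ne_zero
  · exact Nat.modEq_zero_iff_dvd.2 dvd_rfl

omit [Finite G] hp in
theorem map_subtype_commutator (M : Subgroup G) :
    (commutator M).map M.subtype = ⁅M, M⁆ := by
  rw [commutator_def, Subgroup.map_commutator, ← MonoidHom.range_eq_map, Subgroup.range_subtype]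

omit hp in
theorem comm_of_card_le_four {H : Type*} [Group H] [Finite H] (hH : IsPGroup 2 H)
    (h4 : Nat.card H ≤ 4) : ∀ x y : H, x * y = y * x := by
  haveI : Fact (Nat.Prime 2) := ⟨Nat.prime_two⟩
  obtain ⟨k, hk⟩ := IsPGroup.iff_card.1 hH
  have hk2 : k ≤ 2 := by
    by_contra h
    have := Nat.pow_le_pow_right two_pos (show 3 ≤ k by omega)
    omega
  interval_cases k
  · intro x y
    haveI := (Nat.card_eq_one_iff_unique.1 (by simpa using hk)).1
    exact Subsingleton.elim _ _
  · haveI : IsCyclic H := isCyclic_of_prime_card (p := 2) (by simpa using hk)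
    letI : CommGroup H := IsCyclic.commGroup
    exact fun x y => mul_comm x y
  · intro x y
    exact IsPGroup.commutative_of_card_eq_prime_sq (p := 2) hk x y

/-- Maximal subgroups of maximal class come in an even number outside maximal class. -/
theorem max_class_coatoms_modEq {G : Type u} [Group G] [Finite G] {m : ℕ} (hm : 4 ≤ m)
    (hG : Nat.card G = 2 ^ m) (hnc : ¬ IsCyclic G) (hex : (commutator G).index ≠ 4) :
    Nat.card {M : Subgroup G // IsCoatom M ∧ (commutator M).index = 4} ≡ 0 [MOD 2] := by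
  classical
  haveI : Fact (Nat.Prime 2) := ⟨Nat.prime_two⟩
  have hGp : IsPGroup 2 G := IsPGroup.of_card hG
  by_cases h0 : ∃ M : Subgroup G, IsCoatom M ∧ (commutator M).index = 4
  swap
  · rw [show Nat.card {M : Subgroup G // IsCoatom M ∧ (commutator M).index = 4} = 0 from
      Nat.card_eq_zero.2 (Or.inl ⟨fun M => h0 ⟨M.1, M.2⟩⟩)]
  obtain ⟨M₀, hM₀, hM₀i⟩ := h0
  obtain ⟨n, rfl⟩ : ∃ n, m = n + 4 := ⟨m - 4, by omega⟩
  have hMc : ∀ M : Subgroup G, IsCoatom M → Nat.card M = 2 ^ (n + 3) := fun M hM => by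
    have h := coatom_card hGp hM
    rw [hG, pow_succ] at h
    exact Nat.eq_of_mul_eq_mul_right two_pos h
  have hcc : ∀ M : Subgroup G, IsCoatom M →
      Nat.card ↥⁅M, M⁆ * (commutator M).index = 2 ^ (n + 3) := by
    intro M hM
    rw [← map_subtype_commutator, Subgroup.card_map_of_injective M.subtype_injective,
      Subgroup.card_mul_index, hMc M hM]
  have hle : ∀ M : Subgroup G, ⁅M, M⁆ ≤ commutator G := fun M => by
    rw [commutator_def]; exact Subgroup.commutator_mono le_top le_top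
  have hM₀c : Nat.card ↥⁅M₀, M₀⁆ = 2 ^ (n + 1) := by
    have h := hcc M₀ hM₀
    rw [hM₀i, show 2 ^ (n + 3) = 2 ^ (n + 1) * 4 by
      rw [show n + 3 = n + 1 + 2 by omega, pow_add]; norm_num] at h
    exact Nat.eq_of_mul_eq_mul_right (by norm_num) h
  have hM₀eq : ⁅M₀, M₀⁆ = commutator G := by
    refine Subgroup.eq_of_le_of_card_ge (hle M₀) ?_
    rw [hM₀c]
    have h1 := (commutator G).card_mul_index
    obtain ⟨i, hi⟩ := hGp.index (commutator G)
    have h2 := Solv.commutator_index_ge_sq hGp hG (by omega)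
    rw [hi] at h2 hex h1
    have h3 : 2 ≤ i := (Nat.pow_le_pow_iff_right (by norm_num)).1 h2
    have h4 : i ≠ 2 := fun h => hex (by rw [h]; norm_num)
    have h5 : 2 ^ 3 ≤ 2 ^ i := Nat.pow_le_pow_right two_pos (by omega)
    rw [hG, show 2 ^ (n + 4) = 2 ^ (n + 1) * 2 ^ 3 by rw [← pow_add]] at h1
    refine Nat.le_of_mul_le_mul_right ?_ (show 0 < 2 ^ 3 by norm_num)
    rw [← h1]
    exact Nat.mul_le_mul_left _ h5
  have hGc : Nat.card (commutator G) = 2 ^ (n + 1) := hM₀eq ▸ hM₀c
  obtain ⟨g0, hg0⟩ : ∃ g0 : G, commutator G = Subgroup.zpowers g0 := by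
    obtain ⟨x, hx⟩ := Solv.exists_cyclic_index_two n (hMc M₀ hM₀)
      (Fusion.lcs_ne_bot_of_commutator_index_four n (hMc M₀ hM₀) hM₀i)
    have hxi : (Subgroup.zpowers x).index = 2 := by
      have h := (Subgroup.zpowers x).card_mul_index
      rw [Nat.card_zpowers, hx, hMc M₀ hM₀, pow_succ 2 (n + 2)] at h
      exact Nat.eq_of_mul_eq_mul_left (pow_pos two_pos _) h
    haveI := Subgroup.normal_of_index_eq_two hxi
    have hxle : commutator M₀ ≤ Subgroup.zpowers x := by
      have hcy : IsCyclic (M₀ ⧸ Subgroup.zpowers x) :=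
        isCyclic_of_prime_card (p := 2) (by rw [← Subgroup.index_eq_card, hxi])
      letI : CommGroup (M₀ ⧸ Subgroup.zpowers x) := IsCyclic.commGroup
      rw [commutator_def, Subgroup.commutator_le]
      intro u _ v _
      rw [← QuotientGroup.eq_one_iff, ← QuotientGroup.mk'_apply, map_commutatorElement,
        commutatorElement_eq_one_iff_mul_comm]
      exact mul_comm _ _
    haveI : IsCyclic (commutator M₀) := Subgroup.isCyclic_of_le hxle
    obtain ⟨⟨g, hg⟩, hgen⟩ := IsCyclic.exists_generator (α := commutator M₀)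
    refine ⟨(g : G), ?_⟩
    rw [← hM₀eq, ← map_subtype_commutator]
    apply le_antisymm
    · rintro _ ⟨y, hy, rfl⟩
      obtain ⟨j, hj⟩ := hgen ⟨y, hy⟩
      refine ⟨j, ?_⟩
      have := congrArg (fun z : commutator M₀ => ((z : M₀) : G)) hj
      simpa using this
    · rw [Subgroup.zpowers_le]
      exact ⟨g, hg, rfl⟩
  obtain ⟨T, hT⟩ : ∃ T, T = Subgroup.zpowers (g0 ^ 2) := ⟨_, rfl⟩
  haveI hTn : T.Normal := by
    rw [hT]
    constructor
    rintro _ ⟨i, rfl⟩ g
    show g * (g0 ^ 2) ^ i * g⁻¹ ∈ _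
    obtain ⟨j, hj⟩ : g * g0 * g⁻¹ ∈ Subgroup.zpowers g0 := by
      rw [← hg0]
      exact (inferInstance : (commutator G).Normal).conj_mem _ (hg0 ▸ Subgroup.mem_zpowers g0) g
    refine ⟨j * i, ?_⟩
    show (g0 ^ 2) ^ (j * i) = _
    rw [← conj_zpow, ← conj_pow, ← (show g0 ^ j = g * g0 * g⁻¹ from hj), ← zpow_natCast,
      ← zpow_natCast, ← zpow_mul, ← zpow_mul, ← zpow_mul]
    ring_nf
  have ho : orderOf g0 = 2 ^ (n + 1) := by rw [← Nat.card_zpowers, ← hg0, hGc]
  let π := QuotientGroup.mk' T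
  have hπ : Function.Surjective π := QuotientGroup.mk'_surjective T
  have hc0 : π g0 ≠ 1 := by
    intro h
    rw [QuotientGroup.mk'_apply, QuotientGroup.eq_one_iff, hT] at h
    have h1 := Subgroup.card_le_of_le (Subgroup.zpowers_le.2 h)
    rw [Nat.card_zpowers, Nat.card_zpowers,
      orderOf_pow_of_dvd two_ne_zero (ho ▸ dvd_pow_self 2 (by omega)), ho] at h1
    have : 0 < 2 ^ (n + 1) := pow_pos two_pos _
    omega
  have hc2 : π g0 * π g0 = 1 := by
    rw [← map_mul, QuotientGroup.mk'_apply, QuotientGroup.eq_one_iff, hT, ← pow_two]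
    exact Subgroup.mem_zpowers _
  have hcomm : ∀ x y : G, π ⁅x, y⁆ = 1 ∨ π ⁅x, y⁆ = π g0 := by
    intro x y
    obtain ⟨j, hj⟩ : ⁅x, y⁆ ∈ Subgroup.zpowers g0 := hg0 ▸
      Subgroup.commutator_mem_commutator (Subgroup.mem_top x) (Subgroup.mem_top y)
    rw [← hj]
    show π (g0 ^ j) = 1 ∨ _
    rcases Int.even_or_odd' j with ⟨r, rfl | rfl⟩
    · left
      rw [map_zpow, zpow_mul, zpow_two, hc2, one_zpow]
    · right
      show π (g0 ^ (2 * r + 1)) = π g0
      rw [map_zpow, zpow_add, zpow_mul, zpow_two, hc2, one_zpow, one_mul, zpow_one]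
  have hcen : ∀ q, π g0 * q = q * π g0 := by
    intro q
    obtain ⟨g, rfl⟩ := hπ q
    rcases hcomm g g0 with h | h
    · rw [map_commutatorElement, commutatorElement_eq_one_iff_mul_comm] at h
      exact h.symm
    · rw [map_commutatorElement, commutatorElement_def] at h
      have h' : π g * π g0 * (π g)⁻¹ = π g0 * π g0 := mul_inv_eq_iff_eq_mul.1 h
      rw [hc2, mul_inv_eq_one, mul_eq_left] at h'
      exact absurd h' hc0
  have hswap : ∀ x y : G, π x * π y ≠ π y * π x → π x * π y = π g0 * (π y * π x) := by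
    intro x y h
    rcases hcomm x y with h' | h'
    · rw [map_commutatorElement, commutatorElement_eq_one_iff_mul_comm] at h'
      exact absurd h' h
    · rw [map_commutatorElement, commutatorElement_def] at h'
      rw [← h']; group
  -- maximal class is non-commutativity modulo `T`
  have hiff : ∀ M : Subgroup G, IsCoatom M →
      ((commutator M).index = 4 ↔ ∃ y ∈ M, ∃ z ∈ M, π y * π z ≠ π z * π y) := by
    intro M hM
    constructor
    · intro hi
      by_contra hcon
      push Not at hcon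
      have h := hcc M hM
      have hMT : ⁅M, M⁆ ≤ T := by
        rw [Subgroup.commutator_le]
        intro y hy z hz
        rw [← QuotientGroup.eq_one_iff, ← QuotientGroup.mk'_apply, map_commutatorElement,
          commutatorElement_eq_one_iff_mul_comm]
        exact hcon y hy z hz
      have h2 := Subgroup.card_le_of_le hMT
      rw [hT, Nat.card_zpowers, orderOf_pow_of_dvd two_ne_zero (ho ▸ dvd_pow_self 2 (by omega)), ho,
        pow_succ, Nat.mul_div_cancel _ two_pos] at h2
      rw [hi, show 2 ^ (n + 3) = 2 ^ n * 8 by rw [pow_add]; norm_num] at h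
      have h8 : 0 < 2 ^ n := pow_pos two_pos _
      omega
    · rintro ⟨y, hy, z, hz, hyz⟩
      have hg : π ⁅y, z⁆ = π g0 := (hcomm y z).resolve_left fun h => hyz
        (by rwa [map_commutatorElement, commutatorElement_eq_one_iff_mul_comm] at h)
      obtain ⟨j, hj⟩ : ⁅y, z⁆ ∈ Subgroup.zpowers g0 := hg0 ▸
        Subgroup.commutator_mem_commutator (Subgroup.mem_top y) (Subgroup.mem_top z)
      have hj : g0 ^ j = ⁅y, z⁆ := hj
      have hodd : ¬ (2 : ℤ) ∣ j := by
        rintro ⟨r, rfl⟩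
        rw [← hj, map_zpow, zpow_mul, zpow_two, hc2, one_zpow] at hg
        exact hc0 hg.symm
      have hcop : IsCoprime j ((2 : ℤ) ^ (n + 1)) :=
        ((Int.prime_two.coprime_iff_not_dvd).2 hodd).pow_left.symm
      obtain ⟨u, v, huv⟩ := hcop
      have hmem : g0 ∈ ⁅M, M⁆ := by
        have h1 : g0 = ⁅y, z⁆ ^ u := by
          rw [← hj, ← zpow_mul, show j * u = 1 - v * (2 : ℤ) ^ (n + 1) by linear_combination huv,
            zpow_sub, zpow_one, mul_comm v, zpow_mul, show (2 : ℤ) ^ (n + 1) = ((2 ^ (n + 1) : ℕ) : ℤ) by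
              push_cast; rfl, zpow_natCast, ← ho, pow_orderOf_eq_one, one_zpow, inv_one, mul_one]
        rw [h1]
        exact zpow_mem (Subgroup.commutator_mem_commutator hy hz) _
      have heq : ⁅M, M⁆ = commutator G := le_antisymm (hle M) (hg0 ▸ Subgroup.zpowers_le.2 hmem)
      have h := hcc M hM
      rw [heq, hGc, show 2 ^ (n + 3) = 2 ^ (n + 1) * 4 by
        rw [show n + 3 = n + 1 + 2 by omega, pow_add]; norm_num] at h
      exact Nat.eq_of_mul_eq_mul_left (pow_pos two_pos _) h
  obtain ⟨y, hy, z, hz, hyz⟩ := (hiff M₀ hM₀).1 hM₀i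
  have hMidx : ∀ M : Subgroup G, IsCoatom M → M.index = 2 := fun M hM => Solv.coatom_index hGp hM
  obtain ⟨w, hw⟩ : ∃ w, w ∉ M₀ := by
    by_contra h
    push Not at h
    exact hM₀.1 (eq_top_iff.2 fun x _ => h x)
  -- move `w` inside `w M₀` so that it commutes with `y` and `z` modulo `T`
  have hstep : ∀ (a b c : G), π b * π c ≠ π c * π b → π a * π c ≠ π c * π a →
      π (a * b) * π c = π c * π (a * b) := by
    intro a b c hb ha
    rw [map_mul, mul_assoc, hswap b c hb, ← mul_assoc (π a), ← hcen (π a), mul_assoc, ← mul_assoc (π a),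
      hswap a c ha, ← mul_assoc, ← mul_assoc, hc2, one_mul, mul_assoc]
  have hkeep : ∀ (a b c : G), π b * π c = π c * π b → π a * π c = π c * π a →
      π (a * b) * π c = π c * π (a * b) := by
    intro a b c hb ha
    rw [map_mul, mul_assoc, hb, ← mul_assoc, ha, mul_assoc]
  obtain ⟨w₁, hw₁, hw₁y⟩ : ∃ w₁, w₁ ∉ M₀ ∧ π w₁ * π y = π y * π w₁ := by
    by_cases h : π w * π y = π y * π w
    · exact ⟨w, hw, h⟩
    · exact ⟨w * z, fun h' => hw ((mul_mem_cancel_right hz).1 h'),
        hstep w z y (Ne.symm hyz) h⟩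
  obtain ⟨v, hv, hvy, hvz⟩ : ∃ v, v ∉ M₀ ∧ π v * π y = π y * π v ∧ π v * π z = π z * π v := by
    by_cases h : π w₁ * π z = π z * π w₁
    · exact ⟨w₁, hw₁, hw₁y, h⟩
    · exact ⟨w₁ * y, fun h' => hw₁ ((mul_mem_cancel_right hy).1 h'), hkeep w₁ y y rfl hw₁y,
        hstep w₁ y z hyz h⟩
  -- `π v` is central
  have hQ : Nat.card (G ⧸ T) = 16 := by
    have h := T.card_mul_index
    rw [hT, Nat.card_zpowers, orderOf_pow_of_dvd two_ne_zero (ho ▸ dvd_pow_self 2 (by omega)), ho,
      pow_succ, Nat.mul_div_cancel _ two_pos, hG, pow_add] at h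
    rw [← Subgroup.index_eq_card, hT]
    exact Nat.eq_of_mul_eq_mul_left (pow_pos two_pos _) h
  have hQp : IsPGroup 2 (G ⧸ T) := hGp.to_quotient T
  have hTle : T ≤ commutator G := by rw [hT, hg0, Subgroup.zpowers_le]; exact pow_mem (Subgroup.mem_zpowers _) 2
  have himg : ∀ M : Subgroup G, IsCoatom M → Nat.card (M.map π) = 8 := by
    intro M hM
    have h := (M.map π).card_mul_index
    rw [Subgroup.index_map_eq _ hπ (by
        rw [QuotientGroup.ker_mk']
        exact hTle.trans ((Solv.commutator_le_frattini_pgroup hGp).trans (frattini_le_coatom hM))),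
      hMidx M hM, hQ] at h
    omega
  have hvM : ∀ x ∈ M₀, π v * π x = π x * π v := by
    intro x hx
    obtain ⟨S, hS⟩ : ∃ S : Subgroup (G ⧸ T),
        S = Subgroup.centralizer ({π v} : Set (G ⧸ T)) ⊓ M₀.map π := ⟨_, rfl⟩
    have hyS : π y ∈ S := hS ▸ ⟨Subgroup.mem_centralizer_singleton_iff.2 hvy.symm, ⟨y, hy, rfl⟩⟩
    have hzS : π z ∈ S := hS ▸ ⟨Subgroup.mem_centralizer_singleton_iff.2 hvz.symm, ⟨z, hz, rfl⟩⟩
    have hS8 : 8 ≤ Nat.card S := by
      by_contra hlt
      obtain ⟨k, hk⟩ := (hQp.to_subgroup S).exists_card_eq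
      have hk2 : k ≤ 2 := by
        by_contra h
        have := Nat.pow_le_pow_right two_pos (show 3 ≤ k by omega)
        omega
      have h4 : Nat.card S ≤ 4 := by rw [hk]; exact Nat.pow_le_pow_right two_pos hk2
      exact hyz (congrArg Subtype.val
        (comm_of_card_le_four (hQp.to_subgroup S) h4 ⟨_, hyS⟩ ⟨_, hzS⟩))
    have hSeq : S = M₀.map π := Subgroup.eq_of_le_of_card_ge (hS ▸ inf_le_right) (by rw [himg M₀ hM₀]; exact hS8)
    have hxS : π x ∈ S := hSeq ▸ ⟨x, hx, rfl⟩
    rw [hS] at hxS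
    exact (Subgroup.mem_centralizer_singleton_iff.1 hxS.1).symm
  have hsplitG : ∀ g : G, g ∈ M₀ ∨ v⁻¹ * g ∈ M₀ := by
    intro g
    by_cases hg : g ∈ M₀
    · exact Or.inl hg
    · right
      rw [Subgroup.mul_mem_iff_of_index_two (hMidx M₀ hM₀)]
      simp only [inv_mem_iff, hv, hg]
  have hvc : ∀ q, π v * q = q * π v := by
    intro q
    obtain ⟨g, rfl⟩ := hπ q
    rcases hsplitG g with h | h
    · exact hvM g h
    · have h2 := hvM _ h
      rw [map_mul, map_inv] at h2
      calc π v * π g = π v * (π v * ((π v)⁻¹ * π g)) := by group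
        _ = π v * ((π v)⁻¹ * π g * π v) := by rw [h2]
        _ = π g * π v := by group
  have hchar : ∀ M : Subgroup G, IsCoatom M → ((commutator M).index = 4 ↔ v ∉ M) := by
    intro M hM
    rw [hiff M hM]
    constructor
    · rintro ⟨a, ha, b, hb, hab⟩ hvmem
      apply hab
      let Zs : Subgroup (M.map π) := Subgroup.center _
      have h8 : Nat.card (M.map π) = 8 := himg M hM
      have hg0M : g0 ∈ M := (Solv.commutator_le_frattini_pgroup hGp).trans (frattini_le_coatom hM)
        (hg0 ▸ Subgroup.mem_zpowers g0)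
      have hvT : π v ≠ 1 := fun h => by
        rw [QuotientGroup.mk'_apply, QuotientGroup.eq_one_iff] at h
        exact hv ((hTle.trans ((Solv.commutator_le_frattini_pgroup hGp).trans
          (frattini_le_coatom hM₀))) h)
      have hvc0 : π v ≠ π g0 := fun h => by
        rw [QuotientGroup.mk'_apply, QuotientGroup.mk'_apply, QuotientGroup.eq] at h
        have h1 : v⁻¹ * g0 ∈ M₀ := (hTle.trans ((Solv.commutator_le_frattini_pgroup hGp).trans
          (frattini_le_coatom hM₀))) h
        have h2 : g0 ∈ M₀ := (Solv.commutator_le_frattini_pgroup hGp).trans (frattini_le_coatom hM₀)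
          (hg0 ▸ Subgroup.mem_zpowers g0)
        exact hv (inv_mem_iff.1 ((mul_mem_cancel_right h2).1 h1))
      have hz3 : 3 ≤ Nat.card Zs := by
        let A : Zs := ⟨⟨π v, v, hvmem, rfl⟩, Subgroup.mem_center_iff.2 fun q => Subtype.ext (hvc q.1).symm⟩
        let B : Zs := ⟨⟨π g0, g0, hg0M, rfl⟩, Subgroup.mem_center_iff.2 fun q => Subtype.ext (hcen q.1).symm⟩
        haveI : Fintype Zs := Fintype.ofFinite _
        rw [Nat.card_eq_fintype_card]
        refine Fintype.two_lt_card_iff.2 ⟨1, A, B, fun h => ?_, fun h => ?_, fun h => ?_⟩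
        · exact hvT (congrArg (fun r : Zs => ((r : M.map π) : G ⧸ T)) h).symm
        · exact hc0 (congrArg (fun r : Zs => ((r : M.map π) : G ⧸ T)) h).symm
        · exact hvc0 (congrArg (fun r : Zs => ((r : M.map π) : G ⧸ T)) h)
      haveI : IsCyclic ((M.map π) ⧸ Zs) := by
        have h := Zs.card_mul_index
        rw [h8, Subgroup.index_eq_card] at h
        have h3 : Nat.card ((M.map π) ⧸ Zs) ≤ 2 := by
          by_contra h'
          have := Nat.mul_le_mul hz3 (show 3 ≤ Nat.card ((M.map π) ⧸ Zs) by omega)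
          omega
        rcases (show Nat.card ((M.map π) ⧸ Zs) = 1 ∨ Nat.card ((M.map π) ⧸ Zs) = 2 by
          have := Nat.card_pos (α := (M.map π) ⧸ Zs); omega) with h1 | h2
        · haveI := (Nat.card_eq_one_iff_unique.1 h1).1
          infer_instance
        · exact isCyclic_of_prime_card (p := 2) h2
      exact congrArg Subtype.val (commutative_of_cyclic_center_quotient (QuotientGroup.mk' Zs)
        (by rw [QuotientGroup.ker_mk']) (⟨π a, a, ha, rfl⟩ : M.map π) ⟨π b, b, hb, rfl⟩)
    · intro hvM'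
      by_contra hcon
      push Not at hcon
      apply hyz
      have hdec : ∀ g : G, ∃ g' ∈ M, π g = π g' ∨ π g = π g' * π v := by
        intro g
        by_cases hg : g ∈ M
        · exact ⟨g, hg, Or.inl rfl⟩
        · refine ⟨g * v⁻¹, ?_, Or.inr ?_⟩
          · rw [Subgroup.mul_mem_iff_of_index_two (hMidx M hM)]
            simp only [inv_mem_iff, hvM', hg]
          · rw [← map_mul, inv_mul_cancel_right]
      obtain ⟨y', hy', hy''⟩ := hdec y
      obtain ⟨z', hz', hz''⟩ := hdec z
      have h0 : Commute (π y') (π z') := hcon y' hy' z' hz'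
      have h1 : ∀ q, Commute (π v) q := hvc
      rcases hy'' with e | e <;> rcases hz'' with e' | e' <;> rw [e, e']
      · exact h0
      · exact h0.mul_right (h1 _).symm
      · exact h0.mul_left (h1 _)
      · exact (h0.mul_right (h1 _).symm).mul_left ((h1 _).mul_right (Commute.refl _))
  have hH : Subgroup.zpowers v ≠ ⊤ := fun h => hnc ⟨v, fun g => h.ge (Subgroup.mem_top g)⟩
  have h1 := (coatoms_over hGp hH).1
  have h2 := (card_coatoms_modEq hGp hnc).of_dvd (dvd_pow_self 2 two_ne_zero)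
  have hsplit : Nat.card {M : Subgroup G // IsCoatom M}
      = Nat.card {M : Subgroup G // IsCoatom M ∧ Subgroup.zpowers v ≤ M}
        + Nat.card {M : Subgroup G // IsCoatom M ∧ (commutator M).index = 4} := by
    rw [← Nat.card_congr (Equiv.sumCompl fun M : {M : Subgroup G // IsCoatom M} => v ∈ M.1),
      Nat.card_sum]
    congr 1
    · refine Nat.card_congr ((Equiv.subtypeSubtypeEquivSubtypeInter (fun M : Subgroup G => IsCoatom M)
        (fun M => v ∈ M)).trans (Equiv.subtypeEquivRight fun M => ?_))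
      rw [Subgroup.zpowers_le]
    · refine Nat.card_congr ((Equiv.subtypeSubtypeEquivSubtypeInter (fun M : Subgroup G => IsCoatom M)
        (fun M => ¬ v ∈ M)).trans (Equiv.subtypeEquivRight fun M => ?_))
      exact and_congr_right fun hM => (hchar M hM).symm
  rw [hsplit] at h2
  exact Nat.ModEq.add_left_cancel h1 (h2.trans (by decide))

/-- Maximal subgroups of a group of maximal class of order at least 16. -/
theorem max_class_coatoms {G : Type u} [Group G] [Finite G] {n : ℕ} (hG : Nat.card G = 2 ^ (n + 4))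
    (hi : (commutator G).index = 4) :
    ∃ C : Subgroup G, IsCoatom C ∧ IsCyclic C ∧
      ∀ M : Subgroup G, IsCoatom M → M ≠ C → ¬ IsCyclic M ∧ (commutator M).index = 4 := by
  haveI : Fact (Nat.Prime 2) := ⟨Nat.prime_two⟩
  have hGp : IsPGroup 2 G := IsPGroup.of_card hG
  have hne : (⊤ : Subgroup G).lowerCentralSeries (n + 2) ≠ ⊥ :=
    Fusion.lcs_ne_bot_of_commutator_index_four (n + 1) hG hi
  obtain ⟨x, hx⟩ := Solv.exists_cyclic_index_two (n + 1) hG hne
  have hxi : (Subgroup.zpowers x).index = 2 := by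
    have h := (Subgroup.zpowers x).card_mul_index
    rw [Nat.card_zpowers, hx, hG, show n + 4 = n + 1 + 2 + 1 by omega, pow_succ 2 (n + 1 + 2)] at h
    exact Nat.eq_of_mul_eq_mul_left (pow_pos two_pos _) h
  refine ⟨_, coatom_of_index hxi, inferInstance, fun M hM hMne => ?_⟩
  have hMc : Nat.card M = 2 ^ (n + 3) := by
    have h := coatom_card hGp hM
    rw [hG, pow_succ] at h
    exact Nat.eq_of_mul_eq_mul_right two_pos h
  obtain ⟨g, hgM, hgx⟩ : ∃ g ∈ M, g ∉ Subgroup.zpowers x := by
    by_contra h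
    push Not at h
    exact hMne ((hM.le_iff.1 h).resolve_left (coatom_of_index hxi).1).symm
  have hz : Nat.card ↥(Subgroup.centralizer ({g} : Set G) ⊓ Subgroup.zpowers x) ≤ 2 := by
    have hc : IsCyclic ↥(Subgroup.centralizer ({g} : Set G) ⊓ Subgroup.zpowers x) :=
      Subgroup.isCyclic_of_le inf_le_right
    obtain ⟨⟨y, hy1, ⟨j, hj⟩⟩, hgen⟩ := hc.exists_generator
    have h1 := orderOf_eq_card_of_forall_mem_zpowers hgen
    rw [← Subgroup.orderOf_coe] at h1
    rw [← h1]
    refine Nat.le_of_dvd two_pos (orderOf_dvd_of_pow_eq_one ?_)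
    have hj : x ^ j = y := hj
    show y ^ 2 = 1
    rw [← hj]
    refine Solv.sq_eq_one_of_commute (n := n + 1) hG hne hx hgx j ?_
    rw [hj]
    exact (Subgroup.mem_centralizer_singleton_iff.1 hy1).symm
  have hC4 : Nat.card (Subgroup.centralizer ({g} : Set G)) ≤ 4 := by
    have h := (Subgroup.centralizer ({g} : Set G) ⊓ Subgroup.zpowers x).relIndex_mul_index
      (inf_le_left : _ ≤ Subgroup.centralizer ({g} : Set G))
    have h2 : (Subgroup.centralizer ({g} : Set G) ⊓ Subgroup.zpowers x).relIndex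
        (Subgroup.centralizer ({g} : Set G)) ≤ 2 := by
      rw [Subgroup.inf_relIndex_left]
      haveI := Subgroup.normal_of_index_eq_two hxi
      exact hxi ▸ Nat.le_of_dvd (by omega) (Subgroup.relIndex_dvd_index_of_normal (H := Subgroup.zpowers x)
        (K := Subgroup.centralizer ({g} : Set G)))
    rw [← Subgroup.relIndex_bot_left] at hz ⊢
    rw [← Subgroup.relIndex_mul_relIndex ⊥ _ _ bot_le (inf_le_left : Subgroup.centralizer ({g} : Set G) ⊓
      Subgroup.zpowers x ≤ Subgroup.centralizer ({g} : Set G))]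
    exact Nat.mul_le_mul hz h2
  have hMC : Nat.card (Subgroup.centralizer ({(⟨g, hgM⟩ : M)} : Set M)) ≤ 4 := by
    refine le_trans ?_ hC4
    refine Nat.card_le_card_of_injective
      (fun y => (⟨((y : M) : G), Subgroup.mem_centralizer_singleton_iff.2
        (congrArg Subtype.val (Subgroup.mem_centralizer_singleton_iff.1 y.2))⟩ :
        Subgroup.centralizer ({g} : Set G))) fun a b h => ?_
    exact Subtype.ext (Subtype.ext (congrArg (fun r : Subgroup.centralizer ({g} : Set G) => (r : G)) h))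
  have hMne' := Solv.lcs_ne_bot_of_small_centralizer (n + 1) (G := M) (p := 2) hMc
    ⟨⟨g, hgM⟩, by norm_num; exact hMC⟩
  have hMi : (commutator M).index = 4 :=
    Fusion.commutator_index_of_maxClass (p := 2) (hGp.to_subgroup M) (n := n + 1) hMc hMne'
  refine ⟨fun hcy => ?_, hMi⟩
  rw [commutator_index_of_cyclic, hMc, pow_add] at hMi
  have : 0 < 2 ^ n := pow_pos two_pos _
  omega

/-- Order eight: an odd number of cyclic maximal subgroups. -/
theorem order_eight_cyclic {G : Type u} [Group G] [Finite G] (hG : Nat.card G = 2 ^ 3)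
    (hi : (commutator G).index = 4) :
    Nat.card {M : Subgroup G // IsCoatom M ∧ IsCyclic M} ≡ 1 [MOD 2] := by
  classical
  haveI : Fact (Nat.Prime 2) := ⟨Nat.prime_two⟩
  have hGp : IsPGroup 2 G := IsPGroup.of_card hG
  have hne : (⊤ : Subgroup G).lowerCentralSeries 1 ≠ ⊥ :=
    Fusion.lcs_ne_bot_of_commutator_index_four 0 hG hi
  have hna : ∃ x y : G, x * y ≠ y * x := by
    by_contra h
    push Not at h
    rw [commutator_eq_bot_of_comm h, Subgroup.index_bot, hG] at hi
    norm_num at hi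
  have hnc : ¬ IsCyclic G := fun h => by
    rw [commutator_index_of_cyclic, hG] at hi
    norm_num at hi
  obtain ⟨x, hx⟩ := Solv.exists_cyclic_index_two 0 hG hne
  have hxi : (Subgroup.zpowers x).index = 2 := by
    have h := (Subgroup.zpowers x).card_mul_index
    rw [Nat.card_zpowers, hx, hG] at h
    omega
  obtain ⟨a, b, hao, hb, hcases⟩ := Fusion.cyclic_maximal_two (N := 2) le_rfl hG _ inferInstance hxi hna
  have hai : (Subgroup.zpowers a).index = 2 := by
    have h := (Subgroup.zpowers a).card_mul_index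
    rw [Nat.card_zpowers, hao, hG] at h
    omega
  have hac : IsCoatom (Subgroup.zpowers a) := coatom_of_index hai
  haveI := Subgroup.normal_of_index_eq_two hai
  have hout : ∀ g, g ∉ Subgroup.zpowers a → g ^ 2 = b ^ 2 := by
    intro g hg
    have hrel : b * a * b⁻¹ = a⁻¹ := by
      rcases hcases with ⟨-, h⟩ | ⟨-, h⟩ | ⟨h, -, -⟩ | ⟨h, -, -⟩
      · exact h
      · exact h
      · omega
      · omega
    have hgb : g * b⁻¹ ∈ Subgroup.zpowers a := by
      rw [Subgroup.mul_mem_iff_of_index_two hai]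
      simp only [inv_mem_iff, hb, hg]
    obtain ⟨i, hi'⟩ := hgb
    have hi' : a ^ i = g * b⁻¹ := hi'
    have e : g = a ^ i * b := by rw [hi', inv_mul_cancel_right]
    have h2 : b * a ^ i * b⁻¹ = (a ^ i)⁻¹ := by rw [← conj_zpow, hrel, inv_zpow]
    rw [e, pow_two, pow_two, mul_assoc, ← mul_assoc b, mul_inv_eq_iff_eq_mul.1 h2]
    group
  have hcard : ∀ M : Subgroup G, IsCoatom M → Nat.card M = 4 := fun M hM => by
    have h := coatom_card hGp hM
    rw [hG] at h
    omega
  have hord4 : ∀ g : G, g ∉ Subgroup.zpowers a → g ^ 2 ≠ 1 → orderOf g = 4 := by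
    intro g _ h
    obtain ⟨k, hk⟩ := IsPGroup.iff_orderOf.1 hGp g
    have h3 : 2 ^ k ∣ 2 ^ 3 := by rw [← hk, ← hG]; exact orderOf_dvd_natCard g
    have hk3 := (Nat.pow_dvd_pow_iff_le_right (by norm_num : 1 < 2)).1 h3
    rcases (show k ≤ 1 ∨ k = 2 ∨ k = 3 by omega) with h1 | rfl | rfl
    · exact absurd (orderOf_dvd_iff_pow_eq_one.1 (hk ▸ pow_dvd_pow 2 h1 : orderOf g ∣ 2 ^ 1)) (by simpa using h)
    · exact hk
    · exact absurd (isCyclic_of_orderOf_eq_card g (hk.trans hG.symm)) hnc
  by_cases hb2 : b ^ 2 = 1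
  · -- dihedral: a single cyclic maximal subgroup
    rw [show Nat.card {M : Subgroup G // IsCoatom M ∧ IsCyclic M} = 1 from ?_]
    rw [Nat.card_eq_one_iff_unique]
    refine ⟨⟨fun A B => ?_⟩, ⟨⟨_, hac, inferInstance⟩⟩⟩
    have key : ∀ M : Subgroup G, IsCoatom M → IsCyclic M → M = Subgroup.zpowers a := by
      intro M hM hMc
      obtain ⟨⟨g, hg⟩, hgen⟩ := hMc.exists_generator
      have h1 := orderOf_eq_card_of_forall_mem_zpowers hgen
      rw [← Subgroup.orderOf_coe, hcard M hM] at h1
      have hga : g ∈ Subgroup.zpowers a := by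
        by_contra h
        have := orderOf_dvd_of_pow_eq_one ((hout g h).trans hb2)
        rw [h1] at this
        norm_num at this
      refine (hM.le_iff.1 ?_).resolve_left hac.1 |>.symm
      intro y hy
      obtain ⟨i, hi'⟩ := hgen ⟨y, hy⟩
      have hi'' := congrArg Subtype.val hi'
      simp only [Subgroup.coe_zpow] at hi''
      rw [← hi'']
      exact zpow_mem hga i
    exact Subtype.ext ((key _ A.2.1 A.2.2).trans (key _ B.2.1 B.2.2).symm)
  · -- quaternion: all maximal subgroups are cyclic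
    have hall : ∀ M : Subgroup G, IsCoatom M → IsCyclic M := by
      intro M hM
      by_cases hMa : M = Subgroup.zpowers a
      · rw [hMa]; infer_instance
      obtain ⟨g, hgM, hga⟩ : ∃ g ∈ M, g ∉ Subgroup.zpowers a := by
        by_contra h
        push Not at h
        exact hMa ((hM.le_iff.1 h).resolve_left hac.1).symm
      refine isCyclic_of_orderOf_eq_card (⟨g, hgM⟩ : M) ?_
      rw [Subgroup.orderOf_mk, hcard M hM]
      exact hord4 g hga (by rw [hout g hga]; exact hb2)
    rw [Nat.card_congr (Equiv.subtypeEquivRight (p := fun M : Subgroup G => IsCoatom M ∧ IsCyclic M)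
      (q := fun M => IsCoatom M) fun M => ⟨fun h => h.1, fun h => ⟨h, hall M h⟩⟩)]
    exact ((card_coatoms_modEq hGp hnc).of_dvd (dvd_pow_self 2 two_ne_zero)).trans (by decide)

end Cfsg.Agent.CountSq
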