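import Cfsg.Agent.Lib.Solv.Generation
import Cfsg.Agent.Lib.Fusion.Basic
import Cfsg.Agent.Lib.Fusion.Cores
import Cfsg.Agent.S1280
import Cfsg.Prelude.Def_Balance

/-!
Solvable signalizer functors: the family, and transitivity on maximal q-members.
-/

set_option autoImplicit false
set_option linter.style.haveILetI false

namespace Cfsg.Agent.Fusion

open Cfsg.Agent

variable {G : Type*} [Group G] [Finite G] {p : ℕ} [hp : Fact p.Prime] {A : Subgroup G}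

omit hp [Finite G] in
theorem elab_comm (hA : Cfsg.IsElementaryAbelian p A) {u v : G} (hu : u ∈ A) (hv : v ∈ A) : u * v = v * u :=
  congrArg Subtype.val (hA.1.is_comm.comm ⟨u, hu⟩ ⟨v, hv⟩)

omit [Finite G] in
theorem elab_isPGroup (hA : Cfsg.IsElementaryAbelian p A) : IsPGroup p A :=
  fun a => ⟨1, Subtype.ext (by rw [pow_one]; exact hA.2 a a.2)⟩

theorem elab_coprime (hA : Cfsg.IsElementaryAbelian p A) {K : Subgroup G} (hK : ¬ p ∣ Nat.card K) :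
    (Nat.card A).Coprime (Nat.card K) := by
  obtain ⟨k, hk⟩ := IsPGroup.iff_card.1 (elab_isPGroup hA)
  rw [hk]
  exact Nat.Coprime.pow_left k ((Nat.Prime.coprime_iff_not_dvd hp.out).2 hK)

/-- Elements of `CycQuot A` have index at most `p`. -/
theorem card_le_mul_of_cycQuot (hA : Cfsg.IsElementaryAbelian p A) {B : Subgroup G}
    (hB : B ∈ Solv.CycQuot A) : Nat.card A ≤ p * Nat.card B := by
  obtain ⟨hBA, a, ha, he⟩ := hB
  have hn : Subgroup.zpowers a ≤ Subgroup.normalizer (B : Set G) := by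
    refine le_trans ?_ (Subgroup.centralizer_le_normalizer _)
    rw [Subgroup.zpowers_le, Subgroup.mem_centralizer_iff]
    exact fun b hb => elab_comm hA (hBA hb) ha
  have h := Solv.card_sup_mul_card_inf' B (Subgroup.zpowers a) hn
  rw [he, Nat.card_zpowers] at h
  calc Nat.card A ≤ Nat.card A * Nat.card (B ⊓ Subgroup.zpowers a : Subgroup G) :=
        Nat.le_mul_of_pos_right _ Nat.card_pos
    _ = Nat.card B * orderOf a := h
    _ ≤ Nat.card B * p := Nat.mul_le_mul_left _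
        (Nat.le_of_dvd hp.out.pos (orderOf_dvd_of_pow_eq_one (hA.2 a ha)))
    _ = p * Nat.card B := mul_comm _ _

theorem cycQuot_inf_ne_bot (hA : Cfsg.IsElementaryAbelian p A) (h3 : p ^ 3 ≤ Nat.card A) {B₁ B₂ : Subgroup G}
    (h₁ : B₁ ∈ Solv.CycQuot A) (h₂ : B₂ ∈ Solv.CycQuot A) : B₁ ⊓ B₂ ≠ ⊥ := by
  intro hbot
  have hn : B₂ ≤ Subgroup.normalizer (B₁ : Set G) := by
    refine le_trans ?_ (Subgroup.centralizer_le_normalizer _)
    exact fun b hb => Subgroup.mem_centralizer_iff.2 fun c hc => elab_comm hA (h₁.1 hc) (h₂.1 hb)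
  have h := Solv.card_sup_mul_card_inf' B₁ B₂ hn
  rw [hbot, Subgroup.card_bot, mul_one] at h
  have h4 : Nat.card (B₁ ⊔ B₂ : Subgroup G) ≤ Nat.card A := Subgroup.card_le_of_le (sup_le h₁.1 h₂.1)
  have e1 := card_le_mul_of_cycQuot hA h₁
  have e2 := card_le_mul_of_cycQuot hA h₂
  have e3 : Nat.card A * Nat.card A ≤ p ^ 2 * Nat.card A := calc
    Nat.card A * Nat.card A ≤ (p * Nat.card B₁) * (p * Nat.card B₂) := Nat.mul_le_mul e1 e2
    _ = p ^ 2 * (Nat.card B₁ * Nat.card B₂) := by ring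
    _ ≤ p ^ 2 * Nat.card A := Nat.mul_le_mul_left _ (h ▸ h4)
  have e4 := le_of_mul_le_mul_right e3 Nat.card_pos
  have e5 : p ^ 2 < p ^ 3 := Nat.pow_lt_pow_right hp.out.one_lt (by norm_num)
  omega

/-- Two invariant q-subgroups leave their intersection inside the centralizer of a common element. -/
theorem exists_common_escape (hA : Cfsg.IsElementaryAbelian p A) (h3 : p ^ 3 ≤ Nat.card A)
    {q : ℕ} [Fact q.Prime] {Q₁ Q₂ : Subgroup G} (h₁ : IsPGroup q Q₁) (h₂ : IsPGroup q Q₂)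
    (hc₁ : ¬ p ∣ Nat.card Q₁) (hc₂ : ¬ p ∣ Nat.card Q₂)
    (hA₁ : A ≤ Subgroup.normalizer (Q₁ : Set G)) (hA₂ : A ≤ Subgroup.normalizer (Q₂ : Set G))
    (hD₁ : Q₁ ⊓ Q₂ ≠ Q₁) (hD₂ : Q₁ ⊓ Q₂ ≠ Q₂) :
    ∃ a ∈ A, a ≠ 1 ∧
      ¬ (Subgroup.normalizer ((Q₁ ⊓ Q₂ : Subgroup G) : Set G) ⊓ Q₁ ⊓ Subgroup.centralizer {a} ≤ Q₁ ⊓ Q₂) ∧
      ¬ (Subgroup.normalizer ((Q₁ ⊓ Q₂ : Subgroup G) : Set G) ⊓ Q₂ ⊓ Subgroup.centralizer {a} ≤ Q₁ ⊓ Q₂) := by
  obtain ⟨D, hD⟩ : ∃ D, D = Q₁ ⊓ Q₂ := ⟨_, rfl⟩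
  rw [← hD] at hD₁ hD₂ ⊢
  have hAD : A ≤ Subgroup.normalizer (D : Set G) := fun a ha => mem_normalizer_of_cj_le (by
    rw [hD, cj_inf, cj_eq_self (hA₁ ha), cj_eq_self (hA₂ ha)])
  have key : ∀ Q : Subgroup G, IsPGroup q Q → ¬ p ∣ Nat.card Q → A ≤ Subgroup.normalizer (Q : Set G) →
      D ≤ Q → D ≠ Q →
      ∃ B ∈ Solv.CycQuot A, ¬ Subgroup.normalizer (D : Set G) ⊓ Q ⊓ Subgroup.centralizer (B : Set G) ≤ D := by
    intro Q hQ hc hAQ hDQ hne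
    have hlt := SylIn.normalizer_growth hDQ hne hQ
    have hAN : A ≤ Subgroup.normalizer ((Subgroup.normalizer (D : Set G) ⊓ Q : Subgroup G) : Set G) :=
      fun a ha => mem_normalizer_of_cj_le (by rw [cj_inf, cj_normalizer, cj_eq_self (hAQ ha), cj_eq_self (hAD ha)])
    by_contra hno
    push Not at hno
    refine hlt.not_ge ?_
    rw [inf_comm]
    refine (Solv.gen_eq A _ hA.1 hAN (elab_coprime hA fun hd =>
      hc (hd.trans (Subgroup.card_dvd_of_le inf_le_right)))).ge.trans (iSup₂_le fun B hB => hno B hB)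
  obtain ⟨B₁, hB₁, hn₁⟩ := key Q₁ h₁ hc₁ hA₁ (hD ▸ inf_le_left) hD₁
  obtain ⟨B₂, hB₂, hn₂⟩ := key Q₂ h₂ hc₂ hA₂ (hD ▸ inf_le_right) hD₂
  obtain ⟨a, ha, ha1⟩ : ∃ a ∈ B₁ ⊓ B₂, a ≠ 1 := by
    by_contra hno
    exact cycQuot_inf_ne_bot hA h3 hB₁ hB₂ ((Subgroup.eq_bot_iff_forall _).2 fun x hx =>
      by_contra fun h => hno ⟨x, hx, h⟩)
  obtain ⟨ha₁, ha₂⟩ := Subgroup.mem_inf.1 ha
  exact ⟨a, hB₁.1 ha₁, ha1,
    fun h => hn₁ ((inf_le_inf_left _ (Subgroup.centralizer_le (Set.singleton_subset_iff.2 ha₁))).trans h),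
    fun h => hn₂ ((inf_le_inf_left _ (Subgroup.centralizer_le (Set.singleton_subset_iff.2 ha₂))).trans h)⟩

variable {θ : G → Subgroup G}

omit hp in
theorem fam_normalizer {U : Subgroup G} (hU : U ∈ Cfsg.signalizerFamily p A θ) :
    A ≤ Subgroup.normalizer (U : Set G) := fun a ha =>
  mem_normalizer_of_cj_le (by rintro _ ⟨u, hu, rfl⟩; exact hU.2.2.1 a ha u hu)

omit hp in
theorem fam_of_le {U V : Subgroup G} (hU : U ∈ Cfsg.signalizerFamily p A θ) (hV : V ≤ U)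
    (hAV : A ≤ Subgroup.normalizer (V : Set G)) : V ∈ Cfsg.signalizerFamily p A θ :=
  ⟨Solv.isSolvable_of_le hV hU.1, fun h => hU.2.1 (h.trans (Subgroup.card_dvd_of_le hV)),
    fun b hb u hu => (Subgroup.mem_normalizer_iff.1 (hAV hb) u).1 hu,
    fun a ha ha1 => (inf_le_inf_right _ hV).trans (hU.2.2.2 a ha ha1)⟩

omit hp [Finite G] in
theorem theta_mem_fam (hθ : Cfsg.IsSolvableSignalizerFunctor p A θ) {a : G} (ha : a ∈ A) (ha1 : a ≠ 1) :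
    θ a ∈ Cfsg.signalizerFamily p A θ :=
  ⟨hθ.2 a ha ha1, hθ.1.2.1 a ha ha1, hθ.1.2.2.1 a ha ha1, hθ.1.2.2.2 a ha ha1⟩

omit hp [Finite G] in
theorem signalizerInf_le_centralizer (hθ : Cfsg.IsSolvableSignalizerFunctor p A θ) :
    Cfsg.signalizerInf A θ ≤ Subgroup.centralizer (A : Set G) := by
  intro c hc
  rw [Subgroup.mem_centralizer_iff]
  intro a ha
  rcases eq_or_ne a 1 with rfl | ha1
  · rw [one_mul, mul_one]
  · exact (Subgroup.mem_centralizer_singleton_iff.1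
      (hθ.1.1 a ha ha1 (Subgroup.mem_iInf.1 hc ⟨a, ha, ha1⟩))).symm

omit hp in
theorem fam_cj (hθ : Cfsg.IsSolvableSignalizerFunctor p A θ) {U : Subgroup G}
    (hU : U ∈ Cfsg.signalizerFamily p A θ) {c : G} (hc : c ∈ Cfsg.signalizerInf A θ) :
    cj U c ∈ Cfsg.signalizerFamily p A θ := by
  have hcA := signalizerInf_le_centralizer hθ hc
  refine ⟨Solv.isSolvable_map _ hU.1, by rw [card_cj]; exact hU.2.1, ?_, fun a ha ha1 => ?_⟩
  · rintro b hb _ ⟨u, hu, rfl⟩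
    refine ⟨b * u * b⁻¹, hU.2.2.1 b hb u hu, ?_⟩
    have h : Commute b c := Subgroup.mem_centralizer_iff.1 hcA b hb
    show c * (b * u * b⁻¹) * c⁻¹ = b * (c * u * c⁻¹) * b⁻¹
    calc c * (b * u * b⁻¹) * c⁻¹ = (c * b) * u * (c * b)⁻¹ := by group
      _ = (b * c) * u * (b * c)⁻¹ := by rw [h.eq]
      _ = _ := by group
  · intro x hx
    obtain ⟨hx1, hx2⟩ := Subgroup.mem_inf.1 hx
    have hcθ : c ∈ θ a := Subgroup.mem_iInf.1 hc ⟨a, ha, ha1⟩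
    obtain ⟨u, hu, rfl⟩ := hx1
    have hca : c ∈ Subgroup.centralizer {a} := hθ.1.1 a ha ha1 hcθ
    have hu2 : u ∈ Subgroup.centralizer {a} := by
      have h := mul_mem (mul_mem (inv_mem hca) hx2) hca
      have e : c⁻¹ * (MulAut.conj c).toMonoidHom u * c = u := by simp [mul_assoc]
      rwa [e] at h
    exact mul_mem (mul_mem hcθ (hU.2.2.2 a ha ha1 (Subgroup.mem_inf.2 ⟨hu, hu2⟩))) (inv_mem hcθ)

omit hp in
theorem exists_max_member {q : ℕ} {U : Subgroup G} (hU : U ∈ Cfsg.signalizerFamily p A θ)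
    (hUq : IsPGroup q U) : ∃ Q, U ≤ Q ∧ Q ∈ Cfsg.signalizerFamily p A θ ∧ IsPGroup q Q ∧
      ∀ R ∈ Cfsg.signalizerFamily p A θ, IsPGroup q R → Q ≤ R → R = Q := by
  obtain ⟨Q, hUQ, hQ⟩ := Finite.exists_le_maximal
    (p := fun Q : Subgroup G => Q ∈ Cfsg.signalizerFamily p A θ ∧ IsPGroup q Q) (a := U) ⟨hU, hUq⟩
  exact ⟨Q, hUQ, hQ.1.1, hQ.1.2, fun R hR hRq hle => le_antisymm (hQ.2 ⟨hR, hRq⟩ hle) hle⟩

/-- The transitivity theorem. -/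
theorem transitivity (hA : Cfsg.IsElementaryAbelian p A) (h3 : p ^ 3 ≤ Nat.card A)
    (hθ : Cfsg.IsSolvableSignalizerFunctor p A θ) {q : ℕ} [Fact q.Prime] :
    ∀ (n : ℕ) (Q₁ Q₂ : Subgroup G), Nat.card G - Nat.card (Q₁ ⊓ Q₂ : Subgroup G) = n →
      Q₁ ∈ Cfsg.signalizerFamily p A θ → IsPGroup q Q₁ →
      (∀ R ∈ Cfsg.signalizerFamily p A θ, IsPGroup q R → Q₁ ≤ R → R = Q₁) →
      Q₂ ∈ Cfsg.signalizerFamily p A θ → IsPGroup q Q₂ →
      (∀ R ∈ Cfsg.signalizerFamily p A θ, IsPGroup q R → Q₂ ≤ R → R = Q₂) →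
      ∃ c ∈ Cfsg.signalizerInf A θ, cj Q₁ c = Q₂ := by
  intro n
  induction n using Nat.strong_induction_on with
  | _ n ih =>
    intro Q₁ Q₂ hn h₁ hq₁ hm₁ h₂ hq₂ hm₂
    by_cases heq : Q₁ = Q₂
    · exact ⟨1, one_mem _, by rw [cj_one, heq]⟩
    have hD₁ : Q₁ ⊓ Q₂ ≠ Q₁ := fun h => heq (hm₁ Q₂ h₂ hq₂ (h ▸ inf_le_right)).symm
    have hD₂ : Q₁ ⊓ Q₂ ≠ Q₂ := fun h => heq (hm₂ Q₁ h₁ hq₁ (h ▸ inf_le_left))
    obtain ⟨a, ha, ha1, hn₁, hn₂⟩ := exists_common_escape hA h3 hq₁ hq₂ h₁.2.1 h₂.2.1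
      (fam_normalizer h₁) (fam_normalizer h₂) hD₁ hD₂
    obtain ⟨D, hD⟩ : ∃ D, D = Q₁ ⊓ Q₂ := ⟨_, rfl⟩
    rw [← hD] at hn hn₁ hn₂
    have hAD : A ≤ Subgroup.normalizer (D : Set G) := fun b hb => mem_normalizer_of_cj_le (by
      rw [hD, cj_inf, cj_eq_self (fam_normalizer h₁ hb), cj_eq_self (fam_normalizer h₂ hb)])
    have hAND : A ≤ Subgroup.normalizer ((θ a ⊓ Subgroup.normalizer (D : Set G) : Subgroup G) : Set G) := fun b hb =>
      mem_normalizer_of_cj_le (by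
        rw [cj_inf, cj_normalizer, cj_eq_self (fam_normalizer (theta_mem_fam hθ ha ha1) hb), cj_eq_self (hAD hb)])
    obtain ⟨H, hH⟩ : ∃ H, H = D ⊔ (θ a ⊓ Subgroup.normalizer (D : Set G)) := ⟨_, rfl⟩
    have hp2 : p ^ 2 ≤ Nat.card A := (Nat.pow_le_pow_right hp.out.pos (by norm_num)).trans h3
    have hHfam : H ∈ Cfsg.signalizerFamily p A θ := hH ▸ S1280.result p A hA hp2 θ hθ D _
      (fam_of_le h₁ (hD ▸ inf_le_left) hAD) (fam_of_le (theta_mem_fam hθ ha ha1) inf_le_left hAND) inf_le_right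
    -- the escaping parts, enlarged by `D`, sit in maximal members
    have step : ∀ Q : Subgroup G, Q ∈ Cfsg.signalizerFamily p A θ → IsPGroup q Q → D ≤ Q →
        ¬ Subgroup.normalizer (D : Set G) ⊓ Q ⊓ Subgroup.centralizer {a} ≤ D →
        ∃ U, U ≤ Q ∧ U ≤ H ∧ D < U ∧ IsPGroup q U ∧ A ≤ Subgroup.normalizer (U : Set G) := by
      intro Q hQ hQq hDQ hesc
      obtain ⟨T, hT⟩ : ∃ T, T = Subgroup.normalizer (D : Set G) ⊓ Q ⊓ Subgroup.centralizer {a} := ⟨_, rfl⟩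
      rw [← hT] at hesc
      have hTQ : T ≤ Q := hT ▸ inf_le_left.trans inf_le_right
      refine ⟨D ⊔ T, sup_le hDQ hTQ, sup_le (hH ▸ le_sup_left) ?_, lt_of_le_not_ge le_sup_left fun h =>
        hesc (le_sup_right.trans h), hQq.to_le (sup_le hDQ hTQ), fun b hb => mem_normalizer_of_cj_le ?_⟩
      · refine le_trans ?_ (hH ▸ le_sup_right)
        refine le_inf ?_ (hT ▸ inf_le_left.trans inf_le_left)
        exact le_trans (le_inf hTQ (hT ▸ inf_le_right)) (hQ.2.2.2 a ha ha1)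
      · rw [cj_sup, cj_eq_self (hAD hb), hT, cj_inf, cj_inf, cj_normalizer, cj_eq_self (hAD hb),
          cj_eq_self (fam_normalizer hQ hb)]
        refine sup_le_sup_left (inf_le_inf_left _ ?_) _
        rintro _ ⟨x, hx, rfl⟩
        have hba : b ∈ Subgroup.centralizer {a} := Subgroup.mem_centralizer_singleton_iff.2 (elab_comm hA hb ha)
        exact mul_mem (mul_mem hba hx) (inv_mem hba)
    obtain ⟨U₁, hU₁Q, hU₁H, hDU₁, hU₁q, hAU₁⟩ := step Q₁ h₁ hq₁ (hD ▸ inf_le_left) hn₁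
    obtain ⟨U₂, hU₂Q, hU₂H, hDU₂, hU₂q, hAU₂⟩ := step Q₂ h₂ hq₂ (hD ▸ inf_le_right) hn₂
    have hAH := fam_normalizer hHfam
    have hco := elab_coprime hA hHfam.2.1
    obtain ⟨R₁, hR₁, hUR₁, hAR₁⟩ := Solv.exists_invariant_sylow_ge hAH hco (Or.inr hHfam.1) U₁ hU₁H hU₁q hAU₁
    obtain ⟨R₂, hR₂, hUR₂, hAR₂⟩ := Solv.exists_invariant_sylow_ge hAH hco (Or.inr hHfam.1) U₂ hU₂H hU₂q hAU₂
    obtain ⟨c, hc, hcR⟩ := Solv.invariant_sylow_conj hAH hco (Or.inr hHfam.1) hR₁ hR₂ hAR₁ hAR₂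
    have hcI : c ∈ Cfsg.signalizerInf A θ := Subgroup.mem_iInf.2 fun b =>
      hHfam.2.2.2 b b.2.1 b.2.2 (Subgroup.mem_inf.2 ⟨(Subgroup.mem_inf.1 hc).1,
        Subgroup.mem_centralizer_singleton_iff.2
          (Subgroup.mem_centralizer_iff.1 (Subgroup.mem_inf.1 hc).2 b b.2.1).symm⟩)
    obtain ⟨M₁, hRM₁, hM₁, hMq₁, hMm₁⟩ := exists_max_member (fam_of_le hHfam hR₁.1 hAR₁) hR₁.isPGroup
    obtain ⟨M₂, hRM₂, hM₂, hMq₂, hMm₂⟩ := exists_max_member (fam_of_le hHfam hR₂.1 hAR₂) hR₂.isPGroup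
    have hlt : ∀ X Y : Subgroup G, D < X ⊓ Y → Nat.card G - Nat.card (X ⊓ Y : Subgroup G) < n := by
      intro X Y h
      have h5 := Subgroup.card_le_card_group (X ⊓ Y)
      have h6 := Solv.card_lt_of_lt h
      omega
    obtain ⟨c₁, hc₁, he₁⟩ := ih _ (hlt Q₁ M₁ (hDU₁.trans_le (le_inf hU₁Q (hUR₁.trans hRM₁))))
      Q₁ M₁ rfl h₁ hq₁ hm₁ hM₁ hMq₁ hMm₁
    -- move the first maximal member across
    obtain ⟨M, hM⟩ : ∃ M, M = cj M₁ c := ⟨_, rfl⟩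
    have hMfam : M ∈ Cfsg.signalizerFamily p A θ := hM ▸ fam_cj hθ hM₁ hcI
    have hMmax : ∀ R ∈ Cfsg.signalizerFamily p A θ, IsPGroup q R → M ≤ R → R = M := fun R hR hRq hle => by
      have h7 := hMm₁ (cj R c⁻¹) (fam_cj hθ hR (inv_mem hcI)) (isPGroup_cj hRq _)
        (by rw [← cj_cj_inv M₁ c, ← hM]; exact cj_mono hle _)
      rw [hM, ← h7, cj_inv_cj]
    have hR₂M : R₂ ≤ M := by
      rw [hM, ← hcR, Solv.conj_smul_eq_map]
      exact cj_mono hRM₁ c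
    obtain ⟨c₂, hc₂, he₂⟩ := ih _ (hlt M M₂ (hDU₂.trans_le (le_inf (hUR₂.trans hR₂M) (hUR₂.trans hRM₂))))
      M M₂ rfl hMfam (hM ▸ isPGroup_cj hMq₁ c) hMmax hM₂ hMq₂ hMm₂
    obtain ⟨c₃, hc₃, he₃⟩ := ih _ (hlt M₂ Q₂ (hDU₂.trans_le (le_inf (hUR₂.trans hRM₂) hU₂Q)))
      M₂ Q₂ rfl hM₂ hMq₂ hMm₂ h₂ hq₂ hm₂
    refine ⟨c₃ * (c₂ * (c * c₁)), mul_mem hc₃ (mul_mem hc₂ (mul_mem hcI hc₁)), ?_⟩
    rw [← cj_cj, ← cj_cj, ← cj_cj, he₁, ← hM, he₂, he₃]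

/-- Every q-member is conjugate, by an element of the intersection, into a given maximal one. -/
theorem member_conj_le (hA : Cfsg.IsElementaryAbelian p A) (h3 : p ^ 3 ≤ Nat.card A)
    (hθ : Cfsg.IsSolvableSignalizerFunctor p A θ) {q : ℕ} [Fact q.Prime] {Q : Subgroup G}
    (hQ : Q ∈ Cfsg.signalizerFamily p A θ) (hQq : IsPGroup q Q)
    (hQm : ∀ R ∈ Cfsg.signalizerFamily p A θ, IsPGroup q R → Q ≤ R → R = Q)
    {U : Subgroup G} (hU : U ∈ Cfsg.signalizerFamily p A θ) (hUq : IsPGroup q U) :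
    ∃ c ∈ Cfsg.signalizerInf A θ, U ≤ cj Q c := by
  obtain ⟨M, hUM, hM, hMq, hMm⟩ := exists_max_member hU hUq
  obtain ⟨c, hc, he⟩ := transitivity hA h3 hθ _ Q M rfl hQ hQq hQm hM hMq hMm
  exact ⟨c, hc, he ▸ hUM⟩

end Cfsg.Agent.Fusion
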