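import Cfsg.Agent.Lib.Fusion.BrauerFowler

set_option autoImplicit false

namespace Cfsg.Agent.Fusion

variable {G : Type*} [Group G] [Finite G]

theorem card_le_invol_mul_centralizer {t : G} (ht : orderOf t = 2) :
    Nat.card G ≤ Nat.card {t : G // orderOf t = 2} * Nat.card (Subgroup.centralizer ({t} : Set G)) := by
  rw [Subgroup.card_eq_card_quotient_mul_card_subgroup (Subgroup.centralizer ({t} : Set G))]
  refine Nat.mul_le_mul_right _ (Nat.card_le_card_of_injective (Quotient.lift (fun g => (⟨g * t * g⁻¹,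
    ((MulEquiv.orderOf_eq (MulAut.conj g) t)).trans ht⟩ : {t : G // orderOf t = 2})) ?_) ?_)
  · intro a b hab
    have h := Subgroup.mem_centralizer_singleton_iff.1 (QuotientGroup.leftRel_apply.1 hab)
    refine Subtype.ext ?_
    show a * t * a⁻¹ = b * t * b⁻¹
    calc a * t * a⁻¹ = a * (t * (a⁻¹ * b)) * b⁻¹ := by group
      _ = a * ((a⁻¹ * b) * t) * b⁻¹ := by rw [h]
      _ = b * t * b⁻¹ := by group
  · intro x y
    refine Quotient.inductionOn₂ x y fun a b h => ?_
    have h' : a * t * a⁻¹ = b * t * b⁻¹ := congrArg Subtype.val h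
    refine Quotient.sound (QuotientGroup.leftRel_apply.2 (Subgroup.mem_centralizer_singleton_iff.2 ?_))
    calc a⁻¹ * b * t = a⁻¹ * (b * t * b⁻¹) * b := by group
      _ = a⁻¹ * (a * t * a⁻¹) * b := by rw [h']
      _ = t * (a⁻¹ * b) := by group

theorem card_dvd_factorial_index [IsSimpleGroup G] (H : Subgroup G) (hH : H ≠ ⊤) :
    Nat.card G ∣ Nat.factorial H.index := by
  have h : H.normalCore = ⊥ := (IsSimpleGroup.eq_bot_or_eq_top_of_normal _ H.normalCore_normal).resolve_right
    fun h => hH (top_le_iff.1 (h ▸ H.normalCore_le))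
  have hinj : Function.Injective (MulAction.toPermHom G (G ⧸ H)) := by
    rw [← MonoidHom.ker_eq_bot_iff, ← Subgroup.normalCore_eq_ker, h]
  have := Subgroup.card_dvd_of_injective _ hinj
  rwa [Nat.card_perm, ← Subgroup.index_eq_card] at this

theorem center_eq_bot_of_simple [IsSimpleGroup G] (hna : ¬ IsMulCommutative G) : Subgroup.center G = ⊥ :=
  (IsSimpleGroup.eq_bot_or_eq_top_of_normal _ inferInstance).resolve_right fun h =>
    hna ⟨⟨fun a b => (Subgroup.mem_center_iff.1 (h ▸ Subgroup.mem_top b) a)⟩⟩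

theorem no_index_two_of_simple [IsSimpleGroup G] (hna : ¬ IsMulCommutative G) (H : Subgroup G) :
    H.index ≠ 2 := fun h => by
  have hn : H.Normal := Subgroup.normal_of_index_eq_two h
  rcases IsSimpleGroup.eq_bot_or_eq_top_of_normal _ hn with h1 | h1
  · rw [h1, Subgroup.index_bot] at h
    haveI : IsCyclic G := isCyclic_of_prime_card (p := 2) h
    exact hna inferInstance
  · rw [h1, Subgroup.index_top] at h; omega

end Cfsg.Agent.Fusion
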