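import Cfsg.Agent.Lib.Fusion.QuasiDihedral
import Cfsg.Agent.Lib.Fusion.Basic

/-!
# Subgroups of quasidihedral groups
-/

set_option autoImplicit false
set_option linter.style.haveILetI false
set_option linter.unusedSectionVars false

namespace Cfsg.Agent.Fusion

variable {S : Type*} [Group S] [Finite S]

namespace QDData

variable {n : ℕ} (D : QDData S n)

/-- The element of order four in `⟨x⟩`. -/
def q (_D : QDData S n) : ℤ := 2 ^ (n - 2)

theorem four_q : 4 * D.q = 2 ^ n := by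
  have := D.hn
  rw [q, show (4 : ℤ) = 2 ^ 2 by norm_num, ← pow_add]; congr 1; omega

theorem two_q : 2 * D.q = D.h := by
  have := D.hn
  rw [q, h, ← pow_succ']; congr 1; omega

theorem q_eq : D.q = 2 * 2 ^ (n - 3) := by
  have := D.hn
  rw [q, ← pow_succ']; congr 1; omega

theorem q_pos : 0 < D.q := pow_pos two_pos _

theorem orderOf_a : orderOf (D.x ^ D.q) = 4 := by
  refine orderOf_eq_prime_pow (p := 2) (n := 1) ?_ ?_
  · rw [pow_one, ← zpow_natCast, ← zpow_mul, Nat.cast_ofNat, mul_comm, D.two_q]; exact D.z_ne_one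
  · rw [← zpow_natCast, ← zpow_mul, D.zpow_eq_one_iff]
    exact ⟨1, by rw [← D.four_q]; push_cast; ring⟩

theorem conj_a (i : ℤ) : (D.x ^ i * D.y) * D.x ^ D.q * (D.x ^ i * D.y)⁻¹ = D.x ^ (-D.q) := by
  calc _ = D.x ^ i * (D.y * D.x ^ D.q) * D.y⁻¹ * (D.x ^ i)⁻¹ := by group
    _ = D.x ^ ((D.h - 1) * D.q) := by rw [D.y_mul_zpow]; group
    _ = _ := by
      rw [D.zpow_eq_iff]
      exact ⟨-(2 : ℤ) ^ (n - 3), by rw [← D.four_q, ← D.two_q, D.q_eq]; ring⟩

/-- Membership in the intersection with `⟨x⟩` given by a divisibility. -/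
theorem inter_eq (H : Subgroup S) (d : ℤ) (hd : d ∣ (2 : ℤ) ^ n)
    (hH : ∀ j : ℤ, D.x ^ j ∈ H ↔ d ∣ j) : H ⊓ Subgroup.zpowers D.x = Subgroup.zpowers (D.x ^ d) := by
  refine le_antisymm (fun s hs => ?_) (le_inf (Subgroup.zpowers_le.2 ((hH d).2 dvd_rfl))
    (Subgroup.zpowers_le.2 (Subgroup.zpow_mem_zpowers _ _)))
  obtain ⟨hsH, hsx⟩ := Subgroup.mem_inf.1 hs
  obtain ⟨j, rfl⟩ := Subgroup.mem_zpowers_iff.1 hsx
  obtain ⟨c, rfl⟩ := (hH j).1 hsH
  rw [zpow_mul]; exact Subgroup.zpow_mem_zpowers _ _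

theorem card_centralizer_refl (i : ℤ) :
    Nat.card (Subgroup.centralizer ({D.x ^ i * D.y} : Set S)) = 4 := by
  rw [D.card_eq_two_mul _ (fun hle => D.not_mem_of_refl i
    (hle (Subgroup.mem_centralizer_singleton_iff.2 rfl)))]
  rw [D.inter_eq _ D.h ⟨2, by rw [← D.two_h]; ring⟩ ?_, Nat.card_zpowers, ← z, D.orderOf_z]
  intro j
  rw [Subgroup.mem_centralizer_singleton_iff]
  show Commute (D.x ^ j) (D.x ^ i * D.y) ↔ _
  rw [D.commute_refl_iff i]
  constructor
  · rintro (h' | h' | h' | h')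
    · rw [D.zpow_eq_one_iff] at h'; exact (Dvd.intro_left 2 D.two_h).trans h'
    · rw [z, D.zpow_eq_iff] at h'
      have h2 := dvd_sub (dvd_refl D.h) ((Dvd.intro_left 2 D.two_h).trans h')
      rwa [sub_sub_cancel] at h2
    · exact absurd h'.symm (D.refl_ne_rot i j)
    · rw [z, ← mul_assoc, ← zpow_add] at h'
      exact absurd h'.symm (D.refl_ne_rot _ j)
  · rintro ⟨c, rfl⟩
    rcases Int.even_or_odd c with hc | hc
    · exact Or.inl (D.h_mul_even hc)
    · exact Or.inr (Or.inl (D.h_mul_odd hc))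

/-- Klein four subgroups are centralizers of noncentral involutions. -/
theorem four_eq {T : Subgroup S} (hT : IsKleinFour T) :
    ∃ i : ℤ, Even i ∧ T = Subgroup.centralizer ({D.x ^ i * D.y} : Set S) := by
  haveI := hT
  obtain ⟨u, huT, hu1, huz⟩ : ∃ u ∈ T, u ≠ 1 ∧ u ≠ D.z := by
    by_contra hne
    have hle : T ≤ Subgroup.zpowers D.z := fun u hu => by
      by_contra hu'
      exact hne ⟨u, hu, fun h => hu' (h ▸ one_mem _), fun h => hu' (h ▸ Subgroup.mem_zpowers _)⟩
    have := Subgroup.card_le_of_le hle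
    rw [Nat.card_zpowers, D.orderOf_z, hT.card_four] at this
    omega
  have hu2 : orderOf u = 2 := orderOf_eq_prime (by
    rw [sq]; exact congrArg Subtype.val (IsKleinFour.mul_self (⟨u, huT⟩ : T))) hu1
  obtain ⟨i, hi, rfl⟩ := (D.invol_cases hu2).resolve_left huz
  refine ⟨i, hi, Subgroup.eq_of_le_of_card_ge (fun t ht => Subgroup.mem_centralizer_singleton_iff.2 ?_) ?_⟩
  · exact congrArg Subtype.val ((IsKleinFour.isMulCommutative (G := T)).is_comm.comm ⟨t, ht⟩ ⟨_, huT⟩)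
  · rw [D.card_centralizer_refl, hT.card_four]

theorem map_centralizer_singleton (u g : S) :
    (Subgroup.centralizer ({u} : Set S)).map (MulAut.conj g).toMonoidHom =
      Subgroup.centralizer ({g * u * g⁻¹} : Set S) := by
  ext s
  simp only [Subgroup.mem_map_equiv, MulAut.conj_symm_apply, Subgroup.mem_centralizer_singleton_iff]
  constructor
  · intro hc
    calc s * (g * u * g⁻¹) = g * (g⁻¹ * s * g * u) * g⁻¹ := by group
      _ = g * (u * (g⁻¹ * s * g)) * g⁻¹ := by rw [hc]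
      _ = _ := by group
  · intro hc
    calc g⁻¹ * s * g * u = g⁻¹ * (s * (g * u * g⁻¹)) * g := by group
      _ = g⁻¹ * (g * u * g⁻¹ * s) * g := by rw [hc]
      _ = _ := by group

theorem four_relIndex {i : ℤ} :
    (Subgroup.centralizer ({D.x ^ i * D.y} : Set S)).relIndex
      (Subgroup.normalizer (Subgroup.centralizer ({D.x ^ i * D.y} : Set S) : Set S)) = 2 := by
  obtain ⟨u, hu⟩ : ∃ u, u = D.x ^ i * D.y := ⟨_, rfl⟩
  rw [← hu]
  set C := Subgroup.centralizer ({u} : Set S)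
  set N := Subgroup.normalizer (C : Set S)
  have huC : u ∈ C := Subgroup.mem_centralizer_singleton_iff.2 rfl
  have hN : Nat.card N = 8 := by
    rw [D.card_eq_two_mul _ (fun hle => D.not_mem_of_refl i (hu ▸ hle (Subgroup.le_normalizer huC)))]
    rw [D.inter_eq N D.q ⟨4, by rw [← D.four_q]; ring⟩ ?_, Nat.card_zpowers, D.orderOf_a]
    intro j
    have hmap : D.x ^ j ∈ N ↔ Subgroup.centralizer ({D.x ^ (i + (2 - D.h) * j) * D.y} : Set S) = C := by
      rw [← D.conj_refl i j, ← hu, ← map_centralizer_singleton]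
      exact mem_normalizer_iff_cj
    rw [hmap]
    constructor
    · intro hc
      have h1 : D.x ^ (i + (2 - D.h) * j) * D.y ∈ C := hc ▸ Subgroup.mem_centralizer_singleton_iff.2 rfl
      have h2 : Commute (D.x ^ (i + (2 - D.h) * j) * D.y) u := Subgroup.mem_centralizer_singleton_iff.1 h1
      rw [hu, D.commute_refl_iff] at h2
      have h3 : D.h ∣ (2 - D.h) * j := by
        rcases h2 with h' | h' | h' | h'
        · exact absurd (h'.trans (zpow_zero D.x).symm) (D.refl_ne_rot _ _)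
        · exact absurd h' (D.refl_ne_rot _ _)
        · rw [mul_left_inj, D.zpow_eq_iff, ← D.two_h] at h'
          have := (Dvd.intro_left 2 rfl : D.h ∣ 2 * D.h).trans h'
          rwa [show i - (i + (2 - D.h) * j) = -((2 - D.h) * j) by ring, dvd_neg] at this
        · rw [z, ← mul_assoc, ← zpow_add, mul_left_inj, D.zpow_eq_iff, ← D.two_h] at h'
          have := dvd_sub (dvd_refl D.h) ((Dvd.intro_left 2 rfl : D.h ∣ 2 * D.h).trans h')
          rwa [show D.h - (D.h + i - (i + (2 - D.h) * j)) = (2 - D.h) * j by ring] at this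
      have h4 := (D.two_sub_h_dvd j (n - 1) (by omega)).1 h3
      rw [show ((2 : ℤ) ^ (n - 1)) = D.h from rfl, ← D.two_q, mul_dvd_mul_iff_left two_ne_zero] at h4
      exact h4
    · rintro ⟨c, rfl⟩
      have he : D.x ^ (i + (2 - D.h) * (D.q * c)) * D.y = u ∨
          D.x ^ (i + (2 - D.h) * (D.q * c)) * D.y = D.z * u := by
        have h5 : D.x ^ ((2 - D.h) * (D.q * c)) = D.x ^ (D.h * c) := by
          rw [D.zpow_eq_iff]
          exact ⟨(2 : ℤ) ^ (n - 3) * c, by
            rw [← D.four_q, ← D.two_q, D.q_eq]; ring⟩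
        rw [hu, add_comm, zpow_add, h5, mul_assoc]
        rcases Int.even_or_odd c with hc | hc
        · left; rw [D.h_mul_even hc, one_mul]
        · right; rw [D.h_mul_odd hc]
      rcases he with he | he <;> rw [he]
      refine Subgroup.ext fun s => ?_
      simp only [C, Subgroup.mem_centralizer_singleton_iff]
      have hz := D.z_central s
      constructor
      · intro hc
        refine mul_left_cancel (a := D.z) ?_
        calc D.z * (s * u) = s * (D.z * u) := by rw [← mul_assoc, hz.eq, mul_assoc]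
          _ = D.z * u * s := hc
          _ = D.z * (u * s) := mul_assoc _ _ _
      · intro hc
        calc s * (D.z * u) = D.z * (s * u) := by rw [← mul_assoc, ← hz.eq, mul_assoc]
          _ = D.z * u * s := by rw [hc, mul_assoc]
  have h1 := (C.subgroupOf N).card_mul_index
  rw [Nat.card_congr (Subgroup.subgroupOfEquivOfLe (H := C) (K := N) Subgroup.le_normalizer).toEquiv, hN,
    show Nat.card C = 4 by rw [show C = Subgroup.centralizer ({D.x ^ i * D.y} : Set S) by rw [← hu]]; exact D.card_centralizer_refl i] at h1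
  show (C.subgroupOf N).index = 2
  omega

/-- The quaternion subgroup through the odd reflection `x ^ i y`. -/
def quat (i : ℤ) : Subgroup S := Subgroup.zpowers (D.x ^ D.q) ⊔ Subgroup.zpowers (D.x ^ i * D.y)

theorem a_normalizes_quat (i : ℤ) : Subgroup.zpowers (D.x ^ i * D.y) ≤
    Subgroup.normalizer (Subgroup.zpowers (D.x ^ D.q) : Set S) := by
  rw [Subgroup.zpowers_le, mem_normalizer_iff_cj]
  show (Subgroup.zpowers (D.x ^ D.q)).map _ = _
  rw [MonoidHom.map_zpowers]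
  show Subgroup.zpowers ((D.x ^ i * D.y) * D.x ^ D.q * (D.x ^ i * D.y)⁻¹) = _
  rw [D.conj_a, zpow_neg, Subgroup.zpowers_inv]

theorem quat_mem {i : ℤ} (s : S) : s ∈ D.quat i ↔
    (∃ k : ℤ, s = D.x ^ (D.q * k)) ∨ ∃ k : ℤ, s = D.x ^ (D.q * k) * (D.x ^ i * D.y) := by
  constructor
  · intro hs
    rw [quat, ← SetLike.mem_coe, Subgroup.coe_mul_of_right_le_normalizer_left _ _ (D.a_normalizes_quat i)] at hs
    obtain ⟨a, ⟨k, rfl⟩, b, ⟨m, rfl⟩, rfl⟩ := hs
    obtain ⟨c, hc⟩ : ∃ c : ℤ, D.x ^ (D.h * i) = (D.x ^ D.q) ^ c := ⟨2 * i, by rw [← zpow_mul, ← D.two_q]; ring_nf⟩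
    rcases Int.even_or_odd m with ⟨l, rfl⟩ | ⟨l, rfl⟩
    · left
      refine ⟨k + c * l, ?_⟩
      show (D.x ^ D.q) ^ k * (D.x ^ i * D.y) ^ (l + l) = _
      rw [← two_mul, zpow_mul, zpow_two, D.refl_sq, hc]
      simp only [← zpow_mul, ← zpow_add]
      congr 1; ring
    · right
      refine ⟨k + c * l, ?_⟩
      show (D.x ^ D.q) ^ k * (D.x ^ i * D.y) ^ (2 * l + 1) = _
      rw [zpow_add_one, zpow_mul (D.x ^ i * D.y), zpow_two, D.refl_sq, hc, ← mul_assoc]
      simp only [← zpow_mul, ← zpow_add]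
      congr 2; ring
  · have h1 : ∀ k : ℤ, D.x ^ (D.q * k) ∈ D.quat i := fun k => by
      rw [zpow_mul]; exact Subgroup.mem_sup_left (Subgroup.zpow_mem_zpowers _ _)
    rintro (⟨k, rfl⟩ | ⟨k, rfl⟩)
    · exact h1 k
    · exact mul_mem (h1 k) (Subgroup.mem_sup_right (Subgroup.mem_zpowers _))

theorem quat_rot_iff {i : ℤ} (j : ℤ) : D.x ^ j ∈ D.quat i ↔ D.q ∣ j := by
  rw [D.quat_mem]
  constructor
  · rintro (⟨k, hk⟩ | ⟨k, hk⟩)
    · rw [D.zpow_eq_iff] at hk
      have := dvd_trans (show D.q ∣ (2 : ℤ) ^ n from ⟨4, by rw [← D.four_q]; ring⟩) hk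
      exact (dvd_sub_right (dvd_mul_right D.q k)).1 this
    · rw [← mul_assoc, ← zpow_add] at hk
      exact absurd hk.symm (D.refl_ne_rot _ _)
  · rintro ⟨k, rfl⟩
    exact Or.inl ⟨k, rfl⟩

theorem card_quat (i : ℤ) : Nat.card (D.quat i) = 8 := by
  rw [D.card_eq_two_mul (D.quat i) (fun hle => D.not_mem_of_refl i (hle (Subgroup.mem_sup_right (Subgroup.mem_zpowers _)))),
    D.inter_eq _ D.q ⟨4, by rw [← D.four_q]; ring⟩ D.quat_rot_iff, Nat.card_zpowers, D.orderOf_a]

theorem quaternion_eight_facts {Q : Subgroup S} (e : Q ≃* QuaternionGroup 2) :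
    Nat.card Q = 8 ∧ (∃ a b : Q, a * b ≠ b * a) ∧ ∀ s : Q, s ≠ 1 → s * s = 1 → ∀ t : Q, t ≠ 1 → t * t = 1 → s = t := by
  refine ⟨?_, ⟨e.symm (QuaternionGroup.a 1), e.symm (QuaternionGroup.xa 0), fun hc => ?_⟩, ?_⟩
  · rw [Nat.card_congr e.toEquiv, Nat.card_eq_fintype_card, QuaternionGroup.card]
  · rw [← map_mul, ← map_mul] at hc
    revert hc
    simp only [EmbeddingLike.apply_eq_iff_eq]
    decide
  · intro s hs hs2 t ht ht2
    have key : ∀ w : QuaternionGroup 2, w ≠ 1 → w * w = 1 → w = QuaternionGroup.a 2 := by decide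
    refine e.injective ((key _ ?_ ?_).trans (key _ ?_ ?_).symm)
    · simpa using hs
    · rw [← map_mul, hs2, map_one]
    · simpa using ht
    · rw [← map_mul, ht2, map_one]

theorem quat_eq {Q : Subgroup S} (e : Q ≃* QuaternionGroup 2) : ∃ i : ℤ, Odd i ∧ Q = D.quat i := by
  obtain ⟨hc8, ⟨a, b, hab⟩, huniq⟩ := quaternion_eight_facts e
  have hnle : ¬ Q ≤ Subgroup.zpowers D.x := fun hle => hab (Subtype.ext (by
    obtain ⟨i, hi⟩ := Subgroup.mem_zpowers_iff.1 (hle a.2)
    obtain ⟨j, hj⟩ := Subgroup.mem_zpowers_iff.1 (hle b.2)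
    show (a : S) * b = b * a
    rw [← hi, ← hj]
    exact ((Commute.refl D.x).zpow_zpow i j).eq))
  obtain ⟨s, hs, hsx⟩ := SetLike.not_le_iff_exists.1 hnle
  obtain ⟨i, rfl | rfl⟩ := D.exists_form s
  · exact absurd (Subgroup.zpow_mem_zpowers _ _) hsx
  have hK : Nat.card ↥(Q ⊓ Subgroup.zpowers D.x) = 4 := by
    have := D.card_eq_two_mul Q hnle
    omega
  have ha : D.x ^ D.q ∈ Q := by
    obtain ⟨g, hg⟩ : ∃ g : S, Q ⊓ Subgroup.zpowers D.x = Subgroup.zpowers g := by
      have hle : Q ⊓ Subgroup.zpowers D.x ≤ Subgroup.zpowers D.x := inf_le_right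
      haveI := isCyclic_of_injective (Subgroup.inclusion hle) (Subgroup.inclusion_injective hle)
      obtain ⟨g, hg⟩ := IsCyclic.exists_generator (α := ↥(Q ⊓ Subgroup.zpowers D.x))
      refine ⟨g, le_antisymm (fun w hw => ?_) (Subgroup.zpowers_le.2 g.2)⟩
      obtain ⟨k, hk⟩ := hg ⟨w, hw⟩
      exact ⟨k, congrArg Subtype.val hk⟩
    have ho : orderOf g = 4 := by rw [← Nat.card_zpowers, ← hg, hK]
    have hgQ := Subgroup.mem_inf.1 (hg ▸ Subgroup.mem_zpowers g : g ∈ Q ⊓ Subgroup.zpowers D.x)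
    rcases D.four_cases ho with h' | h' | ⟨j, -, h'⟩
    · exact h' ▸ hgQ.1
    · have := inv_mem hgQ.1
      rw [h', ← zpow_neg, neg_neg] at this
      exact this
    · exact absurd hgQ.2 (h' ▸ D.not_mem_of_refl j)
  refine ⟨i, ?_, ?_⟩
  · by_contra hodd
    rw [Int.not_odd_iff_even] at hodd
    have hz : D.z ∈ Q := by rw [z, ← D.two_q, two_mul, zpow_add]; exact mul_mem ha ha
    have := huniq ⟨_, hs⟩ (fun h' => hsx (by
      have h2 : D.x ^ i * D.y = 1 := congrArg Subtype.val h'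
      rw [h2]; exact one_mem _))
      (Subtype.ext (by show D.x ^ i * D.y * (D.x ^ i * D.y) = 1; rw [D.refl_sq, D.h_mul_even hodd]))
      ⟨D.z, hz⟩ (fun h' => D.z_ne_one (congrArg Subtype.val h')) (Subtype.ext D.z_mul_z)
    exact D.refl_ne_rot i D.h (congrArg Subtype.val this)
  · refine (Subgroup.eq_of_le_of_card_ge (sup_le (Subgroup.zpowers_le.2 ha) (Subgroup.zpowers_le.2 hs)) ?_).symm
    rw [hc8]; exact (D.card_quat i).ge

theorem quat_map (i j : ℤ) :
    (D.quat i).map (MulAut.conj (D.x ^ j)).toMonoidHom = D.quat (i + (2 - D.h) * j) := by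
  rw [quat, quat, Subgroup.map_sup, MonoidHom.map_zpowers, MonoidHom.map_zpowers]
  show Subgroup.zpowers (D.x ^ j * D.x ^ D.q * (D.x ^ j)⁻¹) ⊔
    Subgroup.zpowers (D.x ^ j * (D.x ^ i * D.y) * (D.x ^ j)⁻¹) = _
  rw [D.conj_refl, ((Commute.refl D.x).zpow_zpow j D.q).eq, mul_inv_cancel_right]

theorem centralizer_quat {i : ℤ} : Subgroup.centralizer (D.quat i : Set S) = Subgroup.zpowers D.z := by
  refine le_antisymm (fun c hc => ?_) (Subgroup.zpowers_le.2 (Subgroup.mem_centralizer_iff.2 fun s _ => (D.z_central s).eq.symm))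
  rw [Subgroup.mem_centralizer_iff] at hc
  have h1 := hc _ (Subgroup.mem_sup_right (Subgroup.mem_zpowers _) : D.x ^ i * D.y ∈ D.quat i)
  have h2 := hc _ (Subgroup.mem_sup_left (Subgroup.mem_zpowers _) : D.x ^ D.q ∈ D.quat i)
  have hna : ¬ Commute (D.x ^ i * D.y) (D.x ^ D.q) := by
    intro hh
    have h3 : D.x ^ (-D.q) = D.x ^ D.q := by rw [← D.conj_a i, hh.eq, mul_inv_cancel_right]
    rw [D.zpow_eq_iff, ← D.four_q] at h3
    obtain ⟨c, hc⟩ := h3
    have h4 : D.q * (2 - 4 * c) = 0 := by linarith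
    rcases mul_eq_zero.1 h4 with h5 | h5
    · exact D.q_pos.ne' h5
    · omega
  rcases (D.commute_refl_iff i c).1 h1.symm with rfl | rfl | rfl | rfl
  · exact one_mem _
  · exact Subgroup.mem_zpowers _
  · exact absurd h2.symm hna
  · refine absurd ?_ hna
    have h3 := (D.z_central (D.x ^ D.q)).inv_left.mul_left (show Commute _ _ from h2.symm)
    rwa [inv_mul_cancel_left] at h3

theorem quat_relIndex {i : ℤ} (hi : Odd i) :
    (D.quat i).relIndex (Subgroup.normalizer (D.quat i : Set S)) = 2 := by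
  set Q := D.quat i with hQ
  set N := Subgroup.normalizer (Q : Set S)
  have hN : Nat.card N = 16 := by
    rw [D.card_eq_two_mul N (fun hle => D.not_mem_of_refl i
      (hle (Subgroup.le_normalizer (Subgroup.mem_sup_right (Subgroup.mem_zpowers _)))))]
    obtain ⟨m, hm⟩ : ∃ m : ℤ, m = (2 : ℤ) ^ (n - 3) := ⟨_, rfl⟩
    have hm8 : (2 : ℤ) ^ n = 8 * m := by rw [← D.four_q, D.q_eq, hm]; ring
    rw [D.inter_eq N m ⟨8, by rw [hm8]; ring⟩ ?_, Nat.card_zpowers]
    · have hn3 := D.hn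
      have ho : orderOf (D.x ^ (2 ^ (n - 3) : ℕ)) = 8 := by
        rw [orderOf_pow_of_dvd (pow_ne_zero _ two_ne_zero) (D.ox ▸ pow_dvd_pow 2 (by omega)), D.ox,
          Nat.pow_div (by omega) two_pos, show n - (n - 3) = 3 by omega]
        norm_num
      rw [hm, show (2 : ℤ) ^ (n - 3) = ((2 ^ (n - 3) : ℕ) : ℤ) by push_cast; rfl, zpow_natCast, ho]
    intro j
    rw [show D.x ^ j ∈ N ↔ (D.quat i).map (MulAut.conj (D.x ^ j)).toMonoidHom = D.quat i from mem_normalizer_iff_cj, D.quat_map]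
    constructor
    · intro he
      have h1 : D.x ^ (i + (2 - D.h) * j) * D.y ∈ D.quat i :=
        he ▸ Subgroup.mem_sup_right (Subgroup.mem_zpowers _)
      rcases (D.quat_mem _).1 h1 with ⟨k, hk⟩ | ⟨k, hk⟩
      · exact absurd hk (D.refl_ne_rot _ _)
      · rw [← mul_assoc, ← zpow_add, mul_left_inj, D.zpow_eq_iff] at hk
        have h2 : D.q ∣ (2 - D.h) * j := by
          have h3 := dvd_trans (show D.q ∣ (2 : ℤ) ^ n from ⟨4, by rw [← D.four_q]; ring⟩) hk
          rw [show D.q * k + i - (i + (2 - D.h) * j) = D.q * k - (2 - D.h) * j by ring] at h3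
          exact (dvd_sub_right (dvd_mul_right D.q k)).1 h3
        have h4 := (D.two_sub_h_dvd j (n - 2) (by omega)).1 h2
        rw [show ((2 : ℤ) ^ (n - 2)) = D.q from rfl, D.q_eq, mul_dvd_mul_iff_left two_ne_zero] at h4
        exact hm ▸ h4
    · rintro ⟨c, rfl⟩
      refine (Subgroup.eq_of_le_of_card_ge (sup_le (Subgroup.zpowers_le.2 (Subgroup.mem_sup_left (Subgroup.mem_zpowers _)))
        (Subgroup.zpowers_le.2 ((D.quat_mem _).2 (Or.inr ⟨(1 - 2 * m) * c, ?_⟩)))) ?_)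
      · rw [← mul_assoc (D.x ^ (D.q * ((1 - 2 * m) * c))), ← zpow_add, D.two_sub_h, ← hm, D.q_eq, ← hm]; ring_nf
      · rw [D.card_quat, D.card_quat]
  have h1 := (Q.subgroupOf N).card_mul_index
  rw [Nat.card_congr (Subgroup.subgroupOfEquivOfLe (H := Q) (K := N) Subgroup.le_normalizer).toEquiv, hN,
    show Nat.card Q = 8 from D.card_quat i] at h1
  show (Q.subgroupOf N).index = 2
  omega

end QDData

end Cfsg.Agent.Fusion
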