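import Cfsg.Agent.Lib.Fusion.QdSection
import Cfsg.Prelude.Def_ConjugacyFunctors

/-!
# No characteristic functor controls fusion in `Qd(p)`
-/

set_option autoImplicit false

open Matrix

namespace Cfsg.Agent.Fusion

variable {p : ℕ}

theorem affMat_injective {R S : Matrix.SpecialLinearGroup (Fin 2) (ZMod p)} {v w : Fin 2 → ZMod p}
    (h : affMat p R v = affMat p S w) : R = S ∧ v = w := by
  have h' : ∀ i j, (affMat p R v).1 i j = (affMat p S w).1 i j := fun i j => by rw [h]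
  refine ⟨Subtype.ext (Matrix.ext fun i j => ?_), funext fun i => ?_⟩
  · fin_cases i <;> fin_cases j
    exacts [h' 0 0, h' 0 1, h' 1 0, h' 1 1]
  · fin_cases i
    exacts [h' 0 2, h' 1 2]

theorem affMat_one : affMat p 1 0 = 1 := by
  refine Subtype.ext ?_
  show (affMat p 1 0).1 = 1
  ext i j
  fin_cases i <;> fin_cases j <;> rfl

theorem qd_elim [Fact p.Prime] (x : ↥(Cfsg.qd p)) : ∃ R v, affMat p R v = x.1 := by
  obtain ⟨M, hM⟩ := x
  induction hM using Subgroup.closure_induction with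
  | mem M hM => exact exists_affMat_of_mem p hM.1 hM.2.1 hM.2.2
  | one => exact ⟨1, 0, affMat_one⟩
  | mul a b _ _ iha ihb =>
    obtain ⟨R, v, ha⟩ := iha
    obtain ⟨S, w, hb⟩ := ihb
    exact ⟨R * S, R.1 *ᵥ w + v, by rw [← affMat_mul]; exact congrArg₂ (· * ·) ha hb⟩
  | inv a _ iha =>
    obtain ⟨R, v, ha⟩ := iha
    refine ⟨R⁻¹, -((R⁻¹).1 *ᵥ v), ?_⟩
    show _ = a⁻¹
    refine eq_inv_of_mul_eq_one_right ?_
    rw [← (show affMat p R v = a from ha), affMat_mul, mul_inv_cancel, mulVec_neg, mulVec_mulVec,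
      show R.1 * (R⁻¹).1 = 1 from congrArg Subtype.val (mul_inv_cancel R), one_mulVec,
      neg_add_cancel, affMat_one]

section Transport

universe u

variable [hp : Fact p.Prime] {Y : Type u} [Group Y] [Finite Y] (e : Y ≃* ↥(Cfsg.qd p))

/-- The element of `Y` with given linear part and translation. -/
def qdElt (R : Matrix.SpecialLinearGroup (Fin 2) (ZMod p)) (v : Fin 2 → ZMod p) : Y :=
  e.symm ⟨affMat p R v, affMat_mem_qd p R v⟩

omit [Finite Y] in
theorem qdElt_mul (R S : Matrix.SpecialLinearGroup (Fin 2) (ZMod p)) (v w : Fin 2 → ZMod p) :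
    qdElt e R v * qdElt e S w = qdElt e (R * S) (R.1 *ᵥ w + v) := by
  rw [qdElt, qdElt, qdElt, ← map_mul]
  exact congrArg e.symm (Subtype.ext (affMat_mul p R S v w))

omit [Finite Y] in
theorem qdElt_one : qdElt e 1 0 = 1 := by
  rw [qdElt, ← map_one e.symm]
  exact congrArg e.symm (Subtype.ext affMat_one)

omit [Finite Y] in
theorem qdElt_surj (y : Y) : ∃ R v, qdElt e R v = y := by
  obtain ⟨R, v, h⟩ := qd_elim (e y)
  exact ⟨R, v, by
    rw [qdElt, MulEquiv.symm_apply_eq]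
    exact Subtype.ext h⟩

omit [Finite Y] in
theorem qdElt_inj {R S : Matrix.SpecialLinearGroup (Fin 2) (ZMod p)} {v w : Fin 2 → ZMod p}
    (h : qdElt e R v = qdElt e S w) : R = S ∧ v = w :=
  affMat_injective (congrArg Subtype.val (e.symm.injective h))

omit [Finite Y] in
theorem qdElt_inv (R : Matrix.SpecialLinearGroup (Fin 2) (ZMod p)) (v : Fin 2 → ZMod p) :
    (qdElt e R v)⁻¹ = qdElt e R⁻¹ (-((R⁻¹).1 *ᵥ v)) := by
  refine inv_eq_of_mul_eq_one_right ?_
  rw [qdElt_mul, mul_inv_cancel, mulVec_neg, mulVec_mulVec,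
    show R.1 * (R⁻¹).1 = 1 from congrArg Subtype.val (mul_inv_cancel R), one_mulVec,
    neg_add_cancel, qdElt_one]

omit [Finite Y] in
theorem qdElt_conj (R S : Matrix.SpecialLinearGroup (Fin 2) (ZMod p)) (v w : Fin 2 → ZMod p) :
    qdElt e R v * qdElt e S w * (qdElt e R v)⁻¹ =
      qdElt e (R * S * R⁻¹) (R.1 *ᵥ w + v - (R * S * R⁻¹).1 *ᵥ v) := by
  rw [qdElt_inv, qdElt_mul, qdElt_mul]
  refine congrArg₂ (qdElt e) rfl ?_
  rw [mulVec_neg, mulVec_mulVec]
  rw [show (R * S * R⁻¹).1 = (R * S).1 * (R⁻¹).1 from rfl]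
  abel

/-- The standard Sylow `p`-subgroup. -/
def qdT : Subgroup Y where
  carrier := {y | ∃ a v, qdElt e (Dickson.upU a) v = y}
  one_mem' := ⟨0, 0, by rw [Dickson.upU_zero, qdElt_one]⟩
  mul_mem' := by
    rintro _ _ ⟨a, v, rfl⟩ ⟨b, w, rfl⟩
    exact ⟨a + b, (Dickson.upU a).1 *ᵥ w + v, by rw [qdElt_mul, Dickson.upU_mul]⟩
  inv_mem' := by
    rintro _ ⟨a, v, rfl⟩
    refine ⟨-a, -((Dickson.upU (-a)).1 *ᵥ v), ?_⟩
    rw [qdElt_inv, show (Dickson.upU a)⁻¹ = Dickson.upU (-a) from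
      inv_eq_of_mul_eq_one_right (by rw [Dickson.upU_mul, add_neg_cancel, Dickson.upU_zero])]

omit [Finite Y] in
theorem isPGroup_qdT : IsPGroup p (qdT e) := by
  refine IsPGroup.of_card (n := 3) ?_
  have : Nat.card (qdT e) = Nat.card (ZMod p × (Fin 2 → ZMod p)) :=
    (Nat.card_congr (Equiv.ofBijective
      (fun q : ZMod p × (Fin 2 → ZMod p) => (⟨_, q.1, q.2, rfl⟩ : qdT e))
      ⟨fun q r h => by
        obtain ⟨h1, h2⟩ := qdElt_inj e (congrArg Subtype.val h)
        exact Prod.ext (congrArg (fun m : Matrix.SpecialLinearGroup (Fin 2) (ZMod p) => m.1 0 1) h1) h2,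
      fun ⟨_, a, v, he⟩ => ⟨(a, v), Subtype.ext he⟩⟩)).symm
  rw [this, Nat.card_prod, Nat.card_fun, Nat.card_zmod, Nat.card_eq_fintype_card, Fintype.card_fin]
  ring

omit [Finite Y] in
theorem normalizer_qdT {R : Matrix.SpecialLinearGroup (Fin 2) (ZMod p)} {v : Fin 2 → ZMod p}
    (h : qdElt e R v ∈ Subgroup.normalizer (qdT e : Set Y)) : R.1 1 0 = 0 := by
  obtain ⟨a, w, he⟩ := (Subgroup.mem_normalizer_iff.1 h (qdElt e (Dickson.upU 1) 0)).1 ⟨1, 0, rfl⟩
  rw [qdElt_conj] at he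
  have hc := congrArg (fun m : Matrix.SpecialLinearGroup (Fin 2) (ZMod p) => m.1 1 0) (qdElt_inj e he).1
  obtain ⟨i1, i2, i3, i4⟩ := Dickson.inv_entries R
  simp [Dickson.mul_entry, i1, i3] at hc
  exact mul_self_eq_zero.1 (by linear_combination hc)

theorem qdT_maximal {P : Subgroup Y} (hP : IsPGroup p P) (hle : qdT e ≤ P) : P = qdT e := by
  by_contra hne
  haveI : Group.IsNilpotent P := hP.isNilpotent
  obtain ⟨⟨y, hyP⟩, hy, hyT⟩ := SetLike.exists_of_lt (Group.normalizerCondition_of_isNilpotent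
    ((qdT e).subgroupOf P) (lt_top_iff_ne_top.2 fun htop => hne (le_antisymm
      (fun x hx => Subgroup.mem_subgroupOf.1 (htop.ge (Subgroup.mem_top (⟨x, hx⟩ : P)))) hle)))
  have hyN : y ∈ Subgroup.normalizer (qdT e : Set Y) := by
    rw [Subgroup.mem_normalizer_iff]
    intro z
    constructor
    · intro hz
      exact (Subgroup.mem_normalizer_iff.1 hy ⟨z, hle hz⟩).1 hz
    · intro hz
      have hzP : z ∈ P := by
        have h1 : z = y⁻¹ * (y * z * y⁻¹) * y := by group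
        rw [h1]; exact mul_mem (mul_mem (inv_mem hyP) (hle hz)) hyP
      exact (Subgroup.mem_normalizer_iff.1 hy ⟨z, hzP⟩).2 hz
  obtain ⟨j, hj⟩ := hP ⟨y, hyP⟩
  have hj' : y ^ p ^ j = 1 := congrArg Subtype.val hj
  obtain ⟨R, v, rfl⟩ := qdElt_surj e y
  have h10 := normalizer_qdT e hyN
  have hpow : ∀ i : ℕ, ∃ w, qdElt e R v ^ i = qdElt e (R ^ i) w := by
    intro i
    induction i with
    | zero => exact ⟨0, by rw [pow_zero, pow_zero, qdElt_one]⟩
    | succ i ih =>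
      obtain ⟨w, hw⟩ := ih
      exact ⟨_, by rw [pow_succ, hw, qdElt_mul, pow_succ]⟩
  obtain ⟨w, hw⟩ := hpow (p ^ j)
  rw [hj', ← qdElt_one e] at hw
  have ht := Dickson.tr_of_pow_eq_one p (qdElt_inj e hw).1.symm
  rw [Dickson.tr] at ht
  have hd := Dickson.det_eq R
  rw [h10, mul_zero, sub_zero] at hd
  have h00 : R.1 0 0 = 1 := by
    refine sub_eq_zero.1 (mul_self_eq_zero.1 ?_)
    linear_combination R.1 0 0 * ht - hd
  exact hyT (Subgroup.mem_subgroupOf.2 ⟨_, v, congrArg (qdElt e · v) (Dickson.eq_upU h10 h00).symm⟩)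

/-- The line fixed by the standard Sylow subgroup. -/
def qdZSet : Set Y := {y | ∃ v : Fin 2 → ZMod p, v 1 = 0 ∧ qdElt e 1 v = y}

/-- The automorphism of the standard Sylow subgroup exchanging the two abelian maximal subgroups. -/
theorem exists_swap : ∃ φ : qdT e ≃* qdT e, ∀ (a : ZMod p) (v : Fin 2 → ZMod p) (x : qdT e),
    (x : Y) = qdElt e (Dickson.upU a) v →
      (φ x : Y) = qdElt e (Dickson.upU (v 1)) ![-v 0 + a * v 1, a] := by
  have hx : ∀ x : qdT e, ∃ a, ∃ v, qdElt e (Dickson.upU a) v = (x : Y) := fun x => x.2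
  choose a v hav using hx
  have key : ∀ (x : qdT e) (b : ZMod p) (w : Fin 2 → ZMod p),
      (x : Y) = qdElt e (Dickson.upU b) w → a x = b ∧ v x = w := by
    intro x b w h
    rw [← hav] at h
    obtain ⟨h1, h2⟩ := qdElt_inj e h
    exact ⟨congrArg (fun m : Matrix.SpecialLinearGroup (Fin 2) (ZMod p) => m.1 0 1) h1, h2⟩
  let f : qdT e → qdT e := fun x =>
    ⟨qdElt e (Dickson.upU (v x 1)) ![-v x 0 + a x * v x 1, a x], _, _, rfl⟩
  have hf : ∀ x, f (f x) = x := by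
    intro x
    obtain ⟨h1, h2⟩ := key (f x) _ _ rfl
    refine Subtype.ext ?_
    show qdElt e (Dickson.upU (v (f x) 1)) ![-v (f x) 0 + a (f x) * v (f x) 1, a (f x)] = (x : Y)
    rw [h1, h2, ← hav x]
    refine congrArg₂ (qdElt e) (by simp) (funext fun i => ?_)
    fin_cases i <;> simp [mul_comm]
  refine ⟨MulEquiv.mk ⟨f, f, hf, hf⟩ (fun x y => ?_), fun b w x hx => ?_⟩
  · obtain ⟨h1, h2⟩ := key (x * y) (a x + a y) ((Dickson.upU (a x)).1 *ᵥ v y + v x) (by
      show (x : Y) * y = _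
      rw [← hav x, ← hav y, qdElt_mul, Dickson.upU_mul])
    refine Subtype.ext ?_
    show (f (x * y) : Y) = (f x : Y) * (f y : Y)
    simp only [f, qdElt_mul, Dickson.upU_mul, h1, h2]
    refine congrArg₂ (qdElt e) (congrArg Dickson.upU ?_) (funext fun i => ?_)
    · simp [mulVec, dotProduct, Fin.sum_univ_two, add_comm]
    · fin_cases i <;> simp [mulVec, dotProduct, Fin.sum_univ_two] <;> ring
  · obtain ⟨h1, h2⟩ := key x b w hx
    show qdElt e (Dickson.upU (v x 1)) ![-v x 0 + a x * v x 1, a x] = _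
    rw [h1, h2]

/-- The normalizer of the value of a characteristic functor on the standard Sylow subgroup keeps
the fixed line. -/
theorem qdZ_stable {W : ∀ (Q : Type u) [Group Q], Subgroup Q} (hW : Cfsg.IsCharPFunctor.{u} p W)
    {n : Y} (hn : n ∈ Subgroup.normalizer ((Cfsg.inducedFunctor W (qdT e) : Subgroup Y) : Set Y))
    {z : Y} (hz : z ∈ qdZSet e) : n * z * n⁻¹ ∈ qdZSet e := by
  set T := qdT e
  set U := Cfsg.inducedFunctor W T with hU
  have hUT : U ≤ T := Subgroup.map_subtype_le _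
  haveI : Nontrivial T := ⟨⟨⟨qdElt e (Dickson.upU 1) 0, _, _, rfl⟩, 1, fun h => by
    have h' : qdElt e (Dickson.upU 1) 0 = qdElt e 1 0 := by
      rw [qdElt_one]; exact congrArg Subtype.val h
    have := congrArg (fun m : Matrix.SpecialLinearGroup (Fin 2) (ZMod p) => m.1 0 1) (qdElt_inj e h').1
    simp [Dickson.one_entries] at this⟩⟩
  have hinv : ∀ φ : T ≃* T, ∀ x ∈ W T, φ x ∈ W T := fun φ x hx =>
    (hW.2 T T (isPGroup_qdT e) φ).le ⟨x, hx, rfl⟩
  have hconj : ∀ t ∈ T, ∀ u ∈ U, t * u * t⁻¹ ∈ U := by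
    rintro t ht _ ⟨x, hx, rfl⟩
    exact ⟨MulAut.conj (⟨t, ht⟩ : T) x, hinv _ x hx, rfl⟩
  have hpowV : ∀ (v : Fin 2 → ZMod p) (i : ℕ), qdElt e 1 v ^ i = qdElt e 1 ((i : ZMod p) • v) := by
    intro v i
    induction i with
    | zero => simp [qdElt_one]
    | succ i ih =>
      rw [pow_succ, ih, qdElt_mul, one_mul]
      refine congrArg (qdElt e 1) ?_
      rw [show (1 : Matrix.SpecialLinearGroup (Fin 2) (ZMod p)).1 = 1 from rfl, one_mulVec,
        Nat.cast_succ, add_smul, one_smul, add_comm]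
  have hscal : ∀ v, qdElt e 1 v ∈ U → ∀ c : ZMod p, qdElt e 1 (c • v) ∈ U := fun v hv c => by
    have := pow_mem hv c.val
    rwa [hpowV, ZMod.natCast_zmod_val] at this
  have hVconj : ∀ R v w, qdElt e R v * qdElt e 1 w * (qdElt e R v)⁻¹ = qdElt e 1 (R.1 *ᵥ w) :=
    fun R v w => by
      rw [qdElt_conj, mul_one, mul_inv_cancel]
      refine congrArg (qdElt e 1) ?_
      rw [show (1 : Matrix.SpecialLinearGroup (Fin 2) (ZMod p)).1 = 1 from rfl, one_mulVec,
        add_sub_cancel_right]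
  have hline : ∀ v, qdElt e 1 v ∈ U → v 1 ≠ 0 → ∀ w, qdElt e 1 w ∈ U := by
    intro v hv hv1 w
    have h1 := hconj _ ⟨1, 0, rfl⟩ _ hv
    rw [hVconj] at h1
    have h2 := mul_mem h1 (hscal v hv (-1))
    rw [qdElt_mul, one_mul] at h2
    have h3 := mul_mem (hscal _ h2 ((w 0 - v 0 * (w 1 / v 1)) / v 1)) (hscal v hv (w 1 / v 1))
    rw [qdElt_mul, one_mul] at h3
    convert h3 using 2
    funext i
    fin_cases i <;>
      simp [show (1 : Matrix.SpecialLinearGroup (Fin 2) (ZMod p)).1 = 1 from rfl, mulVec, dotProduct,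
        Fin.sum_univ_two, Matrix.vecHead, Matrix.vecTail] <;> field_simp <;> ring
  obtain ⟨z₀, hz0U, hz0⟩ : ∃ v : Fin 2 → ZMod p, qdElt e 1 v ∈ U ∧ v ≠ 0 := by
    have hne := hW.1 T (isPGroup_qdT e) inferInstance
    obtain ⟨⟨x, hxT⟩, hx, hx1⟩ := (Subgroup.bot_or_exists_ne_one _).resolve_left hne
    obtain ⟨a, v, rfl⟩ := hxT
    rcases eq_or_ne a 0 with rfl | ha
    · refine ⟨v, ⟨⟨qdElt e (Dickson.upU 0) v, 0, v, rfl⟩, hx, ?_⟩, fun h => hx1 (Subtype.ext ?_)⟩
      · show qdElt e (Dickson.upU 0) v = qdElt e 1 v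
        rw [Dickson.upU_zero]
      · show qdElt e (Dickson.upU 0) v = 1
        rw [h, Dickson.upU_zero, qdElt_one]
    · refine ⟨![-a, 0], ?_, fun h => ha (by simpa using congrFun h 0)⟩
      have hxU : qdElt e (Dickson.upU a) v ∈ U := ⟨_, hx, rfl⟩
      have h1 := mul_mem (hconj _ ⟨0, ![0, 1], rfl⟩ _ hxU) (inv_mem hxU)
      rw [Dickson.upU_zero, qdElt_conj, qdElt_inv, qdElt_mul, one_mul, inv_one, mul_one,
        mul_inv_cancel] at h1
      convert h1 using 2
      rw [mulVec_neg, mulVec_mulVec, show (Dickson.upU a).1 * ((Dickson.upU a)⁻¹).1 = 1 from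
        congrArg Subtype.val (mul_inv_cancel (Dickson.upU a))]
      funext i
      fin_cases i <;>
        simp [show (1 : Matrix.SpecialLinearGroup (Fin 2) (ZMod p)).1 = 1 from rfl, mulVec,
          dotProduct, Fin.sum_univ_two, Matrix.vecHead, Matrix.vecTail] <;> ring
  obtain ⟨R, v, rfl⟩ := qdElt_surj e n
  obtain ⟨u, hu1, rfl⟩ := hz
  by_cases hall : ∃ w, qdElt e 1 w ∈ U ∧ w 1 ≠ 0
  · obtain ⟨w, hw, hw1⟩ := hall
    have hV := hline w hw hw1
    by_cases hUV : ∀ x ∈ U, ∃ w, qdElt e 1 w = x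
    · exfalso
      obtain ⟨φ, hφ⟩ := exists_swap e
      obtain ⟨⟨y, hy⟩, hyW, hye⟩ := hV ![0, 1]
      have h1 := hφ 0 ![0, 1] ⟨y, hy⟩ (by rw [Dickson.upU_zero]; exact hye)
      obtain ⟨w', hw'⟩ := hUV _ ⟨φ ⟨y, hy⟩, hinv φ _ hyW, rfl⟩
      have h2 := (qdElt_inj e (hw'.trans h1)).1
      have := congrArg (fun m : Matrix.SpecialLinearGroup (Fin 2) (ZMod p) => m.1 0 1) h2
      simp [Dickson.one_entries] at this
    · push Not at hUV
      obtain ⟨x, hx, hxV⟩ := hUV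
      obtain ⟨a, w', rfl⟩ := hUT hx
      have ha : a ≠ 0 := fun h => hxV w' (by rw [h, Dickson.upU_zero])
      have hupU : qdElt e (Dickson.upU a) 0 ∈ U := by
        have := mul_mem (hV (-w')) hx
        rw [qdElt_mul, one_mul] at this
        convert this using 2
        simp [show (1 : Matrix.SpecialLinearGroup (Fin 2) (ZMod p)).1 = 1 from rfl]
      have hUT' : U = T := by
        refine le_antisymm hUT ?_
        rintro _ ⟨b, w'', rfl⟩
        have hpw : ∀ i : ℕ, qdElt e (Dickson.upU a) 0 ^ i = qdElt e (Dickson.upU ((i : ZMod p) * a)) 0 := by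
          intro i
          induction i with
          | zero => simp [qdElt_one, Dickson.upU_zero]
          | succ i ih =>
            rw [pow_succ, ih, qdElt_mul, Dickson.upU_mul, mulVec_zero, add_zero, Nat.cast_succ,
              add_mul, one_mul]
        have h1 := mul_mem (hV w'') (pow_mem hupU (b / a).val)
        rw [hpw, ZMod.natCast_zmod_val, div_mul_cancel₀ b ha, qdElt_mul, one_mul, mulVec_zero,
          zero_add] at h1
        exact h1
      rw [hUT'] at hn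
      refine ⟨R.1 *ᵥ u, ?_, (hVconj R v u).symm⟩
      simp [mulVec, dotProduct, Fin.sum_univ_two, hu1, normalizer_qdT e hn]
  · push Not at hall
    have hz01 := hall z₀ hz0U
    have hz00 : z₀ 0 ≠ 0 := fun h => hz0 (funext fun i => by fin_cases i <;> assumption)
    have huU : qdElt e 1 u ∈ U := by
      convert hscal z₀ hz0U (u 0 / z₀ 0) using 2
      funext i
      fin_cases i
      · simp [hz00]
      · simp [hz01, hu1]
    have hmem := (Subgroup.mem_normalizer_iff.1 hn _).1 huU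
    rw [hVconj] at hmem ⊢
    exact ⟨_, hall _ hmem, rfl⟩

include e in
/-- In `Qd(p)` no family of characteristic functors controls strong fusion. -/
theorem not_familyControls_qd {𝓦 : Set (∀ (Q : Type u) [Group Q], Subgroup Q)}
    (h𝓦 : ∀ W ∈ 𝓦, Cfsg.IsCharPFunctor.{u} p W) (T : Subgroup Y) (hT : ∃ P : Sylow p Y, ↑P = T)
    (h : ∀ (A : Set Y) (h : Y), (∀ P : Sylow p Y, A ⊆ P) →
      (∀ P : Sylow p Y, (fun a => h * a * h⁻¹) '' A ⊆ P) →
      ∃ (n : ℕ) (c : Fin (n + 1) → Y), c 0 = 1 ∧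
        (∀ i : Fin n, ∃ W ∈ 𝓦, c i.succ * (c i.castSucc)⁻¹ ∈
          Subgroup.normalizer ((Cfsg.inducedFunctor W T : Subgroup Y) : Set Y)) ∧
        ∀ a ∈ A, c (Fin.last n) * a * (c (Fin.last n))⁻¹ = h * a * h⁻¹) : False := by
  obtain ⟨P, rfl⟩ := hT
  let T₀ : Sylow p Y := ⟨qdT e, isPGroup_qdT e, fun {Q} hQ hle => qdT_maximal e hQ hle⟩
  obtain ⟨g, hg⟩ := MulAction.exists_smul_eq Y T₀ P
  have hPT : (P : Subgroup Y) = (qdT e).map (MulAut.conj g).toMonoidHom := by rw [← hg]; rfl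
  set rot : Matrix.SpecialLinearGroup (Fin 2) (ZMod p) :=
    ⟨!![0, -1; 1, 0], by simp [Matrix.det_fin_two]⟩ with hrot
  have hmem : ∀ (P' : Sylow p Y) v, g * qdElt e 1 v * g⁻¹ ∈ (P' : Subgroup Y) := fun P' v => by
    obtain ⟨g', rfl⟩ := MulAction.exists_smul_eq Y T₀ P'
    obtain ⟨R, w, hR⟩ := qdElt_surj e (g'⁻¹ * g)
    refine ⟨g'⁻¹ * g * qdElt e 1 v * (g'⁻¹ * g)⁻¹, ⟨0, R.1 *ᵥ v, ?_⟩, ?_⟩
    · rw [← hR, qdElt_conj, Dickson.upU_zero, mul_one, mul_inv_cancel]
      refine congrArg (qdElt e 1) ?_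
      rw [show (1 : Matrix.SpecialLinearGroup (Fin 2) (ZMod p)).1 = 1 from rfl, one_mulVec,
        add_sub_cancel_right]
    · show g' * (g'⁻¹ * g * qdElt e 1 v * (g'⁻¹ * g)⁻¹) * g'⁻¹ = g * qdElt e 1 v * g⁻¹
      group
  obtain ⟨n, c, hc0, hcs, hcl⟩ := h {g * qdElt e 1 ![1, 0] * g⁻¹} (g * qdElt e rot 0 * g⁻¹)
    (fun P' => Set.singleton_subset_iff.2 (hmem P' _)) (by
      rintro P' _ ⟨_, rfl, rfl⟩
      show g * qdElt e rot 0 * g⁻¹ * (g * qdElt e 1 ![1, 0] * g⁻¹) * (g * qdElt e rot 0 * g⁻¹)⁻¹ ∈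
        (P' : Subgroup Y)
      rw [show g * qdElt e rot 0 * g⁻¹ * (g * qdElt e 1 ![1, 0] * g⁻¹) * (g * qdElt e rot 0 * g⁻¹)⁻¹
          = g * (qdElt e rot 0 * qdElt e 1 ![1, 0] * (qdElt e rot 0)⁻¹) * g⁻¹ by group, qdElt_conj,
        mul_one, mul_inv_cancel]
      exact hmem P' _)
  have hind : ∀ i : Fin (n + 1), ∀ z ∈ qdZSet e, (g⁻¹ * c i * g) * z * (g⁻¹ * c i * g)⁻¹ ∈ qdZSet e := by
    intro i
    induction i using Fin.induction with
    | zero => intro z hz; simpa [hc0] using hz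
    | succ i ih =>
      intro z hz
      obtain ⟨W, hW, hi⟩ := hcs i
      have hUg : Cfsg.inducedFunctor W (P : Subgroup Y) =
          (Cfsg.inducedFunctor W (qdT e)).map (MulAut.conj g).toMonoidHom := by
        rw [hPT]
        exact inducedFunctor_map_of_injOn (h𝓦 W hW) _ (MulAut.conj g).injective.injOn (isPGroup_qdT e)
      rw [hUg, Subgroup.coe_map] at hi
      have hm : Subgroup.normalizer ((MulAut.conj g).toMonoidHom '' (Cfsg.inducedFunctor W (qdT e) : Set Y)) =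
          (Subgroup.normalizer ((Cfsg.inducedFunctor W (qdT e) : Subgroup Y) : Set Y)).map (MulAut.conj g).toMonoidHom := by
        rw [← Subgroup.coe_map]
        exact (Subgroup.map_equiv_normalizer_eq _ (MulAut.conj g)).symm
      rw [hm] at hi
      obtain ⟨m, hm', he⟩ := hi
      have e1 : g⁻¹ * c i.succ * g = m * (g⁻¹ * c i.castSucc * g) := by
        have e0 : g * m * g⁻¹ = c i.succ * (c i.castSucc)⁻¹ := he
        calc g⁻¹ * c i.succ * g = g⁻¹ * (c i.succ * (c i.castSucc)⁻¹) * c i.castSucc * g := by group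
          _ = m * (g⁻¹ * c i.castSucc * g) := by rw [← e0]; group
      have := qdZ_stable e (h𝓦 W hW) hm' (ih z hz)
      rw [e1]
      convert this using 1
      group
  obtain ⟨w, hw1, hw⟩ := hind (Fin.last n) (qdElt e 1 ![1, 0]) ⟨_, rfl, rfl⟩
  have h2 : qdElt e 1 w = qdElt e rot 0 * qdElt e 1 ![1, 0] * (qdElt e rot 0)⁻¹ := by
    rw [hw, show g⁻¹ * c (Fin.last n) * g * qdElt e 1 ![1, 0] * (g⁻¹ * c (Fin.last n) * g)⁻¹
      = g⁻¹ * (c (Fin.last n) * (g * qdElt e 1 ![1, 0] * g⁻¹) * (c (Fin.last n))⁻¹) * g by group,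
      hcl _ rfl]
    group
  rw [qdElt_conj] at h2
  have := congrFun (qdElt_inj e h2).2 1
  rw [hw1, mul_one, mul_inv_cancel] at this
  simp [hrot, mulVec, dotProduct, Fin.sum_univ_two,
    show (1 : Matrix.SpecialLinearGroup (Fin 2) (ZMod p)).1 = 1 from rfl] at this

end Transport

end Cfsg.Agent.Fusion
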