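import Cfsg.Agent.Lib.Fusion.QuadraticPair
import Cfsg.Agent.Lib.Fusion.Sections
import Cfsg.Prelude.Def_LocalEven

/-!
# A quadratic pair gives a section `Qd(p)`
-/

set_option autoImplicit false

open Matrix
open scoped commutatorElement

namespace Cfsg.Agent.Fusion

section Descent

variable {p : ℕ} [hp : Fact p.Prime]

local notation "k̄" => AlgebraicClosure (ZMod p)

omit hp in
theorem mulVec_eq_of_col {n : Type*} [Fintype n] {R : Type*} [CommRing R]
    (C : Matrix n (Fin 2) R) (v : Fin 2 → R) : C *ᵥ v = fun i => v 0 * C i 0 + v 1 * C i 1 := by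
  ext i
  simp [mulVec, dotProduct, Fin.sum_univ_two, mul_comm]

/-- A nonzero intertwiner from the natural module is injective. -/
theorem natural_intertwiner_injective {n : Type*} [Fintype n] {ι : Type*}
    (A : ι → Matrix n n (ZMod p)) (σ : ι → Matrix.SpecialLinearGroup (Fin 2) (ZMod p))
    (hσ : Function.Surjective σ) (C : Matrix n (Fin 2) (ZMod p)) (hC : C ≠ 0)
    (h : ∀ i, A i * C = C * (σ i).1) : Function.Injective (C *ᵥ ·) := by
  intro v w hvw
  by_contra hne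
  refine hC ?_
  set u := v - w
  have hu : C *ᵥ u = 0 := by rw [mulVec_sub, sub_eq_zero]; exact hvw
  have hu0 : u ≠ 0 := sub_ne_zero.2 hne
  have hall : ∀ g : Matrix.SpecialLinearGroup (Fin 2) (ZMod p), C *ᵥ (g.1 *ᵥ u) = 0 := by
    intro g
    obtain ⟨i, rfl⟩ := hσ g
    rw [mulVec_mulVec, ← h i, ← mulVec_mulVec, hu, mulVec_zero]
  have h1 := hall (Dickson.upU 1)
  have h2 := hall (Dickson.lowL 1)
  rw [mulVec_eq_of_col] at h1 h2
  rw [mulVec_eq_of_col] at hu
  ext i j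
  have e0 := congrFun hu i
  have e1 := congrFun h1 i
  have e2 := congrFun h2 i
  simp [mulVec, dotProduct, Fin.sum_univ_two] at e0 e1 e2
  have f0 : u 1 * C i 0 = 0 := by linear_combination e1 - e0
  have f1 : u 0 * C i 1 = 0 := by linear_combination e2 - e0
  show C i j = 0
  rcases eq_or_ne (u 0) 0 with h0 | h0
  · have h1' : u 1 ≠ 0 := fun h1' => hu0 (funext fun k => by fin_cases k <;> simpa)
    have c0 : C i 0 = 0 := (mul_eq_zero.1 f0).resolve_left h1'
    have c1 : C i 1 = 0 := by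
      rw [h0, zero_mul, zero_add] at e0
      exact (mul_eq_zero.1 e0).resolve_left h1'
    fin_cases j <;> assumption
  · have c1 : C i 1 = 0 := (mul_eq_zero.1 f1).resolve_left h0
    have c0 : C i 0 = 0 := by
      rw [c1, mul_zero, add_zero] at e0
      exact (mul_eq_zero.1 e0).resolve_left h0
    fin_cases j <;> assumption

/-- Intertwiners descend to the prime field. -/
theorem exists_descent {n : Type*} [Fintype n] {ι : Type*}
    (A : ι → Matrix n n (ZMod p)) (S : ι → Matrix (Fin 2) (Fin 2) (ZMod p))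
    (C : Matrix n (Fin 2) k̄) (hC : C ≠ 0)
    (h : ∀ i, (A i).map (algebraMap (ZMod p) k̄) * C = C * (S i).map (algebraMap (ZMod p) k̄)) :
    ∃ C' : Matrix n (Fin 2) (ZMod p), C' ≠ 0 ∧ ∀ i, A i * C' = C' * S i := by
  obtain ⟨a, b, hab⟩ : ∃ a b, C a b ≠ 0 := by
    by_contra hcon
    push Not at hcon
    exact hC (Matrix.ext hcon)
  obtain ⟨f, hf⟩ : ∃ f : k̄ →ₗ[ZMod p] ZMod p, f (C a b) ≠ 0 := by
    by_contra hcon
    push Not at hcon
    exact hab ((Module.forall_dual_apply_eq_zero_iff (ZMod p) (C a b)).1 hcon)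
  refine ⟨C.map f, fun h0 => hf (congrFun (congrFun h0 a) b), fun i => ?_⟩
  have := congrArg (fun M : Matrix n (Fin 2) k̄ => M.map f) (h i)
  ext r c
  have := congrFun (congrFun this r) c
  simp only [Matrix.map_apply, Matrix.mul_apply, map_sum] at this ⊢
  refine Eq.trans ?_ (this.trans ?_) <;> refine Finset.sum_congr rfl fun x _ => ?_
  · rw [← Algebra.smul_def, map_smul, smul_eq_mul]
  · rw [mul_comm (C r x), ← Algebra.smul_def, map_smul, smul_eq_mul, mul_comm]

end Descent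

section Qd

variable (p : ℕ)

/-- The affine matrix of a linear part and a translation. -/
def affMat (R : Matrix.SpecialLinearGroup (Fin 2) (ZMod p)) (v : Fin 2 → ZMod p) :
    Matrix.SpecialLinearGroup (Fin 3) (ZMod p) :=
  ⟨!![R.1 0 0, R.1 0 1, v 0; R.1 1 0, R.1 1 1, v 1; 0, 0, 1], by
    have := R.2; rw [Matrix.det_fin_two] at this; simp [Matrix.det_fin_three]; linear_combination this⟩

theorem affMat_mul (R S : Matrix.SpecialLinearGroup (Fin 2) (ZMod p)) (v w : Fin 2 → ZMod p) :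
    affMat p R v * affMat p S w = affMat p (R * S) (R.1 *ᵥ w + v) := by
  refine Subtype.ext ?_
  show (affMat p R v).1 * (affMat p S w).1 = _
  ext i j
  fin_cases i <;> fin_cases j <;>
    simp [affMat, Matrix.mul_apply, Fin.sum_univ_three, Fin.sum_univ_two, Dickson.mul_entry,
      mulVec, dotProduct]

theorem affMat_mem_qd (R : Matrix.SpecialLinearGroup (Fin 2) (ZMod p)) (v : Fin 2 → ZMod p) :
    affMat p R v ∈ Cfsg.qd p :=
  Subgroup.subset_closure ⟨rfl, rfl, rfl⟩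

theorem exists_affMat_of_mem {M : Matrix.SpecialLinearGroup (Fin 3) (ZMod p)}
    (h0 : M.1 2 0 = 0) (h1 : M.1 2 1 = 0) (h2 : M.1 2 2 = 1) :
    ∃ R v, affMat p R v = M := by
  have hd := M.2
  rw [Matrix.det_fin_three, h0, h1, h2] at hd
  refine ⟨⟨!![M.1 0 0, M.1 0 1; M.1 1 0, M.1 1 1], by
    simp [Matrix.det_fin_two]; linear_combination hd⟩, ![M.1 0 2, M.1 1 2], Subtype.ext ?_⟩
  ext i j
  fin_cases i <;> fin_cases j <;> simp [affMat, h0, h1, h2]

end Qd

universe u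

/-- A natural module with a group acting on it as `SL₂(p)` gives a section `Qd(p)`. -/
theorem involves_qd_of_natural {G : Type u} [Group G] [Finite G] {p : ℕ} [hp : Fact p.Prime]
    (hp2 : p ≠ 2) (W : (Fin 2 → ZMod p) → G) (hW : Function.Injective W)
    (hadd : ∀ a b, W (a + b) = W a * W b)
    (L : Subgroup G) (σ : L →* Matrix.SpecialLinearGroup (Fin 2) (ZMod p))
    (hσ : Function.Surjective σ) (hact : ∀ (l : L) c, (l : G) * W c * (l : G)⁻¹ = W ((σ l).1 *ᵥ c)) :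
    Cfsg.Involves ↥(Cfsg.qd p) G := by
  classical
  let Y : Subgroup G :=
    { carrier := {y | ∃ R : Matrix.SpecialLinearGroup (Fin 2) (ZMod p),
        ∀ c, y * W c * y⁻¹ = W (R.1 *ᵥ c)}
      one_mem' := ⟨1, fun c => by simp⟩
      mul_mem' := by
        rintro a b ⟨R, hR⟩ ⟨S, hS⟩
        refine ⟨R * S, fun c => ?_⟩
        show a * b * W c * (a * b)⁻¹ = W ((R.1 * S.1) *ᵥ c)
        rw [← mulVec_mulVec, ← hR, ← hS]; group
      inv_mem' := by
        rintro a ⟨R, hR⟩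
        refine ⟨R⁻¹, fun c => ?_⟩
        have h := hR ((R⁻¹).1 *ᵥ c)
        rw [mulVec_mulVec, show R.1 * (R⁻¹).1 = 1 from congrArg Subtype.val (mul_inv_cancel R),
          one_mulVec] at h
        rw [← h]; group }
  have hY : ∀ y : Y, ∃ R : Matrix.SpecialLinearGroup (Fin 2) (ZMod p),
      ∀ c, (y : G) * W c * (y : G)⁻¹ = W (R.1 *ᵥ c) := fun y => y.2
  choose τ₀ hτ₀ using hY
  have huniq : ∀ (y : Y) (R : Matrix.SpecialLinearGroup (Fin 2) (ZMod p)),
      (∀ c, (y : G) * W c * (y : G)⁻¹ = W (R.1 *ᵥ c)) → τ₀ y = R := fun y R h =>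
    Subtype.ext (Matrix.ext_iff_mulVec.2 fun c => hW ((hτ₀ y c).symm.trans (h c)))
  let τ : Y →* Matrix.SpecialLinearGroup (Fin 2) (ZMod p) :=
    { toFun := τ₀
      map_one' := huniq 1 1 fun c => by simp
      map_mul' := fun a b => huniq _ _ fun c => by
        show (a : G) * b * W c * ((a : G) * b)⁻¹ = W (((τ₀ a).1 * (τ₀ b).1) *ᵥ c)
        rw [← mulVec_mulVec, ← hτ₀, ← hτ₀]; group }
  have hτ : ∀ (y : Y) c, (y : G) * W c * (y : G)⁻¹ = W ((τ y).1 *ᵥ c) := hτ₀
  have hLY : ∀ l : L, (l : G) ∈ Y := fun l => ⟨σ l, hact l⟩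
  have hτs : ∀ R, ∃ y, τ y = R := fun R => by
    obtain ⟨l, rfl⟩ := hσ R
    exact ⟨⟨l, hLY l⟩, huniq _ _ (hact l)⟩
  have hW0 : W 0 = 1 := by simpa using hadd 0 0
  have hWc : ∀ a b, W a * W b = W b * W a := fun a b => by rw [← hadd, ← hadd, add_comm]
  have hWinv : ∀ a, (W a)⁻¹ = W (-a) := fun a =>
    inv_eq_of_mul_eq_one_right (by rw [← hadd, add_neg_cancel, hW0])
  have hWY : ∀ a, W a ∈ Y := fun a => ⟨1, fun c => by
    rw [hWc, mul_inv_cancel_right]; simp⟩
  set n1 : Matrix.SpecialLinearGroup (Fin 2) (ZMod p) := Dickson.negI with hn1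
  set Z₀ := (Subgroup.zpowers n1).comap τ with hZ₀
  haveI : (Subgroup.zpowers n1).Normal := ⟨fun z hz g => by
    obtain ⟨i, rfl⟩ := Subgroup.mem_zpowers_iff.1 hz
    have hc : Commute g n1 := (Dickson.negI_comm g).symm
    rw [(hc.zpow_right i).eq, mul_inv_cancel_right]
    exact hz⟩
  haveI : Z₀.Normal := Subgroup.normal_comap τ
  obtain ⟨z, hz⟩ := hτs n1
  obtain ⟨k, m, hm, hkm⟩ := Nat.exists_eq_pow_mul_and_not_dvd (orderOf_pos z).ne' 2 (by norm_num)
  have hmo : Odd m := Nat.odd_iff.2 (Nat.two_dvd_ne_zero.1 hm)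
  set t := z ^ m
  have ht : τ t = n1 := by rw [map_pow, hz]; exact Dickson.negI_pow_odd hmo
  have htp : t ^ 2 ^ k = 1 := by rw [← pow_mul, mul_comm, ← hkm, pow_orderOf_eq_one]
  have htZ : t ∈ Z₀ := by
    rw [hZ₀, Subgroup.mem_comap, ht]; exact Subgroup.mem_zpowers _
  have hTp : IsPGroup 2 (Subgroup.zpowers (⟨t, htZ⟩ : Z₀)) := by
    rintro ⟨_, i, rfl⟩
    refine ⟨k, Subtype.ext ?_⟩
    show ((⟨t, htZ⟩ : Z₀) ^ i) ^ 2 ^ k = 1
    rw [← zpow_natCast, zpow_comm, zpow_natCast,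
      show (⟨t, htZ⟩ : Z₀) ^ 2 ^ k = 1 from Subtype.ext htp, _root_.one_zpow]
  obtain ⟨T₀, hT₀⟩ := hTp.exists_le_sylow
  set T := (T₀ : Subgroup Z₀).map Z₀.subtype with hT
  set L₀ := Subgroup.normalizer (T : Set Y) with hL₀
  have htT : t ∈ T := ⟨⟨t, htZ⟩, hT₀ (Subgroup.mem_zpowers _), rfl⟩
  haveI : Fact (Nat.Prime 2) := ⟨Nat.prime_two⟩
  have hL₀s : ∀ R, ∃ y ∈ L₀, τ y = R := by
    intro R
    obtain ⟨y, rfl⟩ := hτs R
    have hy : y ∈ ((L₀ ⊔ Z₀ : Subgroup Y) : Set Y) := by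
      rw [Sylow.normalizer_sup_eq_top T₀]; trivial
    rw [Subgroup.mul_normal] at hy
    obtain ⟨a, ha, b, hb, rfl⟩ := hy
    obtain ⟨i, hi⟩ := Subgroup.mem_zpowers_iff.1 (show τ b ∈ Subgroup.zpowers n1 from hb)
    exact ⟨a * t ^ i, mul_mem ha (zpow_mem (Subgroup.le_normalizer htT) i), by
      rw [map_mul, map_mul, map_zpow, ht, hi]⟩
  have hfree : ∀ c, (⟨W c, hWY c⟩ : Y) ∈ L₀ → c = 0 := by
    intro c hc
    set w : Y := ⟨W c, hWY c⟩
    have hu : w * t * w⁻¹ * t⁻¹ ∈ T :=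
      mul_mem ((Subgroup.mem_normalizer_iff.1 hc t).1 htT) (inv_mem htT)
    have he : ((w * t * w⁻¹ * t⁻¹ : Y) : G) = W (c + c) := by
      show W c * (t : G) * (W c)⁻¹ * (t : G)⁻¹ = _
      rw [mul_assoc (W c), mul_assoc (W c), hWinv, hτ t, ht, hadd]
      congr 2
      ext i; fin_cases i <;> simp [hn1, mulVec, dotProduct, Fin.sum_univ_two]
    obtain ⟨⟨u, huZ⟩, huT, hue⟩ := hu
    obtain ⟨j, hj⟩ := T₀.2 ⟨⟨u, huZ⟩, huT⟩
    have hu2 : W (c + c) ^ 2 ^ j = 1 := by
      rw [← he, ← hue]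
      exact congrArg (fun x : (T₀ : Subgroup Z₀) => (((x : Z₀) : Y) : G)) hj
    have hpow : ∀ a (i : ℕ), W a ^ i = W (i • a) := fun a i => by
      induction i with
      | zero => simp [hW0]
      | succ i ih => rw [pow_succ, ih, succ_nsmul, hadd]
    rw [hpow, ← hW0] at hu2
    have h3 := hW hu2
    have h2 : (2 : ZMod p) ≠ 0 := Ring.two_ne_zero (by rw [ZMod.ringChar_zmod_n]; exact hp2)
    funext i
    have := congrFun h3 i
    simp only [Pi.smul_apply, Pi.add_apply, Pi.zero_apply, nsmul_eq_mul, Nat.cast_pow, Nat.cast_ofNat] at this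
    rw [← two_mul] at this
    simpa [h2] using this
  let Y₁ : Subgroup Y :=
    { carrier := {y | ∃ c, ∃ l ∈ L₀, (y : G) = W c * (l : G)}
      one_mem' := ⟨0, 1, one_mem _, by simp [hW0]⟩
      mul_mem' := by
        rintro a b ⟨c, l, hl, ha⟩ ⟨d, m, hm, hb⟩
        refine ⟨c + (τ l).1 *ᵥ d, l * m, mul_mem hl hm, ?_⟩
        show (a : G) * b = W (c + (τ l).1 *ᵥ d) * ((l : G) * m)
        rw [ha, hb, hadd, ← hτ l]; group
      inv_mem' := by
        rintro a ⟨c, l, hl, ha⟩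
        refine ⟨(τ l⁻¹).1 *ᵥ (-c), l⁻¹, inv_mem hl, ?_⟩
        show (a : G)⁻¹ = W ((τ l⁻¹).1 *ᵥ (-c)) * ((l⁻¹ : Y) : G)
        rw [ha, ← hτ l⁻¹, ← hWinv, Subgroup.coe_inv]; group }
  have hY₁ : ∀ y : Y₁, ∃ c, ∃ l ∈ L₀, ((y : Y) : G) = W c * (l : G) := fun y => y.2
  choose cc ll hll hcl using hY₁
  have huniq₁ : ∀ (y : Y₁) (c : Fin 2 → ZMod p) (l : Y), l ∈ L₀ →
      ((y : Y) : G) = W c * (l : G) → cc y = c ∧ ll y = l := by
    intro y c l hl he
    rw [hcl y] at he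
    have h1 : W (-c + cc y) = ((l * (ll y)⁻¹ : Y) : G) := by
      rw [hadd, ← hWinv, Subgroup.coe_mul, Subgroup.coe_inv, eq_mul_inv_iff_mul_eq, mul_assoc, he]
      group
    have h0 : -c + cc y = 0 := hfree _ (by
      have e : (⟨W (-c + cc y), hWY _⟩ : Y) = l * (ll y)⁻¹ := Subtype.ext h1
      rw [e]
      exact mul_mem hl (inv_mem (hll y)))
    have hc : cc y = c := (neg_add_eq_zero.1 h0).symm
    exact ⟨hc, Subtype.ext (mul_left_cancel (hc ▸ he))⟩
  let Φ : Y₁ →* ↥(Cfsg.qd p) :=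
    { toFun := fun y => ⟨affMat p (τ (ll y)) (cc y), affMat_mem_qd p _ _⟩
      map_one' := by
        obtain ⟨e1, e2⟩ := huniq₁ 1 0 1 (one_mem _) (by simp [hW0])
        refine Subtype.ext (Subtype.ext ?_)
        show (affMat p (τ (ll 1)) (cc 1)).1 = 1
        rw [e1, e2, map_one]
        ext i j; fin_cases i <;> fin_cases j <;> simp [affMat, Dickson.one_entries]
      map_mul' := fun a b => by
        obtain ⟨e1, e2⟩ := huniq₁ (a * b) (cc a + (τ (ll a)).1 *ᵥ cc b) (ll a * ll b)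
          (mul_mem (hll a) (hll b)) (by
            show ((a : Y) : G) * ((b : Y) : G) = W _ * ((ll a : G) * (ll b : G))
            rw [hcl a, hcl b, hadd, ← hτ (ll a)]; group)
        refine Subtype.ext ?_
        show affMat p (τ (ll (a * b))) (cc (a * b)) =
          affMat p (τ (ll a)) (cc a) * affMat p (τ (ll b)) (cc b)
        rw [affMat_mul, e1, e2, map_mul, add_comm] }
  have hΦ : Function.Surjective Φ := by
    have key : ∀ R v, ∃ y : Y₁, (Φ y).1 = affMat p R v := by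
      intro R v
      obtain ⟨l, hl, rfl⟩ := hL₀s R
      obtain ⟨e1, e2⟩ := huniq₁ ⟨⟨W v * l, mul_mem (hWY v) l.2⟩, v, l, hl, rfl⟩ v l hl rfl
      exact ⟨⟨⟨W v * l, mul_mem (hWY v) l.2⟩, v, l, hl, rfl⟩, by
        show affMat p (τ (ll _)) (cc _) = _
        rw [e1, e2]⟩
    have hle : Cfsg.qd p ≤ Φ.range.map (Cfsg.qd p).subtype := by
      refine (Subgroup.closure_le _).2 ?_
      rintro M ⟨h0, h1, h2⟩
      obtain ⟨R, v, rfl⟩ := exists_affMat_of_mem p h0 h1 h2
      obtain ⟨y, hy⟩ := key R v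
      exact ⟨Φ y, ⟨y, rfl⟩, hy⟩
    intro q
    obtain ⟨_, ⟨y, rfl⟩, he⟩ := hle q.2
    exact ⟨y, Subtype.ext he⟩
  exact involves_surjective (involves_subgroup (involves_subgroup involves_refl Y) Y₁) Φ hΦ

/-- A quadratic pair on an elementary abelian subgroup gives a section `Qd(p)`. -/
theorem involves_qd_of_quadratic_pair {G : Type u} [Group G] [Finite G] {p : ℕ} [Fact p.Prime]
    (hp2 : p ≠ 2) (V H : Subgroup G) (hV : Cfsg.IsElementaryAbelian p V)
    (hHV : H ≤ Subgroup.normalizer (V : Set G)) {x y : G} (hx : x ∈ H) (hy : y ∈ H)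
    (hqx : ∀ v ∈ V, ⁅⁅v, x⁆, x⁆ = 1) (hqy : ∀ v ∈ V, ⁅⁅v, y⁆, y⁆ = 1)
    (hpg : ∃ g ∈ Subgroup.closure ({x, y} : Set G),
      ∀ j : ℕ, g ^ p ^ j ∉ Subgroup.centralizer (V : Set G)) :
    Cfsg.Involves ↥(Cfsg.qd p) G := by
  classical
  obtain ⟨n, co, A, θ, hco, hcoadd, hcoA, ⟨a, b, hθx, hθy, hne⟩, C, hC0, hC⟩ :=
    exists_quadratic_data V H hV hHV hx hy hqx hqy hpg
  haveI : CharP (AlgebraicClosure (ZMod p)) p :=
    charP_of_injective_algebraMap (algebraMap (ZMod p) (AlgebraicClosure (ZMod p))).injective p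
  haveI : Finite θ.range := Finite.of_surjective θ.rangeRestrict θ.rangeRestrict_surjective
  obtain ⟨M, hM, hMg⟩ := Dickson.exists_containsStd p hp2 θ.range
    ⟨_, ⟨_, rfl⟩, _, ⟨_, rfl⟩, hθx, hθy, hne⟩
  have hstd : Function.Injective
      ((Dickson.conjEquiv M hM).toMonoidHom.comp (Dickson.stdMap (F := AlgebraicClosure (ZMod p)) p)) :=
    (Dickson.conjEquiv M hM).injective.comp fun u v huv => Subtype.ext (Matrix.ext fun i j =>
      (ZMod.castHom dvd_rfl (AlgebraicClosure (ZMod p))).injective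
        (congrFun (congrFun (congrArg Subtype.val huv) i) j))
  set emb := (Dickson.conjEquiv M hM).toMonoidHom.comp
    (Dickson.stdMap (F := AlgebraicClosure (ZMod p)) p)
  set eqv := MonoidHom.ofInjective hstd
  set L := emb.range.comap θ with hL
  set σ : L →* Matrix.SpecialLinearGroup (Fin 2) (ZMod p) :=
    eqv.symm.toMonoidHom.comp (θ.subgroupComap emb.range) with hσ
  have hσθ : ∀ l : L, emb (σ l) = θ l.1 := fun l =>
    congrArg Subtype.val (eqv.apply_symm_apply ((θ.subgroupComap emb.range) l))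
  have hσs : Function.Surjective σ := fun R => by
    obtain ⟨l, hl⟩ := hMg R
    have hlL : l ∈ L := ⟨R, hl.symm⟩
    refine ⟨⟨l, hlL⟩, hstd ?_⟩
    exact (hσθ ⟨l, hlL⟩).trans hl
  have hMu : IsUnit M.det := isUnit_iff_ne_zero.2 hM
  obtain ⟨C', hC'0, hC'⟩ := exists_descent (p := p) (fun l : L => A l.1) (fun l : L => (σ l).1)
    (C * M⁻¹) (fun h0 => hC0 (by
      have := congrArg (fun X => X * M) h0
      simpa [Matrix.mul_assoc, Matrix.nonsing_inv_mul _ hMu] using this))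
    (fun l => by
      have hcast : (Dickson.stdMap (F := AlgebraicClosure (ZMod p)) p (σ l)).1 =
          (σ l).1.map (algebraMap (ZMod p) (AlgebraicClosure (ZMod p))) := by
        show (σ l).1.map (ZMod.castHom dvd_rfl _) = _
        rw [Subsingleton.elim (algebraMap (ZMod p) (AlgebraicClosure (ZMod p)))
          (ZMod.castHom dvd_rfl _)]
      have h1 : (θ l.1).1 = M⁻¹ * (σ l).1.map (algebraMap (ZMod p) (AlgebraicClosure (ZMod p))) * M := by
        rw [← hcast, ← hσθ l]; rfl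
      rw [← Matrix.mul_assoc, hC l.1, h1, Matrix.mul_assoc, Matrix.mul_assoc, Matrix.mul_assoc,
        Matrix.mul_assoc, Matrix.mul_nonsing_inv _ hMu, Matrix.mul_one])
  have hinj := natural_intertwiner_injective (fun l : L => A l.1) σ hσs C' hC'0 hC'
  set e := Equiv.ofBijective co hco
  let W : (Fin 2 → ZMod p) → G := fun c => (e.symm (C' *ᵥ c) : G)
  refine involves_qd_of_natural hp2 W
    (fun c d h => hinj (e.symm.injective (Subtype.ext h)))
    (fun c d => ?_) (L.map (Subgroup.closure ({x, y} : Set G)).subtype)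
    (σ.comp (L.equivMapOfInjective _ (Subgroup.subtype_injective _)).symm.toMonoidHom)
    (hσs.comp (MulEquiv.surjective _)) (fun l c => ?_)
  · show (e.symm (C' *ᵥ (c + d)) : G) = (e.symm (C' *ᵥ c) : G) * (e.symm (C' *ᵥ d) : G)
    rw [← Subgroup.coe_mul]
    refine congrArg Subtype.val (e.injective ?_)
    rw [e.apply_symm_apply, mulVec_add]
    show _ = co _
    rw [hcoadd]
    exact (congrArg₂ (· + ·) (e.apply_symm_apply _) (e.apply_symm_apply _)).symm
  · set l' := (L.equivMapOfInjective (Subgroup.closure ({x, y} : Set G)).subtype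
      (Subgroup.subtype_injective _)).symm l with hl'
    have hl : ((l'.1 : Subgroup.closure ({x, y} : Set G)) : G) = (l : G) :=
      congrArg Subtype.val ((L.equivMapOfInjective (Subgroup.closure ({x, y} : Set G)).subtype
        (Subgroup.subtype_injective _)).apply_symm_apply l)
    show (l : G) * (e.symm (C' *ᵥ c) : G) * (l : G)⁻¹ = (e.symm (C' *ᵥ ((σ l').1 *ᵥ c)) : G)
    have hlH : (l'.1 : G) ∈ H :=
      ((Subgroup.closure_le _).2 (by rintro z (rfl | rfl) <;> assumption) :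
        Subgroup.closure ({x, y} : Set G) ≤ H) l'.1.2
    set v := e.symm (C' *ᵥ c)
    set w : V := ⟨(l'.1 : G) * v * (l'.1 : G)⁻¹,
      (Subgroup.mem_normalizer_iff.1 (hHV hlH) (v : G)).1 v.2⟩
    have h2 : e w = C' *ᵥ ((σ l').1 *ᵥ c) := by
      show co w = _
      rw [hcoA l'.1 v w rfl, show co v = C' *ᵥ c from e.apply_symm_apply _, mulVec_mulVec, hC' l',
        ← mulVec_mulVec]
    rw [← h2, e.symm_apply_apply]
    show _ = (l'.1 : G) * (v : G) * (l'.1 : G)⁻¹
    rw [hl]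

end Cfsg.Agent.Fusion
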