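import Cfsg.Agent.Lib.Fusion.DicksonTI

/-!
# The configuration of the binary icosahedral group
-/

set_option autoImplicit false

namespace Cfsg.Agent.Fusion.Dickson

variable {K : Type*} [Group K]

theorem centralizer_conj_eq (c a : K) :
    Subgroup.centralizer ({c * a * c⁻¹} : Set K) =
      (Subgroup.centralizer ({a} : Set K)).map (MulAut.conj c).toMonoidHom := by
  ext y
  simp only [Subgroup.mem_centralizer_singleton_iff, Subgroup.mem_map_equiv, MulAut.conj_symm_apply]
  constructor <;> intro h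
  · calc c⁻¹ * y * c * a = c⁻¹ * (y * (c * a * c⁻¹)) * c := by group
      _ = c⁻¹ * (c * a * c⁻¹ * y) * c := by rw [h]
      _ = a * (c⁻¹ * y * c) := by group
  · calc y * (c * a * c⁻¹) = c * (c⁻¹ * y * c * a) * c⁻¹ := by group
      _ = c * (a * (c⁻¹ * y * c)) * c⁻¹ := by rw [h]
      _ = c * a * c⁻¹ * y := by group

theorem exists_proper_of_exceptional [Finite K] (Z : Subgroup K) [Z.Normal] {h : K}
    (hhZ : h ∉ Z) (hsq : ∀ y : K, y * y = 1 → y ∈ Z) (hZc : ∀ z ∈ Z, ∀ y : K, z * y = y * z)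
    (hCT : ∀ a : K, a ∉ Z → ∀ b ∈ Subgroup.centralizer ({a} : Set K), b ∉ Z →
      Subgroup.centralizer ({b} : Set K) = Subgroup.centralizer {a})
    (hZ : Nat.card Z = 2) (hK : Nat.card K = 120)
    (hA : Nat.card (Subgroup.centralizer ({h} : Set K)) = 4)
    (hN : Nat.card (Subgroup.normalizer
      ((Subgroup.centralizer ({h} : Set K) : Subgroup K) : Set K)) = 8)
    (hinv : ∀ n ∈ Subgroup.normalizer ((Subgroup.centralizer ({h} : Set K) : Subgroup K) : Set K),
      n * h * n⁻¹ = h ∨ n * h * n⁻¹ = h⁻¹)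
    (hclass : ∀ y : K, y ∉ Z → Nat.card (Subgroup.centralizer ({y} : Set K)) = 6 ∨
      Nat.card (Subgroup.centralizer ({y} : Set K)) = 10 ∨
      y ∈ classSet Z (Subgroup.centralizer {h})) :
    ∃ L : Subgroup K, L ≠ ⊤ ∧
      ∃ x ∈ L, ∃ y ∈ L, x ^ 3 = 1 ∧ y ^ 3 = 1 ∧ x * y ≠ y * x := by
  set A := Subgroup.centralizer ({h} : Set K) with hAdef
  set N := Subgroup.normalizer (A : Set K) with hNdef
  have hhA : h ∈ A := Subgroup.mem_centralizer_singleton_iff.2 rfl
  have hZA : Z ≤ A := fun z hz => Subgroup.mem_centralizer_singleton_iff.2 (hZc z hz h)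
  have hAN : A ≤ N := Subgroup.le_normalizer
  have hZ1 : ∀ z ∈ Z, z * z = 1 := fun z hz => by
    have := congrArg Subtype.val (pow_card_eq_one' (x := (⟨z, hz⟩ : Z)))
    rw [hZ] at this
    simpa [sq] using this
  have hord : ∀ y : K, y ∉ Z → ∀ m, orderOf y ∣ m → orderOf y ∣ 8 → 4 ∣ m := by
    intro y hy m hm h8
    obtain ⟨i, hi, he⟩ := (Nat.dvd_prime_pow Nat.prime_two).1 (show orderOf y ∣ 2 ^ 3 from h8)
    have : ¬ orderOf y ∣ 2 := fun h2 => hy (hsq y (by
      rw [← sq]; exact orderOf_dvd_iff_pow_eq_one.1 h2))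
    rw [he] at this hm
    interval_cases i <;> revert this hm <;> norm_num
    exact fun h => dvd_trans (by norm_num) h
  have hh4 : h ^ 4 = 1 := by
    have := congrArg Subtype.val (pow_card_eq_one' (x := (⟨h, hhA⟩ : A)))
    rw [hA] at this
    simpa using this
  have hhh1 : h * h ≠ 1 := fun e => hhZ (hsq h e)
  have hhhZ : h * h ∈ Z := hsq _ (by
    rw [← hh4]; simp only [pow_succ, pow_zero, one_mul, mul_assoc])
  have hZel : ∀ z ∈ Z, z ≠ 1 → z = h * h := by
    intro z hz hz1
    by_contra hne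
    have : ({1, z, h * h} : Set K) ⊆ (Z : Set K) := by
      rintro x (rfl | rfl | rfl)
      exacts [one_mem _, hz, hhhZ]
    have hle := Set.ncard_le_ncard this (Set.toFinite _)
    rw [← Nat.card_coe_set_eq (Z : Set K)] at hle
    rw [Set.ncard_eq_three.2 ⟨1, z, h * h, Ne.symm hz1, Ne.symm hhh1, hne, rfl⟩] at hle
    have : Nat.card (Z : Set K) = 2 := hZ
    omega
  obtain ⟨w, hwN, hwA⟩ : ∃ w ∈ N, w ∉ A := by
    by_contra hc
    push Not at hc
    have := Subgroup.card_le_of_le (show N ≤ A from hc)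
    omega
  have hwh : w * h * w⁻¹ = h⁻¹ := (hinv w hwN).resolve_left fun e => hwA (by
    rw [hAdef, Subgroup.mem_centralizer_singleton_iff]
    exact mul_inv_eq_iff_eq_mul.1 e)
  have hwwA : w * w ∈ A := by
    rw [hAdef, Subgroup.mem_centralizer_singleton_iff]
    refine mul_inv_eq_iff_eq_mul.1 ?_
    calc w * w * h * (w * w)⁻¹ = w * (w * h * w⁻¹) * w⁻¹ := by group
      _ = w * h⁻¹ * w⁻¹ := by rw [hwh]
      _ = (w * h * w⁻¹)⁻¹ := by group
      _ = h := by rw [hwh, inv_inv]
  have hwwZ : w * w ∈ Z := by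
    by_contra hc
    refine hwA ?_
    rw [hAdef, ← hCT h hhZ _ hwwA hc, Subgroup.mem_centralizer_singleton_iff]
    exact (mul_assoc _ _ _).symm
  have hwZ : w ∉ Z := fun hc => hwA (hZA hc)
  have hww : w * w = h * h := hZel _ hwwZ fun e => hwZ (hsq w e)
  have hhw : h * w * h⁻¹ = w⁻¹ := by
    have e1 : w⁻¹ * h * w = h⁻¹ := by
      calc w⁻¹ * h * w = (w⁻¹ * (w * h * w⁻¹) * w)⁻¹ := by rw [hwh]; group
        _ = h⁻¹ := by group
    calc h * w * h⁻¹ = w * (w⁻¹ * h * w) * h⁻¹ := by group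
      _ = w * (h * h)⁻¹ := by rw [e1]; group
      _ = w⁻¹ := by rw [← hww]; group
  have hwB : orderOf w ∣ Nat.card (Subgroup.centralizer ({w} : Set K)) :=
    Subgroup.orderOf_dvd_natCard _ (Subgroup.mem_centralizer_singleton_iff.2 rfl)
  have hN8 : ∀ y ∈ N, orderOf y ∣ 8 := fun y hy => hN ▸ Subgroup.orderOf_dvd_natCard _ hy
  obtain ⟨c, a, ha, haZ, hca⟩ : w ∈ classSet Z A := by
    rcases hclass w hwZ with h6 | h10 | hc
    · have := hord w hwZ 6 (h6 ▸ hwB) (hN8 w hwN); omega
    · have := hord w hwZ 10 (h10 ▸ hwB) (hN8 w hwN); omega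
    · exact hc
  have hB : Subgroup.centralizer ({w} : Set K) = A.map (MulAut.conj c).toMonoidHom := by
    rw [← hca, centralizer_conj_eq, hAdef, hCT h hhZ a ha haZ]
  set B := Subgroup.centralizer ({w} : Set K) with hBdef
  have hNM : N ≤ Subgroup.normalizer (B : Set K) := by
    set M := Subgroup.normalizer (B : Set K)
    have hmap : B.map (MulAut.conj h).toMonoidHom = B := by
      rw [hBdef, ← centralizer_conj_eq, hhw]
      ext y
      simp only [Subgroup.mem_centralizer_singleton_iff]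
      constructor <;> intro hy
      · exact (Commute.inv_right_iff.1 (show Commute y w⁻¹ from hy)).eq
      · exact (Commute.inv_right (show Commute y w from hy)).eq
    have hhM : h ∈ M := by
      rw [Subgroup.mem_normalizer_iff]
      intro y
      rw [show (h * y * h⁻¹ ∈ B) = (h * y * h⁻¹ ∈ B.map (MulAut.conj h).toMonoidHom) by rw [hmap],
        Subgroup.mem_map_equiv, MulAut.conj_symm_apply,
        show h⁻¹ * (h * y * h⁻¹) * h = y by group]
    have hAM : A ≤ M := by
      have : Subgroup.zpowers h = A := Subgroup.eq_of_le_of_card_ge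
        (Subgroup.zpowers_le.2 hhA) (by
          rw [hA, Nat.card_zpowers]
          exact Nat.le_of_dvd (orderOf_pos h) (hord h hhZ _ dvd_rfl (hN8 h (hAN hhA))))
      rw [← this, Subgroup.zpowers_le]
      exact hhM
    have hwM : w ∈ M := Subgroup.le_normalizer (Subgroup.mem_centralizer_singleton_iff.2 rfl)
    have h1 : Nat.card (N ⊓ M : Subgroup K) ∣ 8 := hN ▸ Subgroup.card_dvd_of_le inf_le_left
    have h2 : Nat.card A ∣ Nat.card (N ⊓ M : Subgroup K) :=
      Subgroup.card_dvd_of_le (le_inf hAN hAM)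
    have h3 : Nat.card A < Nat.card (N ⊓ M : Subgroup K) := by
      refine lt_of_le_of_ne (Nat.le_of_dvd Nat.card_pos h2) fun he => hwA ?_
      rw [Subgroup.eq_of_le_of_card_ge (le_inf hAN hAM) he.ge]
      exact ⟨hwN, hwM⟩
    have h4 : Nat.card (N ⊓ M : Subgroup K) = 8 := by
      rw [hA] at h2 h3
      obtain ⟨i, hi⟩ := h2
      have := Nat.le_of_dvd (by norm_num) h1
      omega
    exact inf_eq_left.1 (Subgroup.eq_of_le_of_card_ge inf_le_left (by rw [hN, h4]))
  set L := Subgroup.normalizer (N : Set K) with hLdef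
  have hnB : Subgroup.normalizer (B : Set K) = N.map (MulAut.conj c).toMonoidHom := by
    rw [hB, hNdef, Subgroup.coe_map]
    exact (Subgroup.map_equiv_normalizer_eq A (MulAut.conj c)).symm
  have hcN : N.map (MulAut.conj c).toMonoidHom = N := by
    rw [← hnB]
    refine (Subgroup.eq_of_le_of_card_ge hNM ?_).symm
    rw [hnB, Nat.card_congr (N.equivMapOfInjective _ (MulAut.conj c).injective).toEquiv.symm]
  have hcL : c ∈ L := by
    rw [hLdef, Subgroup.mem_normalizer_iff]
    intro y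
    rw [show (c * y * c⁻¹ ∈ N) = (c * y * c⁻¹ ∈ N.map (MulAut.conj c).toMonoidHom) by rw [hcN],
      Subgroup.mem_map_equiv, MulAut.conj_symm_apply,
      show c⁻¹ * (c * y * c⁻¹) * c = y by group]
  have hcN' : c ∉ N := by
    intro hc
    refine hwA ?_
    rw [← hca]
    exact (Subgroup.mem_normalizer_iff.1 hc a).1 ha
  have hNL : N ≤ L := Subgroup.le_normalizer
  have hL8 : 8 ∣ Nat.card L := hN ▸ Subgroup.card_dvd_of_le hNL
  have hL120 : Nat.card L ∣ 120 := hK ▸ Subgroup.card_subgroup_dvd_card L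
  have hLlt : 8 < Nat.card L := by
    rw [← hN]
    refine lt_of_le_of_ne (Subgroup.card_le_of_le hNL) fun he => hcN' ?_
    rw [Subgroup.eq_of_le_of_card_ge hNL he.ge]
    exact hcL
  have hcls : Nat.card (classSet Z A) = 30 := by
    have := card_classSet_mul hZA (fun a ha haZ => hCT h hhZ a ha haZ)
    rw [hA, hZ, hK, hN] at this
    omega
  have hLtop : L ≠ ⊤ := by
    intro htop
    have hsub : classSet Z A ⊆ (N : Set K) := by
      rintro _ ⟨x, a, ha, -, rfl⟩
      exact (Subgroup.mem_normalizer_iff.1 (show x ∈ L from htop ▸ Subgroup.mem_top x) a).1 (hAN ha)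
    have := Nat.card_mono (Set.toFinite _) hsub
    rw [hcls] at this
    have h8 : Nat.card (N : Set K) = 8 := hN
    omega
  have hfix : ∀ y : K, ∀ x ∈ N, y ∉ Z → (3 ∣ orderOf y ∨ 5 ∣ orderOf y) →
      x * y = y * x → x ∈ Z := by
    intro y x hx hy hor hxy
    by_contra hxZ
    have hmem : x ∈ Subgroup.centralizer ({y} : Set K) :=
      Subgroup.mem_centralizer_singleton_iff.2 hxy
    have hd := Subgroup.orderOf_dvd_natCard _ hmem
    have hy' : orderOf y ∣ Nat.card (Subgroup.centralizer ({y} : Set K)) :=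
      Subgroup.orderOf_dvd_natCard _ (Subgroup.mem_centralizer_singleton_iff.2 rfl)
    rcases hclass y hy with h6 | h10 | ⟨c', a', ha', haZ', rfl⟩
    · have := hord x hxZ 6 (h6 ▸ hd) (hN8 x hx); omega
    · have := hord x hxZ 10 (h10 ▸ hd) (hN8 x hx); omega
    · rw [centralizer_conj_eq, hCT h hhZ a' ha' haZ',
        Nat.card_congr (A.equivMapOfInjective _ (MulAut.conj c').injective).toEquiv.symm, hA] at hy'
      rcases hor with h3 | h5
      · have := h3.trans hy'; omega
      · have := h5.trans hy'; omega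
  have hL24 : Nat.card L = 24 := by
    by_contra hne
    have h5 : 5 ∣ Nat.card L := by
      have hle := Nat.le_of_dvd (by norm_num) hL120
      obtain ⟨i, hi⟩ := hL8
      rw [hi] at hne hle hLlt hL120 ⊢
      have hi' : i ≤ 15 := by omega
      interval_cases i <;> omega
    haveI : Fact (Nat.Prime 5) := ⟨by norm_num⟩
    obtain ⟨y, hy⟩ := exists_prime_orderOf_dvd_card' 5 h5
    have hy' : orderOf (y : K) = 5 := by rw [← hy, Subgroup.orderOf_coe]
    have hyZ : (y : K) ∉ Z := fun hz => by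
      have := orderOf_dvd_of_pow_eq_one (show (y : K) ^ 2 = 1 by rw [sq]; exact hZ1 _ hz)
      rw [hy'] at this; norm_num at this
    classical
    haveI := Fintype.ofFinite N
    let σ : Equiv.Perm N := (N.normalizerMonoidHom y).toEquiv
    have hσ5 : σ ^ 5 ^ 1 = 1 := by
      have e : N.normalizerMonoidHom y ^ 5 = 1 := by rw [← map_pow, ← hy, pow_orderOf_eq_one, map_one]
      rw [pow_one]
      show (MulAut.toPerm N (N.normalizerMonoidHom y)) ^ 5 = 1
      rw [← map_pow, e, map_one]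
    have hf : (MulAction.toEndHom (M := Equiv.Perm N) (α := N) σ) ^ 5 ^ 1 = 1 := by
      rw [← map_pow, hσ5, map_one]
    have hmod : Fintype.card N ≡ Fintype.card (Function.fixedPoints σ) [MOD 5] :=
      Equiv.Perm.card_fixedPoints_modEq hf
    have hfp : Fintype.card (Function.fixedPoints σ) = 2 := by
      rw [← Nat.card_eq_fintype_card, ← hZ]
      refine Nat.card_congr
        { toFun := fun x => ⟨x.1.1, ?_⟩
          invFun := fun z => ⟨⟨z.1, hAN (hZA z.2)⟩, ?_⟩
          left_inv := fun x => Subtype.ext (Subtype.ext rfl)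
          right_inv := fun z => Subtype.ext rfl }
      · refine hfix y x.1.1 x.1.2 hyZ (Or.inr (by rw [hy'])) ?_
        have e : (y : K) * x.1.1 * (y : K)⁻¹ = x.1.1 := congrArg Subtype.val x.2
        exact (mul_inv_eq_iff_eq_mul.1 e).symm
      · refine Subtype.ext ?_
        show (y : K) * z.1 * (y : K)⁻¹ = z.1
        rw [← hZc z.1 z.2, mul_inv_cancel_right]
    rw [hfp, ← Nat.card_eq_fintype_card, hN] at hmod
    exact absurd hmod (by decide)
  haveI : Fact (Nat.Prime 3) := ⟨by norm_num⟩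
  obtain ⟨⟨t, htL⟩, ht'⟩ := exists_prime_orderOf_dvd_card' (G := L) 3 (by rw [hL24]; norm_num)
  have ht : orderOf t = 3 := by rw [← ht', Subgroup.orderOf_mk]
  have ht3 : t ^ 3 = 1 := by rw [← ht]; exact pow_orderOf_eq_one t
  have htZ : t ∉ Z := fun hz => by
    have := orderOf_dvd_of_pow_eq_one (show t ^ 2 = 1 by rw [sq]; exact hZ1 _ hz)
    rw [ht] at this; norm_num at this
  by_contra hcon
  push Not at hcon
  have key : ∀ x ∈ N, x ∉ Z → x * t * x⁻¹ = t⁻¹ := by
    intro x hx hxZ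
    have hconjmem : x * t * x⁻¹ ∈ L :=
      mul_mem (mul_mem (hNL hx) htL) (inv_mem (hNL hx))
    have hc3 : (x * t * x⁻¹) ^ 3 = 1 := by rw [conj_pow, ht3]; group
    have hcomm := hcon L hLtop t htL _ hconjmem ht3 hc3
    set C := Subgroup.centralizer ({t} : Set K) with hC
    have htC : t ∈ C := Subgroup.mem_centralizer_singleton_iff.2 rfl
    have huC : x * t * x⁻¹ ∈ C := Subgroup.mem_centralizer_singleton_iff.2 hcomm.symm
    have hC6 : Nat.card C = 6 := by
      have hd : orderOf t ∣ Nat.card C := Subgroup.orderOf_dvd_natCard _ htC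
      rw [ht] at hd
      rcases hclass t htZ with h6 | h10 | ⟨c', a', ha', haZ', rfl⟩
      · exact h6
      · rw [hC, h10] at hd; norm_num at hd
      · rw [hC, centralizer_conj_eq, hCT h hhZ a' ha' haZ',
          Nat.card_congr (A.equivMapOfInjective _ (MulAut.conj c').injective).toEquiv.symm, hA] at hd
        norm_num at hd
    have hT : Nat.card (Subgroup.zpowers (⟨t, htC⟩ : C)) = 3 := by
      rw [Nat.card_zpowers, Subgroup.orderOf_mk, ht]
    have hidx : (Subgroup.zpowers (⟨t, htC⟩ : C)).index = 2 := by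
      have := (Subgroup.zpowers (⟨t, htC⟩ : C)).index_mul_card
      rw [hT, hC6] at this; omega
    obtain ⟨k, hk⟩ := Subgroup.mem_zpowers_iff.1
      (Subgroup.sq_mem_of_index_two hidx (⟨_, huC⟩ : C))
    have hk' : t ^ k = (x * t * x⁻¹) ^ 2 := congrArg Subtype.val hk
    have e1 : x * t * x⁻¹ = t ^ (2 * k) := by
      rw [mul_comm, zpow_mul, hk', zpow_two, ← sq, ← pow_mul]
      rw [show 2 * 2 = 3 + 1 by norm_num, pow_succ, hc3, one_mul]
    have e2 : x * t * x⁻¹ = t ^ ((2 * k) % 3) := by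
      rw [e1, ← zpow_mod_orderOf t (2 * k), ht]; rfl
    have hlt := Int.emod_lt_of_pos (2 * k) (by norm_num : (0 : ℤ) < 3)
    have hge := Int.emod_nonneg (2 * k) (by norm_num : (3 : ℤ) ≠ 0)
    interval_cases hr : (2 * k) % 3
    · rw [_root_.zpow_zero, conj_eq_one_iff] at e2
      exact absurd (e2 ▸ one_mem _) htZ
    · rw [_root_.zpow_one] at e2
      exact absurd (hfix t x hx htZ (Or.inl (by rw [ht])) (mul_inv_eq_iff_eq_mul.1 e2)) hxZ
    · rw [e2, show t ^ (2 : ℤ) = t ^ (3 : ℕ) * t⁻¹ by group, ht3, one_mul]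
  have hhwZ : h * w ∉ Z := fun hz =>
    hwA (by simpa [Subgroup.mul_mem_cancel_left _ hhA] using hZA hz)
  refine hhwZ (hfix t (h * w) (mul_mem (hAN hhA) hwN) htZ (Or.inl (by rw [ht])) ?_)
  have e := key (h * w) (mul_mem (hAN hhA) hwN) hhwZ
  have e' : h * w * t * (h * w)⁻¹ = t := by
    calc h * w * t * (h * w)⁻¹ = h * (w * t * w⁻¹) * h⁻¹ := by group
      _ = (h * t * h⁻¹)⁻¹ := by rw [key w hwN hwZ]; group
      _ = t := by rw [key h (hAN hhA) hhZ, inv_inv]
  exact mul_inv_eq_iff_eq_mul.1 e'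

end Cfsg.Agent.Fusion.Dickson
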