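import Cfsg.Agent.Lib.Fusion.DicksonSetup
import Cfsg.Agent.Lib.Fusion.DicksonExceptional

/-!
# Dickson's theorem: two noncommuting p-elements give a copy of the prime field group
-/

set_option autoImplicit false

open Matrix

namespace Cfsg.Agent.Fusion.Dickson

variable {F : Type*} [Field F]

local notation "SL2" => Matrix.SpecialLinearGroup (Fin 2) F

theorem class_size {K : Type*} [Group K] [Finite K] {Z A : Subgroup K} [Z.Normal] (hZA : Z ≤ A)
    (hA : ∀ a ∈ A, a ∉ Z → Subgroup.centralizer {a} = A) {a ε : ℕ}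
    (ha : Nat.card A = a * Nat.card Z)
    (hN : Nat.card (Subgroup.normalizer (A : Set K)) = ε * Nat.card A) :
    (Nat.card (classSet Z A) : ℤ) * (ε * a) = Nat.card K * (a - 1) := by
  have h := card_classSet_mul hZA hA
  rw [hN, ha] at h
  have hz : (Nat.card Z : ℤ) ≠ 0 := by exact_mod_cast Nat.card_pos.ne'
  have h1 : 1 ≤ a := by
    by_contra hc
    interval_cases a
    have := Nat.card_pos (α := A)
    omega
  have h' : (Nat.card (classSet Z A) : ℤ) * (ε * (a * Nat.card Z)) =
      Nat.card K * (a * Nat.card Z - Nat.card Z) := by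
    have := congrArg (Nat.cast : ℕ → ℤ) h
    push_cast [Nat.cast_sub (Nat.le_mul_of_pos_left (Nat.card Z) h1)] at this
    linarith
  exact mul_left_cancel₀ hz (by linear_combination h')

/-! ### Arithmetic of the class equation -/

theorem arith_cyclic {g z Q k : ℤ} {a ε U X : ℤ} (hz : 0 < z) (hQ : 3 ≤ Q) (hk : 1 ≤ k)
    (hε : ε = 1 ∨ ε = 2) (ha : 2 ≤ a) (hg : g = z * Q * (1 + k * Q))
    (hU : U * Q = g * (Q - 1)) (hX : X * (ε * a) = g * (a - 1)) (hsum : U + X = g - z) :
    k = 1 := by
  have hzQ : z * Q ≠ 0 := mul_ne_zero hz.ne' (by omega)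
  have hkQ : 4 ≤ 1 + k * Q := by nlinarith
  have key : (1 + k * Q) * (ε * a - a * Q + Q) = ε * a := by
    refine mul_left_cancel₀ hzQ ?_
    linear_combination (-(ε * a - a * Q + Q)) * hg + (ε * a) * hU + Q * hX - Q * ε * a * hsum
  rcases hε with rfl | rfl
  · have : 1 * a - a * Q + Q ≤ 0 := by nlinarith
    have := mul_nonpos_of_nonneg_of_nonpos (show 0 ≤ 1 + k * Q by omega) this
    omega
  · have hb : 0 < 2 * a - a * Q + Q := by
      by_contra hc
      push Not at hc
      have := mul_nonpos_of_nonneg_of_nonpos (show 0 ≤ 1 + k * Q by omega) hc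
      omega
    have hQ3 : Q = 3 := by nlinarith
    subst hQ3
    have ha2 : a = 2 := by omega
    subst ha2
    omega

theorem arith_torus_none {g z Q k d ε U D : ℤ} (hz : 0 < z) (hQ : 3 ≤ Q) (hk : 1 ≤ k)
    (hd : 2 ≤ d) (hε : ε = 1 ∨ ε = 2) (hg : g = z * d * Q * (1 + k * Q))
    (hU : U * (d * Q) = g * (Q - 1)) (hD : D * (ε * d) = g * (d - 1))
    (hsum : U + D = g - z) : False := by
  have hzQ : z * d * Q ≠ 0 := mul_ne_zero (mul_ne_zero hz.ne' (by omega)) (by omega)
  have key : (1 + k * Q) * (ε * d * Q - ε * (Q - 1) - (d - 1) * Q) = ε := by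
    refine mul_left_cancel₀ hzQ ?_
    linear_combination (-(ε * d * Q - ε * (Q - 1) - (d - 1) * Q)) * hg + ε * hU + Q * hD -
      ε * d * Q * hsum
  rcases hε with rfl | rfl
  · have e : 1 * d * Q - 1 * (Q - 1) - (d - 1) * Q = 1 := by ring
    rw [e] at key
    nlinarith
  · have h3 : 3 ≤ 2 * d * Q - 2 * (Q - 1) - (d - 1) * Q := by nlinarith
    have := mul_le_mul (show 4 ≤ 1 + k * Q by nlinarith) h3 (by norm_num) (by nlinarith)
    omega

theorem arith_torus {g z Q k d a U D X : ℤ} (hz : 0 < z) (hQ : Q = 3 ∨ 5 ≤ Q) (hk : 1 ≤ k)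
    (hd : 2 ≤ d) (hdQ : d + 1 ≤ Q) (ha : 2 ≤ a) (hg : g = z * d * Q * (1 + k * Q))
    (hU : U * (d * Q) = g * (Q - 1)) (hD : D * (2 * d) = g * (d - 1))
    (hX : X * (2 * a) = g * (a - 1)) (hsum : U + D + X = g - z) :
    k = 1 ∨ (Q = 3 ∧ d = 2 ∧ a = 5 ∧ k = 3) := by
  have hzQ : z * d * Q ≠ 0 := mul_ne_zero (mul_ne_zero hz.ne' (by omega)) (by omega)
  have key : (1 + k * Q) * (d * Q - a * (Q - 2)) = 2 * a := by
    refine mul_left_cancel₀ hzQ ?_
    linear_combination (-(d * Q - a * (Q - 2))) * hg + (2 * a) * hU + (Q * a) * hD +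
      (d * Q) * hX - 2 * d * Q * a * hsum
  have hm : 1 ≤ d * Q - a * (Q - 2) := by
    by_contra hc
    push Not at hc
    have hQ0 : 0 ≤ 1 + k * Q := by nlinarith
    have := mul_nonpos_of_nonneg_of_nonpos hQ0 (show d * Q - a * (Q - 2) ≤ 0 by omega)
    omega
  by_contra hcon
  push Not at hcon
  have hk2 : 2 ≤ k := by omega
  rcases hQ with rfl | hQ5
  · obtain rfl : d = 2 := by omega
    have ha5 : a ≤ 5 := by omega
    interval_cases a <;> omega
  · have h1 : d * Q ≤ (Q - 1) * Q := by nlinarith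
    have ha' : a ≤ Q + 1 := by
      by_contra hc
      push Not at hc
      nlinarith
    have hm1 : d * Q - a * (Q - 2) = 1 := by
      by_contra hc
      have h2m : 2 ≤ d * Q - a * (Q - 2) := by omega
      have hkQ : 1 + 2 * Q ≤ 1 + k * Q := by nlinarith
      have := mul_le_mul hkQ h2m (by norm_num) (by omega)
      omega
    rw [hm1, mul_one] at key
    have : k * Q ≤ 2 * Q + 1 := by omega
    have hk3 : k ≤ 2 := by nlinarith
    obtain rfl : k = 2 := by omega
    omega

theorem quarter_le {g a ε X : ℤ} (hg : 0 ≤ g) (ha : 2 ≤ a) (hε : ε = 1 ∨ ε = 2)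
    (hX : X * (ε * a) = g * (a - 1)) : g ≤ 4 * X ∧ (ε = 1 → g ≤ 2 * X) := by
  rcases hε with rfl | rfl <;> refine ⟨?_, ?_⟩
  · by_contra hc; push Not at hc; nlinarith
  · intro _; by_contra hc; push Not at hc; nlinarith
  · by_contra hc; push Not at hc; nlinarith
  · intro h; omega

set_option maxHeartbeats 2000000 in
/-- The induction step. -/
theorem step (p : ℕ) [Fact p.Prime] [CharP F p] (hp : p ≠ 2)
    (H : Subgroup (Matrix.SpecialLinearGroup (Fin 2) F)) [Finite H] (hu : upU (1 : F) ∈ H)
    (hne : ∃ x ∈ H, ∃ y ∈ H, x ^ p = 1 ∧ y ^ p = 1 ∧ x * y ≠ y * x) :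
    ContainsStd p H ∨
    ∃ H' : Subgroup (Matrix.SpecialLinearGroup (Fin 2) F), H' ≤ H ∧ H' ≠ H ∧
      ∃ x ∈ H', ∃ y ∈ H', x ^ p = 1 ∧ y ^ p = 1 ∧ x * y ≠ y * x := by
  classical
  have h2 : (2 : F) ≠ 0 := Ring.two_ne_zero (by rw [ringChar.eq F p]; exact hp)
  obtain ⟨x₀, hx₀, y₀, hy₀, hxp, hyp, hxy⟩ := hne
  have hpts := exists_pts_of_not_commute p h2 hx₀ hy₀ hxp hyp hxy
  obtain ⟨k, hk⟩ := card_pts_dvd (H := H)
  suffices hcases : k = 1 ∨ ∃ H' : Subgroup (Matrix.SpecialLinearGroup (Fin 2) F),
      H' ≤ H ∧ H' ≠ H ∧ ∃ x ∈ H', ∃ y ∈ H', x ^ p = 1 ∧ y ^ p = 1 ∧ x * y ≠ y * x by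
    rcases hcases with rfl | h
    · exact Or.inl (sl2_of_regular p hu hpts (by rw [hk, one_mul]))
    · exact Or.inr h
  set Z := scalarsIn H with hZdef
  set Au := Subgroup.centralizer ({transIn hu} : Set H) with hAudef
  set Q := Nat.card (unipIn H) with hQdef
  set z := Nat.card Z with hzdef
  set g := Nat.card H with hgdef
  have hz0 : 0 < z := Nat.card_pos
  have hAu : Nat.card Au = Q * z := card_centralizer_transIn hu p hp
  obtain ⟨d, hd0, hdQ, hNu⟩ := card_upperIn hu
  have hQp : ∃ e, 1 ≤ e ∧ Q = p ^ e := by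
    have hS : IsPGroup p (unipIn H) := fun y => ⟨1, Subtype.ext (Subtype.ext (by
      show (y.1 : SL2) ^ p ^ 1 = 1
      rw [eq_upU y.2.1 y.2.2, pow_one, upU_pow, CharP.cast_eq_zero, zero_mul, upU_zero]))⟩
    obtain ⟨e, he⟩ := IsPGroup.iff_card.1 hS
    refine ⟨e, Nat.one_le_iff_ne_zero.2 fun h0 => ?_, he⟩
    rw [h0, pow_zero] at he
    omega
  obtain ⟨e, he1, hQe⟩ := hQp
  have hQ3 : 3 ≤ Q := by
    have := (Fact.out : p.Prime).two_le
    calc 3 ≤ p := by omega
      _ ≤ Q := hQe ▸ Nat.le_self_pow (by omega) p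
  have hQodd : Odd Q := hQe ▸ ((Fact.out : p.Prime).eq_two_or_odd'.resolve_left hp).pow
  have hk1 : 1 ≤ k := by
    rcases Nat.eq_zero_or_pos k with rfl | h
    · haveI := (pts_finite (H := H)).to_subtype
      haveI := hpts.to_subtype
      have := Nat.card_pos (α := pts H)
      rw [hk, zero_mul] at this
      omega
    · exact h
  have hg : (g : ℤ) = z * d * Q * (1 + k * Q) := by
    have := card_eq_upperIn_mul (H := H)
    rw [hk, ← card_unipIn, hNu, hAu] at this
    rw [hgdef, this]
    push_cast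
    ring
  have hCT := fun (h : H) (hh : h ∉ Z) => centralizer_eq_self hh
  have hUA : ∀ a ∈ Au, a ∉ Z → Subgroup.centralizer {a} = Au := hCT _ (transIn_not_scalar hu)
  have hZc : ∀ h : H, Z ≤ Subgroup.centralizer {h} := scalarsIn_le_centralizer
  have hU : (Nat.card (classSet Z Au) : ℤ) * (d * Q) = g * (Q - 1) := by
    refine class_size (hZc _) hUA hAu ?_
    rw [normalizer_centralizer_transIn hu, hNu]
  have hsub : ∀ A : Subgroup H, classSet Z A ⊆ (Z : Set H)ᶜ := by
    rintro A _ ⟨x, a, -, haZ, rfl⟩ hmem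
    refine haZ ?_
    have := (scalarsIn_normal (H := H)).conj_mem _ hmem x⁻¹
    rwa [show x⁻¹ * (x * a * x⁻¹) * x⁻¹⁻¹ = a by group] at this
  have hcompl : ((Z : Set H)ᶜ).ncard = g - z := by
    rw [Set.ncard_compl, ← Nat.card_coe_set_eq]; rfl
  have hgz : z ≤ g := Subgroup.card_le_card_group Z
  have htrU : ∀ y ∈ classSet Z Au, tr (y : SL2) ^ 2 = 4 := by
    rintro _ ⟨x, a, ha, -, rfl⟩
    rw [Subgroup.coe_mul, Subgroup.coe_mul, Subgroup.coe_inv, tr_conj]
    obtain ⟨h10, hdiag⟩ := (mem_centralizer_transIn hu).1 ha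
    have hd := det_eq (a : SL2)
    rw [h10, ← hdiag, mul_zero, sub_zero] at hd
    rw [tr, ← hdiag]
    linear_combination 4 * hd
  have hsemi : ∀ h : H, h ∉ Z → h ∉ classSet Z Au → ∃ a ε : ℕ, 2 ≤ a ∧ (ε = 1 ∨ ε = 2) ∧
      Nat.card (Subgroup.centralizer ({h} : Set H)) = a * z ∧
      Nat.card (Subgroup.normalizer
        ((Subgroup.centralizer ({h} : Set H) : Subgroup H) : Set H)) =
          ε * Nat.card (Subgroup.centralizer ({h} : Set H)) ∧
      (Nat.card (classSet Z (Subgroup.centralizer {h})) : ℤ) * (ε * a) = g * (a - 1) := by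
    intro h hhZ hhU
    obtain ⟨a, ha, haA⟩ := card_centralizer_eq hhZ
    obtain ⟨ε, hε0, hε2, hN⟩ := card_normalizer_centralizer h2 hhZ
      fun ht => hhU (mem_classSet_of_tr hu p hp hhZ ht)
    exact ⟨a, ε, ha, by omega, haA, hN, class_size (hZc _) (hCT h hhZ) haA hN⟩
  have hself : ∀ h : H, h ∉ Z → h ∈ classSet Z (Subgroup.centralizer {h}) := fun h hh =>
    subset_classSet (Subgroup.mem_centralizer_singleton_iff.2 rfl) hh
  have hexists : ∀ s : Set H, s ⊆ (Z : Set H)ᶜ → s.ncard < g - z → ∃ y : H, y ∉ Z ∧ y ∉ s := by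
    intro s hs hlt
    by_contra hc
    push Not at hc
    have := Set.ncard_le_ncard (show (Z : Set H)ᶜ ⊆ s from fun y hy => hc y hy) (Set.toFinite _)
    omega
  have hcover : ∀ s : Set H, s ⊆ (Z : Set H)ᶜ → (∀ y : H, y ∉ Z → y ∈ s) → s.ncard = g - z := by
    intro s hs h
    rw [← hcompl, Set.Subset.antisymm hs fun y hy => h y hy]
  have hgpos : (0 : ℤ) ≤ g := Int.natCast_nonneg _
  have hzpos : (0 : ℤ) < z := by exact_mod_cast hz0
  have hQ3' : (3 : ℤ) ≤ Q := by exact_mod_cast hQ3
  rcases Nat.lt_or_ge d 2 with hd1 | hd2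
  · obtain rfl : d = 1 := by omega
    push_cast at hU hg
    rw [one_mul] at hU
    rw [mul_one] at hg
    by_cases hc : ∀ y : H, y ∉ Z → y ∈ classSet Z Au
    · exfalso
      have := hcover _ (hsub Au) hc
      rw [← Nat.card_coe_set_eq] at this
      have hs : (Nat.card (classSet Z Au) : ℤ) = g - z := by rw [this]; push_cast [hgz]; ring
      rw [hs] at hU
      have : (g : ℤ) = z * Q := by linear_combination hU
      rw [this] at hg
      have h0 : (z : ℤ) * Q * (k * Q) = 0 := by linear_combination -hg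
      have : (0 : ℤ) < z * Q * (k * Q) := by positivity
      omega
    · push Not at hc
      obtain ⟨h, hhZ, hhU⟩ := hc
      obtain ⟨a, ε, ha, hε, haA, hN, hX⟩ := hsemi h hhZ hhU
      set A := Subgroup.centralizer ({h} : Set H)
      have hdis : Disjoint (classSet Z Au) (classSet Z A) :=
        classSet_disjoint_of_notMem hhU hhZ (Subgroup.mem_centralizer_singleton_iff.2 rfl) hUA
          (hCT h hhZ)
      have hcv : ∀ y : H, y ∉ Z → y ∈ classSet Z Au ∪ classSet Z A := by
        by_contra hc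
        push Not at hc
        obtain ⟨y, hyZ, hy⟩ := hc
        rw [Set.mem_union, not_or] at hy
        obtain ⟨b, δ, hb, hδ, hbA, hbN, hY⟩ := hsemi y hyZ hy.1
        set B := Subgroup.centralizer ({y} : Set H)
        have hd1 : Disjoint (classSet Z Au) (classSet Z B) :=
          classSet_disjoint_of_notMem hy.1 hyZ (Subgroup.mem_centralizer_singleton_iff.2 rfl) hUA
            (hCT y hyZ)
        have hd2 : Disjoint (classSet Z A) (classSet Z B) :=
          classSet_disjoint_of_notMem hy.2 hyZ (Subgroup.mem_centralizer_singleton_iff.2 rfl)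
            (hCT h hhZ) (hCT y hyZ)
        have hle := Set.ncard_le_ncard (Set.union_subset (Set.union_subset (hsub Au) (hsub A))
          (hsub B)) (Set.toFinite _)
        rw [Set.ncard_union_eq (Set.disjoint_union_left.2 ⟨hd1, hd2⟩), Set.ncard_union_eq hdis,
          hcompl, ← Nat.card_coe_set_eq, ← Nat.card_coe_set_eq, ← Nat.card_coe_set_eq] at hle
        have h4X := (quarter_le hgpos (by exact_mod_cast ha) (by omega) hX).1
        have h4Y := (quarter_le hgpos (by exact_mod_cast hb) (by omega) hY).1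
        have h3U : 2 * (g : ℤ) ≤ 3 * Nat.card (classSet Z Au) := by nlinarith
        omega
      have := hcover _ (Set.union_subset (hsub Au) (hsub A)) hcv
      rw [Set.ncard_union_eq hdis, ← Nat.card_coe_set_eq, ← Nat.card_coe_set_eq] at this
      left
      exact_mod_cast arith_cyclic hzpos hQ3' (by exact_mod_cast hk1) (by omega)
        (by exact_mod_cast ha) hg hU hX (by omega)
  · obtain ⟨h, hhN, hhA⟩ : ∃ h ∈ upperIn H, h ∉ Au := by
      by_contra hc
      push Not at hc
      have h1 := Subgroup.card_le_of_le (show upperIn H ≤ Au from hc)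
      rw [hNu, hAu] at h1
      have : 0 < Q * z := Nat.mul_pos (by omega) hz0
      nlinarith
    have hdiag : (h : SL2).1 0 0 ≠ (h : SL2).1 1 1 := fun e =>
      hhA ((mem_centralizer_transIn hu).2 ⟨hhN, e⟩)
    obtain ⟨htr, hcard⟩ := card_torus hhN hdiag
    have hhZ : h ∉ Z := fun hs => hdiag hs.2.2
    have hhU : h ∉ classSet Z Au := fun hm => htr (htrU h hm)
    obtain ⟨a, ε, ha, hε, haA, hN, hD⟩ := hsemi h hhZ hhU
    set A := Subgroup.centralizer ({h} : Set H) with hAdef
    have had : a = d := by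
      rw [hNu, hAu, haA] at hcard
      have : a * (z * Q) = d * (z * Q) := by linarith
      exact Nat.eq_of_mul_eq_mul_right (Nat.mul_pos hz0 (by omega)) this
    subst had
    have hdis : Disjoint (classSet Z Au) (classSet Z A) :=
      classSet_disjoint_of_notMem hhU hhZ (Subgroup.mem_centralizer_singleton_iff.2 rfl) hUA
        (hCT h hhZ)
    by_cases hc : ∀ y : H, y ∉ Z → y ∈ classSet Z Au ∪ classSet Z A
    · exfalso
      have := hcover _ (Set.union_subset (hsub Au) (hsub A)) hc
      rw [Set.ncard_union_eq hdis, ← Nat.card_coe_set_eq, ← Nat.card_coe_set_eq] at this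
      exact arith_torus_none hzpos hQ3' (by exact_mod_cast hk1) (by exact_mod_cast hd2)
        (by omega) hg hU hD (by omega)
    · push Not at hc
      obtain ⟨y, hyZ, hy⟩ := hc
      rw [Set.mem_union, not_or] at hy
      obtain ⟨b, δ, hb, hδ, hbA, hbN, hX⟩ := hsemi y hyZ hy.1
      set B := Subgroup.centralizer ({y} : Set H) with hBdef
      have hd1 : Disjoint (classSet Z Au) (classSet Z B) :=
        classSet_disjoint_of_notMem hy.1 hyZ (Subgroup.mem_centralizer_singleton_iff.2 rfl) hUA
          (hCT y hyZ)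
      have hd2' : Disjoint (classSet Z A) (classSet Z B) :=
        classSet_disjoint_of_notMem hy.2 hyZ (Subgroup.mem_centralizer_singleton_iff.2 rfl)
          (hCT h hhZ) (hCT y hyZ)
      have hdd : Disjoint (classSet Z Au ∪ classSet Z A) (classSet Z B) :=
        Set.disjoint_union_left.2 ⟨hd1, hd2'⟩
      have hle := Set.ncard_le_ncard (Set.union_subset (Set.union_subset (hsub Au) (hsub A))
          (hsub B)) (Set.toFinite _)
      rw [Set.ncard_union_eq hdd, Set.ncard_union_eq hdis, hcompl, ← Nat.card_coe_set_eq,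
        ← Nat.card_coe_set_eq, ← Nat.card_coe_set_eq] at hle
      have hd2'' : (2 : ℤ) ≤ a := by exact_mod_cast hd2
      have h4X := quarter_le hgpos (by exact_mod_cast hb) (show (δ : ℤ) = 1 ∨ (δ : ℤ) = 2 by omega) hX
      have hε2 : ε = 2 := by
        rcases hε with rfl | rfl
        · exfalso
          push_cast at hD
          have e : ((Nat.card (classSet Z Au) : ℤ) + Nat.card (classSet Z A)) * (a * Q) =
              g * (a * Q - 1) := by linear_combination hU + Q * hD
          have : (5 : ℤ) * g ≤ 6 * (Nat.card (classSet Z Au) + Nat.card (classSet Z A) : ℤ) := by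
            have h6 : (6 : ℤ) ≤ a * Q := by nlinarith
            by_contra hh; push Not at hh; nlinarith
          omega
        · rfl
      subst hε2
      push_cast at hD
      have hhalf : (g : ℤ) < 2 * (Nat.card (classSet Z Au) + Nat.card (classSet Z A) : ℤ) := by
        have e : 2 * ((Nat.card (classSet Z Au) : ℤ) + Nat.card (classSet Z A)) * (a * Q) =
            g * (a * Q + Q - 2) := by linear_combination 2 * hU + Q * hD
        have hg0 : (0 : ℤ) < g := by exact_mod_cast Nat.card_pos
        by_contra hh; push Not at hh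
        have h1 := mul_le_mul_of_nonneg_right hh (show (0 : ℤ) ≤ (a : ℤ) * Q by positivity)
        have h2' := mul_pos hg0 (show (0 : ℤ) < (Q : ℤ) - 2 by omega)
        nlinarith [e, h1, h2']
      have hδ2 : δ = 2 := by
        rcases hδ with rfl | rfl
        · exfalso
          have := h4X.2 rfl
          omega
        · rfl
      subst hδ2
      push_cast at hX
      have hcv : ∀ w : H, w ∉ Z → w ∈ classSet Z Au ∪ classSet Z A ∪ classSet Z B := by
        by_contra hc
        push Not at hc
        obtain ⟨w, hwZ, hw⟩ := hc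
        rw [Set.mem_union, Set.mem_union, not_or, not_or] at hw
        obtain ⟨c, γ, hcc, hγ, hcA, hcN, hY⟩ := hsemi w hwZ hw.1.1
        set C := Subgroup.centralizer ({w} : Set H)
        have hw' := Subgroup.mem_centralizer_singleton_iff.2 (rfl : w * w = w * w)
        have hdC : Disjoint (classSet Z Au ∪ classSet Z A ∪ classSet Z B) (classSet Z C) :=
          Set.disjoint_union_left.2 ⟨Set.disjoint_union_left.2
            ⟨classSet_disjoint_of_notMem hw.1.1 hwZ hw' hUA (hCT w hwZ),
              classSet_disjoint_of_notMem hw.1.2 hwZ hw' (hCT h hhZ) (hCT w hwZ)⟩,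
            classSet_disjoint_of_notMem hw.2 hwZ hw' (hCT y hyZ) (hCT w hwZ)⟩
        have hle' := Set.ncard_le_ncard (Set.union_subset (Set.union_subset
          (Set.union_subset (hsub Au) (hsub A)) (hsub B)) (hsub C)) (Set.toFinite _)
        rw [Set.ncard_union_eq hdC, Set.ncard_union_eq hdd, Set.ncard_union_eq hdis, hcompl,
          ← Nat.card_coe_set_eq, ← Nat.card_coe_set_eq, ← Nat.card_coe_set_eq,
          ← Nat.card_coe_set_eq] at hle'
        have h4Y := (quarter_le hgpos (by exact_mod_cast hcc) (by omega) hY).1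
        have h4X' := h4X.1
        omega
      have hsum := hcover _ (Set.union_subset (Set.union_subset (hsub Au) (hsub A)) (hsub B)) hcv
      rw [Set.ncard_union_eq hdd, Set.ncard_union_eq hdis, ← Nat.card_coe_set_eq,
        ← Nat.card_coe_set_eq, ← Nat.card_coe_set_eq] at hsum
      have hQcase : (Q : ℤ) = 3 ∨ 5 ≤ (Q : ℤ) := by
        obtain ⟨m, hm⟩ := hQodd
        omega
      rcases arith_torus hzpos hQcase (by exact_mod_cast hk1) hd2'' (by exact_mod_cast hdQ)
          (by exact_mod_cast hb) hg hU hD hX (by omega) with hk' | ⟨hQ', ha', hb', hk'⟩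
      · left; exact_mod_cast hk'
      right
      have hQ'' : Q = 3 := by exact_mod_cast hQ'
      obtain rfl : a = 2 := by exact_mod_cast ha'
      obtain rfl : b = 5 := by exact_mod_cast hb'
      obtain rfl : p = 3 := (Nat.prime_dvd_prime_iff_eq (Fact.out : p.Prime) Nat.prime_three).1
        (hQ'' ▸ hQe ▸ dvd_pow_self p (by omega))
      have hz2 : z = 2 := by
        refine le_antisymm card_scalarsIn ?_
        by_contra hlt
        have hz1 : z = 1 := by omega
        rw [hz1, mul_one] at haA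
        have e := congrArg Subtype.val (pow_card_eq_one'
          (x := (⟨h, Subgroup.mem_centralizer_singleton_iff.2 rfl⟩ : A)))
        rw [haA] at e
        simp only [SubmonoidClass.coe_pow, OneMemClass.coe_one, sq] at e
        exact hhZ (isScalar_of_sq h2 (congrArg Subtype.val e))
      rw [hz2] at haA hbA hAu
      have hg120 : g = 120 := by
        rw [hz2, hQ'', hk'] at hg
        push_cast at hg
        omega
      obtain ⟨L, hL, x, hx, y', hy', hx3, hy3, hxy'⟩ := exists_proper_of_exceptional Z hhZ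
        (fun y hy => isScalar_of_sq h2 (congrArg Subtype.val hy))
        (fun w hw y => Subtype.ext (isScalar_commute hw _))
        (fun w hw => hCT w hw) hz2 hg120 haA (by rw [hN, haA])
        (fun n hn => by
          have hm : n * h * n⁻¹ ∈ A :=
            (Subgroup.mem_normalizer_iff.1 hn h).1 (Subgroup.mem_centralizer_singleton_iff.2 rfl)
          rw [hAdef, Subgroup.mem_centralizer_singleton_iff] at hm
          rcases conj_eq_or_inv htr (tr_conj (h : SL2) n) (congrArg Subtype.val hm) h2 with e | e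
          exacts [Or.inl (Subtype.ext e), Or.inr (Subtype.ext e)])
        (fun w hw => by
          rcases hcv w hw with (hwU | hwA) | hwB
          · obtain ⟨c, u, hu', huZ, rfl⟩ := hwU
            left
            rw [centralizer_conj_eq, hUA u hu' huZ,
              Nat.card_congr (Au.equivMapOfInjective _ (MulAut.conj c).injective).toEquiv.symm,
              hAu, hQ'']
          · exact Or.inr (Or.inr hwA)
          · obtain ⟨c, u, hu', huZ, rfl⟩ := hwB
            right; left
            rw [centralizer_conj_eq, hCT y hyZ u hu' huZ,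
              Nat.card_congr (B.equivMapOfInjective _ (MulAut.conj c).injective).toEquiv.symm,
              hbA])
      refine ⟨L.map H.subtype, Subgroup.map_subtype_le L, fun he => hL ?_, x, ?_, y', ?_,
        congrArg Subtype.val hx3, congrArg Subtype.val hy3, fun hc => hxy' (Subtype.ext hc)⟩
      · refine Subgroup.map_injective (Subtype.val_injective) (he.trans ?_)
        rw [← MonoidHom.range_eq_map, Subgroup.range_subtype]
      · exact ⟨x, hx, rfl⟩
      · exact ⟨y', hy', rfl⟩

/-- Dickson's theorem, with the copy of `SL₂(p)` conjugate to the standard one. -/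
theorem exists_containsStd (p : ℕ) [Fact p.Prime] [CharP F p] (hp : p ≠ 2)
    (H : Subgroup (Matrix.SpecialLinearGroup (Fin 2) F)) [Finite H]
    (hne : ∃ x ∈ H, ∃ y ∈ H, x ^ p = 1 ∧ y ^ p = 1 ∧ x * y ≠ y * x) : ContainsStd p H := by
  suffices h : ∀ n, ∀ H : Subgroup (Matrix.SpecialLinearGroup (Fin 2) F), Finite H →
      Nat.card H = n → (∃ x ∈ H, ∃ y ∈ H, x ^ p = 1 ∧ y ^ p = 1 ∧ x * y ≠ y * x) →
      ContainsStd p H from h _ H ‹_› rfl hne
  intro n
  induction n using Nat.strong_induction_on with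
  | _ n ih =>
    rintro H hfin rfl ⟨x, hx, y, hy, hxp, hyp, hxy⟩
    have hx1 : x ≠ 1 := fun h => hxy (by rw [h, one_mul, mul_one])
    obtain ⟨M, hM, he⟩ := exists_conj_upU
      (tr_of_pow_eq_one p (j := 1) (by rw [pow_one]; exact hxp)) hx1
    set φ := conjEquiv M hM
    have : Finite (H.map φ.toMonoidHom) :=
      Finite.of_equiv _ (H.equivMapOfInjective φ.toMonoidHom φ.injective).toEquiv
    have hcard : Nat.card (H.map φ.toMonoidHom) = Nat.card H :=
      Nat.card_congr (H.equivMapOfInjective φ.toMonoidHom φ.injective).toEquiv.symm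
    rcases step p hp (H.map φ.toMonoidHom) (he ▸ ⟨x, hx, rfl⟩)
      ⟨φ x, ⟨x, hx, rfl⟩, φ y, ⟨y, hy, rfl⟩, by rw [← map_pow, hxp, map_one],
        by rw [← map_pow, hyp, map_one], fun h => hxy (φ.injective (by simpa [map_mul] using h))⟩
      with hstd | ⟨H', hH', hne', hpair⟩
    · exact ContainsStd.map_symm p M hM hstd
    · haveI : Finite H' := Finite.of_injective _ (Subgroup.inclusion_injective hH')
      have hlt : Nat.card H' < Nat.card H := by
        rw [← hcard]
        exact lt_of_le_of_ne (Subgroup.card_le_of_le hH') fun e =>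
          hne' (Subgroup.eq_of_le_of_card_ge hH' e.ge)
      exact ContainsStd.map_symm p M hM ((ih _ hlt H' inferInstance rfl hpair).mono p hH')

/-- **Dickson's theorem**: a finite subgroup of `SL₂` in odd characteristic `p` with two
noncommuting elements of order `p` contains a copy of `SL₂(p)`. -/
theorem exists_sl2_le (p : ℕ) [Fact p.Prime] [CharP F p] (hp : p ≠ 2)
    (H : Subgroup (Matrix.SpecialLinearGroup (Fin 2) F)) [Finite H]
    (hne : ∃ x ∈ H, ∃ y ∈ H, x ^ p = 1 ∧ y ^ p = 1 ∧ x * y ≠ y * x) :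
    ∃ L : Subgroup (Matrix.SpecialLinearGroup (Fin 2) F), L ≤ H ∧
      Nonempty (L ≃* Matrix.SpecialLinearGroup (Fin 2) (ZMod p)) :=
  (exists_containsStd p hp H hne).exists_equiv p

end Cfsg.Agent.Fusion.Dickson
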