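import Cfsg.Agent.Lib.Fusion.Dickson
import Cfsg.Prelude.Def_Transfer

/-!
# Two quadratically acting elements
-/

set_option autoImplicit false

open Matrix
open scoped commutatorElement

namespace Cfsg.Agent.Fusion

section Words

variable {R : Type*} [Ring R] (a b : R)

/-- The alternating word of the given length starting with `a`, and its twin. -/
def altPair : ℕ → R × R
  | 0 => (1, 1)
  | L + 1 => (a * (altPair L).2, b * (altPair L).1)

variable {a b}

theorem altPair_mul_mem {k : Type*} [CommRing k] [Algebra k R] (ha : a * a = 0) (hb : b * b = 0)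
    {m : ℕ} {q : R}
    (hq : q ∈ Submodule.span k {u : R | ∃ L, m ≤ L ∧ (u = (altPair a b L).1 ∨ u = (altPair a b L).2)}) :
    a * q ∈ Submodule.span k
        {u : R | ∃ L, m + 1 ≤ L ∧ (u = (altPair a b L).1 ∨ u = (altPair a b L).2)} ∧
      b * q ∈ Submodule.span k
        {u : R | ∃ L, m + 1 ≤ L ∧ (u = (altPair a b L).1 ∨ u = (altPair a b L).2)} := by
  induction hq using Submodule.span_induction with
  | mem u hu =>
    obtain ⟨L, hL, rfl | rfl⟩ := hu
    · refine ⟨?_, Submodule.subset_span ⟨L + 1, by omega, Or.inr rfl⟩⟩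
      cases L with
      | zero => exact Submodule.subset_span ⟨1, by omega, Or.inl rfl⟩
      | succ L => rw [altPair, ← mul_assoc, ha, zero_mul]; exact zero_mem _
    · refine ⟨Submodule.subset_span ⟨L + 1, by omega, Or.inl rfl⟩, ?_⟩
      cases L with
      | zero => exact Submodule.subset_span ⟨1, by omega, Or.inr rfl⟩
      | succ L => rw [altPair, ← mul_assoc, hb, zero_mul]; exact zero_mem _
  | zero => simp
  | add u v _ _ hu hv => rw [mul_add, mul_add]; exact ⟨add_mem hu.1 hv.1, add_mem hu.2 hv.2⟩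
  | smul c u _ hu =>
    rw [mul_smul_comm, mul_smul_comm]
    exact ⟨Submodule.smul_mem _ c hu.1, Submodule.smul_mem _ c hu.2⟩

theorem altPair_two_mul (a b : R) (N r : ℕ) :
    (altPair a b (2 * N + r)).1 = (a * b) ^ N * (altPair a b r).1 := by
  induction N with
  | zero => simp
  | succ N ih =>
    rw [show 2 * (N + 1) + r = 2 * N + r + 1 + 1 by ring, altPair, altPair, ih, pow_succ',
      ← mul_assoc, ← mul_assoc, mul_assoc (a * b)]

end Words

/-- Elements with square-zero displacement whose product is nilpotent generate a group of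
unipotent elements. -/
theorem pow_eq_one_of_nilpotent {k R : Type*} [CommRing k] [Ring R] [Algebra k R] {p : ℕ}
    [Fact p.Prime] [CharP R p] {K : Type*} [Group K] (ψ : K →* R)
    {x y : K} (hgen : Subgroup.closure ({x, y} : Set K) = ⊤)
    (ha : (ψ x - 1) * (ψ x - 1) = 0) (hb : (ψ y - 1) * (ψ y - 1) = 0)
    (hnil : IsNilpotent ((ψ x - 1) * (ψ y - 1))) : ∀ g : K, ∃ j, ψ g ^ p ^ j = 1 := by
  set a := ψ x - 1 with hadef
  set b := ψ y - 1 with hbdef
  obtain ⟨N, hN⟩ := hnil
  set P : ℕ → Submodule k R := fun m =>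
    Submodule.span k {u : R | ∃ L, m ≤ L ∧ (u = (altPair a b L).1 ∨ u = (altPair a b L).2)}
  have hanti : ∀ {m m'}, m ≤ m' → P m' ≤ P m := fun h =>
    Submodule.span_mono fun u ⟨L, hL, hu⟩ => ⟨L, h.trans hL, hu⟩
  have hlong : ∀ L, 2 * N ≤ L → (altPair a b L).1 = 0 := fun L hL => by
    obtain ⟨r, rfl⟩ := Nat.exists_eq_add_of_le hL
    rw [altPair_two_mul, hN, zero_mul]
  have hzero : P (2 * N + 1) = ⊥ := by
    rw [eq_bot_iff]
    refine Submodule.span_le.2 ?_
    rintro u ⟨L, hL, rfl | rfl⟩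
    · simp [hlong L (by omega)]
    · obtain ⟨L, rfl⟩ := Nat.exists_eq_add_of_le' (show 1 ≤ L by omega)
      simp [altPair, hlong L (by omega)]
  have hmulP : ∀ {L m : ℕ} {q : R}, q ∈ P m →
      (altPair a b L).1 * q ∈ P (m + L) ∧ (altPair a b L).2 * q ∈ P (m + L) := by
    intro L
    induction L with
    | zero => intro m q hq; simpa [altPair] using hq
    | succ L ih =>
      intro m q hq
      have h := ih hq
      simp only [altPair, mul_assoc]
      exact ⟨(altPair_mul_mem ha hb h.2).1, (altPair_mul_mem ha hb h.1).2⟩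
  have hmul1 : ∀ {q r : R} {m : ℕ}, q ∈ P 1 → r ∈ P m → q * r ∈ P (m + 1) := by
    intro q r m hq hr
    induction hq using Submodule.span_induction with
    | mem u hu =>
      obtain ⟨L, hL, rfl | rfl⟩ := hu
      · exact hanti (by omega) (hmulP hr).1
      · exact hanti (by omega) (hmulP hr).2
    | zero => simp
    | add u v _ _ hu hv => rw [add_mul]; exact add_mem hu hv
    | smul c u _ hu => rw [smul_mul_assoc]; exact Submodule.smul_mem _ c hu
  have hpow : ∀ {q : R} (m : ℕ), q ∈ P 1 → q ^ m ∈ P m := by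
    intro q m hq
    induction m with
    | zero => exact Submodule.subset_span ⟨0, le_rfl, Or.inl (by simp [altPair])⟩
    | succ m ih => rw [pow_succ']; exact hmul1 hq ih
  have haP : a ∈ P 1 := Submodule.subset_span ⟨1, le_rfl, Or.inl (by simp [altPair])⟩
  have hbP : b ∈ P 1 := Submodule.subset_span ⟨1, le_rfl, Or.inr (by simp [altPair])⟩
  have hinv : ∀ (z : K), (ψ z - 1) * (ψ z - 1) = 0 → ψ z⁻¹ = 1 - (ψ z - 1) := by
    intro z hz
    have h1 : ψ z * (1 - (ψ z - 1)) = 1 := by
      calc ψ z * (1 - (ψ z - 1)) = 1 - (ψ z - 1) * (ψ z - 1) := by noncomm_ring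
        _ = 1 := by rw [hz, sub_zero]
    exact left_inv_eq_right_inv (by rw [← map_mul, inv_mul_cancel, map_one]) h1
  have hall : ∀ g : K, ψ g - 1 ∈ P 1 := by
    intro g
    have hg : g ∈ Subgroup.closure ({x, y} : Set K) := hgen ▸ Subgroup.mem_top g
    induction hg using Subgroup.closure_induction_left with
    | one => simp
    | mul_left z hz h _ ih =>
      have hz' : ψ z - 1 ∈ P 1 := by
        rcases hz with rfl | rfl
        exacts [haP, hbP]
      rw [map_mul, show ψ z * ψ h - 1 = (ψ z - 1) * (ψ h - 1) + (ψ z - 1) + (ψ h - 1) by noncomm_ring]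
      exact add_mem (add_mem (hanti (by omega) (hmul1 hz' ih)) hz') ih
    | inv_mul_cancel z hz h _ ih =>
      obtain ⟨hz', hzz⟩ : ψ z - 1 ∈ P 1 ∧ (ψ z - 1) * (ψ z - 1) = 0 := by
        rcases hz with rfl | rfl
        exacts [⟨haP, ha⟩, ⟨hbP, hb⟩]
      rw [map_mul, hinv z hzz,
        show (1 - (ψ z - 1)) * ψ h - 1 = (ψ h - 1) - (ψ z - 1) * (ψ h - 1) - (ψ z - 1) by noncomm_ring]
      exact sub_mem (sub_mem ih (hanti (by omega) (hmul1 hz' ih))) hz'
  intro g
  refine ⟨2 * N + 1, ?_⟩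
  have hle : 2 * N + 1 ≤ p ^ (2 * N + 1) :=
    (Nat.lt_pow_self (Fact.out : p.Prime).one_lt).le
  have h0 : (ψ g - 1) ^ p ^ (2 * N + 1) = 0 := by
    have h := hanti hle (hpow (p ^ (2 * N + 1)) (hall g))
    rwa [hzero, Submodule.mem_bot] at h
  rw [sub_pow_char_pow_of_commute (p := p) (h := Commute.one_right _), one_pow, sub_eq_zero] at h0
  exact h0

/-- A quadratic pair that does not generate a `p`-group maps onto a noncommuting pair in `SL₂`. -/
theorem exists_sl2_hom {k n : Type*} [Field k] [IsAlgClosed k] [Fintype n] [DecidableEq n] [Nonempty n]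
    {p : ℕ} [Fact p.Prime] [CharP k p] {K : Type*} [Group K]
    (ψ : K →* Matrix n n k)
    {x y : K} (hgen : Subgroup.closure ({x, y} : Set K) = ⊤)
    (ha : (ψ x - 1) * (ψ x - 1) = 0) (hb : (ψ y - 1) * (ψ y - 1) = 0) (hK : ∃ g : K, ∀ j, ψ g ^ p ^ j ≠ 1) :
    ∃ θ : K →* Matrix.SpecialLinearGroup (Fin 2) k,
      θ x ^ p = 1 ∧ θ y ^ p = 1 ∧ θ x * θ y ≠ θ y * θ x ∧
        ∃ C : Matrix n (Fin 2) k, C ≠ 0 ∧ ∀ g, ψ g * C = C * (θ g).1 := by
  haveI : CharP (Matrix n n k) p := inferInstance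
  set a := ψ x - 1 with hadef
  set b := ψ y - 1 with hbdef
  obtain ⟨μ, v, hμ, hv, hTv⟩ : ∃ (μ : k) (v : n → k), μ ≠ 0 ∧ v ≠ 0 ∧ (a * b) *ᵥ v = μ • v := by
    by_contra hcon
    push Not at hcon
    obtain ⟨g, hg⟩ := hK
    refine (fun h => (h g).elim hg) (pow_eq_one_of_nilpotent (k := k) ψ hgen ha hb ?_)
    set T : Module.End k (n → k) := Matrix.toLinAlgEquiv' (a * b) with hT
    have hev : ∀ μ : k, μ ≠ 0 → T.maxGenEigenspace μ = ⊥ := by
      intro μ hμ
      by_contra hne
      have : Module.End.HasEigenvalue T μ := by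
        refine Module.End.HasUnifEigenvalue.lt zero_lt_one (k := ⊤) ?_
        exact hne
      obtain ⟨v, hv⟩ := this.exists_hasEigenvector
      exact hcon μ v hμ hv.2 hv.apply_eq_smul
    have htop : T.maxGenEigenspace 0 = ⊤ := by
      rw [eq_top_iff, ← Module.End.iSup_maxGenEigenspace_eq_top T]
      refine iSup_le fun μ => ?_
      rcases eq_or_ne μ 0 with rfl | hμ
      · exact le_rfl
      · rw [hev μ hμ]; exact bot_le
    have hnilT : IsNilpotent T := by
      obtain ⟨N, hN⟩ : ∃ N, T.maxGenEigenspace 0 = T.genEigenspace 0 (N : ℕ) :=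
        ⟨_, Module.End.maxGenEigenspace_eq_genEigenspace_finrank T 0⟩
      refine ⟨N, LinearMap.ext fun v => ?_⟩
      have hv : v ∈ T.genEigenspace 0 (N : ℕ) := hN ▸ htop ▸ Submodule.mem_top
      rw [Module.End.mem_genEigenspace_nat] at hv
      simpa using hv
    rw [hT] at hnilT
    exact (IsNilpotent.map_iff (Matrix.toLinAlgEquiv' (R := k) (n := n)).injective).1 hnilT
  set w := b *ᵥ v with hw
  have haw : a *ᵥ w = μ • v := by rw [hw, mulVec_mulVec, hTv]
  have hav : a *ᵥ v = 0 := by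
    have h0 : a *ᵥ (μ • v) = 0 := by rw [← haw, mulVec_mulVec, ha, zero_mulVec]
    rw [mulVec_smul] at h0
    exact (smul_eq_zero.1 h0).resolve_left hμ
  have hbw : b *ᵥ w = 0 := by rw [hw, mulVec_mulVec, hb, zero_mulVec]
  set C : Matrix n (Fin 2) k := Matrix.of fun i j => ![v i, w i] j with hC
  have hCmul : ∀ c : Fin 2 → k, C *ᵥ c = c 0 • v + c 1 • w := by
    intro c
    ext i
    simp [hC, mulVec, dotProduct, Fin.sum_univ_two, mul_comm]
  have hinjC : ∀ c : Fin 2 → k, C *ᵥ c = 0 → c = 0 := by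
    intro c hc
    rw [hCmul] at hc
    have h2 : a *ᵥ (c 0 • v + c 1 • w) = 0 := by rw [hc, mulVec_zero]
    rw [mulVec_add, mulVec_smul, mulVec_smul, hav, haw, smul_zero, zero_add, smul_smul] at h2
    have hc1 : c 1 = 0 := (mul_eq_zero.1 ((smul_eq_zero.1 h2).resolve_right hv)).resolve_right hμ
    rw [hc1, zero_smul, add_zero] at hc
    have hc0 : c 0 = 0 := (smul_eq_zero.1 hc).resolve_right hv
    ext j; fin_cases j <;> simp [hc0, hc1]
  have huniq : ∀ R R' : Matrix (Fin 2) (Fin 2) k, C * R = C * R' → R = R' := by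
    intro R R' h
    ext i j
    have h1 : C *ᵥ (fun i => R i j - R' i j) = 0 := by
      ext i
      have := congrFun (congrFun h i) j
      simp only [Matrix.mul_apply] at this
      simp [mulVec, dotProduct, mul_sub, Finset.sum_sub_distrib, this]
    exact sub_eq_zero.1 (congrFun (hinjC _ h1) i)
  have hxC : ψ x * C = C * (⟨!![1, μ; 0, 1], by simp [Matrix.det_fin_two]⟩ :
      Matrix.SpecialLinearGroup (Fin 2) k).1 := by
    rw [show ψ x = a + 1 by rw [hadef, sub_add_cancel], Matrix.add_mul, Matrix.one_mul]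
    ext i j
    have e1 := congrFun hav i
    have e2 := congrFun haw i
    simp [mulVec, dotProduct] at e1 e2
    fin_cases j <;> simp [hC, Matrix.mul_apply, Fin.sum_univ_two, e1, e2] <;> ring
  have hyC : ψ y * C = C * (⟨!![1, 0; 1, 1], by simp [Matrix.det_fin_two]⟩ :
      Matrix.SpecialLinearGroup (Fin 2) k).1 := by
    rw [show ψ y = b + 1 by rw [hbdef, sub_add_cancel], Matrix.add_mul, Matrix.one_mul]
    ext i j
    have e1 := congrFun hw.symm i
    have e2 := congrFun hbw i
    simp [mulVec, dotProduct] at e1 e2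
    fin_cases j <;> simp [hC, Matrix.mul_apply, Fin.sum_univ_two, e1, e2, add_comm]
  have hex : ∀ g : K, ∃ R : Matrix.SpecialLinearGroup (Fin 2) k, ψ g * C = C * R.1 := by
    intro g
    have hg : g ∈ Subgroup.closure ({x, y} : Set K) := hgen ▸ Subgroup.mem_top g
    induction hg using Subgroup.closure_induction with
    | mem z hz =>
      rcases hz with rfl | rfl
      exacts [⟨_, hxC⟩, ⟨_, hyC⟩]
    | one => exact ⟨1, by simp⟩
    | mul g h _ _ ihg ihh =>
      obtain ⟨R, hR⟩ := ihg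
      obtain ⟨R', hR'⟩ := ihh
      refine ⟨R * R', ?_⟩
      show ψ (g * h) * C = C * (R.1 * R'.1)
      rw [map_mul, Matrix.mul_assoc, hR', ← Matrix.mul_assoc, hR, Matrix.mul_assoc]
    | inv g _ ihg =>
      obtain ⟨R, hR⟩ := ihg
      refine ⟨R⁻¹, ?_⟩
      have e : R.1 * (R⁻¹).1 = 1 := congrArg Subtype.val (mul_inv_cancel R)
      calc ψ g⁻¹ * C = ψ g⁻¹ * (C * (R.1 * (R⁻¹).1)) := by rw [e, Matrix.mul_one]
        _ = ψ g⁻¹ * ψ g * (C * (R⁻¹).1) := by
          rw [← Matrix.mul_assoc C, ← hR]; simp only [Matrix.mul_assoc]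
        _ = C * (R⁻¹).1 := by rw [← map_mul, inv_mul_cancel, map_one, Matrix.one_mul]
  choose θ hθ using hex
  have hθu : ∀ g R, ψ g * C = C * R.1 → θ g = R := fun g R h =>
    Subtype.ext (huniq _ _ ((hθ g).symm.trans h))
  let Θ : K →* Matrix.SpecialLinearGroup (Fin 2) k :=
    { toFun := θ
      map_one' := hθu _ 1 (by simp)
      map_mul' := fun g h => hθu _ _ (by
        show ψ (g * h) * C = C * ((θ g).1 * (θ h).1)
        rw [map_mul, Matrix.mul_assoc, hθ h, ← Matrix.mul_assoc, hθ g, Matrix.mul_assoc]) }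
  have hθx : Θ x = _ := hθu x _ hxC
  have hθy : Θ y = _ := hθu y _ hyC
  refine ⟨Θ, ?_, ?_, ?_, C, fun h0 => hv (funext fun i => by
    simpa [hC] using congrFun (congrFun h0 i) 0), hθ⟩
  · rw [hθx]
    exact Dickson.pow_eq_one_of_tr p (by simp [Dickson.tr, one_add_one_eq_two])
  · rw [hθy]
    exact Dickson.pow_eq_one_of_tr p (by simp [Dickson.tr, one_add_one_eq_two])
  · rw [hθx, hθy]
    intro h
    have h' : !![1, μ; 0, 1] * !![(1 : k), 0; 1, 1] = !![(1 : k), 0; 1, 1] * !![1, μ; 0, 1] :=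
      congrArg Subtype.val h
    have h0 := congrFun (congrFun h' 0) 0
    simp [Matrix.mul_apply, Fin.sum_univ_two] at h0
    exact hμ h0

/-- Additive endomorphisms are linear over the prime field. -/
def endLinearHom (p : ℕ) (M : Type*) [AddCommGroup M] [Module (ZMod p) M] :
    AddMonoid.End M →+* Module.End (ZMod p) M where
  toFun f := AddMonoidHom.toZModLinearMap p f
  map_one' := by ext; rfl
  map_mul' _ _ := by ext; rfl
  map_zero' := by ext; rfl
  map_add' _ _ := by ext; rfl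

/-- Endomorphisms of an elementary abelian `p`-group are matrices. -/
theorem exists_coord_rep {p : ℕ} [Fact p.Prime] {M : Type*} [AddCommGroup M] [Finite M]
    (hM : ∀ v : M, p • v = 0) :
    ∃ (n : ℕ) (e : M ≃+ (Fin n → ZMod p))
      (A : AddMonoid.End M →+* Matrix (Fin n) (Fin n) (ZMod p)),
      Function.Injective A ∧ ∀ (f : AddMonoid.End M) (v : M), e (f v) = A f *ᵥ e v := by
  letI : Module (ZMod p) M := AddCommGroup.zmodModule (n := p) hM
  haveI : Module.Finite (ZMod p) M := Module.Finite.of_finite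
  set bas := Module.finBasis (ZMod p) M with hbas
  refine ⟨_, bas.equivFun.toAddEquiv,
    (LinearMap.toMatrixAlgEquiv bas).toRingHom.comp (endLinearHom p M), ?_, fun f v => ?_⟩
  · intro f g h
    exact DFunLike.ext _ _ fun v =>
      LinearMap.congr_fun ((LinearMap.toMatrixAlgEquiv bas).injective h) v
  · exact (LinearMap.toMatrix_mulVec_repr bas bas (endLinearHom p M f) v).symm

/-- The two-dimensional representation attached to a quadratic pair, with coordinates. -/
theorem exists_quadratic_data {G : Type*} [Group G] [Finite G] {p : ℕ} [Fact p.Prime]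
    (V H : Subgroup G) (hV : Cfsg.IsElementaryAbelian p V)
    (hHV : H ≤ Subgroup.normalizer (V : Set G)) {x y : G} (hx : x ∈ H) (hy : y ∈ H)
    (hqx : ∀ v ∈ V, ⁅⁅v, x⁆, x⁆ = 1) (hqy : ∀ v ∈ V, ⁅⁅v, y⁆, y⁆ = 1)
    (hpg : ∃ g ∈ Subgroup.closure ({x, y} : Set G),
      ∀ j : ℕ, g ^ p ^ j ∉ Subgroup.centralizer (V : Set G)) :
    ∃ (n : ℕ) (co : V → (Fin n → ZMod p))
      (A : Subgroup.closure ({x, y} : Set G) →* Matrix (Fin n) (Fin n) (ZMod p))
      (θ : Subgroup.closure ({x, y} : Set G) →*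
        Matrix.SpecialLinearGroup (Fin 2) (AlgebraicClosure (ZMod p))),
      Function.Bijective co ∧ (∀ v w, co (v * w) = co v + co w) ∧
      (∀ (g : Subgroup.closure ({x, y} : Set G)) (v w : V),
        (w : G) = g * v * (g : G)⁻¹ → co w = A g *ᵥ co v) ∧
      (∃ a b, θ a ^ p = 1 ∧ θ b ^ p = 1 ∧ θ a * θ b ≠ θ b * θ a) ∧
      ∃ C : Matrix (Fin n) (Fin 2) (AlgebraicClosure (ZMod p)), C ≠ 0 ∧
        ∀ g, (A g).map (algebraMap (ZMod p) (AlgebraicClosure (ZMod p))) * C = C * (θ g).1 := by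
  classical
  letI : CommGroup V := { (inferInstance : Group V) with
    mul_comm := fun a b => hV.1.1.1 a b }
  have hexp : ∀ v : Additive V, p • v = 0 := fun v => by
    refine Additive.toMul.injective ?_
    rw [toMul_nsmul, toMul_zero]
    exact Subtype.ext (hV.2 _ v.toMul.2)
  haveI : Finite (Additive V) := Finite.of_equiv V Additive.ofMul
  set K := Subgroup.closure ({x, y} : Set G) with hK
  have hKH : K ≤ H := (Subgroup.closure_le _).2 (by rintro z (rfl | rfl) <;> assumption)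
  let act : K →* MulAut V :=
    V.normalizerMonoidHom.comp (Subgroup.inclusion (hKH.trans hHV))
  let lin : K →* AddMonoid.End (Additive V) :=
    { toFun := fun g => MonoidHom.toAdditive (act g).toMonoidHom
      map_one' := DFunLike.ext _ _ fun v => by
        show Additive.ofMul ((act 1) v.toMul) = v
        rw [map_one]; rfl
      map_mul' := fun g g' => DFunLike.ext _ _ fun v => by
        show Additive.ofMul ((act (g * g')) v.toMul) = Additive.ofMul ((act g) ((act g') v.toMul))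
        rw [map_mul]; rfl }
  obtain ⟨n, e, A, hA, heA⟩ := exists_coord_rep hexp
  set ι : AddMonoid.End (Additive V) →+* Matrix (Fin n) (Fin n) (AlgebraicClosure (ZMod p)) :=
    (algebraMap (ZMod p) (AlgebraicClosure (ZMod p))).mapMatrix.comp A
  have hιinj : Function.Injective ι := (Matrix.map_injective
    (algebraMap (ZMod p) (AlgebraicClosure (ZMod p))).injective).comp hA
  let ψ : K →* Matrix (Fin n) (Fin n) (AlgebraicClosure (ZMod p)) := ι.toMonoidHom.comp lin
  haveI : CharP (AlgebraicClosure (ZMod p)) p :=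
    charP_of_injective_algebraMap (algebraMap (ZMod p) (AlgebraicClosure (ZMod p))).injective p
  have hlin : ∀ g : K, lin g = 1 → (g : G) ∈ Subgroup.centralizer (V : Set G) := by
    intro g hg
    refine Subgroup.mem_centralizer_iff.2 fun v hv => ?_
    have h1 := DFunLike.congr_fun hg (Additive.ofMul ⟨v, hv⟩)
    have h2 : (g : G) * v * (g : G)⁻¹ = v := congrArg Subtype.val (Additive.ofMul.injective h1)
    exact (mul_inv_eq_iff_eq_mul.1 h2).symm
  have hbad : ∃ g : K, ∀ j, ψ g ^ p ^ j ≠ 1 := by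
    obtain ⟨g, hg, hgj⟩ := hpg
    refine ⟨⟨g, hg⟩, fun j he => hgj j (hlin (⟨g, hg⟩ ^ p ^ j) (hιinj ?_))⟩
    rw [← map_pow] at he
    rw [map_one]
    exact he
  have hsq : ∀ (z : K), (∀ v ∈ V, ⁅⁅v, (z : G)⁆, (z : G)⁆ = 1) →
      (ψ z - 1) * (ψ z - 1) = 0 := by
    intro z hz
    show (ι (lin z) - 1) * (ι (lin z) - 1) = 0
    rw [← map_one ι, ← map_sub, ← map_mul]
    suffices h : (lin z - 1) * (lin z - 1) = 0 by rw [h, map_zero]
    refine DFunLike.ext _ _ fun v => ?_
    have key : ∀ w : Additive V, (((lin z - 1) w).toMul : G) =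
        ⁅(w.toMul : G), (z : G)⁆⁻¹ := fun w => by
      show ((((lin z) w) - w).toMul : G) = _
      rw [toMul_sub, Subgroup.coe_div, commutatorElement_inv, commutatorElement_def, div_eq_mul_inv]
      rfl
    refine Additive.toMul.injective (Subtype.ext ?_)
    show ((((lin z - 1) ((lin z - 1) v)).toMul : V) : G) = 1
    rw [key, key, inv_eq_one]
    set c := ⁅(v.toMul : G), (z : G)⁆
    have h1 : ⁅c, (z : G)⁆ = 1 := hz _ v.toMul.2
    rw [commutatorElement_eq_one_iff_mul_comm] at h1 ⊢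
    exact (Commute.inv_left h1).eq
  have hgen : Subgroup.closure ({⟨x, Subgroup.subset_closure (by simp)⟩,
      ⟨y, Subgroup.subset_closure (by simp)⟩} : Set K) = ⊤ := by
    refine Subgroup.map_injective K.subtype_injective ?_
    rw [MonoidHom.map_closure, Set.image_pair, ← MonoidHom.range_eq_map, Subgroup.range_subtype]
    rfl
  haveI : Nonempty (Fin n) := by
    by_contra hne
    rw [not_nonempty_iff] at hne
    obtain ⟨g, hg⟩ := hbad
    exact hg 0 (Subsingleton.elim _ _)
  obtain ⟨θ, hθx, hθy, hne, C, hC0, hC⟩ := exists_sl2_hom ψ hgen (hsq _ hqx) (hsq _ hqy) hbad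
  refine ⟨n, fun v => e (Additive.ofMul v), A.toMonoidHom.comp lin, θ,
    e.bijective.comp Additive.ofMul.bijective, fun v w => ?_, fun g v w hw => ?_,
    ⟨_, _, hθx, hθy, hne⟩, C, hC0, hC⟩
  · show e (Additive.ofMul (v * w)) = _
    rw [ofMul_mul, map_add]
  · show e (Additive.ofMul w) = A (lin g) *ᵥ e (Additive.ofMul v)
    rw [← heA]
    exact congrArg e (Additive.toMul.injective (Subtype.ext hw))

/-- An elementary abelian section acted on quadratically by two elements generating a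
non-`p`-group involves `SL₂(p)`. -/
theorem involves_sl2_of_quadratic_pair' {G : Type*} [Group G] [Finite G] {p : ℕ} [Fact p.Prime]
    (hp : p ≠ 2) (V H : Subgroup G) (hV : Cfsg.IsElementaryAbelian p V)
    (hHV : H ≤ Subgroup.normalizer (V : Set G))
    {x y : G} (hx : x ∈ H) (hy : y ∈ H)
    (hqx : ∀ v ∈ V, ⁅⁅v, x⁆, x⁆ = 1) (hqy : ∀ v ∈ V, ⁅⁅v, y⁆, y⁆ = 1)
    (hpg : ∃ g ∈ Subgroup.closure ({x, y} : Set G),
      ∀ j : ℕ, g ^ p ^ j ∉ Subgroup.centralizer (V : Set G)) :
    ∃ (L M : Subgroup G) (hM : (M.subgroupOf L).Normal), L ≤ H ∧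
      Nonempty ((L ⧸ M.subgroupOf L) ≃* Matrix.SpecialLinearGroup (Fin 2) (ZMod p)) := by
  classical
  obtain ⟨n, co, A, θ, -, -, -, ⟨a, b, hθx, hθy, hne⟩, -⟩ :=
    exists_quadratic_data V H hV hHV hx hy hqx hqy hpg
  have hKH : Subgroup.closure ({x, y} : Set G) ≤ H :=
    (Subgroup.closure_le _).2 (by rintro z (rfl | rfl) <;> assumption)
  haveI : Finite θ.range := Finite.of_surjective θ.rangeRestrict θ.rangeRestrict_surjective
  obtain ⟨L', hL', ⟨iso⟩⟩ := Dickson.exists_sl2_le p hp θ.range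
    ⟨_, ⟨_, rfl⟩, _, ⟨_, rfl⟩, hθx, hθy, hne⟩
  set L := (L'.comap θ).map (Subgroup.closure ({x, y} : Set G)).subtype with hL
  set e := (L'.comap θ).equivMapOfInjective (Subgroup.closure ({x, y} : Set G)).subtype (Subgroup.subtype_injective _)
  set τ : L →* L' := (θ.subgroupComap L').comp e.symm.toMonoidHom with hτ
  have hτs : Function.Surjective τ := by
    intro l
    obtain ⟨g, hg⟩ := hL' l.2
    refine ⟨e ⟨g, show θ g ∈ L' from hg ▸ l.2⟩, Subtype.ext ?_⟩
    rw [hτ, MonoidHom.comp_apply]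
    show θ ((e.symm (e _)) : Subgroup.closure ({x, y} : Set G)) = _
    rw [e.symm_apply_apply]
    exact hg
  have hker : (τ.ker.map L.subtype).subgroupOf L = τ.ker :=
    Subgroup.comap_map_eq_self_of_injective L.subtype_injective _
  refine ⟨L, τ.ker.map L.subtype, hker.symm ▸ τ.normal_ker,
    (Subgroup.map_subtype_le _).trans hKH, ⟨?_⟩⟩
  haveI : ((τ.ker.map L.subtype).subgroupOf L).Normal := hker.symm ▸ τ.normal_ker
  exact ((QuotientGroup.quotientMulEquivOfEq hker).trans
    (QuotientGroup.quotientKerEquivOfSurjective τ hτs)).trans iso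

/-- The faithful form. -/
theorem involves_sl2_of_quadratic_pair {G : Type*} [Group G] [Finite G] {p : ℕ} [Fact p.Prime]
    (hp : p ≠ 2) (V H : Subgroup G) (hV : Cfsg.IsElementaryAbelian p V)
    (hHV : H ≤ Subgroup.normalizer (V : Set G)) (hf : H ⊓ Subgroup.centralizer (V : Set G) = ⊥)
    {x y : G} (hx : x ∈ H) (hy : y ∈ H)
    (hqx : ∀ v ∈ V, ⁅⁅v, x⁆, x⁆ = 1) (hqy : ∀ v ∈ V, ⁅⁅v, y⁆, y⁆ = 1)
    (hpg : ¬ IsPGroup p (Subgroup.closure ({x, y} : Set G))) :
    ∃ (L M : Subgroup G) (hM : (M.subgroupOf L).Normal), L ≤ H ∧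
      Nonempty ((L ⧸ M.subgroupOf L) ≃* Matrix.SpecialLinearGroup (Fin 2) (ZMod p)) := by
  refine involves_sl2_of_quadratic_pair' hp V H hV hHV hx hy hqx hqy ?_
  by_contra hcon
  push Not at hcon
  refine hpg fun g => ?_
  obtain ⟨j, hj⟩ := hcon g g.2
  refine ⟨j, Subtype.ext ?_⟩
  have hgH : (g : G) ^ p ^ j ∈ H :=
    pow_mem ((Subgroup.closure_le _).2 (by rintro z (rfl | rfl) <;> assumption) g.2) _
  have hm : (g : G) ^ p ^ j ∈ H ⊓ Subgroup.centralizer (V : Set G) := ⟨hgH, hj⟩
  rw [hf, Subgroup.mem_bot] at hm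
  simpa using hm

end Cfsg.Agent.Fusion
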