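import Cfsg.Agent.Lib.Fusion.QuadraticPair
import Cfsg.Agent.Lib.Fusion.ChiefAction
import Cfsg.Agent.Lib.Fusion.Sections
import Cfsg.Agent.Lib.Fusion.KInf
import Cfsg.Agent.Lib.Solv.Zipper

/-!
# A quadratic element outside the `p`-core of the automizer forces a section `SL₂(p)`
-/

set_option autoImplicit false

open scoped commutatorElement Pointwise

namespace Cfsg.Agent.Fusion

universe u

variable {G : Type u} [Group G] [Finite G] {p : ℕ} [hp : Fact p.Prime]

theorem involves_trans {X : Type*} {Y : Type*} [Group X] [Group Y] {K : Type*} [Group K]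
    (h : Cfsg.Involves X Y) (h' : Cfsg.Involves Y K) : Cfsg.Involves X K := by
  obtain ⟨L, g, hg⟩ := involves_exists_surjective h
  exact involves_surjective (involves_subgroup h' L) g hg

/-- A `p`-group modulo the centralizer of a minimal normal `p`-subgroup centralizes it. -/
theorem le_centralizer_of_minimal {V D : Subgroup G} [V.Normal] [D.Normal] (hV : IsPGroup p V)
    (hmin : ∀ N : Subgroup G, N.Normal → N ≤ V → N = ⊥ ∨ N = V)
    (hD : ∀ d ∈ D, ∃ j, d ^ p ^ j ∈ Subgroup.centralizer (V : Set G)) :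
    D ≤ Subgroup.centralizer (V : Set G) := by
  set C := Subgroup.centralizer (V : Set G)
  rcases eq_or_ne V ⊥ with rfl | hVne
  · intro d _
    exact Subgroup.mem_centralizer_iff.2 fun v hv => by simp [Subgroup.mem_bot.1 hv]
  obtain ⟨S₀⟩ : Nonempty (Sylow p D) := inferInstance
  set S := (S₀ : Subgroup D).map D.subtype with hS
  have hSp : IsPGroup p S := S₀.2.map _
  have hSV : IsPGroup p (S ⊔ V : Subgroup G) :=
    IsPGroup.to_sup_of_normal_right' hSp hV (by rw [Subgroup.normalizer_eq_top]; exact le_top)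
  haveI : Group.IsNilpotent (S ⊔ V : Subgroup G) := hSV.isNilpotent
  obtain ⟨z, hzV, hz1, hzc⟩ : ∃ z ∈ V, z ≠ 1 ∧ ∀ s ∈ S, s * z = z * s := by
    set W := V.subgroupOf (S ⊔ V)
    haveI : W.Normal := inferInstance
    have hW : W ≠ ⊥ := by
      obtain ⟨v, hv, hv1⟩ := (Subgroup.bot_or_exists_ne_one V).resolve_left hVne
      intro h
      have : (⟨v, Subgroup.mem_sup_right hv⟩ : (S ⊔ V : Subgroup G)) ∈ W := hv
      rw [h, Subgroup.mem_bot] at this
      exact hv1 (congrArg Subtype.val this)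
    obtain ⟨⟨z, hz⟩, hzW, hz1, hzc⟩ := exists_fixed_mod (N := (⊥ : Subgroup (S ⊔ V : Subgroup G)))
      (C := W) (Q := ⊤) (by rw [Subgroup.normalizer_eq_top]) (fun h => hW (le_bot_iff.1 h))
    exact ⟨z, hzW, fun h => hz1 (Subgroup.mem_bot.2 (Subtype.ext h)), fun s hs =>
      (congrArg Subtype.val (commutatorElement_eq_one_iff_mul_comm.1
        (Subgroup.mem_bot.1 (hzc ⟨s, Subgroup.mem_sup_left hs⟩ trivial)))).symm⟩
  have hDS : D ≤ (D ⊓ C) ⊔ S := by
    intro d hd
    set N := (D ⊓ C).subgroupOf D with hN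
    haveI : N.Normal := inferInstance
    have hPQ : IsPGroup p (D ⧸ N) := fun q => by
      induction q using QuotientGroup.induction_on with
      | H q =>
        obtain ⟨j, hj⟩ := hD q q.2
        refine ⟨j, (QuotientGroup.eq_one_iff _).2 ?_⟩
        exact Subgroup.mem_subgroupOf.2 ⟨(q ^ p ^ j).2, by simpa using hj⟩
    have hmap : (S₀ : Subgroup D).map (QuotientGroup.mk' N) = ⊤ := by
      obtain ⟨k, hk⟩ := IsPGroup.iff_card.1 hPQ
      have h1 : ((S₀ : Subgroup D).map (QuotientGroup.mk' N)).index ∣ (S₀ : Subgroup D).index :=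
        Subgroup.index_map_dvd _ (QuotientGroup.mk'_surjective N)
      have h2 : ((S₀ : Subgroup D).map (QuotientGroup.mk' N)).index ∣ p ^ k :=
        hk ▸ Subgroup.index_dvd_card _
      rw [← Subgroup.index_eq_one]
      exact Nat.eq_one_of_dvd_coprimes
        (((Nat.Prime.coprime_iff_not_dvd hp.out).2 S₀.not_dvd_index).pow_left k) h2 h1
    obtain ⟨s, hs, he⟩ := hmap.ge (Subgroup.mem_top (QuotientGroup.mk' N ⟨d, hd⟩))
    have hmem : s⁻¹ * ⟨d, hd⟩ ∈ N := QuotientGroup.eq.1 he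
    have := mul_mem (Subgroup.mem_sup_right (S := D ⊓ C) (show (s : G) ∈ S from ⟨s, hs, rfl⟩))
      (Subgroup.mem_sup_left (T := S) (Subgroup.mem_subgroupOf.1 hmem))
    simpa using this
  have hzD : ∀ d ∈ D, d * z = z * d := by
    intro d hd
    have hle : (D ⊓ C) ⊔ S ≤ Subgroup.centralizer {z} := sup_le
      (fun c hc => Subgroup.mem_centralizer_singleton_iff.2
        (Subgroup.mem_centralizer_iff.1 hc.2 z hzV).symm)
      (fun s hs => Subgroup.mem_centralizer_singleton_iff.2 (hzc s hs))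
    exact Subgroup.mem_centralizer_singleton_iff.1 (hle (hDS hd))
  rcases hmin (V ⊓ Subgroup.centralizer (D : Set G)) inferInstance inf_le_left with h | h
  · exfalso
    exact hz1 (Subgroup.mem_bot.1 (h ▸ ⟨hzV, Subgroup.mem_centralizer_iff.2 hzD⟩))
  · intro d hd
    refine Subgroup.mem_centralizer_iff.2 fun v hv => ?_
    exact (Subgroup.mem_centralizer_iff.1 (h.ge hv).2 d hd).symm

theorem isElementaryAbelian_of_minimal {V : Subgroup G} [V.Normal] (hV : IsPGroup p V)
    (hmin : ∀ N : Subgroup G, N.Normal → N ≤ V → N = ⊥ ∨ N = V) :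
    Cfsg.IsElementaryAbelian p V := by
  rcases eq_or_ne V ⊥ with rfl | hVne
  · exact ⟨⟨⟨fun a b => Subsingleton.elim _ _⟩⟩, fun a ha => by simp [Subgroup.mem_bot.1 ha]⟩
  have hab : V ≤ Subgroup.centralizer (V : Set G) :=
    le_centralizer_of_minimal hV hmin fun d hd => by
      obtain ⟨j, hj⟩ := hV ⟨d, hd⟩
      refine ⟨j, ?_⟩
      rw [show d ^ p ^ j = 1 from congrArg Subtype.val hj]
      exact one_mem _
  have hc : ∀ a ∈ V, ∀ b ∈ V, a * b = b * a := fun a ha b hb =>
    Subgroup.mem_centralizer_iff.1 (hab hb) a ha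
  refine ⟨⟨⟨fun a b => Subtype.ext (hc a a.2 b b.2)⟩⟩, ?_⟩
  let Ω : Subgroup G :=
    { carrier := {a | a ∈ V ∧ a ^ p = 1}
      one_mem' := ⟨one_mem _, one_pow p⟩
      mul_mem' := fun {a b} ha hb => ⟨mul_mem ha.1 hb.1, by
        rw [Commute.mul_pow (hc a ha.1 b hb.1), ha.2, hb.2, one_mul]⟩
      inv_mem' := fun {a} ha => ⟨inv_mem ha.1, by rw [inv_pow, ha.2, inv_one]⟩ }
  have hΩn : Ω.Normal := ⟨fun a ha g =>
    ⟨(inferInstance : V.Normal).conj_mem a ha.1 g, by rw [conj_pow, ha.2]; group⟩⟩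
  rcases hmin Ω hΩn fun a ha => ha.1 with h | h
  · exfalso
    haveI : Nontrivial V := (Subgroup.nontrivial_iff_ne_bot V).2 hVne
    obtain ⟨n, hn, hcard⟩ := hV.nontrivial_iff_card.1 inferInstance
    obtain ⟨x, hx⟩ := exists_prime_orderOf_dvd_card' (G := V) p (hcard ▸ dvd_pow_self p hn.ne')
    have hxΩ : (x : G) ∈ Ω := ⟨x.2, by
      rw [← Subgroup.coe_pow, ← hx, pow_orderOf_eq_one, Subgroup.coe_one]⟩
    rw [h, Subgroup.mem_bot, OneMemClass.coe_eq_one] at hxΩ
    rw [hxΩ, orderOf_one] at hx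
    exact hp.out.ne_one hx.symm
  · exact fun a ha => (h.ge ha).2

/-- A noncentralizing quadratic element on a minimal normal `p`-subgroup has a conjugate with
which it forms a quadratic pair. -/
theorem exists_pair_of_quadratic_minimal {V : Subgroup G} [V.Normal]
    (hV : IsPGroup p V) (hmin : ∀ N : Subgroup G, N.Normal → N ≤ V → N = ⊥ ∨ N = V) {g : G}
    (hq : ∀ v ∈ V, ⁅⁅v, g⁆, g⁆ = 1) (hg : g ∉ Subgroup.centralizer (V : Set G)) :
    ∃ y : G, (∀ v ∈ V, ⁅⁅v, y⁆, y⁆ = 1) ∧ ∃ w ∈ Subgroup.closure ({g, y} : Set G),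
      ∀ j : ℕ, w ^ p ^ j ∉ Subgroup.centralizer (V : Set G) := by
  set C := Subgroup.centralizer (V : Set G)
  set π := QuotientGroup.mk' C
  obtain ⟨h, hh⟩ : ∃ h : G, ¬ IsPGroup p
      ((Subgroup.closure ({g, h * g * h⁻¹} : Set G)).map π) := by
    by_contra hcon
    push Not at hcon
    have hle : Subgroup.zpowers (π g) ≤ Cfsg.pCore p (G ⧸ C) := by
      refine Solv.baer_suzuki _ fun q => ?_
      induction q using QuotientGroup.induction_on with
      | H h =>
        refine (hcon h).to_le (sup_le ?_ ?_)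
        · exact Subgroup.zpowers_le.2 ⟨g, Subgroup.subset_closure (by simp), rfl⟩
        · rintro _ ⟨z, hz, rfl⟩
          obtain ⟨i, rfl⟩ := Subgroup.mem_zpowers_iff.1 hz
          refine ⟨(h * g * h⁻¹) ^ i, zpow_mem (Subgroup.subset_closure (by simp)) i, ?_⟩
          rw [map_zpow, map_mul, map_mul, map_inv]
          exact conj_zpow
    set D := (Cfsg.pCore p (G ⧸ C)).comap π
    have hDC : D ≤ C := by
      refine le_centralizer_of_minimal hV hmin fun d hd => ?_
      obtain ⟨j, hj⟩ := isPGroup_pCore p (G ⧸ C) ⟨π d, hd⟩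
      refine ⟨j, (QuotientGroup.eq_one_iff (d ^ p ^ j)).1 ?_⟩
      show π (d ^ p ^ j) = 1
      rw [map_pow]
      exact congrArg Subtype.val hj
    exact hg (hDC (hle (Subgroup.mem_zpowers _)))
  have hqh : ∀ v ∈ V, ⁅⁅v, h * g * h⁻¹⁆, h * g * h⁻¹⁆ = 1 := by
    intro v hv
    have hv' : h⁻¹ * v * h ∈ V := by
      simpa using (inferInstance : V.Normal).conj_mem v hv h⁻¹
    have e : ⁅⁅v, h * g * h⁻¹⁆, h * g * h⁻¹⁆ = h * ⁅⁅h⁻¹ * v * h, g⁆, g⁆ * h⁻¹ := by
      simp only [commutatorElement_def]; group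
    rw [e, hq _ hv', mul_one, mul_inv_cancel]
  refine ⟨h * g * h⁻¹, hqh, ?_⟩
  by_contra hcon
  push Not at hcon
  refine hh fun z => ?_
  obtain ⟨_, w, hw, rfl⟩ := z
  obtain ⟨j, hj⟩ := hcon w hw
  refine ⟨j, Subtype.ext ?_⟩
  show π w ^ p ^ j = 1
  rw [← map_pow]
  exact (QuotientGroup.eq_one_iff _).2 hj

/-- A noncentralizing quadratic element on a minimal normal `p`-subgroup. -/
theorem involves_sl2_of_quadratic_minimal (hp2 : p ≠ 2) {V : Subgroup G} [V.Normal]
    (hV : IsPGroup p V) (hmin : ∀ N : Subgroup G, N.Normal → N ≤ V → N = ⊥ ∨ N = V) {g : G}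
    (hq : ∀ v ∈ V, ⁅⁅v, g⁆, g⁆ = 1) (hg : g ∉ Subgroup.centralizer (V : Set G)) :
    Cfsg.Involves (Matrix.SpecialLinearGroup (Fin 2) (ZMod p)) G := by
  obtain ⟨y, hy, hw⟩ := exists_pair_of_quadratic_minimal hV hmin hq hg
  obtain ⟨L, M, hM, -, hiso⟩ := involves_sl2_of_quadratic_pair' hp2 V ⊤
    (isElementaryAbelian_of_minimal hV hmin) (by rw [Subgroup.normalizer_eq_top])
    (Subgroup.mem_top g) (Subgroup.mem_top y) hq hy hw
  exact ⟨L, M, hM, hiso⟩

/-- Whatever a noncentralizing quadratic element on a minimal normal `p`-subgroup involves is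
involved by a quadratic element outside the `p`-core of the automizer. -/
theorem involves_of_quadratic_normal {X : Type*} [Group X]
    (hX : ∀ {Y : Type u} [Group Y] [Finite Y] {V : Subgroup Y} [V.Normal], IsPGroup p V →
      (∀ N : Subgroup Y, N.Normal → N ≤ V → N = ⊥ ∨ N = V) → ∀ {g : Y},
      (∀ v ∈ V, ⁅⁅v, g⁆, g⁆ = 1) → g ∉ Subgroup.centralizer (V : Set Y) → Cfsg.Involves X Y)
    {P : Subgroup G} [P.Normal] (hP : IsPGroup p P) {g : G}
    (hq : ⁅⁅P, Subgroup.zpowers g⁆, Subgroup.zpowers g⁆ = ⊥)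
    (hg : (QuotientGroup.mk g : G ⧸ Subgroup.centralizer (P : Set G)) ∉
      Cfsg.pCore p (G ⧸ Subgroup.centralizer (P : Set G))) :
    Cfsg.Involves X G := by
  have hgt : g ∉ trivBetween ⊥ P := fun h => hg (trivBetween_le_comap_pCore hP h)
  obtain ⟨U, V, hc, -, hUP, hne⟩ := exists_chief_of_not_mem_trivBetween hgt
  obtain ⟨hlt, hUn, hVn, hmin⟩ := hc
  haveI := hUn
  haveI := hVn
  set π := QuotientGroup.mk' V
  have hπ : Function.Surjective π := QuotientGroup.mk'_surjective V
  haveI : (U.map π).Normal := Subgroup.Normal.map hUn π hπ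
  refine involves_trans (hX (V := U.map π)
    ((hP.to_le hUP).map π) (fun N hN hNU => ?_) (g := π g) ?_ ?_)
    (involves_surjective involves_refl π hπ)
  · rcases hmin (N.comap π) inferInstance (fun v hv => by
        show π v ∈ N
        rw [show π v = 1 from (QuotientGroup.eq_one_iff v).2 hv]
        exact one_mem _) (fun x hx => by
        obtain ⟨u, hu, he⟩ := hNU (show π x ∈ N from hx)
        have hmem : u⁻¹ * x ∈ V := QuotientGroup.eq.1 he
        simpa using mul_mem hu (hlt.le hmem)) with h | h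
    · left
      rw [← Subgroup.map_comap_eq_self_of_surjective hπ N, h]
      exact QuotientGroup.map_mk'_self V
    · right
      rw [← Subgroup.map_comap_eq_self_of_surjective hπ N, h]
  · rintro _ ⟨u, hu, rfl⟩
    rw [← map_commutatorElement, ← map_commutatorElement,
      show ⁅⁅u, g⁆, g⁆ = 1 from Subgroup.mem_bot.1 (hq ▸ Subgroup.commutator_mem_commutator
        (Subgroup.commutator_mem_commutator (hUP hu) (Subgroup.mem_zpowers g))
        (Subgroup.mem_zpowers g)), map_one]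
  · intro hcen
    refine hne (Subgroup.commutator_le.2 fun u hu z hz => ?_)
    rw [← QuotientGroup.ker_mk' V, MonoidHom.mem_ker, map_commutatorElement,
      commutatorElement_eq_one_iff_mul_comm]
    obtain ⟨i, rfl⟩ := Subgroup.mem_zpowers_iff.1 hz
    rw [map_zpow]
    exact Subgroup.mem_centralizer_iff.1 (zpow_mem hcen i) (π u) ⟨u, hu, rfl⟩

/-- A quadratic element outside the `p`-core of the automizer of a normal `p`-subgroup forces
`SL₂(p)` to be involved. -/
theorem involves_sl2_of_quadratic_normal (hp2 : p ≠ 2) {P : Subgroup G} [P.Normal]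
    (hP : IsPGroup p P) {g : G}
    (hq : ⁅⁅P, Subgroup.zpowers g⁆, Subgroup.zpowers g⁆ = ⊥)
    (hg : (QuotientGroup.mk g : G ⧸ Subgroup.centralizer (P : Set G)) ∉
      Cfsg.pCore p (G ⧸ Subgroup.centralizer (P : Set G))) :
    Cfsg.Involves (Matrix.SpecialLinearGroup (Fin 2) (ZMod p)) G :=
  involves_of_quadratic_normal (fun hV hmin _ hq' hg' =>
    involves_sl2_of_quadratic_minimal hp2 hV hmin hq' hg') hP hq hg

theorem mk_mem_pCore_congr {C C' : Subgroup G} [C.Normal] [C'.Normal] (e : C = C') (g : G) :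
    (QuotientGroup.mk g : G ⧸ C) ∈ Cfsg.pCore p (G ⧸ C) ↔
      (QuotientGroup.mk g : G ⧸ C') ∈ Cfsg.pCore p (G ⧸ C') := by
  subst e; rfl

/-- The normalizer form, for an arbitrary excluded group. -/
theorem isNormalizerPStable_of_free {X : Type*} [Group X]
    (hX : ∀ {Y : Type u} [Group Y] [Finite Y] {V : Subgroup Y} [V.Normal], IsPGroup p V →
      (∀ N : Subgroup Y, N.Normal → N ≤ V → N = ⊥ ∨ N = V) → ∀ {g : Y},
      (∀ v ∈ V, ⁅⁅v, g⁆, g⁆ = 1) → g ∉ Subgroup.centralizer (V : Set Y) → Cfsg.Involves X Y)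
    (h : ∀ P : Subgroup G, IsPGroup p P → P ≠ ⊥ →
      ¬ Cfsg.Involves X ↥(Subgroup.normalizer (P : Set G))) :
    Cfsg.IsNormalizerPStable p G := by
  intro P hP g hg hq
  rcases eq_or_ne P ⊥ with rfl | hP1
  · have hmem : (⟨g, hg⟩ : ↥(Subgroup.normalizer ((⊥ : Subgroup G) : Set G))) ∈
        (Subgroup.centralizer ((⊥ : Subgroup G) : Set G)).subgroupOf _ :=
      Subgroup.mem_subgroupOf.2 (Subgroup.mem_centralizer_iff.2 fun v hv => by
        simp [Subgroup.mem_bot.1 hv])
    rw [(QuotientGroup.eq_one_iff _).2 hmem]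
    exact one_mem _
  set N := Subgroup.normalizer (P : Set G)
  have hPN : P ≤ N := Subgroup.le_normalizer
  haveI : (P.subgroupOf N).Normal := Subgroup.normal_in_normalizer
  have hcent : Subgroup.centralizer ((P.subgroupOf N : Subgroup N) : Set N) =
      (Subgroup.centralizer (P : Set G)).subgroupOf N := by
    ext x
    rw [Subgroup.mem_centralizer_iff, Subgroup.mem_subgroupOf, Subgroup.mem_centralizer_iff]
    exact ⟨fun h y hy => congrArg Subtype.val (h ⟨y, hPN hy⟩ hy),
      fun h y hy => Subtype.ext (h y hy)⟩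
  by_contra hcon
  refine h P hP hP1 (involves_of_quadratic_normal hX (P := P.subgroupOf N)
    (hP.comap_subtype) (g := ⟨g, hg⟩) ?_ ?_)
  · refine (Subgroup.map_eq_bot_iff_of_injective _ N.subtype_injective).1 ?_
    rw [Subgroup.map_commutator, Subgroup.map_commutator, MonoidHom.map_zpowers,
      Subgroup.subgroupOf_map_subtype, inf_eq_left.2 hPN]
    exact hq
  · rw [mk_mem_pCore_congr hcent]; exact hcon

/-- The normalizer form. -/
theorem isNormalizerPStable_of_not_involves (hp2 : p ≠ 2)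
    (h : ∀ P : Subgroup G, IsPGroup p P → P ≠ ⊥ →
      ¬ Cfsg.Involves (Matrix.SpecialLinearGroup (Fin 2) (ZMod p))
        ↥(Subgroup.normalizer (P : Set G))) :
    Cfsg.IsNormalizerPStable p G :=
  isNormalizerPStable_of_free (fun hV hmin _ hq' hg' =>
    involves_sl2_of_quadratic_minimal hp2 hV hmin hq' hg') h

end Cfsg.Agent.Fusion
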