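import Cfsg.Agent.Lib.Fusion.ThompsonBasics
import Cfsg.Agent.Lib.Fusion.Reduction
import Cfsg.Prelude.Def_PLocal

/-!
# Thompson factorizability and the closure of `Ω₁(Z(S))`
-/

set_option autoImplicit false
set_option linter.style.haveILetI false

open Cfsg

namespace Cfsg.Agent.Fusion

universe u

variable {G : Type u} [Group G] [Finite G] {p : ℕ} [hp : Fact p.Prime]

/-- A normal subgroup centralized by no more than `D` over its kernel: if `V` is generated by fixed points of
Sylow subgroups, a normal `D ⊇ C(V)` with `p`-power index over it is `C(V)`. -/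
theorem eq_centralizer_of_generated_fixed {V : Subgroup G} [V.Normal]
    (hgen : V ≤ ⨆ S : Sylow p G, V ⊓ Subgroup.centralizer ((S : Subgroup G) : Set G))
    {D : Subgroup G} [D.Normal] (hle : Subgroup.centralizer (V : Set G) ≤ D)
    (hidx : ∃ k : ℕ, (Subgroup.centralizer (V : Set G)).relIndex D = p ^ k) :
    D = Subgroup.centralizer (V : Set G) := by
  set C := Subgroup.centralizer (V : Set G) with hC
  refine le_antisymm (Subgroup.le_centralizer_iff.1 (hgen.trans (iSup_le fun S => ?_))) hle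
  have hT : SylIn p ((S : Subgroup G) ⊓ D) D :=
    (sylIn_top S).inf_normal le_top (by rw [Subgroup.normalizer_eq_top])
  have hD : D ≤ C ⊔ ((S : Subgroup G) ⊓ D) := by
    obtain ⟨k, hk⟩ := hidx
    have h1 : (C ⊔ ((S : Subgroup G) ⊓ D)).relIndex D ∣ p ^ k :=
      hk ▸ Subgroup.relIndex_dvd_of_le_left D le_sup_left
    have h2 : (C ⊔ ((S : Subgroup G) ⊓ D)).relIndex D ∣ ((S : Subgroup G) ⊓ D).relIndex D :=
      Subgroup.relIndex_dvd_of_le_left D le_sup_right
    obtain ⟨j, -, hj⟩ := (Nat.dvd_prime_pow hp.out).1 h1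
    rcases j with _ | j
    · exact Subgroup.relIndex_eq_one.1 (hj.trans (pow_zero p))
    · exact absurd ((hj ▸ dvd_pow_self p j.succ_ne_zero).trans h2) hT.not_dvd
  refine Subgroup.le_centralizer_iff.1 (hD.trans (sup_le ?_ ?_))
  · exact Subgroup.centralizer_le inf_le_left
  · exact inf_le_left.trans (Subgroup.le_centralizer_iff.1 inf_le_right)

/-- `Ω₁(Z(S))` inside `G`. -/
abbrev omegaZ (p : ℕ) (S : Subgroup G) : Subgroup G :=
  omegaOne p (S ⊓ Subgroup.centralizer (S : Set G))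

omit hp [Finite G] in
theorem omegaZ_le (S : Subgroup G) : omegaZ p S ≤ S ⊓ Subgroup.centralizer (S : Set G) :=
  (Subgroup.closure_le _).2 fun _ hx => hx.1

omit hp [Finite G] in
theorem omegaOne_map {H : Type*} [Group H] (f : G →* H) (A : Subgroup G) (hf : Set.InjOn f A) :
    (omegaOne p A).map f = omegaOne p (A.map f) := by
  rw [omegaOne, omegaOne, MonoidHom.map_closure]
  congr 1
  ext y
  constructor
  · rintro ⟨x, ⟨hx, hxp⟩, rfl⟩
    exact ⟨⟨x, hx, rfl⟩, by rw [← map_pow, hxp, map_one]⟩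
  · rintro ⟨⟨x, hx, rfl⟩, hxp⟩
    exact ⟨x, ⟨hx, hf (pow_mem hx p) (one_mem A) (by rw [map_pow, hxp, map_one])⟩, rfl⟩

omit hp [Finite G] in
theorem center_map_injOn {H : Type*} [Group H] (f : G →* H) (S : Subgroup G) (hf : Set.InjOn f S) :
    (S ⊓ Subgroup.centralizer (S : Set G)).map f = S.map f ⊓ Subgroup.centralizer (S.map f : Set H) := by
  ext y
  constructor
  · rintro ⟨x, ⟨hx, hxc⟩, rfl⟩
    refine ⟨⟨x, hx, rfl⟩, Subgroup.mem_centralizer_iff.2 ?_⟩
    rintro _ ⟨s, hs, rfl⟩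
    rw [← map_mul, ← map_mul, Subgroup.mem_centralizer_iff.1 hxc s hs]
  · rintro ⟨⟨x, hx, rfl⟩, hxc⟩
    refine ⟨x, ⟨hx, Subgroup.mem_centralizer_iff.2 fun s hs => hf (mul_mem hs hx) (mul_mem hx hs) ?_⟩, rfl⟩
    rw [map_mul, map_mul]
    exact Subgroup.mem_centralizer_iff.1 hxc _ ⟨s, hs, rfl⟩

omit hp [Finite G] in
theorem omegaZ_map {H : Type u} [Group H] (f : G →* H) (S : Subgroup G) (hf : Set.InjOn f S) :
    (omegaZ p S).map f = omegaZ p (S.map f) := by
  rw [omegaOne_map f _ (hf.mono (SetLike.coe_subset_coe.2 inf_le_left)), center_map_injOn f S hf]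

omit hp [Finite G] in
theorem omegaZ_cj (S : Subgroup G) (g : G) : cj (omegaZ p S) g = omegaZ p (cj S g) :=
  omegaZ_map _ S (MulAut.conj g).injective.injOn

/-- The Thompson subgroup under a map injective on the subgroup. -/
theorem jElem_map_injOn {H : Type u} [Group H] [Finite H] (f : G →* H) (S : Subgroup G) (hf : Set.InjOn f S) :
    (jElem p S).map f = jElem p (S.map f) := by
  have hcard : ∀ A : Subgroup G, A ≤ S → Nat.card (A.map f) = Nat.card A := fun A hA => by
    rw [← SetLike.coe_sort_coe, Subgroup.coe_map]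
    exact Nat.card_image_of_injOn (hf.mono hA)
  have helem : ∀ A : Subgroup G, A ≤ S → (IsElementaryAbelian p (A.map f) ↔ IsElementaryAbelian p A) := by
    intro A hA
    constructor
    · intro h
      exact ⟨⟨⟨fun a b => Subtype.ext (hf (hA (mul_mem a.2 b.2)) (hA (mul_mem b.2 a.2)) (by
        simp only [map_mul, Subgroup.coe_mul]
        exact Local.elemAb_commute h ⟨a, a.2, rfl⟩ ⟨b, b.2, rfl⟩))⟩⟩,
        fun a ha => hf (hA (pow_mem ha p)) (one_mem S) (by rw [map_pow, h.2 _ ⟨a, ha, rfl⟩, map_one])⟩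
    · intro h
      exact ⟨⟨⟨fun a b => Subtype.ext (by
        obtain ⟨x, hx, hxa⟩ := a.2
        obtain ⟨y, hy, hyb⟩ := b.2
        show (a : H) * b = b * a
        rw [← hxa, ← hyb, ← map_mul, ← map_mul, Local.elemAb_commute h hx hy])⟩⟩,
        by rintro _ ⟨a, ha, rfl⟩; rw [← map_pow, h.2 a ha, map_one]⟩
  have hpre : ∀ B : Subgroup H, B ≤ S.map f → ∃ A ≤ S, A.map f = B := fun B hB =>
    ⟨B.comap f ⊓ S, inf_le_right, le_antisymm (by rintro _ ⟨a, ha, rfl⟩; exact ha.1) fun b hb => by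
      obtain ⟨a, ha, rfl⟩ := hB hb
      exact ⟨a, ⟨hb, ha⟩, rfl⟩⟩
  rw [jElem, jElem, sSup_eq_iSup, Subgroup.map_iSup]
  refine le_antisymm (iSup_le fun A => ?_) (sSup_le fun B hB => ?_)
  · rw [Subgroup.map_iSup]
    refine iSup_le fun hA => le_sSup ⟨Subgroup.map_mono hA.1, (helem A hA.1).2 hA.2.1, fun C hC hC' => ?_⟩
    obtain ⟨A', hA', rfl⟩ := hpre C hC
    rw [hcard A' hA', hcard A hA.1]
    exact hA.2.2 A' hA' ((helem A' hA').1 hC')
  · obtain ⟨A, hA, rfl⟩ := hpre B hB.1
    have hmem : A ∈ maxIn (fun A : Subgroup G => IsElementaryAbelian p A) S :=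
      ⟨hA, (helem A hA).1 hB.2.1, fun C hC hC' => by
        rw [← hcard C hC, ← hcard A hA]
        exact hB.2.2 _ (Subgroup.map_mono hC) ((helem C hC).2 hC')⟩
    refine le_trans ?_ (le_iSup _ A)
    rw [Subgroup.map_iSup]
    exact le_iSup_of_le hmem le_rfl

theorem jElem_sylow_inf {C : Subgroup G} (S : Sylow p G) (h : thompsonSubgroup p G ≤ C) :
    jElem p ((S : Subgroup G) ⊓ C) = jElem p (S : Subgroup G) := by
  rw [jElem, jElem, maxIn_eq_of_le (replFamily_elementary p) inf_le_left]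
  intro A hA
  refine le_inf hA.1 ((le_sSup hA).trans (le_trans ?_ h))
  rw [show sSup (maxIn (fun A : Subgroup G => IsElementaryAbelian p A) (S : Subgroup G)) = jElem p (S : Subgroup G)
    from rfl, jElem_eq, thompsonSubgroup_eq_iSup_sylow]
  exact le_iSup (fun S : Sylow p G => thompsonSubgroupOf p (S : Subgroup G)) S

/-- The subgroup generated by all `Ω₁(Z(S))` is normal. -/
theorem iSup_omegaZ_normal : (⨆ S : Sylow p G, omegaZ p (S : Subgroup G)).Normal := by
  refine normal_iff_cj.2 fun g => ?_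
  refine cj_eq_of_cj_le ?_
  show Subgroup.map _ _ ≤ _
  simp only [Subgroup.map_iSup]
  refine iSup_le fun S => ?_
  rw [show (omegaZ p (S : Subgroup G)).map (MulAut.conj g).toMonoidHom = omegaZ p (cj (S : Subgroup G) g)
    from omegaZ_cj _ g]
  exact le_iSup_of_le (g • S) le_rfl

/-- `J(G)` centralizes `⨆ Ω₁(Z(S))` in a factorizable group with trivial `p'`-core. -/
theorem thompson_le_centralizer_of_factorizable (hO : pPrimeCore p G = ⊥) (h : IsThompsonFactorizable p G) :
    thompsonSubgroup p G ≤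
      Subgroup.centralizer ((⨆ S : Sylow p G, omegaZ p (S : Subgroup G) : Subgroup G) : Set G) := by
  rw [thompsonSubgroup_eq_iSup_sylow]
  refine iSup_le fun S => Subgroup.le_centralizer_iff.1 (iSup_le fun T => ?_)
  obtain ⟨g, -, hg⟩ := (sylIn_top S).conj_eq (sylIn_top T)
  obtain ⟨x, hx, c, hc, n, hn, he⟩ := h S g⁻¹
  rw [hO, Subgroup.mem_bot] at hx
  subst hx
  rw [one_mul] at he
  have hg' : g = n⁻¹ * c⁻¹ := by rw [← inv_inv g, he, mul_inv_rev]
  have hom : omegaZ p (T : Subgroup G) = cj (omegaZ p (S : Subgroup G)) n⁻¹ := by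
    rw [← hg, ← omegaZ_cj, hg', ← cj_cj,
      cj_eq_self (H := omegaZ p (S : Subgroup G)) (Subgroup.centralizer_le_normalizer _ (inv_mem hc))]
  rw [← jElem_eq] at hn ⊢
  rw [hom, ← cj_eq_self (inv_mem hn), ← cj_centralizer]
  refine cj_mono (Subgroup.le_centralizer_iff.1 ?_) _
  exact (jElem_le _).trans (Subgroup.le_centralizer_iff.1 ((omegaZ_le _).trans inf_le_right))

/-- Frattini argument. -/
theorem factorizable_of_thompson_le_centralizer
    (h : thompsonSubgroup p G ≤
      Subgroup.centralizer ((⨆ S : Sylow p G, omegaZ p (S : Subgroup G) : Subgroup G) : Set G)) :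
    IsThompsonFactorizable p G := by
  haveI := iSup_omegaZ_normal (G := G) (p := p)
  intro S g
  set C := Subgroup.centralizer ((⨆ S : Sylow p G, omegaZ p (S : Subgroup G) : Subgroup G) : Set G) with hC
  have hT : SylIn p ((S : Subgroup G) ⊓ C) C :=
    (sylIn_top S).inf_normal le_top (by rw [Subgroup.normalizer_eq_top])
  obtain ⟨n, hn, hng⟩ := frattini_conj hT (H := ⊤) (by rw [Subgroup.normalizer_eq_top]) (Subgroup.mem_top g)
  refine ⟨1, one_mem _, n⁻¹, ?_, n * g, ?_, by group⟩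
  · exact inv_mem (Subgroup.centralizer_le
      (SetLike.coe_subset_coe.2 (le_iSup (fun S : Sylow p G => omegaZ p (S : Subgroup G)) S)) hn)
  · rw [← jElem_eq, ← jElem_sylow_inf S h]
    exact normalizer_le_jElem _ hng

theorem factorizable_iff_quotient :
    IsThompsonFactorizable p G ↔ IsThompsonFactorizable p (G ⧸ pPrimeCore p G) := by
  set R := pPrimeCore p G
  have hR : (Nat.card R).Coprime p := card_pPrimeCore_coprime p G
  set f := QuotientGroup.mk' R with hf
  have hbot : pPrimeCore p (G ⧸ R) = ⊥ := pPrimeCore_quotient_eq_bot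
  have himg : ∀ S : Sylow p G,
      (jElem p (S : Subgroup G)).map f = jElem p ((S : Subgroup G).map f) ∧
      (omegaZ p (S : Subgroup G)).map f = omegaZ p ((S : Subgroup G).map f) := fun S =>
    ⟨jElem_map_injOn f _ (injOn_mk_of_coprime hR S.isPGroup'),
      omegaZ_map f _ (injOn_mk_of_coprime hR S.isPGroup')⟩
  constructor
  · intro h S'
    obtain ⟨S₀⟩ := (inferInstance : Nonempty (Sylow p G))
    obtain ⟨x₀, -, hx₀⟩ := (sylIn_map_mk (N := R) (sylIn_top S₀)).conj_eq
      (sylIn_top S')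
    obtain ⟨x, rfl⟩ := QuotientGroup.mk'_surjective R x₀
    have hS' : ((x • S₀ : Sylow p G) : Subgroup G).map f = (S' : Subgroup (G ⧸ R)) := by
      rw [← hx₀, Sylow.coe_subgroup_smul]
      show (cj (S₀ : Subgroup G) x).map f = _
      rw [cj, Subgroup.map_map, cj, Subgroup.map_map]
      rfl
    intro g'
    obtain ⟨g, rfl⟩ := QuotientGroup.mk'_surjective R g'
    obtain ⟨r, hr, c, hc, n, hn, he⟩ := h (x • S₀) g
    refine ⟨1, one_mem _, f c, ?_, f n, ?_, ?_⟩
    · show f c ∈ Subgroup.centralizer (omegaZ p (S' : Subgroup (G ⧸ R)) : Set (G ⧸ R))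
      rw [← hS', ← (himg _).2, Subgroup.mem_centralizer_iff]
      rintro _ ⟨z, hz, rfl⟩
      rw [← map_mul, ← map_mul, Subgroup.mem_centralizer_iff.1 hc z hz]
    · rw [← jElem_eq, ← hS', ← (himg _).1]
      rw [← jElem_eq] at hn
      exact Subgroup.le_normalizer_map f ⟨n, hn, rfl⟩
    · rw [he, map_mul, map_mul, show f r = 1 from (QuotientGroup.eq_one_iff r).2 hr]
  · intro h S g
    have hS' := sylIn_map_mk (N := R) (sylIn_top S)
    obtain ⟨S', hS''⟩ := hS'.exists_sylow
    obtain ⟨r', hr', c', hc', n', hn', he⟩ := h S' (f g)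
    rw [hbot, Subgroup.mem_bot] at hr'
    rw [hS''] at hc' hn'
    change c' ∈ Subgroup.centralizer (omegaZ p ((S : Subgroup G).map f) : Set (G ⧸ R)) at hc'
    rw [← (himg S).2] at hc'
    rw [← jElem_eq, ← (himg S).1] at hn'
    obtain ⟨n, hn, rfl⟩ := exists_lift_normalizer hR (S.isPGroup'.to_le (jElem_le _)) hn'
    obtain ⟨c, hcn, rfl⟩ := exists_lift_normalizer hR (S.isPGroup'.to_le ((omegaZ_le _).trans inf_le_left))
      (Subgroup.centralizer_le_normalizer _ hc')
    refine ⟨g * n⁻¹ * c⁻¹, ?_, c, Subgroup.mem_centralizer_iff.2 fun z hz => ?_, n, by rwa [← jElem_eq], by group⟩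
    · rw [← QuotientGroup.eq_one_iff]
      show f (g * n⁻¹ * c⁻¹) = 1
      rw [map_mul, map_mul, map_inv, map_inv, he, hr', one_mul, mul_inv_cancel_right, mul_inv_cancel]
    · have hzS : z ∈ (S : Subgroup G) := ((omegaZ_le _) hz).1
      have hz' : c * z * c⁻¹ ∈ omegaZ p (S : Subgroup G) := (Subgroup.mem_normalizer_iff.1 hcn z).1 hz
      have := injOn_mk_of_coprime hR S.isPGroup' ((omegaZ_le _) hz').1 hzS (by
        rw [map_mul, map_mul, map_inv, ← Subgroup.mem_centralizer_iff.1 hc' _ ⟨z, hz, rfl⟩, mul_inv_cancel_right])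
      exact (mul_inv_eq_iff_eq_mul.1 this).symm

end Cfsg.Agent.Fusion
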