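import Cfsg.Agent.Lib.Fusion.OffenderFamily
import Cfsg.Agent.Lib.Fusion.ThompsonFactor
import Cfsg.Agent.Lib.Solv.HallHigman
import Cfsg.Agent.Lib.Solv.PSolvHall
import Cfsg.Agent.Lib.Char.TISimpleSocle
import Cfsg.Agent.Lib.Char.PSolvHeight

/-!
# The faithful model of the action on a normal subgroup
-/

set_option autoImplicit false
set_option linter.style.haveILetI false

open Cfsg
open scoped commutatorElement

namespace Cfsg.Agent.Fusion.ActModel

universe u

variable {G : Type u} [Group G] (V : Subgroup G) [V.Normal]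

/-- The action of `G / C(V)` on `V`. -/
def hom : G ⧸ Subgroup.centralizer (V : Set G) →* MulAut ↥V :=
  QuotientGroup.lift _ (MulAut.conjNormal (H := V)) fun g hg => MonoidHom.mem_ker.2 (MulEquiv.ext fun v => by
    apply Subtype.ext
    rw [MulAut.conjNormal_apply, MulAut.one_apply, ← Subgroup.mem_centralizer_iff.1 hg v v.2,
      mul_inv_cancel_right])

theorem hom_inj : Function.Injective (hom V) := by
  rw [injective_iff_map_eq_one]
  intro q hq
  induction q using QuotientGroup.induction_on with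
  | _ g =>
    rw [QuotientGroup.eq_one_iff, Subgroup.mem_centralizer_iff]
    intro v hv
    have h := congrArg (fun f : MulAut ↥V => ((f ⟨v, hv⟩ : ↥V) : G)) hq
    simp only [hom, QuotientGroup.lift_mk, MulAut.conjNormal_apply, MulAut.one_apply] at h
    exact (mul_inv_eq_iff_eq_mul.1 h).symm

/-- `V ⋊ G / C(V)`. -/
abbrev Ω := SemidirectProduct ↥V (G ⧸ Subgroup.centralizer (V : Set G)) (hom V)

instance [Finite G] : Finite (Ω V) := Finite.of_equiv _ SemidirectProduct.equivProd.symm

/-- The copy of `V`. -/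
abbrev incl : ↥V →* Ω V := SemidirectProduct.inl

/-- The map from `G`. -/
abbrev proj : G →* Ω V := SemidirectProduct.inr.comp (QuotientGroup.mk' _)

theorem act (g : G) (v : ↥V) :
    proj V g * incl V v * (proj V g)⁻¹ = incl V ⟨g * v * g⁻¹, ‹V.Normal›.conj_mem v v.2 g⟩ := by
  rw [proj, MonoidHom.comp_apply, ← map_inv, ← SemidirectProduct.inl_aut]
  congr 1

theorem proj_eq_one {g : G} : proj V g = 1 ↔ g ∈ Subgroup.centralizer (V : Set G) := by
  rw [proj, MonoidHom.comp_apply, ← map_one (SemidirectProduct.inr (φ := hom V)),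
    SemidirectProduct.inr_injective.eq_iff, QuotientGroup.mk'_apply, QuotientGroup.eq_one_iff]

theorem ker_proj : (proj V).ker = Subgroup.centralizer (V : Set G) := by
  ext g; exact proj_eq_one V

theorem range_inf_fix : (proj V).range ⊓ Subgroup.centralizer ((incl V).range : Set (Ω V)) = ⊥ := by
  rw [eq_bot_iff]
  rintro _ ⟨⟨g, rfl⟩, hC⟩
  rw [Subgroup.mem_bot, proj_eq_one, Subgroup.mem_centralizer_iff]
  intro v hv
  have h := act V g ⟨v, hv⟩
  rw [← Subgroup.mem_centralizer_iff.1 hC _ ⟨⟨v, hv⟩, rfl⟩, mul_inv_cancel_right] at h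
  have h2 := congrArg Subtype.val (SemidirectProduct.inl_injective h)
  exact (mul_inv_eq_iff_eq_mul.1 h2.symm).symm

theorem norm [Finite G] : (proj V).range ≤ Subgroup.normalizer ((incl V).range : Set (Ω V)) := by
  rintro _ ⟨g, rfl⟩
  refine mem_normalizer_of_cj_le ?_
  rintro _ ⟨_, ⟨v, rfl⟩, rfl⟩
  exact ⟨_, (act V g v).symm⟩

theorem elem {p : ℕ} (hV : IsElementaryAbelian p V) : IsElementaryAbelian p (incl V).range := by
  refine ⟨⟨⟨?_⟩⟩, ?_⟩
  · rintro ⟨_, a, rfl⟩ ⟨_, b, rfl⟩
    refine Subtype.ext ?_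
    show incl V a * incl V b = incl V b * incl V a
    rw [← map_mul, ← map_mul, show a * b = b * a from Subtype.ext (Local.elemAb_commute hV a.2 b.2)]
  · rintro _ ⟨a, rfl⟩
    rw [← map_pow, show a ^ p = 1 from Subtype.ext (hV.2 a a.2), map_one]

theorem fix (X : Subgroup G) : (incl V).range ⊓ Subgroup.centralizer (X.map (proj V) : Set (Ω V)) =
    ((V ⊓ Subgroup.centralizer (X : Set G)).subgroupOf V).map (incl V) := by
  ext w
  constructor
  · rintro ⟨⟨v, rfl⟩, hw⟩
    refine ⟨v, ⟨v.2, Subgroup.mem_centralizer_iff.2 fun x hx => ?_⟩, rfl⟩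
    have h := act V x v
    rw [Subgroup.mem_centralizer_iff.1 hw _ ⟨x, hx, rfl⟩, mul_inv_cancel_right] at h
    exact mul_inv_eq_iff_eq_mul.1 (congrArg Subtype.val (SemidirectProduct.inl_injective h)).symm
  · rintro ⟨v, hv, rfl⟩
    refine ⟨⟨v, rfl⟩, Subgroup.mem_centralizer_iff.2 ?_⟩
    rintro _ ⟨x, hx, rfl⟩
    have h := act V x v
    rw [show (⟨x * v * x⁻¹, ‹V.Normal›.conj_mem v v.2 x⟩ : ↥V) = v from Subtype.ext (by
      show x * (v : G) * x⁻¹ = v
      rw [show x * (v : G) = v * x from Subgroup.mem_centralizer_iff.1 hv.2 x hx, mul_inv_cancel_right])] at h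
    exact mul_inv_eq_iff_eq_mul.1 h

theorem card_fix (X : Subgroup G) :
    Nat.card ↥((incl V).range ⊓ Subgroup.centralizer (X.map (proj V) : Set (Ω V))) =
      Nat.card ↥(V ⊓ Subgroup.centralizer (X : Set G)) := by
  rw [fix, Subgroup.card_map_of_injective SemidirectProduct.inl_injective,
    Nat.card_congr (Subgroup.subgroupOfEquivOfLe inf_le_left).toEquiv]

theorem card_incl : Nat.card ↥(incl V).range = Nat.card V :=
  (Nat.card_range_of_injective SemidirectProduct.inl_injective : _)

theorem card_map [Finite G] (X : Subgroup G) :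
    Nat.card ↥(X.map (proj V)) * Nat.card ↥(X ⊓ Subgroup.centralizer (V : Set G)) = Nat.card X := by
  have h1 := Subgroup.card_mul_index ((proj V).comp X.subtype).ker
  rw [Subgroup.index_ker, MonoidHom.range_comp, Subgroup.range_subtype] at h1
  rw [← h1, mul_comm]
  congr 1
  rw [← MonoidHom.comap_ker, ker_proj, ← Subgroup.card_map_of_injective X.subtype_injective,
    Subgroup.map_comap_eq, Subgroup.range_subtype]

variable [Finite G] {p : ℕ} [hp : Fact p.Prime]

/-- Best offenders go to best offenders. -/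
theorem offender {A : Subgroup G} (hA : IsBestOffenderOn p V A) :
    IsBestOffenderOn p (incl V).range (A.map (proj V)) := by
  refine ⟨fun B hB => ?_, ?_, ?_⟩
  · obtain ⟨B₀, rfl⟩ : ∃ B₀, B₀ = A ⊓ B.comap (proj V) := ⟨_, rfl⟩
    have hmap : (A ⊓ B.comap (proj V)).map (proj V) = B := by
      refine le_antisymm (by rintro _ ⟨a, ha, rfl⟩; exact ha.2) fun b hb => ?_
      obtain ⟨a, ha, rfl⟩ := hB hb
      exact ⟨a, ⟨ha, hb⟩, rfl⟩
    have hinf : (A ⊓ B.comap (proj V)) ⊓ Subgroup.centralizer (V : Set G) = A ⊓ Subgroup.centralizer (V : Set G) := by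
      refine le_antisymm (inf_le_inf_right _ inf_le_left) (le_inf (le_inf inf_le_left fun g hg => ?_) inf_le_right)
      show proj V g ∈ B
      rw [(proj_eq_one V).2 (Subgroup.mem_inf.1 hg).2]
      exact one_mem B
    have h := hA.1 (A ⊓ B.comap (proj V)) inf_le_left
    rw [← card_map V A, ← card_map V (A ⊓ B.comap (proj V)), hinf, hmap] at h
    rw [show Nat.card ↥((incl V).range ⊓ Subgroup.centralizer (B : Set (Ω V))) =
      Nat.card ↥(V ⊓ Subgroup.centralizer ((A ⊓ B.comap (proj V) : Subgroup G) : Set G)) by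
      rw [← card_fix V, hmap], card_fix V]
    refine Nat.le_of_mul_le_mul_left ?_ (Nat.card_pos (α := ↥(A ⊓ Subgroup.centralizer (V : Set G))))
    calc _ = Nat.card B * Nat.card ↥(A ⊓ Subgroup.centralizer (V : Set G)) *
          Nat.card ↥(V ⊓ Subgroup.centralizer ((A ⊓ B.comap (proj V) : Subgroup G) : Set G)) := by ring
      _ ≤ _ := h
      _ = _ := by ring
  · rw [← Subgroup.map_commutator]
    rintro _ ⟨g, hg, rfl⟩
    rw [(proj_eq_one V).2 (hA.2.1 hg)]
    exact one_mem _
  · rintro _ ⟨a, ha, rfl⟩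
    rw [← map_pow, (proj_eq_one V).2 (hA.2.2 a ha)]
    exact one_mem _

/-- The standing hypotheses hold in the model. -/
theorem ctx' (hV : IsElementaryAbelian p V) (J : Subgroup G) [J.Normal] (hsep : IsPSolvable p ↥J)
    (hJ0 : pCore p ↥(J.map (QuotientGroup.mk' (Subgroup.centralizer (V : Set G)))) = ⊥) :
    OffCtx p (incl V).range (J.map (proj V)) := by
  have hle : J.map (proj V) ≤ (proj V).range := Subgroup.map_le_range _ _
  refine ⟨elem V hV, hle.trans (norm V), le_bot_iff.1 (range_inf_fix V ▸ inf_le_inf_right _ hle), ?_⟩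
  have hs : IsPSolvable p ↥(J.map (proj V)) :=
    Solv.isPSolvable_map hp.out hsep _ ((proj V).subgroupMap_surjective J)
  refine Solv.centralizer_pPrimeCore_le hs ?_
  have hmap : (J.map (QuotientGroup.mk' (Subgroup.centralizer (V : Set G)))).map
      (SemidirectProduct.inr (φ := hom V)) = J.map (proj V) := Subgroup.map_map _ _ _
  set Jb := J.map (QuotientGroup.mk' (Subgroup.centralizer (V : Set G))) with hJb
  let e : ↥Jb ≃* ↥(J.map (proj V)) :=
    (Jb.equivMapOfInjective _ (SemidirectProduct.inr_injective (φ := hom V))).trans (MulEquiv.subgroupCongr hmap)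
  haveI hn : (pCore p ↥(J.map (proj V))).Normal := Solv.pCore_normal p
  have h1 : (pCore p ↥(J.map (proj V))).map e.symm.toMonoidHom ≤ pCore p ↥Jb :=
    le_pCore (hn := hn.map _ e.symm.surjective) ((isPGroup_pCore p _).map _)
  rw [hJ0, le_bot_iff] at h1
  exact (Subgroup.map_eq_bot_iff_of_injective _ e.symm.injective).1 h1

/-- The standing hypotheses hold in the model. -/
theorem ctx (hsep : IsPSolvable p G) (hV : IsElementaryAbelian p V)
    (hO : pCore p (G ⧸ Subgroup.centralizer (V : Set G)) = ⊥) (J : Subgroup G) [J.Normal] :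
    OffCtx p (incl V).range (J.map (proj V)) := by
  refine ctx' V hV J (Char.isPSolvable_subgroup hp.out hsep J) ?_
  set Jb := J.map (QuotientGroup.mk' (Subgroup.centralizer (V : Set G))) with hJb
  haveI : Jb.Normal := Subgroup.Normal.map ‹J.Normal› _ (QuotientGroup.mk'_surjective _)
  haveI := Char.TISocle.pCore_characteristic (G := ↥Jb) (p := p)
  rw [← (Subgroup.map_injective Jb.subtype_injective).eq_iff, Subgroup.map_bot, ← le_bot_iff, ← hO]
  exact le_pCore ((isPGroup_pCore p ↥Jb).map _)

/-- The offender bound on a normal subgroup with no normal `p`-subgroup modulo its centralizer. -/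
theorem card_mul_fix_le (hsep : IsPSolvable p G) (hV : IsElementaryAbelian p V)
    (hO : pCore p (G ⧸ Subgroup.centralizer (V : Set G)) = ⊥) {A : Subgroup G} (hA : IsElementaryAbelian p A) :
    Nat.card A * Nat.card ↥(V ⊓ Subgroup.centralizer (A : Set G)) ≤
      Nat.card V * Nat.card ↥(A ⊓ Subgroup.centralizer (V : Set G)) := by
  have c := ctx V hsep hV hO ⊤
  have hel : IsElementaryAbelian p (A.map (proj V)) := by
    refine ⟨⟨⟨?_⟩⟩, ?_⟩
    · rintro ⟨_, a, ha, rfl⟩ ⟨_, b, hb, rfl⟩
      refine Subtype.ext ?_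
      show proj V a * proj V b = proj V b * proj V a
      rw [← map_mul, ← map_mul, Local.elemAb_commute hA ha hb]
    · rintro _ ⟨a, ha, rfl⟩
      rw [← map_pow, hA.2 a ha, map_one]
  have h := c.measure_le (Subgroup.map_mono le_top) hel
  rw [offMeasure, card_fix, card_incl] at h
  calc Nat.card A * Nat.card ↥(V ⊓ Subgroup.centralizer (A : Set G))
      = Nat.card ↥(A.map (proj V)) * Nat.card ↥(V ⊓ Subgroup.centralizer (A : Set G)) *
          Nat.card ↥(A ⊓ Subgroup.centralizer (V : Set G)) := by rw [← card_map V A]; ring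
    _ ≤ _ := Nat.mul_le_mul_right _ h

end Cfsg.Agent.Fusion.ActModel
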