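import Cfsg.Agent.Lib.Fusion.AlperinOmega

/-!
# Maximal normal abelian subgroups of bounded exponent inside a normal subgroup
-/

set_option autoImplicit false
set_option linter.style.haveILetI false

open scoped commutatorElement

namespace Cfsg.Agent.Fusion

variable {G : Type*} [Group G]

/-- Alperin's lemma, relative to a normal subgroup. -/
theorem mem_of_maximal_normal_abelian_within [Finite G] {p : ℕ} [hp : Fact p.Prime] (hG : IsPGroup p G)
    (n : ℕ) (hn : p ^ n ≠ 2) (A : Subgroup G) [A.Normal] (hA : IsMulCommutative A)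
    (hAe : ∀ a ∈ A, a ^ p ^ n = 1)
    (M : Subgroup G) [M.Normal] (hAM : A ≤ M)
    (hmax : ∀ B : Subgroup G, B.Normal → B ≤ M → IsMulCommutative B → (∀ b ∈ B, b ^ p ^ n = 1) → A ≤ B → B = A)
    (x₀ : G) (hx₀ : x₀ ∈ Subgroup.centralizer (A : Set G)) (hxn₀ : x₀ ^ p ^ n = 1) (hxM : x₀ ∈ M) : x₀ ∈ A := by
  classical
  by_contra hbad
  set C := Subgroup.centralizer (A : Set G) with hC
  have hAC : A ≤ C := fun a ha => Subgroup.mem_centralizer_iff.2 fun b hb =>
    congrArg Subtype.val (hA.1.comm ⟨b, hb⟩ ⟨a, ha⟩)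
  haveI : C.Normal := Subgroup.normal_centralizer
  obtain ⟨N, ⟨hNn, hAN, hNCM, x', hx'N, hx'A, hx'q⟩, hmin⟩ := Set.exists_min_image
    {N : Subgroup G | N.Normal ∧ A ≤ N ∧ N ≤ C ⊓ M ∧ ∃ x ∈ N, x ∉ A ∧ x ^ p ^ n = 1}
    (fun N : Subgroup G => Nat.card N) (Set.toFinite _)
    ⟨C ⊓ M, inferInstance, le_inf hAC hAM, le_rfl, x₀, ⟨hx₀, hxM⟩, hbad, hxn₀⟩
  haveI := hNn
  have hNC : N ≤ C := hNCM.trans inf_le_left
  -- a bad element with `x ^ p` in `A`
  obtain ⟨x, hxN, hxA, hxq, hxp⟩ : ∃ x ∈ N, x ∉ A ∧ x ^ p ^ n = 1 ∧ x ^ p ∈ A := by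
    have hex : ∃ j, x' ^ p ^ j ∈ A := ⟨n, hx'q ▸ one_mem A⟩
    have h0 : Nat.find hex ≠ 0 := fun e => hx'A (by
      have := Nat.find_spec hex
      rwa [e, pow_zero, pow_one] at this)
    refine ⟨x' ^ p ^ (Nat.find hex - 1), pow_mem hx'N _, Nat.find_min hex (Nat.sub_lt (Nat.pos_of_ne_zero h0) one_pos),
      by rw [← pow_mul, mul_comm, pow_mul, hx'q, one_pow], ?_⟩
    rw [← pow_mul, ← pow_succ, Nat.sub_add_cancel (Nat.pos_of_ne_zero h0)]
    exact Nat.find_spec hex
  have hxC : x ∈ C := hNC hxN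
  set S := ⁅N, (⊤ : Subgroup G)⁆ ⊔ A with hS
  haveI : ⁅N, (⊤ : Subgroup G)⁆.Normal := Subgroup.commutator_normal N ⊤
  have hSN : S ≤ N := sup_le (Subgroup.commutator_le_left N ⊤) hAN
  haveI : Group.IsNilpotent G := hG.isNilpotent
  obtain ⟨K, hK⟩ := Subgroup.nilpotent_iff_lowerCentralSeries.1 (inferInstance : Group.IsNilpotent G)
  have hSlt : S ≠ N := by
    intro e
    have hstep : ∀ k, N ≤ (⊤ : Subgroup G).lowerCentralSeries k ⊔ A := by
      intro k
      induction k with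
      | zero => exact le_sup_of_le_left le_top
      | succ k ih =>
        refine le_of_eq_of_le e.symm (sup_le ?_ le_sup_right)
        haveI : ((⊤ : Subgroup G).lowerCentralSeries k).Normal := inferInstance
        refine (Subgroup.commutator_mono ih le_rfl).trans ?_
        rw [Subgroup.commutator_le]
        intro y hy g _
        obtain ⟨l, hl, a, ha, rfl⟩ := Subgroup.mem_sup_of_normal_right.1 hy
        rw [show ⁅l * a, g⁆ = l * ⁅a, g⁆ * l⁻¹ * ⁅l, g⁆ by simp only [commutatorElement_def]; group]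
        refine mul_mem (Subgroup.mem_sup_right (Subgroup.Normal.conj_mem inferInstance _
          (Subgroup.commutator_le_left A ⊤ (Subgroup.commutator_mem_commutator ha (Subgroup.mem_top g))) l))
          (Subgroup.mem_sup_left (Subgroup.commutator_mem_commutator hl (Subgroup.mem_top g)))
    have := hstep K
    rw [hK, bot_sup_eq] at this
    exact hx'A (this hx'N)
  have hgood : ∀ u ∈ S, u ^ p ^ n = 1 → u ∈ A := by
    intro u hu huq
    by_contra h
    exact hSlt (Subgroup.eq_of_le_of_card_ge hSN (hmin S ⟨inferInstance, le_sup_right, hSN.trans hNCM, u, hu, h, huq⟩))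
  have hchoose : p ∣ (p ^ n).choose 2 ∨ n = 0 := by
    rcases Nat.eq_zero_or_pos n with h | h
    · exact Or.inr h
    refine Or.inl ?_
    have hlt : p ^ 1 ≤ p ^ n := Nat.pow_le_pow_right hp.out.pos h
    rw [Nat.choose_two_right]
    rcases hp.out.eq_two_or_odd' with rfl | hodd
    · obtain ⟨m, rfl⟩ : ∃ m, n = m + 2 := ⟨n - 2, by
        rcases n with _ | _ | n
        · omega
        · simp at hn
        · omega⟩
      rw [show 2 ^ (m + 2) * (2 ^ (m + 2) - 1) = 2 * (2 * (2 ^ m * (2 ^ (m + 2) - 1))) by rw [pow_add]; ring,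
        Nat.mul_div_cancel_left _ (by norm_num)]
      exact dvd_mul_right 2 _
    · have hodd' : Odd (p ^ n) := hodd.pow
      obtain ⟨t, ht⟩ := hodd'
      have h2 : p ∣ p ^ n := dvd_pow_self p (by omega)
      rw [ht, show (2 * t + 1) * (2 * t + 1 - 1) = 2 * ((2 * t + 1) * t) by
        rw [Nat.add_sub_cancel]; ring, Nat.mul_div_cancel_left _ (by norm_num)]
      exact Dvd.dvd.mul_right (ht ▸ h2) t
  -- commutators with central image have `q`-th power one
  have key : ∀ v ∈ (⊤ : Subgroup G), ⁅x, ⁅x⁻¹, v⁆⁆ ∈ A → ⁅x⁻¹, v⁆ ^ p ^ n = 1 := by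
    intro v _ hc
    set y := ⁅x⁻¹, v⁆ with hy
    have hyN : y ∈ N := Subgroup.commutator_le_left N ⊤ (Subgroup.commutator_mem_commutator (inv_mem hxN) (Subgroup.mem_top v))
    have hcx : Commute ⁅x, y⁆ x := Subgroup.mem_centralizer_iff.1 hxC _ hc
    have hcy : Commute ⁅x, y⁆ y := Subgroup.mem_centralizer_iff.1 (hNC hyN) _ hc
    rcases hchoose with hd | h0
    swap
    · rw [h0, pow_zero, pow_one] at hxq
      exact absurd (hxq ▸ one_mem A) hxA
    have hzp : ⁅x, y⁆ ^ p = 1 :=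
      commutatorElement_pow_eq_one hcx (Subgroup.mem_centralizer_iff.1 (hNC hyN) _ hxp)
    have hyx : Commute ⁅y, x⁆ x ∧ Commute ⁅y, x⁆ y := by
      rw [← commutatorElement_inv x y]; exact ⟨hcx.inv_left, hcy.inv_left⟩
    have h1 : x * y = v * x * v⁻¹ := by
      rw [hy, commutatorElement_def]; group
    have h2 : (x * y) ^ p ^ n = 1 := by rw [h1, conj_pow, hxq, mul_one, mul_inv_cancel]
    rw [mul_pow_of_central hyx.1 hyx.2, hxq, one_mul, ← commutatorElement_inv x y, inv_pow] at h2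
    obtain ⟨m, hm⟩ := hd
    rwa [hm, pow_mul, hzp, one_pow, inv_one, mul_one] at h2
  have hall : ∀ k, ∀ d, k + d = K → ∀ v ∈ N, v ∈ (⊤ : Subgroup G).lowerCentralSeries k → ⁅x, v⁆ ∈ A := by
    intro k d
    induction d generalizing k with
    | zero =>
      intro hk v _ hv
      obtain rfl : k = K := by omega
      rw [hK, Subgroup.mem_bot] at hv
      rw [hv, commutatorElement_one_right]
      exact one_mem A
    | succ d ih =>
      intro hk v hvN hv
      set y := ⁅x⁻¹, v⁆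
      have hyS : y ∈ S := Subgroup.mem_sup_left (Subgroup.commutator_mem_commutator (inv_mem hxN) (Subgroup.mem_top v))
      have hyl : y ∈ (⊤ : Subgroup G).lowerCentralSeries (k + 1) := by
        rw [← inv_mem_iff, commutatorElement_inv]
        exact Subgroup.commutator_mem_commutator hv (Subgroup.mem_top _)
      have h1 : y ∈ A := hgood y hyS (key v (Subgroup.mem_top v) (ih (k + 1) (by omega) y (hSN hyS) hyl))
      have h2 : ⁅x, v⁆ = x * y⁻¹ * x⁻¹ := by simp only [y, commutatorElement_def]; group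
      rw [h2]
      exact Subgroup.Normal.conj_mem inferInstance _ (inv_mem h1) x
  have hcent : ∀ g : G, ⁅x⁻¹, g⁆ ∈ A := by
    intro g
    have hy : ⁅x⁻¹, g⁆ ∈ S := Subgroup.mem_sup_left (Subgroup.commutator_mem_commutator (inv_mem hxN) (Subgroup.mem_top g))
    exact hgood _ hy (key g (Subgroup.mem_top g) (hall 0 K (zero_add K) _ (hSN hy) (Subgroup.mem_top _)))
  set B := A ⊔ Subgroup.zpowers x with hB
  have hBn : B.Normal := by
    refine ⟨fun b hb g => ?_⟩
    obtain ⟨a, ha, z, ⟨i, rfl⟩, rfl⟩ := Subgroup.mem_sup_of_normal_left.1 hb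
    have hgx : g * x * g⁻¹ = x * ⁅x⁻¹, g⁆ := by rw [commutatorElement_def]; group
    rw [show g * (a * x ^ i) * g⁻¹ = (g * a * g⁻¹) * (g * x * g⁻¹) ^ i by
      rw [conj_zpow]; group, hgx]
    exact mul_mem (Subgroup.mem_sup_left (Subgroup.Normal.conj_mem inferInstance a ha g))
      (zpow_mem (mul_mem (Subgroup.mem_sup_right (Subgroup.mem_zpowers x)) (Subgroup.mem_sup_left (hcent g))) i)
  have hBab : IsMulCommutative B := by
    have hle : B ≤ Subgroup.centralizer (B : Set G) := by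
      rw [hB]
      refine sup_le ?_ ?_ <;> rw [Subgroup.le_centralizer_iff] <;> refine sup_le ?_ ?_
      · exact hAC
      · exact Subgroup.zpowers_le.2 hxC
      · exact Subgroup.le_centralizer_iff.1 (Subgroup.zpowers_le.2 hxC)
      · rw [Subgroup.zpowers_le]
        exact Subgroup.mem_centralizer_iff.2 fun y ⟨i, hi⟩ => hi ▸ ((Commute.refl x).zpow_left i).eq
    exact ⟨⟨fun a b => Subtype.ext (Subgroup.mem_centralizer_iff.1 (hle b.2) a a.2)⟩⟩
  have hBe : ∀ b ∈ B, b ^ p ^ n = 1 := by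
    intro b hb
    obtain ⟨a, ha, z, ⟨i, rfl⟩, rfl⟩ := Subgroup.mem_sup_of_normal_left.1 hb
    have hcomm : Commute a (x ^ i) := Subgroup.mem_centralizer_iff.1 (zpow_mem hxC i) a ha
    rw [hcomm.mul_pow, hAe a ha, one_mul, ← zpow_natCast, ← zpow_mul, mul_comm, zpow_mul, zpow_natCast, hxq, one_zpow]
  exact hxA (hmax B hBn (sup_le hAM (Subgroup.zpowers_le.2 ((hNCM.trans inf_le_right) hxN))) hBab hBe le_sup_left ▸ Subgroup.mem_sup_right (Subgroup.mem_zpowers x))

end Cfsg.Agent.Fusion
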