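import Cfsg.Agent.S0071
import Cfsg.Agent.S0205
import Mathlib

/-!
Isometries of an anisotropic quadratic map over the field with two elements.

Every element of odd order normalising a 2-subgroup of such a group centralises it, so the group has a
normal 2-complement and is solvable.
-/

set_option autoImplicit false
set_option linter.style.haveILetI false

namespace Cfsg.Agent.AnisoIso

variable {W E H : Type*} [AddCommGroup W] [AddCommGroup E] [Group H] [DistribMulAction H W]

/-- The hypotheses on a quadratic map `q` with polarisation `b`. -/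
structure Aniso (H : Type*) {W E : Type*} [AddCommGroup W] [AddCommGroup E] [Group H] [DistribMulAction H W]
    (q : W → E) (b : W → W → E) : Prop where
  two_W : ∀ x : W, x + x = 0
  two_E : ∀ e : E, e + e = 0
  polar : ∀ x y : W, q (x + y) = q x + q y + b x y
  add_left : ∀ x y z : W, b (x + y) z = b x z + b y z
  eq_zero : ∀ x : W, q x = 0 → x = 0
  inv : ∀ (h : H) (x : W), q (h • x) = q x

namespace Aniso

variable {q : W → E} {b : W → W → E}

theorem comm (A : Aniso H q b) (x y : W) : b x y = b y x := by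
  have h := A.polar x y
  rw [add_comm x y, A.polar y x, add_comm (q y) (q x)] at h
  exact (add_left_cancel h).symm

theorem add_right (A : Aniso H q b) (x y z : W) : b x (y + z) = b x y + b x z := by
  rw [A.comm, A.add_left, A.comm y x, A.comm z x]

theorem self (A : Aniso H q b) (x : W) : b x x = 0 := by
  have h0 : b 0 0 = 0 := by simpa using A.add_left 0 0 0
  have hq0 : q 0 = 0 := by simpa [h0] using A.polar 0 0
  simpa [A.two_W, hq0, A.two_E] using (A.polar x x).symm

theorem inv_b (A : Aniso H q b) (h : H) (x y : W) : b (h • x) (h • y) = b x y := by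
  have e := A.polar (h • x) (h • y)
  rw [← smul_add, A.inv, A.inv, A.inv, A.polar] at e
  exact (add_left_cancel e).symm

theorem eq_of_add (A : Aniso H q b) {x y : W} (h : x + y = 0) : x = y := by
  calc x = x + y + y := by rw [add_assoc, A.two_W, add_zero]
    _ = y := by rw [h, zero_add]

/-- A fixed vector with vanishing pairing and equal value. -/
theorem eq_of_pair (A : Aniso H q b) {x y : W} (hq : q x = q y) (hb : b x y = 0) : x = y :=
  A.eq_of_add (A.eq_zero _ (by rw [A.polar, hq, hb, A.two_E, add_zero]))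

/-- An element normalising a set of commuting involutory isometries commutes with it. -/
theorem comm_of_elementary (A : Aniso H q b) (M : AddSubgroup W) (T : Subgroup H)
    (hTM : ∀ t ∈ T, ∀ x ∈ M, t • x ∈ M) (hsq : ∀ t ∈ T, ∀ x ∈ M, t • t • x = x)
    (hc : ∀ s ∈ T, ∀ t ∈ T, ∀ x ∈ M, s • t • x = t • s • x)
    {g : H} (hgM : ∀ x ∈ M, g • x ∈ M) (hg : g ∈ Subgroup.normalizer (T : Set H))
    {t : H} (ht : t ∈ T) {x : W} (hx : x ∈ M) : t • g • x = g • t • x := by
  have hfix : ∀ s ∈ T, ∀ y ∈ M, s • (s • y + y) = s • y + y := fun s hs y hy => by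
    rw [smul_add, hsq s hs y hy, add_comm]
  have hperp : ∀ s : H, ∀ y v : W, s • v = v → b (s • y + y) v = 0 := fun s y v hv => by
    nth_rewrite 1 [A.add_left, ← hv]
    rw [A.inv_b, A.two_E]
  -- commuting involutions fix the commutator space of each other
  have hall : ∀ s ∈ T, ∀ r ∈ T, ∀ y ∈ M, r • (s • y + y) = s • y + y := by
    intro s hs r hr y hy
    refine A.eq_of_pair (A.inv r _) ?_
    rw [A.comm]
    refine hperp s y _ ?_
    rw [hc s hs r hr _ (add_mem (hTM s hs y hy) hy), hfix s hs y hy]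
  -- `g` fixes each commutator space
  have hgfix : ∀ s ∈ T, ∀ y ∈ M, g • (s • y + y) = s • y + y := by
    intro s hs y hy
    refine A.eq_of_pair (A.inv g _) ?_
    rw [A.comm]
    refine hperp s y _ ?_
    have hmem : g⁻¹ * s * g ∈ T := (Subgroup.mem_normalizer_iff''.1 hg s).1 hs
    rw [show s • g • (s • y + y) = g • (g⁻¹ * s * g) • (s • y + y) by simp [smul_smul, mul_assoc],
      hall s hs _ hmem y hy]
  set y := g • x + x with hy
  have hyM : y ∈ M := add_mem (hgM x hx) hx
  have hty : t • y = y := by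
    refine A.eq_of_add (A.eq_zero _ ?_)
    have h1 : q (t • y + y) = b (t • y + y) y := by
      rw [A.polar, A.inv, A.two_E, zero_add, A.add_left, A.self, add_zero]
    have h2 : b (t • y + y) (g • x) = b (t • y + y) x := by
      conv_lhs => rw [← hgfix t ht y hyM]
      rw [A.inv_b]
    rw [h1, hy, A.add_right, ← hy, h2, A.two_E]
  have h3 : t • g • x + g • x = t • x + x := by
    rw [hy, smul_add] at hty
    refine A.eq_of_add ?_
    rw [show t • g • x + g • x + (t • x + x) = (t • g • x + t • x) + (g • x + x) by abel, hty, A.two_W]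
  rw [← hgfix t ht x hx, smul_add] at h3
  exact add_right_cancel h3

/-- Preserved by an element means preserved by its inverse. -/
theorem inv_smul_mem [Finite H] {g : H} {M : AddSubgroup W} (hgM : ∀ x ∈ M, g • x ∈ M) {x : W}
    (hx : x ∈ M) : g⁻¹ • x ∈ M := by
  have h : ∀ k : ℕ, ∀ y ∈ M, g ^ k • y ∈ M := by
    intro k
    induction k with
    | zero => intro y hy; rwa [pow_zero, one_smul]
    | succ k ih => intro y hy; rw [pow_succ', mul_smul]; exact hgM _ (ih y hy)
  have he : g⁻¹ = g ^ (orderOf g - 1) := inv_eq_of_mul_eq_one_right (by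
    rw [← pow_succ', Nat.sub_add_cancel (orderOf_pos g), pow_orderOf_eq_one])
  rw [he]
  exact h _ x hx

/-- An element of odd order normalising a 2-group of isometries commutes with it. -/
theorem comm_of_two_group [Finite W] [Finite H] (A : Aniso H q b) {T : Subgroup H} (hT : IsPGroup 2 T) {g : H}
    (hg : g ∈ Subgroup.normalizer (T : Set H)) (hgo : Odd (orderOf g)) :
    ∀ (n : ℕ) (M : AddSubgroup W), Nat.card M = n → (∀ t ∈ T, ∀ x ∈ M, t • x ∈ M) →
      (∀ x ∈ M, g • x ∈ M) → ∀ t ∈ T, ∀ x ∈ M, t • g • x = g • t • x := by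
  haveI : Fact (Nat.Prime 2) := ⟨Nat.prime_two⟩
  intro n
  induction n using Nat.strong_induction_on with
  | _ n ih =>
    intro M hn hTM hgM t ht x hx
    by_cases htriv : ∀ s ∈ T, ∀ y ∈ M, s • y = y
    · rw [htriv t ht _ (hgM x hx), htriv t ht x hx]
    push Not at htriv
    obtain ⟨s₀, hs₀, y₀, hy₀, hne₀⟩ := htriv
    -- the action on `M`
    let φ : T →* Equiv.Perm M :=
      { toFun := fun s =>
          { toFun := fun y => ⟨(s : H) • (y : W), hTM s s.2 y y.2⟩
            invFun := fun y => ⟨(s : H)⁻¹ • (y : W), hTM _ (inv_mem s.2) y y.2⟩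
            left_inv := fun y => Subtype.ext (inv_smul_smul _ _)
            right_inv := fun y => Subtype.ext (smul_inv_smul _ _) }
        map_one' := Equiv.ext fun y => Subtype.ext (one_smul _ _)
        map_mul' := fun a c => Equiv.ext fun y => Subtype.ext (mul_smul (a : H) (c : H) (y : W)) }
    have hR : IsPGroup 2 φ.range := hT.of_surjective φ.rangeRestrict φ.rangeRestrict_surjective
    haveI : Nontrivial φ.range := ⟨⟨⟨φ ⟨s₀, hs₀⟩, ⟨_, rfl⟩⟩, 1, fun e => hne₀
      (congrArg (fun f : Equiv.Perm M => ((f ⟨y₀, hy₀⟩ : M) : W)) (congrArg Subtype.val e))⟩⟩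
    haveI := hR.center_nontrivial
    obtain ⟨k, hk⟩ := (hR.to_subgroup (Subgroup.center φ.range)).exists_card_eq
    have hk1 : 2 ∣ Nat.card (Subgroup.center φ.range) := by
      rw [hk]
      refine dvd_pow_self 2 fun e => ?_
      rw [e, pow_zero] at hk
      exact absurd hk (Finite.one_lt_card (α := Subgroup.center φ.range)).ne'
    obtain ⟨⟨⟨_, ⟨z, rfl⟩⟩, hzc⟩, hz2⟩ := exists_prime_orderOf_dvd_card' 2 hk1
    rw [← Subgroup.orderOf_coe, ← Subgroup.orderOf_coe] at hz2
    have hzcomm : ∀ s ∈ T, ∀ y ∈ M, (z : H) • s • y = s • (z : H) • y := fun s hs y hy =>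
      (congrArg (fun f : φ.range => ((f.1 ⟨y, hy⟩ : M) : W))
        (Subgroup.mem_center_iff.1 hzc ⟨φ ⟨s, hs⟩, ⟨_, rfl⟩⟩)).symm
    have hzsq : ∀ y ∈ M, (z : H) • (z : H) • y = y := fun y hy =>
      congrArg (fun f : Equiv.Perm M => ((f ⟨y, hy⟩ : M) : W))
        (show φ z * φ z = 1 by rw [← pow_two, ← hz2, pow_orderOf_eq_one])
    have hzne : ∃ y ∈ M, (z : H) • y ≠ y := by
      by_contra hno
      push Not at hno
      have : φ z = 1 := Equiv.ext fun y => Subtype.ext (hno y y.2)
      change orderOf (φ z) = 2 at hz2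
      rw [this, orderOf_one] at hz2
      omega
    -- the group of such elements
    let Z₀ : Subgroup H :=
      { carrier := {s | s ∈ T ∧ (∀ y ∈ M, s • s • y = y) ∧ ∀ r ∈ T, ∀ y ∈ M, s • r • y = r • s • y}
        one_mem' := ⟨one_mem T, fun y _ => by simp, fun r _ y _ => by simp⟩
        mul_mem' := fun {a c} ⟨ha, ha2, hac⟩ ⟨hc, hc2, hcc⟩ => by
          refine ⟨mul_mem ha hc, fun y hy => ?_, fun r hr y hy => ?_⟩
          · simp only [mul_smul]
            rw [hcc a ha _ (hTM c hc y hy), hc2 y hy, ha2 y hy]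
          · simp only [mul_smul]
            rw [hcc r hr y hy, hac r hr _ (hTM c hc y hy)]
        inv_mem' := fun {a} ⟨ha, ha2, hac⟩ => by
          have e : ∀ y ∈ M, a⁻¹ • y = a • y := fun y hy => by
            conv_lhs => rw [← ha2 y hy]
            rw [inv_smul_smul]
          refine ⟨inv_mem ha, fun y hy => ?_, fun r hr y hy => ?_⟩
          · rw [e y hy, e _ (hTM a ha y hy), ha2 y hy]
          · rw [e y hy, e _ (hTM r hr y hy), hac r hr y hy] }
    have hzZ : (z : H) ∈ Z₀ := ⟨z.2, hzsq, hzcomm⟩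
    have hgi : ∀ y ∈ M, g⁻¹ • y ∈ M := fun y hy => inv_smul_mem hgM hy
    have hgZ : g ∈ Subgroup.normalizer (Z₀ : Set H) := by
      refine Subgroup.mem_normalizer_fintype fun s ⟨hs, hs2, hsc⟩ =>
        ⟨(Subgroup.mem_normalizer_iff.1 hg s).1 hs, fun y hy => ?_, fun r hr y hy => ?_⟩
      · simp only [mul_smul, inv_smul_smul]
        rw [hs2 _ (hgi y hy), smul_inv_smul]
      · have hr' : g⁻¹ * r * g ∈ T := (Subgroup.mem_normalizer_iff''.1 hg r).1 hr
        have h := congrArg (fun w => g • w) (hsc _ hr' _ (hgi y hy))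
        simp only [mul_smul, smul_inv_smul] at h
        simpa only [mul_smul] using h
    have hzg : ∀ y ∈ M, (z : H) • g • y = g • (z : H) • y := fun y hy =>
      A.comm_of_elementary M Z₀ (fun s hs => hTM s hs.1) (fun s hs => hs.2.1)
        (fun s hs r hr => hs.2.2 r hr.1) hgM hgZ hzZ hy
    -- the fixed points of `z`
    let M₁ : AddSubgroup W :=
      { carrier := {y | y ∈ M ∧ (z : H) • y = y}
        zero_mem' := ⟨zero_mem M, smul_zero _⟩
        add_mem' := fun {a c} ha hc => ⟨add_mem ha.1 hc.1, by rw [smul_add, ha.2, hc.2]⟩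
        neg_mem' := fun {a} ha => ⟨neg_mem ha.1, by rw [smul_neg, ha.2]⟩ }
    have hM₁ : M₁ < M := lt_of_le_of_ne (fun y hy => hy.1) fun e => by
      obtain ⟨y, hy, hne⟩ := hzne
      exact hne (show y ∈ M₁ from e ▸ hy).2
    have hlt : Nat.card M₁ < n := hn ▸ Set.Finite.card_lt_card (Set.toFinite _) (SetLike.coe_ssubset_coe.2 hM₁)
    have hT₁ : ∀ s ∈ T, ∀ y ∈ M₁, s • y ∈ M₁ := fun s hs y hy =>
      ⟨hTM s hs y hy.1, by rw [hzcomm s hs y hy.1, hy.2]⟩
    have hg₁ : ∀ y ∈ M₁, g • y ∈ M₁ := fun y hy => ⟨hgM y hy.1, by rw [hzg y hy.1, hy.2]⟩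
    have hI := ih _ hlt M₁ rfl hT₁ hg₁
    -- the elements stabilising `M ≥ M₁ ≥ 0`
    let D : Subgroup H :=
      { carrier := {s | s ∈ T ∧ (∀ y ∈ M, s • y + y ∈ M₁) ∧ ∀ y ∈ M₁, s • y = y}
        one_mem' := ⟨one_mem T, fun y _ => by rw [one_smul, A.two_W]; exact zero_mem M₁,
          fun y _ => one_smul _ _⟩
        mul_mem' := fun {a c} ⟨ha, ha1, ha2⟩ ⟨hc, hc1, hc2⟩ => by
          refine ⟨mul_mem ha hc, fun y hy => ?_, fun y hy => by rw [mul_smul, hc2 y hy, ha2 y hy]⟩
          have e : (a * c) • y + y = (c • y + y) + (a • y + y) := by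
            rw [← ha2 _ (hc1 y hy), smul_add, mul_smul,
              show a • c • y + a • y + (a • y + y) = a • c • y + (a • y + a • y) + y by abel, A.two_W, add_zero]
          rw [e]
          exact add_mem (hc1 y hy) (ha1 y hy)
        inv_mem' := fun {a} ⟨ha, ha1, ha2⟩ => by
          refine ⟨inv_mem ha, fun y hy => ?_, fun y hy => ?_⟩
          · have h := ha1 _ (hTM _ (inv_mem ha) y hy)
            rwa [smul_inv_smul, add_comm] at h
          · rw [inv_smul_eq_iff, ha2 y hy] }
    have hgD : g ∈ Subgroup.normalizer (D : Set H) := by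
      refine Subgroup.mem_normalizer_fintype fun s ⟨hs, hs1, hs2⟩ =>
        ⟨(Subgroup.mem_normalizer_iff.1 hg s).1 hs, fun y hy => ?_, fun y hy => ?_⟩
      · have h := hg₁ _ (hs1 _ (hgi y hy))
        rw [smul_add, smul_inv_smul] at h
        simpa only [mul_smul] using h
      · simp only [mul_smul]
        rw [hs2 _ (inv_smul_mem hg₁ hy), smul_inv_smul]
    obtain ⟨c, hc⟩ : ∃ c, c = g * t * g⁻¹ * t⁻¹ := ⟨_, rfl⟩
    have hcT : c ∈ T := hc ▸ mul_mem ((Subgroup.mem_normalizer_iff.1 hg t).1 ht) (inv_mem ht)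
    have hc1 : ∀ y ∈ M₁, c • y = y := fun y hy => by
      have hw : g⁻¹ • t⁻¹ • y ∈ M₁ := inv_smul_mem hg₁ (hT₁ _ (inv_mem ht) y hy)
      rw [hc]
      simp only [mul_smul]
      rw [← hI t ht _ hw, smul_inv_smul, smul_inv_smul]
    have hcD : c ∈ D := by
      refine ⟨hcT, fun y hy => ⟨add_mem (hTM c hcT y hy) hy, ?_⟩, hc1⟩
      have hu : (z : H) • y + y ∈ M₁ :=
        ⟨add_mem (hTM _ z.2 y hy) hy, by rw [smul_add, hzsq y hy, add_comm]⟩
      have h := hc1 _ hu
      rw [smul_add] at h
      rw [smul_add, hzcomm c hcT y hy]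
      refine A.eq_of_add ?_
      rw [show c • (z : H) • y + (z : H) • y + (c • y + y) = (c • (z : H) • y + c • y) + ((z : H) • y + y) by abel,
        h, A.two_W]
    have hDsq : ∀ s ∈ D, ∀ y ∈ M, s • s • y = y := fun s ⟨hs, hs1, hs2⟩ y hy => by
      have h := hs2 _ (hs1 y hy)
      rw [smul_add, add_comm] at h
      exact add_left_cancel h
    have hDcomm : ∀ s ∈ D, ∀ r ∈ D, ∀ y ∈ M, s • r • y = r • s • y := by
      intro s hs r hr y hy
      have key : ∀ s ∈ D, ∀ r ∈ D, s • r • y = (r • y + y) + s • y := fun s hs r hr => by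
        rw [← hs.2.2 _ (hr.2.1 y hy), ← smul_add, add_assoc, A.two_W, add_zero]
      rw [key s hs r hr, key r hr s hs]
      abel
    have hcg : ∀ y ∈ M, c • g • y = g • c • y := fun y hy =>
      A.comm_of_elementary M D (fun s hs => hTM s hs.1) hDsq hDcomm hgM hgD hcD hy
    have hpow : ∀ k : ℕ, ∀ y ∈ M, g ^ k • y ∈ M := by
      intro k
      induction k with
      | zero => intro y hy; rwa [pow_zero, one_smul]
      | succ k ihk => intro y hy; rw [pow_succ', mul_smul]; exact hgM _ (ihk y hy)
    have hiter : ∀ k : ℕ, ∀ y ∈ M, g ^ k • t • y = c ^ k • t • g ^ k • y := by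
      intro k
      induction k with
      | zero => intro y _; simp
      | succ k ihk =>
        intro y hy
        have hck : ∀ j : ℕ, ∀ w ∈ M, g • c ^ j • w = c ^ j • g • w := by
          intro j
          induction j with
          | zero => intro w _; simp
          | succ j ihj =>
            intro w hw
            rw [pow_succ', mul_smul, mul_smul, ← hcg _ (hTM _ (pow_mem hcT j) w hw), ihj w hw]
        rw [pow_succ', mul_smul, ihk y hy, hck k _ (hTM t ht _ (hpow k y hy)), pow_succ c, mul_smul (c ^ k)]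
        congr 1
        simp only [hc, mul_smul, inv_smul_smul]
    have hctriv : ∀ y ∈ M, c • y = y := by
      intro y hy
      have hw := hTM _ (inv_mem ht) y hy
      have h := hiter (orderOf g) _ hw
      rw [pow_orderOf_eq_one, one_smul, one_smul, smul_inv_smul] at h
      obtain ⟨m, hm⟩ := hgo
      rw [hm, pow_succ, pow_mul, mul_smul] at h
      have hc2 : ∀ j : ℕ, ∀ w ∈ M, (c ^ 2) ^ j • w = w := by
        intro j
        induction j with
        | zero => intro w _; simp
        | succ j ihj =>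
          intro w hw
          rw [pow_succ, mul_smul, pow_two, mul_smul, hDsq c hcD w hw, ← pow_two, ihj w hw]
      rw [hc2 m _ (hTM c hcT y hy)] at h
      exact h.symm
    have h := hctriv _ (hTM t ht _ (hgM x hx))
    simp only [hc, mul_smul, inv_smul_smul] at h
    exact h.symm

/-- A faithful group of isometries of an anisotropic quadratic map is solvable. -/
theorem isSolvable [Finite W] [Finite H] [FaithfulSMul H W] (A : Aniso H q b) : Group.IsSolvable H := by
  haveI : Fact (Nat.Prime 2) := ⟨Nat.prime_two⟩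
  obtain ⟨P⟩ : Nonempty (Sylow 2 H) := inferInstance
  obtain ⟨N, hN, hNc⟩ := (Cfsg.Agent.S0071.result P).2 fun T hT g hg hco => by
    refine Subgroup.mem_centralizer_iff.2 fun t ht => eq_of_smul_eq_smul fun x : W => ?_
    rw [mul_smul, mul_smul]
    exact A.comm_of_two_group (P.isPGroup'.to_le hT) hg (Nat.coprime_two_right.1 hco) _ ⊤ rfl
      (fun _ _ _ _ => trivial) (fun _ _ => trivial) t ht x trivial
  haveI : Group.IsSolvable N := Cfsg.Agent.S0205.result (by
    rw [← Subgroup.IsComplement'.index_eq_card hNc]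
    exact Nat.coprime_two_right.1 (Nat.Coprime.symm ((Fact.out : Nat.Prime 2).coprime_iff_not_dvd.2 P.not_dvd_index)))
  haveI : Group.IsNilpotent (H ⧸ N) := (IsPGroup.of_card (p := 2) (n := (Nat.card P).factorization 2) (by
    have e : Nat.card (H ⧸ N) = Nat.card P := by
      rw [← Subgroup.index_eq_card, Subgroup.IsComplement'.index_eq_card hNc.symm]
    obtain ⟨k, hk⟩ := P.isPGroup'.exists_card_eq
    rw [e, hk, Nat.Prime.factorization_pow Nat.prime_two, Finsupp.single_eq_same])).isNilpotent
  exact Group.isSolvable_of_ker_le_range N.subtype (QuotientGroup.mk' N)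
    (by rw [QuotientGroup.ker_mk', Subgroup.range_subtype])

end Aniso

end Cfsg.Agent.AnisoIso
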