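import Mathlib
import Cfsg.Agent.Lib.Fusion.LinearStable

/-!
# A quadratic element outside the `p`-core of the automizer forces `SL₂(p)` into the automizer itself
-/

set_option autoImplicit false
set_option linter.style.haveILetI false

open scoped commutatorElement

namespace Cfsg.Agent.Fusion

universe u

variable {G : Type u} [Group G] [Finite G] {p : ℕ} [hp : Fact p.Prime]

/-- `SL₂(p)` is a section of the group of automorphisms induced on a minimal normal `p`-subgroup. -/
theorem sl2_section_of_minimal (hp2 : p ≠ 2) {V : Subgroup G} [V.Normal]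
    (hV : IsPGroup p V) (hmin : ∀ N : Subgroup G, N.Normal → N ≤ V → N = ⊥ ∨ N = V) {g : G}
    (hq : ∀ v ∈ V, ⁅⁅v, g⁆, g⁆ = 1) (hg : g ∉ Subgroup.centralizer (V : Set G)) :
    ∃ (H : Subgroup G) (f : H →* Matrix.SpecialLinearGroup (Fin 2) (ZMod p)), Function.Surjective f ∧
      ∀ c ∈ Subgroup.centralizer (V : Set G), ∃ hc : c ∈ H, f ⟨c, hc⟩ = 1 := by
  obtain ⟨y, hy, w, hw, hwj⟩ := exists_pair_of_quadratic_minimal hV hmin hq hg
  let φ : G →* MulAut V := MulAut.conjNormal
  let A := φ.range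
  haveI : Finite (MulAut V) := Finite.of_injective (fun e => (e : V → V)) DFunLike.coe_injective
  let E := SemidirectProduct V A A.subtype
  haveI : Finite E := Finite.of_equiv _ SemidirectProduct.equivProd.symm
  let V' : Subgroup E := (SemidirectProduct.inl : V →* E).range
  let H' : Subgroup E := (SemidirectProduct.inr : A →* E).range
  let x' : E := SemidirectProduct.inr (φ.rangeRestrict g)
  let y' : E := SemidirectProduct.inr (φ.rangeRestrict y)
  have hact : ∀ (a : G) (v : V), SemidirectProduct.inr (φ.rangeRestrict a) * SemidirectProduct.inl v *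
      (SemidirectProduct.inr (φ.rangeRestrict a))⁻¹ = (SemidirectProduct.inl (φ a v) : E) := fun a v =>
    (by rw [← map_inv]; exact (SemidirectProduct.inl_aut (φ := A.subtype) (φ.rangeRestrict a) v).symm)
  have hV' : Cfsg.IsElementaryAbelian p V' := by
    have hE := isElementaryAbelian_of_minimal hV hmin
    refine ⟨⟨⟨?_⟩⟩, ?_⟩
    · rintro ⟨_, a, rfl⟩ ⟨_, b, rfl⟩
      refine Subtype.ext ?_
      show SemidirectProduct.inl a * SemidirectProduct.inl b = SemidirectProduct.inl b * SemidirectProduct.inl a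
      rw [← map_mul, ← map_mul, show a * b = b * a from Subtype.ext (congrArg Subtype.val (hE.1.1.1 a b))]
    · rintro _ ⟨a, rfl⟩
      rw [← map_pow, show a ^ p = 1 from Subtype.ext (hE.2 a a.2), map_one]
  have hHV : H' ≤ Subgroup.normalizer (V' : Set E) := by
    rintro _ ⟨⟨_, a, rfl⟩, rfl⟩
    refine mem_normalizer_of_cj_le ?_
    rintro _ ⟨_, ⟨v, rfl⟩, rfl⟩
    exact ⟨φ a v, (hact a v).symm⟩
  have hquad : ∀ a : G, (∀ v ∈ V, ⁅⁅v, a⁆, a⁆ = 1) →
      ∀ v ∈ V', ⁅⁅v, (SemidirectProduct.inr (φ.rangeRestrict a) : E)⁆, (SemidirectProduct.inr (φ.rangeRestrict a) : E)⁆ = 1 := by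
    rintro a ha _ ⟨v, rfl⟩
    have h1 : ∀ u : V, ⁅(SemidirectProduct.inl u : E), SemidirectProduct.inr (φ.rangeRestrict a)⁆ =
        SemidirectProduct.inl (u * (φ a u)⁻¹) := fun u => by
      rw [map_mul, map_inv, ← hact, commutatorElement_def]; group
    rw [h1, h1]
    refine (congrArg _ (Subtype.ext ?_)).trans (map_one _)
    have h2 : ∀ u : V, ((u * (φ a u)⁻¹ : V) : G) = ⁅(u : G), a⁆ := fun u => by
      rw [commutatorElement_def]
      simp [φ, mul_assoc]
    rw [h2, h2]
    exact ha v v.2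
  let ψ : Subgroup.closure ({g, y} : Set G) →* E :=
    ((SemidirectProduct.inr : A →* E).comp φ.rangeRestrict).comp (Subgroup.subtype _)
  have hwmem : SemidirectProduct.inr (φ.rangeRestrict w) ∈ Subgroup.closure ({x', y'} : Set E) := by
    have h := Subgroup.mem_map_of_mem ((SemidirectProduct.inr : A →* E).comp φ.rangeRestrict) hw
    rw [MonoidHom.map_closure, Set.image_pair] at h
    exact h
  have hwne : ∀ j : ℕ, (SemidirectProduct.inr (φ.rangeRestrict w) : E) ^ p ^ j ∉
      Subgroup.centralizer (V' : Set E) := by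
    intro j hj
    refine hwj j (Subgroup.mem_centralizer_iff.2 fun v hv => ?_)
    have h := Subgroup.mem_centralizer_iff.1 hj _ ⟨⟨v, hv⟩, rfl⟩
    rw [← map_pow, ← map_pow] at h
    have h3 := hact (w ^ p ^ j) ⟨v, hv⟩
    rw [← h, mul_inv_cancel_right] at h3
    have h4 : v = w ^ p ^ j * v * (w ^ p ^ j)⁻¹ := by
      have h5 : v = (φ (w ^ p ^ j) ⟨v, hv⟩ : G) := congrArg Subtype.val (SemidirectProduct.inl_injective h3)
      simpa only [φ, MulAut.conjNormal_apply] using h5
    exact eq_mul_inv_iff_mul_eq.1 h4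
  obtain ⟨L, M, hM, hLH, ⟨e⟩⟩ := involves_sl2_of_quadratic_pair' hp2 V' H' hV' hHV
    (x := x') (y := y') ⟨_, rfl⟩ ⟨_, rfl⟩ (hquad g hq) (hquad y hy) ⟨_, hwmem, hwne⟩
  haveI := hM
  let ρ : G →* E := (SemidirectProduct.inr : A →* E).comp φ.rangeRestrict
  refine ⟨L.comap ρ, ((e.toMonoidHom.comp (QuotientGroup.mk' (M.subgroupOf L))).comp
    (ρ.subgroupComap L)), ?_, fun c hc => ?_⟩
  · refine e.surjective.comp ((QuotientGroup.mk'_surjective _).comp ?_)
    rintro ⟨l, hl⟩
    obtain ⟨⟨_, a, rfl⟩, rfl⟩ := hLH hl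
    exact ⟨⟨a, hl⟩, rfl⟩
  · have h1 : ρ c = 1 := by
      have hφ : φ.rangeRestrict c = 1 := Subtype.ext (MulEquiv.ext fun v => Subtype.ext (by
        show (φ c v : G) = v
        simp only [φ, MulAut.conjNormal_apply]
        rw [← Subgroup.mem_centralizer_iff.1 hc v v.2, mul_inv_cancel_right]))
      show SemidirectProduct.inr (φ.rangeRestrict c) = (1 : E)
      rw [hφ, map_one]
    refine ⟨by show ρ c ∈ L; rw [h1]; exact one_mem L, ?_⟩
    show e (QuotientGroup.mk' (M.subgroupOf L) _) = 1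
    rw [show (ρ.subgroupComap L) ⟨c, _⟩ = (1 : L) from Subtype.ext h1, map_one, map_one]

/-- The normalizer form of stability from the absence of `SL₂(p)` in the automizers. -/
theorem isNormalizerPStable_of_automizer_free (hp2 : p ≠ 2)
    (hfree : ∀ Q : Subgroup G, IsPGroup p ↥Q → ¬ ∃ (H K : Subgroup G) (_ : (K.subgroupOf H).Normal),
      Subgroup.centralizer (Q : Set G) ≤ K ∧ K ≤ H ∧ H ≤ Subgroup.normalizer (Q : Set G) ∧
      Nonempty ((↥H ⧸ K.subgroupOf H) ≃* Matrix.SpecialLinearGroup (Fin 2) (ZMod p))) :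
    Cfsg.IsNormalizerPStable p G := by
  intro Q hQ g hgN hq
  set N := Subgroup.normalizer (Q : Set G) with hN
  by_contra hcon
  set P := Q.subgroupOf N with hP
  have hQN : Q ≤ N := Subgroup.le_normalizer
  haveI : P.Normal := Subgroup.normal_in_normalizer
  have hPp : IsPGroup p P := hQ.comap_subtype
  have hcent : Subgroup.centralizer ((P : Subgroup N) : Set N) =
      (Subgroup.centralizer (Q : Set G)).subgroupOf N := by
    ext x
    rw [Subgroup.mem_centralizer_iff, Subgroup.mem_subgroupOf, Subgroup.mem_centralizer_iff]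
    exact ⟨fun h y hy => congrArg Subtype.val (h ⟨y, hQN hy⟩ hy),
      fun h y hy => Subtype.ext (h y hy)⟩
  have hg0 : (QuotientGroup.mk (⟨g, hgN⟩ : N) : N ⧸ Subgroup.centralizer (P : Set N)) ∉
      Cfsg.pCore p (N ⧸ Subgroup.centralizer (P : Set N)) := by
    rw [mk_mem_pCore_congr hcent]; exact hcon
  have hqP : ⁅⁅P, Subgroup.zpowers (⟨g, hgN⟩ : N)⁆, Subgroup.zpowers (⟨g, hgN⟩ : N)⁆ = ⊥ := by
    refine (Subgroup.map_eq_bot_iff_of_injective _ N.subtype_injective).1 ?_
    rw [Subgroup.map_commutator, Subgroup.map_commutator, MonoidHom.map_zpowers,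
      hP, Subgroup.subgroupOf_map_subtype, inf_eq_left.2 hQN]
    exact hq
  obtain ⟨U, W, hc, -, hUP, hne⟩ := exists_chief_of_not_mem_trivBetween
    (show (⟨g, hgN⟩ : N) ∉ trivBetween ⊥ P from fun h => hg0 (trivBetween_le_comap_pCore hPp h))
  obtain ⟨hlt, hUn, hWn, hmin⟩ := hc
  haveI := hUn
  haveI := hWn
  set π := QuotientGroup.mk' W
  have hπ : Function.Surjective π := QuotientGroup.mk'_surjective W
  haveI : (U.map π).Normal := Subgroup.Normal.map hUn π hπ
  have hmin' : ∀ M : Subgroup (N ⧸ W), M.Normal → M ≤ U.map π → M = ⊥ ∨ M = U.map π := by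
    intro M hM hMU
    rcases hmin (M.comap π) inferInstance (fun v hv => by
        show π v ∈ M
        rw [show π v = 1 from (QuotientGroup.eq_one_iff v).2 hv]
        exact one_mem _) (fun x hx => by
        obtain ⟨u, hu, he⟩ := hMU (show π x ∈ M from hx)
        have hmem : u⁻¹ * x ∈ W := QuotientGroup.eq.1 he
        simpa using mul_mem hu (hlt.le hmem)) with h | h
    · left
      rw [← Subgroup.map_comap_eq_self_of_surjective hπ M, h]
      exact QuotientGroup.map_mk'_self W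
    · right
      rw [← Subgroup.map_comap_eq_self_of_surjective hπ M, h]
  have hq' : ∀ v ∈ U.map π, ⁅⁅v, π ⟨g, hgN⟩⁆, π ⟨g, hgN⟩⁆ = 1 := by
    rintro _ ⟨u, hu, rfl⟩
    rw [← map_commutatorElement, ← map_commutatorElement,
      show ⁅⁅u, (⟨g, hgN⟩ : N)⁆, (⟨g, hgN⟩ : N)⁆ = 1 from Subgroup.mem_bot.1 (hqP ▸
        Subgroup.commutator_mem_commutator
          (Subgroup.commutator_mem_commutator (hUP hu) (Subgroup.mem_zpowers _))
          (Subgroup.mem_zpowers _)), map_one]
  have hg' : π ⟨g, hgN⟩ ∉ Subgroup.centralizer (U.map π : Set (N ⧸ W)) := by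
    intro hcen
    refine hne (Subgroup.commutator_le.2 fun u hu z hz => ?_)
    rw [← QuotientGroup.ker_mk' W, MonoidHom.mem_ker, map_commutatorElement,
      commutatorElement_eq_one_iff_mul_comm]
    obtain ⟨i, rfl⟩ := Subgroup.mem_zpowers_iff.1 hz
    rw [map_zpow]
    exact Subgroup.mem_centralizer_iff.1 (zpow_mem hcen i) (π u) ⟨u, hu, rfl⟩
  obtain ⟨H₁, f₁, hf₁, hc₁⟩ := sl2_section_of_minimal hp2 ((hPp.to_le hUP).map π) hmin' hq' hg'
  -- pull back to the normalizer, then to `G`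
  set H₂ := (H₁.comap π).map N.subtype with hH₂
  let e₂ := (H₁.comap π).equivMapOfInjective N.subtype N.subtype_injective
  let f : H₂ →* Matrix.SpecialLinearGroup (Fin 2) (ZMod p) :=
    (f₁.comp (π.subgroupComap H₁)).comp e₂.symm.toMonoidHom
  have hfs : Function.Surjective f := by
    refine (hf₁.comp ?_).comp e₂.symm.surjective
    rintro ⟨v, hv⟩
    obtain ⟨n, rfl⟩ := hπ v
    exact ⟨⟨n, hv⟩, rfl⟩
  set K := f.ker.map H₂.subtype with hK
  have hker : K.subgroupOf H₂ = f.ker := Subgroup.comap_map_eq_self_of_injective H₂.subtype_injective _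
  haveI hKn : (K.subgroupOf H₂).Normal := hker.symm ▸ f.normal_ker
  refine hfree Q hQ ⟨H₂, K, hKn, fun c hc => ?_, Subgroup.map_subtype_le _, Subgroup.map_subtype_le _,
    ⟨(QuotientGroup.quotientMulEquivOfEq hker).trans (QuotientGroup.quotientKerEquivOfSurjective f hfs)⟩⟩
  have hcN : c ∈ N := Subgroup.centralizer_le_normalizer _ hc
  obtain ⟨hcH, hfc⟩ := hc₁ (π ⟨c, hcN⟩) (Subgroup.mem_centralizer_iff.2 (by
    rintro _ ⟨u, hu, rfl⟩
    rw [← map_mul, ← map_mul, show u * ⟨c, hcN⟩ = ⟨c, hcN⟩ * u from Subtype.ext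
      (Subgroup.mem_centralizer_iff.1 hc _ (hUP hu))]))
  refine ⟨e₂ ⟨⟨c, hcN⟩, hcH⟩, ?_, rfl⟩
  show f₁ (π.subgroupComap H₁ (e₂.symm (e₂ _))) = 1
  rw [MulEquiv.symm_apply_apply]
  exact hfc

end Cfsg.Agent.Fusion
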