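import Cfsg.Agent.Lib.Fusion.ZJControl

/-!
Glauberman's theorem for a family of abelian subgroups with invariance and replacement.
-/

set_option autoImplicit false

open scoped commutatorElement

universe u

namespace Cfsg.Agent.Fusion

/-- The intersection of the members inside `Q`. -/
def zIn {G : Type*} [Group G] (𝒜 : Set (Subgroup G)) (Q : Subgroup G) : Subgroup G :=
  sInf {A | A ∈ 𝒜 ∧ A ≤ Q}

/-- A family of abelian subgroups of `P` with invariance and replacement. -/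
structure GlaubFamily {G : Type*} [Group G] (P : Subgroup G) (𝒜 : Set (Subgroup G)) : Prop where
  mem : ∀ A ∈ 𝒜, A ≤ P ∧ IsMulCommutative A
  nonempty : 𝒜.Nonempty
  inv : ∀ Q : Subgroup G, Q ≤ P → (∃ A ∈ 𝒜, A ≤ Q) → ∀ g ∈ Subgroup.normalizer (Q : Set G),
    ∀ x ∈ zIn 𝒜 Q, g * x * g⁻¹ ∈ zIn 𝒜 Q
  repl : ∀ B : Subgroup G, B ≤ P → P ≤ Subgroup.normalizer (B : Set G) → ⁅⁅B, B⁆, B⁆ = ⊥ →
    (∃ A ∈ 𝒜, ⁅B, B⁆ ≤ A ∧ ¬ B ≤ A) →
    ∃ A ∈ 𝒜, ⁅B, B⁆ ≤ A ∧ ¬ B ≤ A ∧ B ≤ Subgroup.normalizer (A : Set G)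

namespace GlaubFamily

variable {G : Type*} [Group G] {P : Subgroup G} {𝒜 : Set (Subgroup G)}

theorem zIn_eq (h : GlaubFamily P 𝒜) : zIn 𝒜 P = sInf 𝒜 :=
  congrArg sInf (Set.ext fun A => ⟨fun hA => hA.1, fun hA => ⟨hA, (h.mem A hA).1⟩⟩)

theorem zIn_le (h : GlaubFamily P 𝒜) : zIn 𝒜 P ≤ P := by
  obtain ⟨A, hA⟩ := h.nonempty
  exact (sInf_le ⟨hA, (h.mem A hA).1⟩ : zIn 𝒜 P ≤ A).trans (h.mem A hA).1

theorem zIn_comm (h : GlaubFamily P 𝒜) : IsMulCommutative (zIn 𝒜 P) := by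
  obtain ⟨A, hA⟩ := h.nonempty
  exact isMulCommutative_of_le (h.mem A hA).2 (sInf_le ⟨hA, (h.mem A hA).1⟩)

theorem normalizer_le [Finite G] (h : GlaubFamily P 𝒜) {Q : Subgroup G} (hQ : Q ≤ P)
    (hA : ∃ A ∈ 𝒜, A ≤ Q) :
    Subgroup.normalizer (Q : Set G) ≤ Subgroup.normalizer (zIn 𝒜 Q : Set G) := fun g hg =>
  mem_normalizer_of_cj_le (by
    rintro _ ⟨x, hx, rfl⟩
    exact h.inv Q hQ hA g hg x hx)

theorem le_normalizer [Finite G] (h : GlaubFamily P 𝒜) :
    P ≤ Subgroup.normalizer (zIn 𝒜 P : Set G) :=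
  Subgroup.le_normalizer.trans (h.normalizer_le le_rfl (h.nonempty.imp fun A hA => ⟨hA, (h.mem A hA).1⟩))

end GlaubFamily

variable {G : Type*} [Group G] [Finite G] {p : ℕ} [hp : Fact p.Prime]

theorem inf_zIn_normal (S : Sylow p G) {𝒜 : Set (Subgroup G)} (h𝒜 : GlaubFamily (S : Subgroup G) 𝒜)
    (hst : ∀ (P : Subgroup G) [P.Normal], IsPGroup p P → IsPStableOn p P)
    (B : Subgroup G) [B.Normal] (hB : IsPGroup p B) : (B ⊓ zIn 𝒜 (S : Subgroup G)).Normal := by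
  suffices key : ∀ n, ∀ B : Subgroup G, B.Normal → IsPGroup p B → Nat.card B = n →
      (B ⊓ zIn 𝒜 (S : Subgroup G)).Normal from key _ B inferInstance hB rfl
  intro n
  induction n using Nat.strong_induction_on with
  | _ n ih =>
  intro B hBnormal hB hn
  haveI := hBnormal
  subst hn
  set Z := zIn 𝒜 (S : Subgroup G)
  set Y := B ⊓ Z with hY
  by_contra hYn
  have hsmall : ∀ B₀ : Subgroup G, B₀.Normal → B₀ < B → (B₀ ⊓ Z).Normal := fun B₀ h1 h2 =>
    ih _ (replacement_property.card_lt_card_of_lt h2) B₀ h1 (hB.to_le h2.le) rfl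
  have hBS : B ≤ S := hB.le_sylow_of_normal S
  have hSZ : (S : Subgroup G) ≤ Subgroup.normalizer (Z : Set G) := h𝒜.le_normalizer
  have hSY : (S : Subgroup G) ≤ Subgroup.normalizer (Y : Set G) := fun s hs => by
    refine mem_normalizer_iff_cj.2 ?_
    rw [hY, cj_inf, cj_of_normal, cj_eq_self (hSZ hs)]
  have hYB : Y ≤ B := inf_le_left
  have hgen : Subgroup.normalClosure (Y : Set G) = B := by
    refine (Subgroup.normalClosure_le_normal hYB).antisymm ?_
    by_contra hcon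
    set B₁ := Subgroup.normalClosure (Y : Set G)
    have h := hsmall B₁ inferInstance
      (lt_of_le_not_ge (Subgroup.normalClosure_le_normal hYB) hcon)
    have e : B₁ ⊓ Z = Y :=
      le_antisymm (inf_le_inf_right _ (Subgroup.normalClosure_le_normal hYB))
        (le_inf Subgroup.le_normalClosure inf_le_right)
    exact hYn (e ▸ h)
  have hBne : B ≠ ⊥ := by
    rintro rfl
    exact hYn (by rw [hY, bot_inf_eq]; infer_instance)
  haveI : Nontrivial B := B.nontrivial_iff_ne_bot.2 hBne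
  have hder : ⁅B, B⁆ < B := by
    haveI := hB.isNilpotent
    refine lt_of_le_of_ne (Subgroup.commutator_le_left B B) fun h => ?_
    have hlt : commutator ↥B < ⊤ :=
      Group.IsSolvable.commutator_lt_top_of_nontrivial B
    refine hlt.ne (Subgroup.map_injective B.subtype_injective ?_)
    rw [← MonoidHom.range_eq_map, B.range_subtype, commutator_def, Subgroup.map_commutator,
      ← MonoidHom.range_eq_map, B.range_subtype]
    exact h
  set N₀ := ⁅B, B⁆ ⊓ Z with hN₀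
  haveI : N₀.Normal := hsmall _ inferInstance hder
  have hBBZ : ⁅B, B⁆ ≤ Z := by
    refine le_trans ?_ (inf_le_right : N₀ ≤ Z)
    set M := (Subgroup.centralizer ((B.map (QuotientGroup.mk' N₀)) : Set (G ⧸ N₀))).comap
      (QuotientGroup.mk' N₀)
    haveI : (B.map (QuotientGroup.mk' N₀)).Normal :=
      Subgroup.Normal.map inferInstance _ (QuotientGroup.mk'_surjective N₀)
    have hmem : ∀ x, x ∈ M ↔ ∀ y ∈ B, ⁅x, y⁆ ∈ N₀ := fun x => by
      simp only [M, Subgroup.mem_comap, Subgroup.mem_centralizer_iff, SetLike.mem_coe,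
        Subgroup.mem_map, forall_exists_index, and_imp, forall_apply_eq_imp_iff₂]
      refine forall₂_congr fun y _ => ?_
      rw [← (QuotientGroup.eq_one_iff (N := N₀) ⁅x, y⁆), ← QuotientGroup.mk'_apply,
        map_commutatorElement, commutatorElement_eq_one_iff_mul_comm, eq_comm]
    have hYM : Y ≤ M := fun y hy => (hmem y).2 fun x hx => by
      refine ⟨Subgroup.commutator_mem_commutator hy.1 hx, ?_⟩
      rw [commutatorElement_def, mul_assoc y, mul_assoc y]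
      exact mul_mem hy.2 ((Subgroup.mem_normalizer_iff.1 (hSZ (hBS hx)) _).1 (inv_mem hy.2))
    rw [Subgroup.commutator_le]
    intro x hx y hy
    exact (hmem x).1 (Subgroup.normalClosure_le_normal hYM (hgen.ge hx)) y hy
  have hclass : ⁅⁅B, B⁆, B⁆ = ⊥ := by
    rw [Subgroup.commutator_eq_bot_iff_le_centralizer, Subgroup.le_centralizer_iff]
    refine hgen.ge.trans (Subgroup.normalClosure_le_normal ?_)
    intro y hy
    refine Subgroup.mem_centralizer_iff.2 fun z hz => ?_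
    exact congrArg Subtype.val (h𝒜.zIn_comm.1.1 ⟨z, hBBZ hz⟩ ⟨y, hy.2⟩)
  -- the stabilised subgroup
  set C := Subgroup.centralizer (B : Set G)
  set D₁ := (pCore p (G ⧸ C)).comap (QuotientGroup.mk' C)
  have hD₁ : D₁ ≤ Subgroup.normalizer (Y : Set G) := by
    intro x hx
    set Sb := S.mapSurjective (QuotientGroup.mk'_surjective C)
    have hx' : QuotientGroup.mk' C x ∈ (Sb : Subgroup (G ⧸ C)) := pCore_le_sylow Sb hx
    rw [Sylow.coe_mapSurjective] at hx'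
    obtain ⟨s, hs, he⟩ := hx'
    have hc : s⁻¹ * x ∈ C := QuotientGroup.eq.1 he
    rw [show x = s * (s⁻¹ * x) by group]
    refine mul_mem (hSY hs) ?_
    refine mem_normalizer_of_cj_le ?_
    rintro _ ⟨y, hy, rfl⟩
    show s⁻¹ * x * y * (s⁻¹ * x)⁻¹ ∈ Y
    rwa [(mem_centralizer_set.1 hc) y (hYB hy)]
  set L := (Subgroup.normalizer (Y : Set G)).normalCore
  have hD₁L : D₁ ≤ L := Subgroup.normal_le_normalCore.2 hD₁
  have hBL : B ≤ L := Subgroup.normal_le_normalCore.2 (hBS.trans hSY)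
  -- a member not containing `B` in `L`
  obtain ⟨U, hU, hBU⟩ : ∃ U ∈ 𝒜, ¬ B ≤ U := by
    by_contra hall
    push Not at hall
    refine hYn ?_
    rw [show Y = B from inf_eq_left.2 (le_sInf fun A hA => hall A hA.1)]
    infer_instance
  have hmemle : ∀ A ∈ 𝒜, Z ≤ A := fun A hA => sInf_le ⟨hA, (h𝒜.mem A hA).1⟩
  obtain ⟨A, hA, -, hBA, hBN⟩ := h𝒜.repl B hBS (by rw [Subgroup.normalizer_eq_top]; exact le_top) hclass
    ⟨U, hU, hBBZ.trans (hmemle U hU), hBU⟩
  set T := (S : Subgroup G) ⊓ L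
  have hT : SylIn p T L := (sylIn_top S).inf_normal le_top (by rw [Subgroup.normalizer_eq_top])
  have hAT : A ≤ T := le_inf (h𝒜.mem A hA).1
    fun a ha => hD₁L (mem_of_quadratic_stable (hst B hB) (h𝒜.mem A hA).2 hBN ha)
  set W := B ⊓ zIn 𝒜 T with hW
  have hYW : Y ≤ W := le_inf hYB (inf_le_right.trans
    (sInf_le_sInf fun X hX => ⟨hX.1, hX.2.trans inf_le_left⟩))
  have hNW : Subgroup.normalizer (T : Set G) ≤ Subgroup.normalizer (W : Set G) := fun g hg => by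
    refine mem_normalizer_iff_cj.2 ?_
    rw [hW, cj_inf, cj_of_normal, cj_eq_self (h𝒜.normalizer_le inf_le_left ⟨A, hA, hAT⟩ hg)]
  have hdec : ∀ g : G, ∃ n ∈ Subgroup.normalizer (T : Set G), ∃ l ∈ L, g = n * l := by
    intro g
    obtain ⟨l, hl, he⟩ := (hT.cj' (g := g⁻¹)
      (by rw [Subgroup.normalizer_eq_top]; exact Subgroup.mem_top _)).conj_eq hT
    refine ⟨(l * g⁻¹)⁻¹, inv_mem (mem_normalizer_iff_cj.2 ?_), l, hl, by group⟩
    rw [← cj_cj]; exact he
  have hBW : B ≤ W := by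
    rw [← hgen, Subgroup.normalClosure, Subgroup.closure_le]
    intro x hx
    rw [Group.mem_conjugatesOfSet_iff] at hx
    obtain ⟨y, hy, hxy⟩ := hx
    obtain ⟨g, rfl⟩ := isConj_iff.1 hxy
    obtain ⟨m, hm, l, hl, rfl⟩ := hdec g
    have hly : l * y * l⁻¹ ∈ Y :=
      (Subgroup.mem_normalizer_iff.1 (Subgroup.normalCore_le _ hl) y).1 hy
    have := (Subgroup.mem_normalizer_iff.1 (hNW hm) _).1 (hYW hly)
    rw [show m * l * y * (m * l)⁻¹ = m * (l * y * l⁻¹) * m⁻¹ by group]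
    exact this
  exact hBA (hBW.trans (inf_le_right.trans (sInf_le ⟨hA, hAT⟩)))

/-- **Glauberman's theorem for a family.** -/
theorem zIn_normal (S : Sylow p G) {𝒜 : Set (Subgroup G)} (h𝒜 : GlaubFamily (S : Subgroup G) 𝒜)
    (hc : Subgroup.centralizer (pCore p G : Set G) ≤ pCore p G)
    (hst : ∀ (P : Subgroup G) [P.Normal], IsPGroup p P → IsPStableOn p P) :
    (zIn 𝒜 (S : Subgroup G)).Normal := by
  have hle : zIn 𝒜 (S : Subgroup G) ≤ pCore p G := by
    intro z hz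
    set Q := pCore p G
    set C := Subgroup.centralizer (Q : Set G)
    have hzD := mem_of_quadratic_stable (hst Q (isPGroup_pCore p G)) h𝒜.zIn_comm
      ((pCore_le_sylow S).trans h𝒜.le_normalizer) hz
    refine le_pCore (N := (pCore p (G ⧸ C)).comap (QuotientGroup.mk' C)) ?_ hzD
    exact (isPGroup_pCore p _).comap_of_ker_isPGroup (QuotientGroup.mk' C)
      (by rw [QuotientGroup.ker_mk']; exact (isPGroup_pCore p G).to_le hc)
  have h := inf_zIn_normal S h𝒜 hst (pCore p G) (isPGroup_pCore p G)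
  rwa [inf_eq_right.2 hle] at h

/-- A family transported by an injective map. -/
theorem GlaubFamily.map {H : Type*} [Group H] {G : Type*} [Group G] (f : H →* G) (hf : Function.Injective f)
    {P : Subgroup H} {𝒜 : Set (Subgroup H)} (hmem : ∀ A ∈ 𝒜, A ≤ P ∧ IsMulCommutative A) (hne : 𝒜.Nonempty)
    (hinv : ∀ Q : Subgroup H, Q ≤ P → (∃ A ∈ 𝒜, A ≤ Q) → ∀ g ∈ Subgroup.normalizer (Q.map f : Set G),
      ∀ x ∈ zIn 𝒜 Q, g * f x * g⁻¹ ∈ (zIn 𝒜 Q).map f)
    (hrep : ∀ B : Subgroup H, B ≤ P → P ≤ Subgroup.normalizer (B : Set H) → ⁅⁅B, B⁆, B⁆ = ⊥ →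
      (∃ A ∈ 𝒜, ⁅B, B⁆ ≤ A ∧ ¬ B ≤ A) →
      ∃ A ∈ 𝒜, ⁅B, B⁆ ≤ A ∧ ¬ B ≤ A ∧ B ≤ Subgroup.normalizer (A : Set H)) :
    GlaubFamily (P.map f) ((fun A => A.map f) '' 𝒜) ∧
      ∀ Q : Subgroup H, (∃ A ∈ 𝒜, A ≤ Q) → zIn ((fun A => A.map f) '' 𝒜) (Q.map f) = (zIn 𝒜 Q).map f := by
  have hle : ∀ {A B : Subgroup H}, A.map f ≤ B.map f ↔ A ≤ B := Subgroup.map_le_map_iff_of_injective hf
  have hz : ∀ Q : Subgroup H, (∃ A ∈ 𝒜, A ≤ Q) →
      zIn ((fun A => A.map f) '' 𝒜) (Q.map f) = (zIn 𝒜 Q).map f := by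
    rintro Q ⟨A₀, hA₀, hA₀Q⟩
    ext x
    simp only [zIn, Subgroup.mem_sInf, Subgroup.mem_map]
    constructor
    · intro hx
      obtain ⟨y, -, rfl⟩ := Subgroup.mem_map.1 (hx (A₀.map f) ⟨⟨A₀, hA₀, rfl⟩, hle.2 hA₀Q⟩)
      exact ⟨y, fun A hA => (Subgroup.mem_map_iff_mem hf).1 (hx (A.map f) ⟨⟨A, hA.1, rfl⟩, hle.2 hA.2⟩), rfl⟩
    · rintro ⟨y, hy, rfl⟩ _ ⟨⟨A, hA, rfl⟩, hAQ⟩
      exact Subgroup.mem_map_of_mem f (hy A ⟨hA, hle.1 hAQ⟩)
  refine ⟨⟨?_, hne.image _, ?_, ?_⟩, hz⟩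
  · rintro _ ⟨A, hA, rfl⟩
    exact ⟨hle.2 (hmem A hA).1, isMulCommutative_map f (hmem A hA).2⟩
  · rintro Q' hQ' ⟨_, ⟨A, hA, rfl⟩, hAQ⟩ g hg x hx
    obtain ⟨Q, hQ, rfl⟩ : ∃ Q ≤ P, Q.map f = Q' := ⟨Q'.comap f, fun y hy => (Subgroup.mem_map_iff_mem hf).1 (hQ' hy),
      Subgroup.map_comap_eq_self (hQ'.trans (Subgroup.map_le_range f P))⟩
    have hQA : ∃ A ∈ 𝒜, A ≤ Q := ⟨A, hA, hle.1 hAQ⟩
    rw [hz Q hQA] at hx ⊢
    obtain ⟨y, hy, rfl⟩ := hx
    exact hinv Q hQ hQA g hg y hy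
  · rintro B' hB' hPB hcl ⟨_, ⟨A, hA, rfl⟩, hBA, hnA⟩
    obtain ⟨B, hB, rfl⟩ : ∃ B ≤ P, B.map f = B' := ⟨B'.comap f, fun y hy => (Subgroup.mem_map_iff_mem hf).1 (hB' hy),
      Subgroup.map_comap_eq_self (hB'.trans (Subgroup.map_le_range f P))⟩
    have hN : ∀ {X Y : Subgroup H}, X.map f ≤ Subgroup.normalizer (Y.map f : Set G) ↔
        X ≤ Subgroup.normalizer (Y : Set H) := by
      intro X Y
      refine ⟨fun h x hx => Subgroup.mem_normalizer_iff.2 fun y => ?_, fun h => le_trans (Subgroup.map_mono h) (Subgroup.le_normalizer_map f)⟩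
      rw [← Subgroup.mem_map_iff_mem hf (K := Y), ← Subgroup.mem_map_iff_mem hf (K := Y) (x := x * y * x⁻¹),
        map_mul, map_mul, map_inv]
      exact Subgroup.mem_normalizer_iff.1 (h ⟨x, hx, rfl⟩) (f y)
    rw [← Subgroup.map_commutator] at hBA
    obtain ⟨A', hA', h1, h2, h3⟩ := hrep B hB (hN.1 hPB) (Subgroup.map_injective hf (by
      rw [Subgroup.map_commutator, Subgroup.map_commutator, hcl, Subgroup.map_bot]))
      ⟨A, hA, hle.1 hBA, fun h => hnA (hle.2 h)⟩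
    exact ⟨_, ⟨A', hA', rfl⟩, by rw [← Subgroup.map_commutator]; exact hle.2 h1, fun h => h2 (hle.1 h), hN.2 h3⟩

/-- A constrained group in which the family's intersection has normalizer in the Sylow subgroup is a `p`-group. -/
theorem eq_top_of_glaub (hp2 : p ≠ 2) : ∀ (n : ℕ) (L : Type u) [Group L] [Finite L] (P : Sylow p L)
    (𝒜 : Set (Subgroup L)), Nat.card L = n → GlaubFamily (P : Subgroup L) 𝒜 →
    Subgroup.centralizer (pCore p L : Set L) ≤ pCore p L →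
    Subgroup.normalizer (zIn 𝒜 (P : Subgroup L) : Set L) ≤ P → (P : Subgroup L) = ⊤ := by
  intro n
  induction n using Nat.strong_induction_on with
  | _ n ih =>
  intro L _ _ P 𝒜 hn h𝒜 hc hN
  by_contra hne
  set Q := pCore p L
  have hQP : Q ≤ (P : Subgroup L) := pCore_le_sylow P
  have hco : IsCoatom (P : Subgroup L) := by
    refine ⟨hne, fun X hX => ?_⟩
    by_contra hXtop
    have hPX := hX.le
    have hmap : (P.subtype hPX : Subgroup X).map X.subtype = (P : Subgroup L) := by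
      rw [Sylow.coe_subtype, Subgroup.map_subgroupOf_eq_of_le hPX]
    set 𝒜' : Set (Subgroup X) := (fun A => A.subgroupOf X) '' 𝒜
    have hback : ∀ A ∈ 𝒜, (A.subgroupOf X).map X.subtype = A := fun A hA =>
      Subgroup.map_subgroupOf_eq_of_le ((h𝒜.mem A hA).1.trans hPX)
    have e𝒜 : (fun A : Subgroup X => A.map X.subtype) '' 𝒜' = 𝒜 := by
      rw [← Set.image_comp]
      refine Set.ext fun A => ⟨?_, fun hA => ⟨A, hA, hback A hA⟩⟩
      rintro ⟨A, hA, rfl⟩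
      show (A.subgroupOf X).map X.subtype ∈ 𝒜
      rwa [hback A hA]
    have hN' : ∀ {Y Z : Subgroup X}, Y.map X.subtype ≤ Subgroup.normalizer (Z.map X.subtype : Set L) →
        Y ≤ Subgroup.normalizer (Z : Set X) := fun {Y Z} h x hx => Subgroup.mem_normalizer_iff.2 fun y => by
      rw [← Subgroup.mem_map_iff_mem X.subtype_injective (K := Z),
        ← Subgroup.mem_map_iff_mem X.subtype_injective (K := Z) (x := x * y * x⁻¹)]
      exact Subgroup.mem_normalizer_iff.1 (h ⟨x, hx, rfl⟩) (y : L)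
    have hcomm : ∀ A ∈ 𝒜, IsMulCommutative (A.subgroupOf X) := fun A hA => ⟨⟨fun x y => Subtype.ext (Subtype.ext
      (congrArg Subtype.val ((h𝒜.mem A hA).2.1.1 ⟨_, x.2⟩ ⟨_, y.2⟩) :))⟩⟩
    have hz : ∀ Y : Subgroup X, (∃ A ∈ 𝒜', A ≤ Y) → (zIn 𝒜' Y).map X.subtype = zIn 𝒜 (Y.map X.subtype) := by
      rintro Y ⟨A₀, hA₀, hA₀Y⟩
      ext x
      simp only [zIn, Subgroup.mem_sInf, Subgroup.mem_map]
      constructor
      · rintro ⟨y, hy, rfl⟩ A ⟨hA, hAY⟩
        refine hy (A.subgroupOf X) ⟨⟨A, hA, rfl⟩, ?_⟩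
        rw [← Subgroup.map_le_map_iff_of_injective X.subtype_injective, hback A hA]
        exact hAY
      · intro hx
        obtain ⟨A, hA, rfl⟩ := hA₀
        have hxA := hx A ⟨hA, by rw [← hback A hA]; exact Subgroup.map_mono hA₀Y⟩
        refine ⟨⟨x, (h𝒜.mem A hA).1.trans hPX hxA⟩, ?_, rfl⟩
        rintro _ ⟨⟨A', hA', rfl⟩, hA'Y⟩
        exact hx A' ⟨hA', by rw [← hback A' hA']; exact Subgroup.map_mono hA'Y⟩
    have h𝒜' : GlaubFamily (P.subtype hPX : Subgroup X) 𝒜' := by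
      refine ⟨?_, h𝒜.nonempty.image _, fun Y hY hA g hg x hx => ?_, fun B hB hPB hcl hA => ?_⟩
      · rintro _ ⟨A, hA, rfl⟩
        exact ⟨Subgroup.comap_mono (h𝒜.mem A hA).1, hcomm A hA⟩
      · rw [← Subgroup.mem_map_iff_mem X.subtype_injective, hz Y hA]
        obtain ⟨A', ⟨A, hA', rfl⟩, hAY⟩ := hA
        refine h𝒜.inv _ ((Subgroup.map_mono hY).trans hmap.le) ⟨A, hA', ?_⟩ _
          (Subgroup.le_normalizer_map X.subtype ⟨g, hg, rfl⟩) _ ?_
        · rw [← hback A hA']; exact Subgroup.map_mono hAY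
        · rw [← hz Y ⟨_, ⟨A, hA', rfl⟩, hAY⟩]; exact ⟨x, hx, rfl⟩
      · obtain ⟨A', ⟨A, hA, rfl⟩, hBA, hnA⟩ := hA
        obtain ⟨R, hR, h1, h2, h3⟩ := h𝒜.repl (B.map X.subtype) ((Subgroup.map_mono hB).trans hmap.le)
          (hmap ▸ (Subgroup.map_mono hPB).trans (Subgroup.le_normalizer_map X.subtype))
          (by rw [← Subgroup.map_commutator, ← Subgroup.map_commutator, hcl, Subgroup.map_bot])
          ⟨A, hA, by rw [← hback A hA, ← Subgroup.map_commutator]; exact Subgroup.map_mono hBA,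
            fun h => hnA fun b hb => h ⟨b, hb, rfl⟩⟩
        refine ⟨_, ⟨R, hR, rfl⟩, ?_, fun h => h2 (by rw [← hback R hR]; exact Subgroup.map_mono h), hN' ?_⟩
        · rw [← Subgroup.map_commutator] at h1
          exact Subgroup.map_le_iff_le_comap.1 h1
        · rw [hback R hR]; exact h3
    have hQX := hQP.trans hPX
    have hpc : Q.subgroupOf X ≤ pCore p X := le_pCore ((isPGroup_pCore p L).comap_subtype)
    have hXP := ih (Nat.card X) (hn ▸ lt_of_le_of_ne (Subgroup.card_le_card_group X)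
      fun h => hXtop (Subgroup.eq_top_of_card_eq X h)) X (P.subtype hPX) 𝒜' rfl h𝒜'
      (fun x hx => hpc (Subgroup.mem_subgroupOf.2 (hc (Subgroup.mem_centralizer_iff.2 fun q hq => by
        exact congrArg Subtype.val (Subgroup.mem_centralizer_iff.1 hx ⟨q, hQX hq⟩ (hpc (Subgroup.mem_subgroupOf.2 hq)))))))
      (fun x hx => Subgroup.mem_subgroupOf.2 (hN (by
        have h1 := Subgroup.le_normalizer_map X.subtype ⟨x, hx, rfl⟩
        rwa [hz _ (h𝒜'.nonempty.imp fun A hA => ⟨hA, (h𝒜'.mem A hA).1⟩), hmap] at h1)))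
    refine hX.not_ge fun x hx => ?_
    exact (hXP ▸ Subgroup.mem_top _ : (⟨x, hx⟩ : X) ∈ (P.subtype hPX : Subgroup X))
  -- the quotient has a normal complement
  have hq : HasNormalPComplement p (L ⧸ Q) := by
    set π := QuotientGroup.mk' Q
    obtain ⟨T, hT⟩ := (sylIn_map_mk (N := Q) (sylIn_top P)).exists_sylow
    rcases eq_or_ne (T : Subgroup (L ⧸ Q)) ⊥ with hT1 | hT1
    · refine hnpc_of_not_dvd ?_
      have := T.not_dvd_index
      rwa [hT1, Subgroup.index_bot] at this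
    refine hnpc_of_stable_normal hp2 isCharPFunctor_wZA
      (fun _ _ _ h1 h2 T => centerThompsonAOf_normal hp2 h1 h2 T) T
      (hnpc_of_pgroup_quotient_pPrimeCore (IsPGroup.to_quotient ?_ _))
    set N := Subgroup.normalizer (inducedFunctor wZA (T : Subgroup (L ⧸ Q)) : Set (L ⧸ Q))
    have hcomap : (T : Subgroup (L ⧸ Q)).comap π = P := by
      rw [hT, QuotientGroup.comap_map_mk', sup_eq_right.2 hQP]
    have hle : (T : Subgroup (L ⧸ Q)) ≤ N :=
      sylow_le_normalizer_functor (isConjugacyFunctor_induced (isCharPFunctor_wZA (p := p))) T.2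
    rcases eq_or_lt_of_le (hcomap ▸ Subgroup.comap_mono hle : (P : Subgroup L) ≤ N.comap π) with h | h
    · refine T.2.to_le ?_
      rw [← Subgroup.map_comap_eq_self_of_surjective (QuotientGroup.mk'_surjective Q) N, ← h, hT]
    exfalso
    have hNtop : N = ⊤ := Subgroup.comap_injective (QuotientGroup.mk'_surjective Q)
      ((hco.2 _ h).trans (Subgroup.comap_top π).symm)
    haveI := Subgroup.normalizer_eq_top_iff.1 hNtop
    have h2 := le_pCore (p := p) (T.2.to_le (inducedFunctor_le wZA (T : Subgroup (L ⧸ Q))))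
    rw [pCore_quotient_eq_bot, le_bot_iff] at h2
    exact (isConjugacyFunctor_induced (isCharPFunctor_wZA (p := p)) _ T.2).2.1 hT1 h2
  haveI := zIn_normal P h𝒜 hc fun R _ hR => isPStableOn_of_normalizerPStable
    ((isAbelianLayered_of_coatom hq (sylIn_top P) hco).stable hp2) R hR
  refine hne (top_le_iff.1 (le_trans ?_ hN))
  rw [Subgroup.normalizer_eq_top]

end Cfsg.Agent.Fusion
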