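import Mathlib

/-!
The Baer trick: a group of class two and odd order carries an abelian group law invariant under
all automorphisms, with the same powers.
-/

set_option autoImplicit false

open scoped commutatorElement

namespace Cfsg.Agent.Fusion

variable {D : Type*} [Group D]

theorem comm_mul_left_of_class_two (h : commutator D ≤ Subgroup.center D) (a b c : D) :
    ⁅a * b, c⁆ = ⁅a, c⁆ * ⁅b, c⁆ := by
  have hm : ⁅b, c⁆ ∈ Subgroup.center D := h (Subgroup.commutator_mem_commutator (Subgroup.mem_top _) (Subgroup.mem_top _))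
  rw [show ⁅a * b, c⁆ = a * ⁅b, c⁆ * a⁻¹ * ⁅a, c⁆ by simp only [commutatorElement_def]; group,
    Subgroup.mem_center_iff.1 hm a, mul_inv_cancel_right, ← Subgroup.mem_center_iff.1 hm ⁅a, c⁆]

theorem comm_mul_right_of_class_two (h : commutator D ≤ Subgroup.center D) (a b c : D) :
    ⁅a, b * c⁆ = ⁅a, b⁆ * ⁅a, c⁆ := by
  have hm : ⁅a, c⁆ ∈ Subgroup.center D := h (Subgroup.commutator_mem_commutator (Subgroup.mem_top _) (Subgroup.mem_top _))
  rw [show ⁅a, b * c⁆ = ⁅a, b⁆ * (b * ⁅a, c⁆ * b⁻¹) by simp only [commutatorElement_def]; group,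
    Subgroup.mem_center_iff.1 hm b, mul_inv_cancel_right]

/-- the half exponent -/
noncomputable def bHalf (D : Type*) : ℕ := (Nat.card D + 1) / 2

theorem pow_bHalf_sq [Finite D] (hodd : Odd (Nat.card D)) (z : D) : z ^ bHalf D * z ^ bHalf D = z := by
  obtain ⟨k, hk⟩ := hodd
  have h2 : bHalf D + bHalf D = Nat.card D + 1 := by simp only [bHalf]; omega
  rw [← pow_add, h2, pow_succ, pow_card_eq_one', one_mul]

/-- The Baer product. -/
noncomputable def bMul (x y : D) : D := x * y * ⁅y, x⁆ ^ bHalf D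

theorem bMul_mem_center (h : commutator D ≤ Subgroup.center D) (x y : D) :
    ⁅y, x⁆ ^ bHalf D ∈ Subgroup.center D :=
  pow_mem (h (Subgroup.commutator_mem_commutator (Subgroup.mem_top _) (Subgroup.mem_top _))) _

theorem comm_central_left (h : commutator D ≤ Subgroup.center D) {z : D} (hz : z ∈ Subgroup.center D) (x y : D) :
    ⁅x * z, y⁆ = ⁅x, y⁆ := by
  rw [comm_mul_left_of_class_two h, commutatorElement_eq_one_iff_mul_comm.2 (Subgroup.mem_center_iff.1 hz y).symm, mul_one]

theorem comm_central_right (h : commutator D ≤ Subgroup.center D) {z : D} (hz : z ∈ Subgroup.center D) (x y : D) :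
    ⁅x, y * z⁆ = ⁅x, y⁆ := by
  rw [comm_mul_right_of_class_two h, commutatorElement_eq_one_iff_mul_comm.2 (Subgroup.mem_center_iff.1 hz x), mul_one]

theorem bMul_assoc (h : commutator D ≤ Subgroup.center D) (x y z : D) :
    bMul (bMul x y) z = bMul x (bMul y z) := by
  have hxy := bMul_mem_center h x y
  have hyz := bMul_mem_center h y z
  have hxz := bMul_mem_center h x z
  have hc : ∀ a b : D, Commute ⁅a, b⁆ ⁅b, a⁆ := fun a b => commutatorElement_inv a b ▸ Commute.inv_right rfl
  have hcm : ∀ a b c d : D, Commute ⁅a, b⁆ ⁅c, d⁆ := fun a b c d =>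
    Subgroup.mem_center_iff.1 (h (Subgroup.commutator_mem_commutator (Subgroup.mem_top c) (Subgroup.mem_top d))) _
  simp only [bMul]
  rw [comm_central_right h hxy z (x * y), comm_central_left h hyz (y * z) x,
    comm_mul_right_of_class_two h, comm_mul_left_of_class_two h, (hcm _ _ _ _).mul_pow, (hcm _ _ _ _).mul_pow]
  generalize hA : ⁅y, x⁆ ^ bHalf D = A at *
  generalize hB : ⁅z, y⁆ ^ bHalf D = B at *
  generalize hC : ⁅z, x⁆ ^ bHalf D = C at *
  have eA : ∀ w : D, A * w = w * A := fun w => (Subgroup.mem_center_iff.1 hxy w).symm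
  have eB : ∀ w : D, B * w = w * B := fun w => (Subgroup.mem_center_iff.1 hyz w).symm
  calc x * y * A * z * (C * B) = x * y * (A * z) * (C * B) := by group
    _ = x * y * z * (A * (C * B)) := by rw [eA z]; group
    _ = x * y * z * (B * (A * C)) := by rw [eB (A * C)]; group
    _ = _ := by group

theorem bMul_comm [Finite D] (h : commutator D ≤ Subgroup.center D) (hodd : Odd (Nat.card D)) (x y : D) :
    bMul x y = bMul y x := by
  simp only [bMul]
  have e : ⁅x, y⁆ = ⁅y, x⁆⁻¹ := (commutatorElement_inv y x).symm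
  have e2 : y * x = x * y * ⁅y, x⁆ := by
    have hc := Subgroup.mem_center_iff.1 (h (Subgroup.commutator_mem_commutator (Subgroup.mem_top y) (Subgroup.mem_top x))) (x * y)
    rw [hc, commutatorElement_def]
    group
  rw [e2, mul_assoc (x * y), e, inv_pow]
  congr 1
  rw [eq_mul_inv_iff_mul_eq]
  exact pow_bHalf_sq hodd _

theorem bMul_one_left (x : D) : bMul 1 x = x := by simp [bMul]

theorem bMul_inv_left (x : D) : bMul x⁻¹ x = 1 := by
  have : ⁅x, x⁻¹⁆ = 1 := by simp [commutatorElement_def]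
  simp [bMul, this]

theorem bMul_pow (x : D) (n : ℕ) : bMul (x ^ n) x = x ^ (n + 1) := by
  have : ⁅x, x ^ n⁆ = 1 := commutatorElement_eq_one_iff_mul_comm.2 (Commute.self_pow x n).eq
  simp [bMul, this, pow_succ]

theorem map_bMul (e : MulAut D) (x y : D) : e (bMul x y) = bMul (e x) (e y) := by
  simp [bMul, map_commutatorElement]

/-- wrapper type carrying the Baer law -/
@[ext] structure BaerGroup (D : Type*) where
  /-- the underlying element -/
  toD : D

/-- the wrapper is an equivalence -/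
def baerEquiv (D : Type*) : BaerGroup D ≃ D := ⟨BaerGroup.toD, BaerGroup.mk, fun _ => rfl, fun _ => rfl⟩

/-- the Baer law as a commutative group -/
@[reducible] noncomputable def baerCommGroup [Finite D] (h : commutator D ≤ Subgroup.center D) (hodd : Odd (Nat.card D)) :
    CommGroup (BaerGroup D) where
  mul x y := ⟨bMul x.toD y.toD⟩
  one := ⟨1⟩
  inv x := ⟨x.toD⁻¹⟩
  mul_assoc x y z := BaerGroup.ext (bMul_assoc h _ _ _)
  one_mul x := BaerGroup.ext (bMul_one_left _)
  mul_one x := BaerGroup.ext ((bMul_comm h hodd _ _).trans (bMul_one_left _))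
  inv_mul_cancel x := BaerGroup.ext (bMul_inv_left _)
  mul_comm x y := BaerGroup.ext (bMul_comm h hodd _ _)
  npow n x := ⟨x.toD ^ n⟩
  npow_zero x := BaerGroup.ext (pow_zero _)
  npow_succ n x := BaerGroup.ext (bMul_pow _ _).symm

/-- Averaging in the Baer group: if a p'-group `Q` acts nontrivially on a p-group `D` of class two, `p` odd,
and an operator p-group `A` normalises the action, then some element of order `p` fixed by `A` is not fixed by `Q`. -/
theorem exists_fixed_order_p_not_fixed {p : ℕ} [hp : Fact p.Prime] [Finite D] (hp2 : p ≠ 2)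
    (hD : IsPGroup p D) (h : commutator D ≤ Subgroup.center D)
    {A Q : Type*} [Group A] [Group Q] [Finite Q] (φ : A →* MulAut D) (ψ : Q →* MulAut D)
    (hA : IsPGroup p A) (hQ : ¬ p ∣ Nat.card Q) (σ : A → Q ≃ Q)
    (hσ : ∀ a q x, φ a (ψ q x) = ψ (σ a q) (φ a x))
    (hne : ∃ q x, ψ q x ≠ x) :
    ∃ d : D, orderOf d = p ∧ (∀ a, φ a d = d) ∧ ∃ q, ψ q d ≠ d := by
  classical
  haveI := Fintype.ofFinite Q
  obtain ⟨k, hk⟩ := IsPGroup.iff_card.1 hD
  have hodd : Odd (Nat.card D) := by
    rw [hk]; exact (hp.out.odd_of_ne_two hp2).pow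
  letI I : CommGroup (BaerGroup D) := baerCommGroup h hodd
  let T : MulAut D → (BaerGroup D →* BaerGroup D) := fun e =>
    { toFun := fun x => ⟨e x.toD⟩
      map_one' := BaerGroup.ext (map_one e)
      map_mul' := fun x y => BaerGroup.ext (map_bMul e x.toD y.toD) }
  let c : BaerGroup D →* BaerGroup D := ∏ q : Q, T (ψ q)
  have hcap : ∀ x, c x = ∏ q : Q, T (ψ q) x := fun x => by
    simp [c, MonoidHom.finsetProd_apply]
  haveI : Finite (BaerGroup D) := Finite.of_equiv D (baerEquiv D).symm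
  obtain ⟨q₀, x₀, hx₀⟩ := hne
  have hK : ∃ y : c.ker, y ≠ 1 := by
    let y₀ : BaerGroup D := ⟨x₀⟩
    refine ⟨⟨T (ψ q₀) y₀ * y₀⁻¹, ?_⟩, ?_⟩
    · rw [MonoidHom.mem_ker, map_mul, map_inv, mul_inv_eq_one, hcap, hcap]
      refine Fintype.prod_equiv (Equiv.mulRight q₀) _ _ fun q => ?_
      refine BaerGroup.ext ?_
      show ψ q (ψ q₀ x₀) = ψ (q * q₀) x₀
      rw [map_mul]; rfl
    · intro he
      have := congrArg Subtype.val he
      rw [Subgroup.coe_one, mul_inv_eq_one] at this
      exact hx₀ (congrArg BaerGroup.toD this)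
  have hinv : ∀ (a : A) (x : BaerGroup D), x ∈ c.ker → T (φ a) x ∈ c.ker := by
    intro a x hx
    rw [MonoidHom.mem_ker] at hx ⊢
    have h1 : T (φ a) (c x) = c (T (φ a) x) := by
      rw [hcap, hcap, map_prod]
      exact Fintype.prod_equiv (σ a) _ _ fun q => BaerGroup.ext (hσ a q x.toD)
    rw [← h1, hx, map_one]
  letI act : MulAction A c.ker :=
    { smul := fun a x => ⟨T (φ a) x.1, hinv a x.1 x.2⟩
      one_smul := fun x => Subtype.ext (by
        refine BaerGroup.ext ?_
        show φ 1 x.1.toD = x.1.toD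
        rw [map_one]; rfl)
      mul_smul := fun a b x => Subtype.ext (by
        refine BaerGroup.ext ?_
        show φ (a * b) x.1.toD = φ a (φ b x.1.toD)
        rw [map_mul]; rfl) }
  have hdvd : p ∣ Nat.card c.ker := by
    have h1 : Nat.card c.ker ∣ p ^ k :=
      (hk ▸ Nat.card_congr (baerEquiv D) : Nat.card (BaerGroup D) = p ^ k) ▸ c.ker.card_subgroup_dvd_card
    obtain ⟨j, -, hj⟩ := (Nat.dvd_prime_pow hp.out).1 h1
    rcases j with _ | j
    · exfalso
      obtain ⟨y, hy⟩ := hK
      haveI : Subsingleton c.ker := (Nat.card_eq_one_iff_unique.1 (hj.trans (pow_zero p))).1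
      exact hy (Subsingleton.elim _ _)
    · exact hj ▸ dvd_pow_self p (Nat.succ_ne_zero j)
  obtain ⟨d, hd, hd1⟩ := hA.exists_fixed_point_of_prime_dvd_card_of_fixed_point c.ker hdvd
    (a := 1) (fun a => Subtype.ext (BaerGroup.ext (map_one (φ a))))
  have hdne : d.1.toD ≠ 1 := fun e => hd1 (Subtype.ext (BaerGroup.ext e)).symm
  obtain ⟨j, hj⟩ := hD d.1.toD
  obtain ⟨i, -, hi⟩ := (Nat.dvd_prime_pow hp.out).1 (orderOf_dvd_of_pow_eq_one hj)
  rcases i with _ | i
  · exact absurd (orderOf_eq_one_iff.1 (hi.trans (pow_zero p))) hdne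
  let e : D := d.1.toD ^ p ^ i
  have heo : orderOf e = p := by
    show orderOf (d.1.toD ^ p ^ i) = p
    rw [orderOf_pow' _ (pow_ne_zero _ hp.out.ne_zero), hi, Nat.gcd_eq_right (pow_dvd_pow p (Nat.le_succ i)),
      pow_succ, Nat.mul_div_cancel_left _ (pow_pos hp.out.pos i)]
  refine ⟨e, heo, fun a => ?_, ?_⟩
  · show φ a (d.1.toD ^ p ^ i) = _
    rw [map_pow]
    exact congrArg (· ^ p ^ i) (congrArg (fun y : c.ker => y.1.toD) (hd a))
  · by_contra hall
    push Not at hall
    have hc1 : c ⟨e⟩ = 1 := by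
      have : (⟨e⟩ : BaerGroup D) = d.1 ^ p ^ i := rfl
      rw [this, map_pow, MonoidHom.mem_ker.1 d.2, one_pow]
    rw [hcap, Finset.prod_congr rfl fun q _ => (show T (ψ q) ⟨e⟩ = (⟨e⟩ : BaerGroup D) from BaerGroup.ext (hall q)),
      Finset.prod_const, Finset.card_univ] at hc1
    have h2 := orderOf_dvd_of_pow_eq_one (show e ^ Fintype.card Q = 1 from congrArg BaerGroup.toD hc1)
    rw [heo, ← Nat.card_eq_fintype_card] at h2
    exact hQ h2

end Cfsg.Agent.Fusion
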