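import Cfsg.Prelude.Def_OddOrderLocal
import Cfsg.Prelude.Def_PLocal
import Cfsg.Agent.Lib.Fusion.RankTwoExponent
import Cfsg.Agent.Lib.Solv.PGroupPhi
import Cfsg.Agent.Lib.Fusion.Basic

/-!
# Groups with at most `p²` elements of order `p`
-/

set_option autoImplicit false
set_option linter.style.haveILetI false

open scoped commutatorElement

universe u

namespace Cfsg.Agent.Fusion

variable {p : ℕ} [hp : Fact p.Prime]

/-- If all `p`-th powers are central in a group of small class then commutators have order `p`. -/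
theorem commutator_le_omega_of_pow_central {M : Type*} [Group M] (h : SmallClass p M)
    (hc : ∀ x : M, x ^ p ∈ Subgroup.center M) :
    commutator M ≤ Subgroup.closure {x : M | x ^ p = 1} := by
  rw [commutator_def, Subgroup.commutator_le]
  intro x _ y _
  refine Subgroup.subset_closure ?_
  show ⁅x, y⁆ ^ p = 1
  have hp2 : p ≠ 2 := by rcases h with ⟨h, -⟩ | ⟨h, -⟩ <;> omega
  set u := ⁅x, y⁆ with hu
  have hcen : ∀ g k : M, Commute ⁅u, g⁆ k := by
    intro g k
    have hm : ⁅u, g⁆ ∈ ⁅commutator M, (⊤ : Subgroup M)⁆ := Subgroup.commutator_mem_commutator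
      (commutator_def M ▸ Subgroup.commutator_mem_commutator (Subgroup.mem_top x) (Subgroup.mem_top y)) (Subgroup.mem_top g)
    rcases h with ⟨-, h2⟩ | ⟨-, h3⟩
    · rw [show ⁅u, g⁆ = 1 from Subgroup.mem_bot.1 (h2.le hm)]; exact Commute.one_left k
    · exact commutatorElement_eq_one_iff_commute.1
        (Subgroup.mem_bot.1 (h3 ▸ Subgroup.commutator_mem_commutator hm (Subgroup.mem_top k)))
  have hconj : x * y * x⁻¹ = u * y := by rw [hu, commutatorElement_def]; group
  have h1 : (u * y) ^ p = y ^ p := by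
    rw [← hconj, conj_pow, Subgroup.mem_center_iff.1 (hc y) x, mul_inv_cancel_right]
  have hyu : Commute ⁅y, u⁆ u ∧ Commute ⁅y, u⁆ y := by
    rw [← commutatorElement_inv u y]
    exact ⟨(hcen y u).inv_left, (hcen y y).inv_left⟩
  have hzp : ⁅y, u⁆ ^ p = 1 :=
    commutatorElement_pow_eq_one hyu.2 (Subgroup.mem_center_iff.1 (hc y) u).symm
  obtain ⟨k, hk⟩ := hp.out.dvd_choose_self (k := 2) (by omega) (lt_of_le_of_ne hp.out.two_le (Ne.symm hp2))
  rw [mul_pow_of_central hyu.1 hyu.2, hk, pow_mul, hzp, one_pow, mul_one, mul_eq_right] at h1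
  exact h1

/-- The elements with `p`-th power in a central subgroup of order `p`. -/
theorem mul_pow_mem_of_central {R : Type*} [Group R] [Finite R] (hp3 : 3 < p) (hR : IsPGroup p R)
    (hO : Nat.card (Cfsg.omegaOne p (⊤ : Subgroup R)) ≤ p ^ 2) (Z : Subgroup R) (hZ : Z ≤ Subgroup.center R)
    (hZc : Nat.card Z = p) :
    ∃ X : Subgroup R, (∀ x, x ∈ X ↔ x ^ p ∈ Z) ∧ Nat.card X ≤ p ^ 3 := by
  classical
  have hexpZ : ∀ z ∈ Z, z ^ p = 1 := fun z hz => by
    have := pow_card_eq_one' (x := (⟨z, hz⟩ : Z))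
    rw [hZc] at this
    exact congrArg Subtype.val this
  have hsmallM : ∀ M : Subgroup R, (∀ x ∈ M, x ^ p ∈ Z) → Nat.card M ≤ p ^ 4 → Nat.card M ≤ p ^ 3 := by
    intro M hM hc
    have hMp := hR.to_subgroup M
    have hsc := smallClass_of_card_le hp3 hMp hc
    have hder := commutator_le_omega_of_pow_central hsc fun x =>
      Subgroup.mem_center_iff.2 fun g => Subtype.ext (Subgroup.mem_center_iff.1 (hZ (hM x x.2)) g)
    let f : M →* Z := MonoidHom.mk' (fun x => ⟨(x : R) ^ p, hM x x.2⟩) fun x y =>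
      Subtype.ext (congrArg (fun z : M => (z : R)) (mul_pow_of_derived hsc hder x y) :)
    have hker : Nat.card f.ker ≤ p ^ 2 := by
      refine le_trans ?_ hO
      rw [← Subgroup.card_map_of_injective (f := M.subtype) M.subtype_injective]
      refine Subgroup.card_le_of_le ?_
      rintro _ ⟨x, hx, rfl⟩
      exact Subgroup.subset_closure ⟨Subgroup.mem_top _, congrArg Subtype.val (hx : f x = 1)⟩
    calc Nat.card M = Nat.card f.ker * Nat.card f.range := by rw [← Subgroup.index_ker, Subgroup.card_mul_index]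
      _ ≤ p ^ 2 * p := Nat.mul_le_mul hker ((Subgroup.card_le_card_group f.range).trans hZc.le)
      _ = p ^ 3 := (pow_succ p 2).symm
  -- closedness, by induction on the subgroup generated
  have hmul : ∀ n, ∀ H : Subgroup R, Nat.card H ≤ n → Z ≤ H → ∀ x ∈ H, ∀ y ∈ H, x ^ p ∈ Z → y ^ p ∈ Z →
      (x * y) ^ p ∈ Z := by
    intro n
    induction n using Nat.strong_induction_on with
    | _ n ih =>
      intro H hHn hZH x hx y hy hxp hyp
      set K := Subgroup.closure ({x, y} : Set R) ⊔ Z with hK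
      have hKH : K ≤ H := sup_le ((Subgroup.closure_le _).2 (by rintro w (rfl | rfl) <;> assumption)) hZH
      have hxK : x ∈ K := Subgroup.mem_sup_left (Subgroup.subset_closure (by simp))
      have hyK : y ∈ K := Subgroup.mem_sup_left (Subgroup.subset_closure (by simp))
      have hKp := hR.to_subgroup K
      haveI : Group.IsNilpotent K := hKp.isNilpotent
      set U := (Subgroup.zpowers x ⊔ Z).subgroupOf K with hU
      obtain htop | ⟨M, hM, hUM⟩ := eq_top_or_exists_le_coatom U
      · have hc : Commute x y := by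
          have hy' : y ∈ Subgroup.zpowers x ⊔ Z := (htop.ge (Subgroup.mem_top (⟨y, hyK⟩ : K)) : _)
          haveI : Z.Normal := ⟨fun z hz g => by
            rw [Subgroup.mem_center_iff.1 (hZ hz) g, mul_inv_cancel_right]; exact hz⟩
          obtain ⟨_, ⟨i, rfl⟩, z, hz, rfl⟩ := Subgroup.mem_sup_of_normal_right.1 hy'
          exact (Commute.self_zpow x i).mul_right (Subgroup.mem_center_iff.1 (hZ hz) x)
        rw [hc.mul_pow]; exact mul_mem hxp hyp
      haveI : M.Normal := Subgroup.NormalizerCondition.normal_of_coatom M Group.normalizerCondition_of_isNilpotent hM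
      set M' := M.map K.subtype
      have hZM' : Z ≤ M' := fun z hz => ⟨⟨z, Subgroup.mem_sup_right hz⟩, hUM (Subgroup.mem_sup_right hz), rfl⟩
      have hlt : Nat.card M' < n := by
        rw [Subgroup.card_map_of_injective K.subtype_injective]
        refine lt_of_lt_of_le ?_ ((Subgroup.card_le_of_le hKH).trans hHn)
        by_contra hcon
        exact hM.1 (Subgroup.eq_top_of_le_card M (not_lt.1 hcon))
      let D : Subgroup R :=
        { carrier := {w | w ∈ M' ∧ w ^ p ∈ Z}
          one_mem' := ⟨one_mem _, by rw [one_pow]; exact one_mem Z⟩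
          mul_mem' := fun {a b} ha hb => ⟨mul_mem ha.1 hb.1,
            ih _ hlt M' le_rfl hZM' a ha.1 b hb.1 ha.2 hb.2⟩
          inv_mem' := fun {a} ha => ⟨inv_mem ha.1, by rw [inv_pow]; exact inv_mem ha.2⟩ }
      have hZD : Z ≤ D := fun z hz => ⟨hZM' hz, by rw [hexpZ z hz]; exact one_mem Z⟩
      have hD3 : Nat.card D ≤ p ^ 3 := by
        by_contra hgt
        obtain ⟨j, hj⟩ := (hR.to_subgroup D).exists_card_eq
        have hj4 : 4 ≤ j := by
          by_contra hcon
          exact hgt (hj ▸ Nat.pow_le_pow_right hp.out.pos (by omega))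
        obtain ⟨E, -, hE, hEc⟩ := exists_normal_le_of_card (hR.to_subgroup D) ⊤ 4
          (by rw [Subgroup.card_top, hj]; exact Nat.pow_le_pow_right hp.out.pos hj4)
        have h := hsmallM (E.map D.subtype) (fun w hw => ((Subgroup.map_subtype_le E) hw).2)
          (by rw [Subgroup.card_map_of_injective D.subtype_injective, hEc])
        rw [Subgroup.card_map_of_injective D.subtype_injective, hEc] at h
        exact absurd ((Nat.pow_le_pow_iff_right hp.out.one_lt).1 h) (by norm_num)
      have hDn : (D.subgroupOf K).Normal := ⟨fun w hw g => by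
        obtain ⟨⟨m, hm, hmw⟩, hwp⟩ := hw
        have hmw' : m = w := Subtype.ext hmw
        subst hmw'
        refine ⟨⟨g * m * g⁻¹, Subgroup.Normal.conj_mem inferInstance m hm g, rfl⟩, ?_⟩
        show ((g : R) * m * (g : R)⁻¹) ^ p ∈ Z
        have hwp' : (m : R) ^ p ∈ Z := hwp
        rw [conj_pow, Subgroup.mem_center_iff.1 (hZ hwp') g, mul_inv_cancel_right]
        exact hwp'⟩
      have hxD : x ∈ D := ⟨⟨⟨x, hxK⟩, hUM (Subgroup.mem_sup_left (Subgroup.mem_zpowers x)), rfl⟩, hxp⟩
      have hKeq : K ≤ D ⊔ Subgroup.zpowers y := by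
        refine sup_le ((Subgroup.closure_le _).2 ?_) (hZD.trans le_sup_left)
        rintro w (rfl | rfl)
        · exact Subgroup.mem_sup_left hxD
        · exact Subgroup.mem_sup_right (Subgroup.mem_zpowers _)
      haveI := hDn
      have hKcard : Nat.card K ≤ p ^ 4 := by
        let π := QuotientGroup.mk' (D.subgroupOf K)
        have hgen : (⊤ : Subgroup (K ⧸ D.subgroupOf K)) ≤ Subgroup.zpowers (π ⟨y, hyK⟩) := by
          intro v _
          obtain ⟨w, rfl⟩ := QuotientGroup.mk'_surjective _ v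
          have h' : (D ⊔ Subgroup.zpowers y).subgroupOf K ≤ D.subgroupOf K ⊔ Subgroup.zpowers (⟨y, hyK⟩ : K) := by
            rw [← Subgroup.map_subtype_le_map_subtype, Subgroup.map_sup, MonoidHom.map_zpowers,
              Subgroup.subgroupOf_map_subtype, Subgroup.subgroupOf_map_subtype,
              inf_eq_left.2 (show D ≤ K from fun w (hw : w ∈ M' ∧ w ^ p ∈ Z) => Subgroup.map_subtype_le M hw.1)]
            exact inf_le_left
          have hw : w ∈ D.subgroupOf K ⊔ Subgroup.zpowers (⟨y, hyK⟩ : K) := h' (hKeq w.2)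
          obtain ⟨d, hd, _, ⟨i, rfl⟩, rfl⟩ := Subgroup.mem_sup_of_normal_left.1 hw
          refine ⟨i, ?_⟩
          show π ⟨y, hyK⟩ ^ i = π (d * ⟨y, hyK⟩ ^ i)
          rw [map_mul, map_zpow, show π d = 1 from (QuotientGroup.eq_one_iff d).2 hd, one_mul]
        have h5 : Nat.card (K ⧸ D.subgroupOf K) ≤ p := by
          rw [← Subgroup.card_top (G := K ⧸ D.subgroupOf K)]
          refine (Subgroup.card_le_of_le hgen).trans ?_
          rw [Nat.card_zpowers]
          refine Nat.le_of_dvd hp.out.pos (orderOf_dvd_of_pow_eq_one ?_)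
          rw [← map_pow]
          exact (QuotientGroup.eq_one_iff _).2 (hZD hyp)
        calc Nat.card K = Nat.card (K ⧸ D.subgroupOf K) * Nat.card (D.subgroupOf K) :=
              Subgroup.card_eq_card_quotient_mul_card_subgroup _
          _ ≤ p * p ^ 3 := Nat.mul_le_mul h5 (by
              rw [Nat.card_congr (Subgroup.subgroupOfEquivOfLe (show D ≤ K from fun w (hw : w ∈ M' ∧ w ^ p ∈ Z) => Subgroup.map_subtype_le M hw.1)).toEquiv]
              exact hD3)
          _ = p ^ 4 := by ring
      haveI hZn : (Z.subgroupOf K).Normal := ⟨fun z hz g => by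
        show (g : R) * z * (g : R)⁻¹ ∈ Z
        rw [Subgroup.mem_center_iff.1 (hZ (show (z : R) ∈ Z from hz)) g, mul_inv_cancel_right]; exact hz⟩
      have hsc := smallClass_of_card_le hp3 (hKp.to_quotient (Z.subgroupOf K))
        ((Nat.le_of_dvd Nat.card_pos (Subgroup.card_quotient_dvd_card _)).trans hKcard)
      have h6 := mul_pow_eq_one hsc (x := QuotientGroup.mk' _ (⟨x, hxK⟩ : K)) (y := QuotientGroup.mk' _ (⟨y, hyK⟩ : K))
        (by rw [← map_pow]; exact (QuotientGroup.eq_one_iff _).2 hxp)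
        (by rw [← map_pow]; exact (QuotientGroup.eq_one_iff _).2 hyp)
      rw [← map_mul, ← map_pow] at h6
      have h7 : ((⟨x, hxK⟩ : K) * ⟨y, hyK⟩) ^ p ∈ Z.subgroupOf K := (QuotientGroup.eq_one_iff _).1 h6
      exact h7
  let X : Subgroup R :=
    { carrier := {w | w ^ p ∈ Z}
      one_mem' := by show (1 : R) ^ p ∈ Z; rw [one_pow]; exact one_mem Z
      mul_mem' := fun {a b} ha hb => hmul _ ⊤ le_rfl le_top a trivial b trivial ha hb
      inv_mem' := fun {a} ha => by show a⁻¹ ^ p ∈ Z; rw [inv_pow]; exact inv_mem ha }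
  refine ⟨X, fun x => Iff.rfl, ?_⟩
  by_contra hgt
  obtain ⟨j, hj⟩ := (hR.to_subgroup X).exists_card_eq
  have hj4 : 4 ≤ j := by
    by_contra hcon
    exact hgt (hj ▸ Nat.pow_le_pow_right hp.out.pos (by omega))
  obtain ⟨E, -, hE, hEc⟩ := exists_normal_le_of_card (hR.to_subgroup X) ⊤ 4
    (by rw [Subgroup.card_top, hj]; exact Nat.pow_le_pow_right hp.out.pos hj4)
  have h := hsmallM (E.map X.subtype) (fun w hw => (Subgroup.map_subtype_le E) hw)
    (by rw [Subgroup.card_map_of_injective X.subtype_injective, hEc])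
  rw [Subgroup.card_map_of_injective X.subtype_injective, hEc] at h
  exact absurd ((Nat.pow_le_pow_iff_right hp.out.one_lt).1 h) (by norm_num)

theorem exists_central_order_p_in {R : Type*} [Group R] [Finite R] (hR : IsPGroup p R) (T : Subgroup R) [T.Normal]
    (hT : T ≠ ⊥) : ∃ Z : Subgroup R, Z ≤ T ∧ Z ≤ Subgroup.center R ∧ Nat.card Z = p := by
  obtain ⟨j, hj⟩ := (hR.to_subgroup T).exists_card_eq
  have hj0 : j ≠ 0 := fun h => hT (Subgroup.card_eq_one.1 (by rw [hj, h, pow_zero]))
  obtain ⟨Z, hZn, hZT, hZc⟩ := exists_normal_le_of_card hR T 1 (hj ▸ Nat.pow_le_pow_right hp.out.pos (Nat.pos_of_ne_zero hj0))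
  haveI := hZn
  rw [pow_one] at hZc
  exact ⟨Z, hZT, le_center_of_card_prime hR Z hZc.le, hZc⟩

theorem omega_quotient_le {R : Type u} [Group R] [Finite R] (hp3 : 3 < p) (hR : IsPGroup p R)
    (hO : Nat.card (Cfsg.omegaOne p (⊤ : Subgroup R)) ≤ p ^ 2) (T : Subgroup R) [T.Normal] :
    Nat.card (Cfsg.omegaOne p (⊤ : Subgroup (R ⧸ T))) ≤ p ^ 2 := by
  induction hn : Nat.card R using Nat.strong_induction_on generalizing R with
  | _ n ih =>
    subst hn
    by_cases hT : T = ⊥
    · subst hT
      have h : Cfsg.omegaOne p (⊤ : Subgroup (R ⧸ (⊥ : Subgroup R))) =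
          (Cfsg.omegaOne p (⊤ : Subgroup R)).map (QuotientGroup.mk' ⊥) := by
        rw [Cfsg.omegaOne, Cfsg.omegaOne, MonoidHom.map_closure]
        congr 1
        ext v
        constructor
        · rintro ⟨-, hv⟩
          obtain ⟨w, rfl⟩ := QuotientGroup.mk'_surjective _ v
          refine ⟨w, ⟨Subgroup.mem_top _, ?_⟩, rfl⟩
          rw [← map_pow] at hv
          exact Subgroup.mem_bot.1 ((QuotientGroup.eq_one_iff _).1 hv)
        · rintro ⟨w, ⟨-, hw⟩, rfl⟩
          exact ⟨Subgroup.mem_top _, by rw [← map_pow, hw, map_one]⟩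
      rw [h]
      exact (Nat.le_of_dvd Nat.card_pos (Subgroup.card_map_dvd (Cfsg.omegaOne p (⊤ : Subgroup R)) (QuotientGroup.mk' ⊥))).trans hO
    obtain ⟨Z, hZT, hZc, hZcard⟩ := exists_central_order_p_in hR T hT
    haveI : Z.Normal := ⟨fun z hz g => by
      rw [Subgroup.mem_center_iff.1 (hZc hz) g, mul_inv_cancel_right]; exact hz⟩
    obtain ⟨X, hX, hX3⟩ := mul_pow_mem_of_central hp3 hR hO Z hZc hZcard
    let π := QuotientGroup.mk' Z
    have h1 : Nat.card (Cfsg.omegaOne p (⊤ : Subgroup (R ⧸ Z))) ≤ p ^ 2 := by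
      have hle : Cfsg.omegaOne p (⊤ : Subgroup (R ⧸ Z)) ≤ X.map π := by
        rw [Cfsg.omegaOne, Subgroup.closure_le]
        rintro v ⟨-, hv⟩
        obtain ⟨w, rfl⟩ := QuotientGroup.mk'_surjective _ v
        rw [← map_pow] at hv
        exact ⟨w, (hX w).2 ((QuotientGroup.eq_one_iff _).1 hv), rfl⟩
      refine (Subgroup.card_le_of_le hle).trans ?_
      have hZX : Z ≤ X := fun z hz => (hX z).2 (pow_mem hz p)
      rw [← Subgroup.relIndex_bot_left, ← Subgroup.relIndex_comap, MonoidHom.comap_bot, QuotientGroup.ker_mk']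
      have h2 := Subgroup.relIndex_mul_relIndex ⊥ Z X bot_le hZX
      rw [Subgroup.relIndex_bot_left, Subgroup.relIndex_bot_left, hZcard] at h2
      refine Nat.le_of_mul_le_mul_left ?_ hp.out.pos
      rw [h2, ← pow_succ']
      exact hX3
    have hlt : Nat.card (R ⧸ Z) < Nat.card R := by
      rw [Subgroup.card_eq_card_quotient_mul_card_subgroup Z, hZcard]
      exact lt_mul_of_one_lt_right Nat.card_pos hp.out.one_lt
    haveI : (T.map π).Normal := Subgroup.Normal.map inferInstance π (QuotientGroup.mk'_surjective Z)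
    have h2 := ih _ hlt (hR.to_quotient Z) h1 (T.map π) rfl
    let e := QuotientGroup.quotientQuotientEquivQuotient Z T hZT
    have h3 : Cfsg.omegaOne p (⊤ : Subgroup (R ⧸ T)) ≤
        (Cfsg.omegaOne p (⊤ : Subgroup ((R ⧸ Z) ⧸ T.map π))).map e.toMonoidHom := by
      rw [Cfsg.omegaOne, Subgroup.closure_le]
      rintro v ⟨-, hv⟩
      refine ⟨e.symm v, Subgroup.subset_closure ⟨Subgroup.mem_top _, ?_⟩, e.apply_symm_apply v⟩
      rw [← map_pow, hv, map_one]
    refine (Subgroup.card_le_of_le h3).trans ?_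
    rw [Subgroup.card_map_of_injective (f := e.toMonoidHom) e.injective]
    exact h2

/-- Blackburn: such groups are metacyclic. -/
theorem metacyclic_of_omega_small {R : Type u} [Group R] [Finite R] (hp3 : 3 < p) (hR : IsPGroup p R)
    (hO : Nat.card (Cfsg.omegaOne p (⊤ : Subgroup R)) ≤ p ^ 2) : Cfsg.IsMetacyclic R := by
  induction hn : Nat.card R using Nat.strong_induction_on generalizing R with
  | _ n ih =>
    subst hn
    -- the quotient by the Frattini subgroup
    have hgen : ∃ a b : R, Subgroup.closure ({a, b} : Set R) = ⊤ := by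
      have h := omega_quotient_le hp3 hR hO (frattini R)
      have htop : Cfsg.omegaOne p (⊤ : Subgroup (R ⧸ frattini R)) = ⊤ := eq_top_iff.2 fun v _ => by
        obtain ⟨w, rfl⟩ := QuotientGroup.mk'_surjective _ v
        exact Subgroup.subset_closure ⟨Subgroup.mem_top _, by
          rw [← map_pow]; exact (QuotientGroup.eq_one_iff _).2 (Solv.pow_mem_frattini hR w)⟩
      rw [htop, Subgroup.card_top] at h
      obtain ⟨j, hj⟩ := (hR.to_quotient (frattini R)).exists_card_eq
      by_cases h1 : ∀ v : R ⧸ frattini R, v = 1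
      · refine ⟨1, 1, frattini_nongenerating (eq_top_iff.2 fun w _ => Subgroup.mem_sup_right ((QuotientGroup.eq_one_iff w).1 (h1 _)))⟩
      push Not at h1
      obtain ⟨v₁, hv₁⟩ := h1
      have hexp : ∀ v : R ⧸ frattini R, v ^ p = 1 := fun v => by
        obtain ⟨w, rfl⟩ := QuotientGroup.mk'_surjective _ v
        rw [← map_pow]; exact (QuotientGroup.eq_one_iff _).2 (Solv.pow_mem_frattini hR w)
      obtain ⟨a, rfl⟩ := QuotientGroup.mk'_surjective _ v₁
      have hzc : Nat.card (Subgroup.zpowers (QuotientGroup.mk' (frattini R) a)) = p := by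
        rw [Nat.card_zpowers, orderOf_eq_prime (hexp _) hv₁]
      by_cases h2 : Subgroup.zpowers (QuotientGroup.mk' (frattini R) a) = ⊤
      · refine ⟨a, a, frattini_nongenerating (eq_top_iff.2 fun w _ => ?_)⟩
        obtain ⟨i, hi⟩ := (h2.ge (Subgroup.mem_top (QuotientGroup.mk' (frattini R) w)))
        rw [show w = a ^ i * ((a ^ i)⁻¹ * w) by group]
        refine mul_mem (Subgroup.mem_sup_left (zpow_mem (Subgroup.subset_closure (by simp)) i)) (Subgroup.mem_sup_right ((QuotientGroup.eq_one_iff _).1 ?_))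
        simp only at hi
        show QuotientGroup.mk' (frattini R) ((a ^ i)⁻¹ * w) = 1
        rw [map_mul, map_inv, map_zpow, hi, inv_mul_cancel]
      obtain ⟨v₂, -, hv₂⟩ := SetLike.exists_of_lt (lt_top_iff_ne_top.2 h2)
      obtain ⟨b, rfl⟩ := QuotientGroup.mk'_surjective _ v₂
      refine ⟨a, b, frattini_nongenerating ?_⟩
      have hmap : (Subgroup.closure ({a, b} : Set R)).map (QuotientGroup.mk' (frattini R)) = ⊤ := by
        set W := (Subgroup.closure ({a, b} : Set R)).map (QuotientGroup.mk' (frattini R))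
        have hlt : Subgroup.zpowers (QuotientGroup.mk' (frattini R) a) < W := by
          refine lt_of_le_of_ne (Subgroup.zpowers_le.2 ⟨a, Subgroup.subset_closure (by simp), rfl⟩) fun e => hv₂ ?_
          rw [e]; exact ⟨b, Subgroup.subset_closure (by simp), rfl⟩
        obtain ⟨i, hi⟩ := ((hR.to_quotient (frattini R)).to_subgroup W).exists_card_eq
        have hgt : Nat.card (Subgroup.zpowers (QuotientGroup.mk' (frattini R) a)) < Nat.card W := by
          by_contra hcon
          exact hlt.ne (Subgroup.eq_of_le_of_card_ge hlt.le (not_lt.1 hcon))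
        rw [hzc, hi] at hgt
        refine Subgroup.eq_top_of_le_card W (h.trans (hi ▸ Nat.pow_le_pow_right hp.out.pos ?_))
        by_contra hcon
        have := Nat.pow_le_pow_right hp.out.pos (show i ≤ 1 by omega)
        rw [pow_one] at this
        omega
      rw [← QuotientGroup.ker_mk' (frattini R), ← Subgroup.comap_map_eq, hmap, Subgroup.comap_top]
    obtain ⟨g₁, g₂, hg⟩ := hgen
    by_cases hab : commutator R = ⊥
    · have hcomm : ∀ u v : R, u * v = v * u := fun u v => commutatorElement_eq_one_iff_mul_comm.1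
        (Subgroup.mem_bot.1 (hab ▸ commutator_def R ▸ Subgroup.commutator_mem_commutator (Subgroup.mem_top u) (Subgroup.mem_top v)))
      haveI hn : (Subgroup.zpowers g₁).Normal := ⟨fun z hz g => by rw [hcomm g z, mul_inv_cancel_right]; exact hz⟩
      refine ⟨Subgroup.zpowers g₁, hn, inferInstance, ⟨QuotientGroup.mk g₂, fun v => ?_⟩⟩
      obtain ⟨w, rfl⟩ := QuotientGroup.mk'_surjective _ v
      have hle : Subgroup.closure ({g₁, g₂} : Set R) ≤ (Subgroup.zpowers (QuotientGroup.mk' (Subgroup.zpowers g₁) g₂)).comap (QuotientGroup.mk' _) := by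
        rw [Subgroup.closure_le]
        rintro u (rfl | rfl)
        · rw [SetLike.mem_coe, Subgroup.mem_comap]
          rw [show QuotientGroup.mk' (Subgroup.zpowers u) u = 1 from (QuotientGroup.eq_one_iff _).2 (Subgroup.mem_zpowers u)]
          exact one_mem _
        · exact Subgroup.mem_zpowers _
      exact hle (hg ▸ Subgroup.mem_top w)
    obtain ⟨Z, hZR, hZc, hZcard⟩ := exists_central_order_p_in hR (commutator R) hab
    haveI : Z.Normal := ⟨fun z hz g => by
      rw [Subgroup.mem_center_iff.1 (hZc hz) g, mul_inv_cancel_right]; exact hz⟩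
    set π := QuotientGroup.mk' Z with hπ
    have hlt : Nat.card (R ⧸ Z) < Nat.card R := by
      rw [Subgroup.card_eq_card_quotient_mul_card_subgroup Z, hZcard]
      exact lt_mul_of_one_lt_right Nat.card_pos hp.out.one_lt
    obtain ⟨N, hN, hNc, hQc⟩ := ih _ hlt (hR.to_quotient Z) (omega_quotient_le hp3 hR hO Z) rfl
    haveI := hN
    obtain ⟨ā, hā⟩ := Subgroup.isCyclic_iff_exists_zpowers_eq_top N |>.mp hNc
    obtain ⟨a, rfl⟩ := QuotientGroup.mk'_surjective Z ā
    obtain ⟨q, hq⟩ := hQc.exists_generator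
    obtain ⟨b₀, rfl⟩ := QuotientGroup.mk'_surjective N q
    obtain ⟨b, rfl⟩ := QuotientGroup.mk'_surjective Z b₀
    have hform : ∀ w : R, ∃ i : ℤ, ∃ z ∈ Z, ∃ j : ℤ, w = a ^ i * z * b ^ j := by
      intro w
      obtain ⟨j, hj⟩ := hq (QuotientGroup.mk' N (π w))
      simp only at hj
      have hmem : π w * (π b ^ j)⁻¹ ∈ N := (QuotientGroup.eq_one_iff _).1 (by
        show QuotientGroup.mk' N (π w * (π b ^ j)⁻¹) = 1
        rw [map_mul, map_inv, map_zpow, hj, mul_inv_cancel])
      rw [← hā] at hmem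
      obtain ⟨i, hi⟩ := hmem
      simp only at hi
      refine ⟨i, (a ^ i)⁻¹ * (w * (b ^ j)⁻¹), (QuotientGroup.eq_one_iff _).1 ?_, j, by group⟩
      show π ((a ^ i)⁻¹ * (w * (b ^ j)⁻¹)) = 1
      rw [map_mul, map_mul, map_inv, map_inv, map_zpow, map_zpow, hi, inv_mul_cancel]
    by_cases hcyc : ∃ z ∈ Z, z ≠ 1 ∧ z ∈ Subgroup.zpowers a
    · obtain ⟨z₀, hz₀, hz₀1, hz₀a⟩ := hcyc
      have hZa : Z ≤ Subgroup.zpowers a := by
        have hle : Subgroup.zpowers z₀ ≤ Z := Subgroup.zpowers_le.2 hz₀
        have hex : z₀ ^ p = 1 := by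
          have := pow_card_eq_one' (x := (⟨z₀, hz₀⟩ : Z))
          rw [hZcard] at this
          exact congrArg Subtype.val this
        rw [← Subgroup.eq_of_le_of_card_ge hle (by rw [Nat.card_zpowers, orderOf_eq_prime hex hz₀1, hZcard])]
        exact Subgroup.zpowers_le.2 hz₀a
      have hcomap : N.comap π = Subgroup.zpowers a := by
        rw [← hā, ← MonoidHom.map_zpowers, Subgroup.comap_map_eq, QuotientGroup.ker_mk', sup_eq_left.2 hZa]
      haveI hn : (Subgroup.zpowers a).Normal := hcomap ▸ inferInstance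
      refine ⟨Subgroup.zpowers a, hn, inferInstance, ⟨QuotientGroup.mk b, fun v => ?_⟩⟩
      obtain ⟨w, rfl⟩ := QuotientGroup.mk'_surjective _ v
      obtain ⟨i, z, hz, j, rfl⟩ := hform w
      refine ⟨j, ?_⟩
      show QuotientGroup.mk' (Subgroup.zpowers a) b ^ j = QuotientGroup.mk' (Subgroup.zpowers a) (a ^ i * z * b ^ j)
      rw [map_mul, map_zpow _ b, show QuotientGroup.mk' (Subgroup.zpowers a) (a ^ i * z) = 1 from
        (QuotientGroup.eq_one_iff _).2 (mul_mem (zpow_mem (Subgroup.mem_zpowers a) i) (hZa hz)), one_mul]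
    push Not at hcyc
    -- the commutator of the generators generates the derived subgroup
    set u := ⁅a, b⁆ with hu
    haveI := hN
    obtain ⟨k, hk⟩ : π u ∈ Subgroup.zpowers (π a) := by
      rw [hā, hu, map_commutatorElement]
      rw [commutatorElement_def, mul_assoc (π a * π b) , mul_assoc (π a)]
      refine mul_mem ?_ ?_
      · exact hā ▸ Subgroup.mem_zpowers _
      · rw [← mul_assoc]
        exact hN.conj_mem _ (inv_mem (hā ▸ Subgroup.mem_zpowers _)) _
    simp only at hk
    set y := (a ^ k)⁻¹ * u with hy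
    have hyZ : y ∈ Z := (QuotientGroup.eq_one_iff _).1 (by
      show π ((a ^ k)⁻¹ * u) = 1
      rw [map_mul, map_inv, map_zpow, hk, inv_mul_cancel])
    have hua : Commute a u := by
      rw [show u = a ^ k * y by rw [hy]; group]
      exact (Commute.self_zpow a k).mul_right (Subgroup.mem_center_iff.1 (hZc hyZ) a)
    have hbu : b * u * b⁻¹ = u ^ (1 - k) := by
      have h1 : b * a * b⁻¹ = u⁻¹ * a := by rw [hu, commutatorElement_def]; group
      calc b * u * b⁻¹ = (b * a * b⁻¹) ^ k * (b * y * b⁻¹) := by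
            rw [conj_zpow, show u = a ^ k * y by rw [hy]; group]; group
        _ = (u⁻¹ * a) ^ k * y := by
            rw [h1, Subgroup.mem_center_iff.1 (hZc hyZ) b, mul_inv_cancel_right]
        _ = u⁻¹ ^ k * (a ^ k * y) := by rw [(hua.symm.inv_left).mul_zpow]; group
        _ = u ^ (1 - k) := by rw [hy, mul_inv_cancel_left, zpow_sub, zpow_one, inv_zpow]; exact ((Commute.refl u).zpow_left k).inv_left.eq
    have hgen' : Subgroup.closure ({a, b} : Set R) = ⊤ := by
      refine frattini_nongenerating (eq_top_iff.2 fun w _ => ?_)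
      obtain ⟨i, z, hz, j, rfl⟩ := hform w
      refine mul_mem (mul_mem ?_ ?_) ?_
      · exact Subgroup.mem_sup_left (zpow_mem (Subgroup.subset_closure (by simp)) i)
      · exact Subgroup.mem_sup_right (Solv.commutator_le_frattini_pgroup hR (hZR hz))
      · exact Subgroup.mem_sup_left (zpow_mem (Subgroup.subset_closure (by simp)) j)
    have hnormu : (Subgroup.zpowers u).Normal := by
      rw [← Subgroup.normalizer_eq_top_iff, eq_top_iff, ← hgen', Subgroup.closure_le]
      rintro g (rfl | rfl)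
      · refine mem_normalizer_of_cj_le ?_
        rw [cj, MonoidHom.map_zpowers, Subgroup.zpowers_le]
        show g * u * g⁻¹ ∈ _
        rw [hua.eq, mul_inv_cancel_right]; exact Subgroup.mem_zpowers u
      · refine mem_normalizer_of_cj_le ?_
        rw [cj, MonoidHom.map_zpowers, Subgroup.zpowers_le]
        show g * u * g⁻¹ ∈ _
        rw [hbu]; exact zpow_mem (Subgroup.mem_zpowers u) _
    haveI := hnormu
    have hder : commutator R ≤ Subgroup.zpowers u := by
      let ρ := QuotientGroup.mk' (Subgroup.zpowers u)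
      have hab' : Commute (ρ a) (ρ b) := by
        rw [← commutatorElement_eq_one_iff_commute, ← map_commutatorElement]
        exact (QuotientGroup.eq_one_iff _).2 (Subgroup.mem_zpowers u)
      have htopc : ∀ g : R, Commute (ρ a) (ρ g) ∧ Commute (ρ b) (ρ g) := by
        intro g
        have hle : Subgroup.closure ({a, b} : Set R) ≤ (Subgroup.centralizer ({ρ a, ρ b} : Set _)).comap ρ := by
          rw [Subgroup.closure_le]
          rintro w (rfl | rfl) <;> refine Subgroup.mem_centralizer_iff.2 ?_ <;> rintro v (rfl | rfl)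
          · rfl
          · exact hab'.symm.eq
          · exact hab'.eq
          · rfl
        have h := hle (hgen' ▸ Subgroup.mem_top g)
        exact ⟨Subgroup.mem_centralizer_iff.1 h (ρ a) (by simp), Subgroup.mem_centralizer_iff.1 h (ρ b) (by simp)⟩
      rw [commutator_def, Subgroup.commutator_le]
      intro g _ h _
      rw [← QuotientGroup.eq_one_iff, ← QuotientGroup.mk'_apply, map_commutatorElement, commutatorElement_eq_one_iff_commute]
      have hle : Subgroup.closure ({a, b} : Set R) ≤ (Subgroup.centralizer ({ρ h} : Set _)).comap ρ := by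
        rw [Subgroup.closure_le]
        rintro w (rfl | rfl) <;> refine Subgroup.mem_centralizer_singleton_iff.2 ?_
        · exact (htopc h).1.eq
        · exact (htopc h).2.eq
      exact Subgroup.mem_centralizer_singleton_iff.1 (hle (hgen' ▸ Subgroup.mem_top g))
    have hexpZ : ∀ z ∈ Z, z ^ p = 1 := fun z hz => by
      have := pow_card_eq_one' (x := (⟨z, hz⟩ : Z))
      rw [hZcard] at this
      exact congrArg Subtype.val this
    -- the derived subgroup is `Z`
    have huZ : u ∈ Z := by
      have hne : ∃ z ∈ Z, z ≠ (1 : R) := by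
        by_contra hc
        push Not at hc
        have : Z = ⊥ := (Subgroup.eq_bot_iff_forall Z).2 hc
        rw [this, Subgroup.card_bot] at hZcard
        exact hp.out.ne_one hZcard.symm
      obtain ⟨z, hz, hz1⟩ := hne
      obtain ⟨m, hm⟩ := hder (hZR hz)
      simp only at hm
      have e : z = a ^ (k * m) * y ^ m := by
        rw [← hm, show u = a ^ k * y by rw [hy]; group,
          (show Commute (a ^ k) y from Subgroup.mem_center_iff.1 (hZc hyZ) _).mul_zpow, ← zpow_mul]
      have ha0 : a ^ (k * m) = 1 := hcyc (a ^ (k * m))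
        (by rw [show a ^ (k * m) = z * (y ^ m)⁻¹ by rw [e]; group]; exact mul_mem hz (inv_mem (zpow_mem hyZ m)))
        |> fun h => by
          by_contra hne
          exact h hne (zpow_mem (Subgroup.mem_zpowers a) _)
      have hpm : ¬ (p : ℤ) ∣ m := by
        rintro ⟨t, rfl⟩
        rw [ha0, one_mul, zpow_mul, zpow_natCast, hexpZ y hyZ, one_zpow] at e
        exact hz1 e
      obtain ⟨e', he'⟩ := IsPGroup.iff_orderOf.1 hR a
      have hdvd := orderOf_dvd_iff_zpow_eq_one.2 ha0
      rw [he'] at hdvd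
      push_cast at hdvd
      have hk0 : ((p : ℤ) ^ e') ∣ k :=
        (Nat.prime_iff_prime_int.1 hp.out).pow_dvd_of_dvd_mul_right e' hpm hdvd
      have ha1 : a ^ k = 1 := by
        rw [← orderOf_dvd_iff_zpow_eq_one, he']; push_cast; exact hk0
      rw [hy, ha1, inv_one, one_mul] at hyZ
      exact hyZ
    have hclass : ∀ g h : R, ⁅g, h⁆ ∈ Z := fun g h => Subgroup.zpowers_le.2 huZ
      (hder (commutator_def R ▸ Subgroup.commutator_mem_commutator (Subgroup.mem_top g) (Subgroup.mem_top h)))
    have hpow : ∀ g h : R, (g * h) ^ p = g ^ p * h ^ p := by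
      intro g h
      obtain ⟨t, ht⟩ := hp.out.dvd_choose_self (k := 2) (by omega) (by omega)
      have hc : ∀ w : R, Commute ⁅h, g⁆ w := fun w => (Subgroup.mem_center_iff.1 (hZc (hclass h g)) w).symm
      rw [mul_pow_of_central (hc g) (hc h), ht, pow_mul, hexpZ _ (hclass h g), one_pow, mul_one]
    have hpc : ∀ g h : R, Commute (g ^ p) h := by
      intro g h
      have h1 : (h * g * h⁻¹) ^ p = g ^ p := by
        rw [show h * g * h⁻¹ = ⁅h, g⁆ * g by rw [commutatorElement_def]; group, hpow, hexpZ _ (hclass h g), one_mul]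
      rw [conj_pow, mul_inv_eq_iff_eq_mul] at h1
      exact h1.symm
    let ψ : R →* R := MonoidHom.mk' (fun g => g ^ p) hpow
    haveI hW : ψ.range.Normal := ⟨fun w hw g => by
      obtain ⟨v, rfl⟩ := hw
      exact ⟨v, (mul_inv_eq_iff_eq_mul.2 (hpc v g).eq.symm).symm⟩⟩
    have hWab : ∀ g h : R, ⁅g, h⁆ ∈ ψ.range := by
      have h := omega_quotient_le hp3 hR hO ψ.range
      have htop : Cfsg.omegaOne p (⊤ : Subgroup (R ⧸ ψ.range)) = ⊤ := eq_top_iff.2 fun v _ => by
        obtain ⟨w, rfl⟩ := QuotientGroup.mk'_surjective _ v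
        exact Subgroup.subset_closure ⟨Subgroup.mem_top _, by
          rw [← map_pow]; exact (QuotientGroup.eq_one_iff _).2 ⟨w, rfl⟩⟩
      rw [htop, Subgroup.card_top] at h
      obtain ⟨j, hj⟩ := (hR.to_quotient ψ.range).exists_card_eq
      have hj2 : j ≤ 2 := (Nat.pow_le_pow_iff_right hp.out.one_lt).1 (hj ▸ h)
      have hcomm : ∀ v w : R ⧸ ψ.range, v * w = w * v := by
        rcases (show j ≤ 1 ∨ j = 2 by omega) with hj1 | rfl
        · intro v w
          have hz : (⊤ : Subgroup (R ⧸ ψ.range)) ≤ Subgroup.center _ := le_center_of_card_prime (hR.to_quotient _) ⊤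
            (by rw [Subgroup.card_top, hj]; exact (Nat.pow_le_pow_right hp.out.pos hj1).trans (pow_one p).le)
          exact (Subgroup.mem_center_iff.1 (hz (Subgroup.mem_top w)) v)
        · exact fun v w => (IsPGroup.commutative_of_card_eq_prime_sq (p := p) hj v w)
      intro g h
      rw [← QuotientGroup.eq_one_iff, ← QuotientGroup.mk'_apply, map_commutatorElement, commutatorElement_eq_one_iff_mul_comm]
      exact hcomm _ _
    by_cases hu1 : u = 1
    · refine absurd (eq_bot_iff.2 (hder.trans ?_)) hab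
      rw [hu1, Subgroup.zpowers_one_eq_bot]
    obtain ⟨c₀, hc₀⟩ := hWab a b
    obtain ⟨s, z, hz, t, rfl⟩ := hform c₀
    have hsplit : a ^ ((p : ℤ) * s) * b ^ ((p : ℤ) * t) = u := by
      rw [hu, ← hc₀]
      show _ = (a ^ s * z * b ^ t) ^ p
      rw [hpow, hpow, hexpZ z hz, mul_one, ← zpow_natCast (a ^ s), ← zpow_mul, ← zpow_natCast (b ^ t), ← zpow_mul,
        mul_comm s, mul_comm t]
    -- metacyclic data from a suitable generator
    have finish : ∀ c d : R, Subgroup.closure ({c, d} : Set R) = ⊤ → u ∈ Subgroup.zpowers c → Cfsg.IsMetacyclic R := by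
      intro c d hcd huc
      haveI hcn : (Subgroup.zpowers c).Normal := ⟨fun v hv g => by
        rw [show g * v * g⁻¹ = ⁅g, v⁆ * v by rw [commutatorElement_def]; group]
        exact mul_mem (Subgroup.zpowers_le.2 huc (hder (commutator_def R ▸ Subgroup.commutator_mem_commutator (Subgroup.mem_top g) (Subgroup.mem_top v)))) hv⟩
      refine ⟨Subgroup.zpowers c, hcn, inferInstance, ⟨QuotientGroup.mk d, fun v => ?_⟩⟩
      obtain ⟨w, rfl⟩ := QuotientGroup.mk'_surjective _ v
      have hle : Subgroup.closure ({c, d} : Set R) ≤ (Subgroup.zpowers (QuotientGroup.mk' (Subgroup.zpowers c) d)).comap (QuotientGroup.mk' _) := by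
        rw [Subgroup.closure_le]
        rintro w (rfl | rfl)
        · rw [SetLike.mem_coe, Subgroup.mem_comap]
          rw [show QuotientGroup.mk' (Subgroup.zpowers w) w = 1 from (QuotientGroup.eq_one_iff _).2 (Subgroup.mem_zpowers w)]
          exact one_mem _
        · exact Subgroup.mem_zpowers _
      exact hle (hcd ▸ Subgroup.mem_top w)
    -- `u = x^(p s) y^(p t)` with the exponent of `x` of least valuation
    have main : ∀ x y : R, Subgroup.closure ({x, y} : Set R) = ⊤ → ∀ (α : ℕ) (s' t' : ℤ), ¬ (p : ℤ) ∣ s' →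
        x ^ ((p : ℤ) * ((p : ℤ) ^ α * s')) * y ^ ((p : ℤ) * ((p : ℤ) ^ α * t')) = u → Cfsg.IsMetacyclic R := by
      intro x y hxy α s' t' hs' he
      set c := x ^ s' * y ^ t' with hc
      refine finish c y ?_ ?_
      · rw [eq_top_iff, ← hxy, Subgroup.closure_le]
        rintro w (rfl | rfl)
        · have hsx : w ^ s' ∈ Subgroup.closure ({c, y} : Set R) := by
            rw [show w ^ s' = c * (y ^ t')⁻¹ by rw [hc]; group]
            exact mul_mem (Subgroup.subset_closure (by simp)) (inv_mem (zpow_mem (Subgroup.subset_closure (by simp)) _))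
          obtain ⟨e', he'⟩ := IsPGroup.iff_orderOf.1 hR w
          have hcop : IsCoprime s' ((p : ℤ) ^ e') :=
            (IsCoprime.pow_right (((Nat.prime_iff_prime_int.1 hp.out).coprime_iff_not_dvd.2 hs').symm))
          obtain ⟨α', β', hαβ⟩ := hcop
          have hw1 : w ^ ((p : ℤ) ^ e') = 1 := by
            rw [← orderOf_dvd_iff_zpow_eq_one, he']; push_cast; rfl
          have : w = (w ^ s') ^ α' := by
            calc w = w ^ (α' * s' + β' * (p : ℤ) ^ e') := by rw [hαβ, zpow_one]
              _ = _ := by rw [zpow_add, mul_comm α', zpow_mul, mul_comm β', zpow_mul w ((p : ℤ) ^ e'), hw1, one_zpow, mul_one]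
          rw [SetLike.mem_coe, this]; exact zpow_mem hsx _
        · exact Subgroup.subset_closure (by simp)
      · refine ⟨(p : ℤ) * (p : ℤ) ^ α, ?_⟩
        show c ^ ((p : ℤ) * (p : ℤ) ^ α) = u
        rw [← he, zpow_mul, zpow_natCast, hc, hpow,
          (hpc (x ^ s') ((y ^ t') ^ p)).mul_zpow, ← zpow_natCast (x ^ s'), ← zpow_natCast (y ^ t'), ← zpow_mul,
          ← zpow_mul, ← zpow_mul, ← zpow_mul]
        congr 2 <;> ring
    have val : ∀ e : ℤ, e ≠ 0 → ∃ (α : ℕ) (e' : ℤ), ¬ (p : ℤ) ∣ e' ∧ e = (p : ℤ) ^ α * e' := by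
      intro e he
      obtain ⟨α, e', h1, h2⟩ := WfDvdMonoid.max_power_factor he (Nat.prime_iff_prime_int.1 hp.out).irreducible
      exact ⟨α, e', h1, h2⟩
    by_cases hs : s = 0
    · rw [hs, mul_zero, zpow_zero, one_mul] at hsplit
      exact finish b a (by rw [Set.pair_comm]; exact hgen') ⟨_, hsplit⟩
    by_cases ht : t = 0
    · rw [ht, mul_zero, zpow_zero, mul_one] at hsplit
      exact finish a b hgen' ⟨_, hsplit⟩
    obtain ⟨α, s', hs', rfl⟩ := val s hs
    obtain ⟨β, t', ht', rfl⟩ := val t ht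
    rcases le_total α β with hle | hle
    · refine main a b hgen' α s' ((p : ℤ) ^ (β - α) * t') hs' ?_
      rwa [← mul_assoc ((p : ℤ) ^ α) ((p : ℤ) ^ (β - α)), ← pow_add, Nat.add_sub_cancel' hle]
    · refine main b a (by rw [Set.pair_comm]; exact hgen') β t' ((p : ℤ) ^ (α - β) * s') ht' ?_
      rw [← mul_assoc ((p : ℤ) ^ β) ((p : ℤ) ^ (α - β)), ← pow_add, Nat.add_sub_cancel' hle]
      rw [← hsplit, zpow_mul b, zpow_natCast]
      exact (hpc b _).zpow_left _ |>.eq

end Cfsg.Agent.Fusion
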