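import Cfsg.Agent.Lib.Fusion.PConstrained
import Cfsg.Agent.Lib.Solv.Component

/-!
# The extended 2-layer
-/

set_option autoImplicit false

open Cfsg

namespace Cfsg.Agent.Fusion

section
variable {X : Type*} [Group X] [Finite X] {p : ℕ} [hp : Fact p.Prime]

/-- `O_{p'}` of a subgroup, viewed in the ambient group, commutes with conjugation. -/
theorem cj_pPrimeCore_subgroup (H : Subgroup X) (g : X) :
    cj ((pPrimeCore p ↥H).map H.subtype) g = (pPrimeCore p ↥(cj H g)).map (cj H g).subtype := by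
  let e : ↥H ≃* ↥(cj H g) := H.equivMapOfInjective _ (MulAut.conj g).injective
  rw [← map_pPrimeCore_equiv (p := p) e, cj, Subgroup.map_map, Subgroup.map_map]
  rfl

theorem pLayer_normal : (pLayer p X).Normal := by
  refine normal_iff_cj.2 fun g => cj_eq_of_cj_le ?_
  rw [cj, pLayer, sSup_eq_iSup, Subgroup.map_iSup]
  refine iSup_le fun K => ?_
  rw [Subgroup.map_iSup]
  refine iSup_le fun hK => le_iSup₂_of_le (K.map (MulAut.conj g).toMonoidHom) ?_ le_rfl
  set π := QuotientGroup.mk' (pPrimeCore p X)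
  have hm : ∀ H : Subgroup X, (H.map (MulAut.conj g).toMonoidHom).map π =
      (H.map π).map (MulAut.conj (π g)).toMonoidHom := by
    intro H
    rw [Subgroup.map_map, Subgroup.map_map]
    congr 1
  refine ⟨Subgroup.IsSubnormal.map (f := (MulAut.conj g).toMonoidHom) (MulAut.conj g).surjective hK.1, ?_, ?_⟩
  · rw [hm]
    exact Solv.component_conj hK.2.1 (π g)
  · intro H hH hHK he
    rw [hm] at he
    have h1 := hK.2.2 (cj H g⁻¹)
      (Subgroup.IsSubnormal.map (f := (MulAut.conj g⁻¹).toMonoidHom) (MulAut.conj g⁻¹).surjective hH)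
      (cj_le_iff.2 (by rw [inv_inv]; exact hHK)) (by
        apply Subgroup.map_injective (f := (MulAut.conj (π g)).toMonoidHom) (MulAut.conj (π g)).injective
        show _ = (K.map π).map (MulAut.conj (π g)).toMonoidHom
        rw [← hm, ← cj, cj_inv_cj]
        exact he)
    rw [← h1, ← cj, cj_inv_cj]

end

variable {X : Type*} [Group X] [Finite X]

/-- The base `L_{2'}(X) O_{2',2}(X)`. -/
def layerBase (X : Type*) [Group X] : Subgroup X := pLayer 2 X ⊔ pPrimePCore 2 X

/-- `O(C(T))` inside `X`. -/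
def oddCent (T : Subgroup X) : Subgroup X :=
  (pPrimeCore 2 ↥(Subgroup.centralizer (T : Set X))).map (Subgroup.centralizer (T : Set X)).subtype

theorem cj_oddCent (T : Subgroup X) (g : X) : cj (oddCent T) g = oddCent (cj T g) := by
  haveI : Fact (Nat.Prime 2) := ⟨Nat.prime_two⟩
  rw [oddCent, cj_pPrimeCore_subgroup, oddCent, cj_centralizer]

theorem extendedTwoLayer_eq :
    extendedTwoLayer X = pLayer 2 X ⊔ oddCore X ⊔
      ⨆ T : {T : Subgroup X // SylIn 2 T (layerBase X)}, oddCent (T : Subgroup X) := by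
  haveI : Fact (Nat.Prime 2) := ⟨Nat.prime_two⟩
  refine congrArg (fun W => pLayer 2 X ⊔ oddCore X ⊔ W) (le_antisymm (iSup_le fun T => ?_) (iSup_le fun T => ?_))
  · exact le_iSup_of_le ⟨_, sylIn_map (layerBase X) T⟩ le_rfl
  · obtain ⟨P, hP⟩ := T.2.exists_sylow_subgroupOf
    refine le_iSup_of_le P ?_
    have e : (P : Subgroup ↥(layerBase X)).map (layerBase X).subtype = (T : Subgroup X) := by
      rw [hP, Subgroup.map_subgroupOf_eq_of_le T.2.le]
    show oddCent (T : Subgroup X) ≤ oddCent ((P : Subgroup ↥(layerBase X)).map (layerBase X).subtype)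
    rw [e]

theorem layerBase_normal : (layerBase X).Normal := by
  haveI : Fact (Nat.Prime 2) := ⟨Nat.prime_two⟩
  haveI := pLayer_normal (X := X) (p := 2)
  haveI := pPrimePCore_normal (G := X) (p := 2)
  unfold layerBase; infer_instance

theorem extendedTwoLayer_normal : (extendedTwoLayer X).Normal := by
  haveI : Fact (Nat.Prime 2) := ⟨Nat.prime_two⟩
  haveI := pLayer_normal (X := X) (p := 2)
  haveI := layerBase_normal (X := X)
  rw [extendedTwoLayer_eq]
  have h : (⨆ T : {T : Subgroup X // SylIn 2 T (layerBase X)}, oddCent (T : Subgroup X)).Normal := by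
    refine normal_iff_cj.2 fun g => cj_eq_of_cj_le ?_
    rw [cj, Subgroup.map_iSup]
    refine iSup_le fun T => ?_
    have hT := T.2.cj g
    rw [cj_of_normal (layerBase X) g] at hT
    exact (le_of_eq (cj_oddCent _ g)).trans (le_iSup_of_le ⟨_, hT⟩ le_rfl)
  haveI := h
  infer_instance

theorem extendedTwoLayer_eq_of_sylIn {T : Subgroup X} (hT : SylIn 2 T (layerBase X)) :
    extendedTwoLayer X = pLayer 2 X ⊔ oddCore X ⊔ oddCent T := by
  haveI : Fact (Nat.Prime 2) := ⟨Nat.prime_two⟩
  haveI := pLayer_normal (X := X) (p := 2)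
  haveI := pPrimePCore_normal (G := X) (p := 2)
  rw [extendedTwoLayer_eq]
  refine le_antisymm (sup_le le_sup_left (iSup_le fun T' => ?_))
    (sup_le_sup_left (le_iSup (fun T' : {T : Subgroup X // SylIn 2 T (layerBase X)} => oddCent (T' : Subgroup X)) ⟨T, hT⟩) _)
  obtain ⟨x, hx, he⟩ := hT.conj_eq T'.2
  rw [← he, ← cj_oddCent]
  set R := pLayer 2 X ⊔ oddCore X ⊔ oddCent T
  have hR : R = (pLayer 2 X ⊔ oddCore X) ⊔ oddCent T := rfl
  have hTfix : T ≤ Subgroup.normalizer (R : Set X) := fun t ht => mem_normalizer_of_cj_le (by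
    rw [hR, cj_sup, cj_of_normal]
    refine sup_le_sup_left ?_ _
    rintro _ ⟨w, hw, rfl⟩
    obtain ⟨w, hw', rfl⟩ := hw
    show t * (w : X) * t⁻¹ ∈ oddCent T
    rw [Subgroup.mem_centralizer_iff.1 w.2 t ht, mul_inv_cancel_right]
    exact Subgroup.mem_map_of_mem _ hw')
  have hQ : SylIn 2 (T ⊓ pPrimePCore 2 X) (pPrimePCore 2 X) :=
    hT.inf_normal (le_sup_right : pPrimePCore 2 X ≤ layerBase X) (by rw [Subgroup.normalizer_eq_top]; exact le_top)
  have hL : layerBase X ≤ Subgroup.normalizer (R : Set X) := by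
    refine sup_le (le_trans (le_sup_left.trans le_sup_left) Subgroup.le_normalizer) ?_
    rw [← sup_pPrimeCore_of_sylIn hQ]
    exact sup_le (inf_le_left.trans hTfix)
      ((le_trans le_sup_right le_sup_left : oddCore X ≤ R).trans Subgroup.le_normalizer)
  calc cj (oddCent T) x ≤ cj R x := cj_mono le_sup_right x
    _ = R := cj_eq_self (hL hx)

end Cfsg.Agent.Fusion
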