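import Cfsg.Agent.Lib.Fusion.SchreierBalance
import Cfsg.Agent.Lib.Fusion.ExtendedLayer
import Cfsg.Prelude.Def_EvenTechniques

/-!
# `p`-local subgroups and the quotient by the `p'`-core
-/

set_option autoImplicit false
set_option linter.style.haveILetI false

open scoped commutatorElement

universe u

namespace Cfsg.Agent.Fusion

variable {X : Type u} [Group X] [Finite X] {p : ℕ} [hp : Fact p.Prime]

/-- A `p`-local subgroup maps onto a `p`-local subgroup of the quotient by a normal `p'`-subgroup. -/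
theorem exists_preimage_normalizer {O : Subgroup X} [O.Normal] (hO : (Nat.card O).Coprime p) {R : Subgroup X}
    (hR : IsPGroup p R) {v : X ⧸ O}
    (hv : v ∈ Subgroup.normalizer (R.map (QuotientGroup.mk' O) : Set (X ⧸ O))) :
    ∃ n ∈ Subgroup.normalizer (R : Set X), QuotientGroup.mk' O n = v := by
  set π := QuotientGroup.mk' O
  obtain ⟨x, rfl⟩ := QuotientGroup.mk'_surjective O v
  have hRM : SylIn p R (R ⊔ O) := by
    refine ⟨le_sup_left, hR, fun hd => ?_⟩
    rw [relIndex_sup_normal' (R := R) (O := O)] at hd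
    exact (Nat.Prime.coprime_iff_not_dvd hp.out).1 hO.symm (hd.trans (Subgroup.relIndex_dvd_card _ _))
  have hx : x ∈ Subgroup.normalizer ((R ⊔ O : Subgroup X) : Set X) := mem_normalizer_of_cj_le (by
    rw [cj_sup, cj_of_normal O]
    refine sup_le ?_ le_sup_right
    rintro _ ⟨r, hr, rfl⟩
    obtain ⟨r', hr', he⟩ := (Subgroup.mem_normalizer_iff.1 hv _).1 ⟨r, hr, rfl⟩
    have h1 : r'⁻¹ * (x * r * x⁻¹) ∈ O := QuotientGroup.eq.1 (by
      show π r' = π (x * r * x⁻¹)
      rw [he, map_mul, map_mul, map_inv])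
    have h2 := mul_mem (Subgroup.mem_sup_left hr' : r' ∈ R ⊔ O) (Subgroup.mem_sup_right h1)
    rwa [mul_inv_cancel_left] at h2)
  obtain ⟨m, hm, hmx⟩ := frattini_conj hRM (H := Subgroup.normalizer ((R ⊔ O : Subgroup X) : Set X)) le_rfl hx
  obtain ⟨r, hr, o, ho, rfl⟩ := Subgroup.mem_sup_of_normal_right.1 hm
  refine ⟨r⁻¹ * (r * o * x), mul_mem (Subgroup.le_normalizer (R.inv_mem hr)) hmx, ?_⟩
  rw [show r⁻¹ * (r * o * x) = o * x by group, map_mul, show π o = 1 from (QuotientGroup.eq_one_iff o).2 ho, one_mul]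
where
  relIndex_sup_normal' {X : Type u} [Group X] [Finite X] {R O : Subgroup X} [O.Normal] :
      R.relIndex (R ⊔ O) = (R ⊓ O).relIndex O := by
    have h1 := Subgroup.relIndex_mul_relIndex (R ⊓ O) R (R ⊔ O) inf_le_left le_sup_left
    have h2 := Subgroup.relIndex_mul_relIndex (R ⊓ O) O (R ⊔ O) inf_le_right le_sup_right
    have h3 : O.relIndex (R ⊔ O) = (R ⊓ O).relIndex R := by
      rw [Subgroup.relIndex_sup_right, inf_comm, Subgroup.inf_relIndex_right]
    have h4 : (R ⊓ O).relIndex R ≠ 0 := Subgroup.index_ne_zero_of_finite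
    rw [h3] at h2
    exact Nat.eq_of_mul_eq_mul_left (Nat.pos_of_ne_zero h4) (by rw [h1, ← h2, mul_comm])

/-- Balance for the `p`-layer. -/
theorem pLayer_balance
    (hS : ∀ J : Subgroup (X ⧸ Cfsg.pPrimeCore p X), Cfsg.IsComponent J →
      Group.IsSolvable (Cfsg.Out (↥J ⧸ Subgroup.center ↥J)))
    {R : Subgroup X} (hR : IsPGroup p ↥R) :
    (Cfsg.pLayer p ↥(Subgroup.normalizer (R : Set X))).map (Subgroup.normalizer (R : Set X)).subtype ≤
      Cfsg.pLayer p X := by
  set Y := Subgroup.normalizer (R : Set X)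
  set O := Cfsg.pPrimeCore p X
  set π := QuotientGroup.mk' O
  have hOc : (Nat.card O).Coprime p := card_pPrimeCore_coprime p X
  haveI : (Cfsg.pLayer p X).Normal := pLayer_normal
  rw [Subgroup.map_le_iff_le_comap]
  refine sSup_le fun K hK => pComponent_le_of_pelements hK fun k hk hkp => ?_
  set Rb := R.map π
  set f : Y →* X ⧸ O := π.comp Y.subtype
  set Ob := (Cfsg.pPrimeCore p Y).map f
  have hYb : ∀ v ∈ Subgroup.normalizer (Rb : Set (X ⧸ O)), ∃ n : Y, f n = v := fun v hv => by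
    obtain ⟨n, hn, he⟩ := exists_preimage_normalizer hOc hR hv
    exact ⟨⟨n, hn⟩, he⟩
  have hfY : ∀ n : Y, f n ∈ Subgroup.normalizer (Rb : Set (X ⧸ O)) := fun n =>
    Subgroup.le_normalizer_map π ⟨n, n.2, rfl⟩
  have hKperf : Group.IsPerfect (K.map f) := by
    haveI : Group.IsPerfect K := Subgroup.isPerfect_iff.2 (pComponent_perfect hK)
    exact Group.IsPerfect.ofSurjective (f := f.subgroupMap K) (f.subgroupMap_surjective K)
  have hle : K.map f ≤ Cfsg.layer (X ⧸ O) := by
    refine le_layer_of_local pPrimeCore_quotient_eq_bot hS (hR.map π) (O := Ob) ?_ ?_ ?_ ?_ hKperf ?_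
    · rintro _ ⟨n, -, rfl⟩; exact hfY n
    · intro v hv
      obtain ⟨n, rfl⟩ := hYb v hv
      refine mem_normalizer_of_cj_le ?_
      rintro _ ⟨_, ⟨m, hm, rfl⟩, rfl⟩
      exact ⟨n * m * n⁻¹, (inferInstance : (Cfsg.pPrimeCore p Y).Normal).conj_mem m hm n, by simp⟩
    · exact (card_pPrimeCore_coprime p Y).coprime_dvd_left (Subgroup.card_map_dvd _ f)
    · rintro _ ⟨n, -, rfl⟩; exact hfY n
    · intro W hWN hNW
      set W₀ := W.comap f
      haveI : W₀.Normal := ⟨fun m hm n => by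
        show f (n * m * n⁻¹) ∈ W
        rw [map_mul, map_mul, map_inv]
        exact (Subgroup.mem_normalizer_iff.1 (hNW (hfY n)) _).1 hm⟩
      set ρ := QuotientGroup.mk' (Cfsg.pPrimeCore p Y)
      haveI : (W₀.map ρ).Normal := Subgroup.Normal.map inferInstance ρ (QuotientGroup.mk'_surjective _)
      rcases Solv.component_normal_dichotomy hK.2.1 (W₀.map ρ) with h | h
      · exact Or.inl (Subgroup.map_le_iff_le_comap.2
          (pComponent_le_of_map_le hK (inferInstance : W₀.Normal).isSubnormal h))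
      · right
        rintro _ ⟨k', hk', rfl⟩ w hw
        obtain ⟨n, rfl⟩ := hYb w (hWN hw)
        refine ⟨⁅k', n⁆, ?_, map_commutatorElement f k' n⟩
        rw [← Subgroup.map_commutator, Subgroup.map_eq_bot_iff, QuotientGroup.ker_mk'] at h
        exact h (Subgroup.commutator_mem_commutator hk' hw)
  have h1 : π (k : X) ∈ (Cfsg.pLayer p X).map π := by
    rw [map_pLayer]
    exact hle ⟨k, hk, rfl⟩
  rw [← Subgroup.mem_comap, Subgroup.comap_map_eq, QuotientGroup.ker_mk'] at h1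
  obtain ⟨j, hj⟩ := hkp
  exact pelement_mem_of_mem_sup (inferInstance : (Cfsg.pLayer p X).Normal).isSubnormal h1
    ⟨j, congrArg Subtype.val hj⟩

/-- The `p'`-core of a `p`-local subgroup fixes the `p`-components and centralizes `O_p` modulo `O_{p'}`. -/
theorem pPrimeCore_normalizer_le_hatPLayer {R : Subgroup X} (hR : IsPGroup p ↥R) :
    (Cfsg.pPrimeCore p ↥(Subgroup.normalizer (R : Set X))).map (Subgroup.normalizer (R : Set X)).subtype ≤
      Cfsg.hatPLayer p X := by
  set Y := Subgroup.normalizer (R : Set X)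
  set O := Cfsg.pPrimeCore p X
  set π := QuotientGroup.mk' O
  set Rb := R.map π
  set f : Y →* X ⧸ O := π.comp Y.subtype
  set Ob := (Cfsg.pPrimeCore p Y).map f
  have hOc : (Nat.card O).Coprime p := card_pPrimeCore_coprime p X
  have hfY : ∀ n : Y, f n ∈ Subgroup.normalizer (Rb : Set (X ⧸ O)) := fun n =>
    Subgroup.le_normalizer_map π ⟨n, n.2, rfl⟩
  have hObY : Ob ≤ Subgroup.normalizer (Rb : Set (X ⧸ O)) := by rintro _ ⟨n, -, rfl⟩; exact hfY n
  have hObc : (Nat.card Ob).Coprime p :=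
    (card_pPrimeCore_coprime p Y).coprime_dvd_left (Subgroup.card_map_dvd _ f)
  have hON : Subgroup.normalizer (Rb : Set (X ⧸ O)) ≤ Subgroup.normalizer (Ob : Set (X ⧸ O)) := fun v hv => by
    obtain ⟨n, hn, rfl⟩ := exists_preimage_normalizer hOc hR hv
    refine mem_normalizer_of_cj_le ?_
    rintro _ ⟨_, ⟨m, hm, rfl⟩, rfl⟩
    exact ⟨⟨n, hn⟩ * m * ⟨n, hn⟩⁻¹, (inferInstance : (Cfsg.pPrimeCore p Y).Normal).conj_mem m hm ⟨n, hn⟩,
      by simp [f, π]⟩
  rintro _ ⟨g, hg, rfl⟩
  have hgb : f g ∈ Ob := ⟨g, hg, rfl⟩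
  have hgp : (orderOf (f g)).Coprime p := hObc.coprime_dvd_left (by
    rw [← Subgroup.orderOf_mk (f g) hgb]; exact orderOf_dvd_natCard _)
  -- a normal `p`-subgroup of the local subgroup is centralized
  have hpc : ∀ W : Subgroup (X ⧸ O), IsPGroup p W →
      Subgroup.normalizer (Rb : Set (X ⧸ O)) ≤ Subgroup.normalizer (W : Set (X ⧸ O)) →
      W ≤ Subgroup.normalizer (Rb : Set (X ⧸ O)) → ∀ w ∈ W, f g * w = w * f g := by
    intro W hW hNW hWN w hw
    have h : ⁅f g, w⁆ ∈ Ob ⊓ W := by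
      refine ⟨?_, ?_⟩
      · rw [commutatorElement_def, mul_assoc (f g) w, mul_assoc (f g)]
        exact Ob.mul_mem hgb ((Subgroup.mem_normalizer_iff.1 (hON (hWN hw)) _).1 (Ob.inv_mem hgb))
      · rw [commutatorElement_def]
        exact W.mul_mem ((Subgroup.mem_normalizer_iff.1 (hNW (hfY g)) w).1 hw) (W.inv_mem hw)
    rw [coprime_inf_pGroup hObc hW, Subgroup.mem_bot, commutatorElement_eq_one_iff_mul_comm] at h
    exact h
  obtain ⟨hQ, hJ⟩ := local_element_fixes pPrimeCore_quotient_eq_bot (hR.map π) hObY hON hObc (hfY g)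
    (hpc Rb (hR.map π) le_rfl Subgroup.le_normalizer) hgp
    (fun q hq hqr => hpc (Cfsg.pCore p (X ⧸ O) ⊓ Subgroup.centralizer (Rb : Set (X ⧸ O)))
      ((isPGroup_pCore p _).to_le inf_le_left)
      (fun v hv => mem_normalizer_of_cj_le (by rw [cj_inf, cj_of_normal, cj_centralizer, cj_eq_self hv]))
      (inf_le_right.trans (Subgroup.centralizer_le_normalizer _)) q
      ⟨hq, Subgroup.mem_centralizer_iff.2 fun r hr => (hqr r hr).symm⟩)
    (fun w _ hwr => by
      have hwN : w ∈ Subgroup.normalizer (Rb : Set (X ⧸ O)) := Subgroup.centralizer_le_normalizer _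
        (Subgroup.mem_centralizer_iff.2 fun r hr => (hwr r hr).symm)
      rw [commutatorElement_def, mul_assoc (f g) w, mul_assoc (f g)]
      exact Ob.mul_mem hgb ((Subgroup.mem_normalizer_iff.1 (hON hwN) _).1 (Ob.inv_mem hgb)))
  refine ⟨Subgroup.mem_iInf.2 fun K => mem_normalizer_pComponent K.2 ?_, hQ⟩
  exact (cj_eq_self (hJ _ K.2.2.1)).le

end Cfsg.Agent.Fusion
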