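import Cfsg.Agent.Lib.Fusion.ComponentDiag
import Cfsg.Agent.Lib.Fusion.SchreierBalanceApply

/-!
Images of `p`-components in centralizers modulo their `p'`-cores.
-/

set_option autoImplicit false
set_option linter.style.haveILetI false

open Cfsg Cfsg.Agent Cfsg.Agent.Fusion
open scoped commutatorElement

namespace Cfsg.Agent.Terminal

universe u v

variable {p : ℕ} [hp : Fact p.Prime]

/-- A `p`-component maps to a `p`-component under a surjection with `p'`-kernel. -/
theorem pcompOf_map {Y : Type u} {Z : Type v} [Group Y] [Group Z] [Finite Y] [Finite Z] (f : Y →* Z)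
    (hker : (Nat.card f.ker).Coprime p) {I N : Subgroup Y} (hI : Cfsg.IsPComponentOf p I N) :
    Cfsg.IsPComponentOf p (I.map f) (N.map f) ∧
      Nonempty (↥(I.map f) ⧸ Cfsg.pPrimeCore p ↥(I.map f) ≃* ↥I ⧸ Cfsg.pPrimeCore p ↥I) := by
  obtain ⟨hIN, hsn, hq, hmin⟩ := PComp.pcompOf_iff.1 hI
  obtain ⟨g, hg⟩ : ∃ g : ↥I →* ↥(I.map f), g = f.subgroupMap I := ⟨_, rfl⟩
  have hgs : Function.Surjective g := hg ▸ f.subgroupMap_surjective I
  have hgk : g.ker ≤ Cfsg.pPrimeCore p ↥I := by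
    refine le_pPrimeCore (hker.coprime_dvd_left ?_)
    rw [← Solv.card_map_subtype]
    refine Subgroup.card_dvd_of_le ?_
    rintro _ ⟨z, hz, rfl⟩
    rw [hg] at hz
    exact MonoidHom.mem_ker.2 (congrArg Subtype.val hz)
  have hcomap : (Cfsg.pPrimeCore p ↥(I.map f)).comap g = Cfsg.pPrimeCore p ↥I := by
    refine le_antisymm (le_pPrimeCore ?_) ?_
    · have hc := Solv.card_map_mul_card_inf_ker g ((Cfsg.pPrimeCore p ↥(I.map f)).comap g)
      rw [Subgroup.map_comap_eq_self_of_surjective hgs, inf_eq_left.2 (Subgroup.ker_le_comap g _)] at hc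
      rw [← hc, mul_comm]
      exact Nat.Coprime.mul_left ((card_pPrimeCore_coprime p ↥I).coprime_dvd_left (Subgroup.card_dvd_of_le hgk))
        (card_pPrimeCore_coprime p _)
    · rw [← Subgroup.map_le_iff_le_comap]
      haveI : ((Cfsg.pPrimeCore p ↥I).map g).Normal := (inferInstance : (Cfsg.pPrimeCore p ↥I).Normal).map g hgs
      exact le_pPrimeCore ((card_pPrimeCore_coprime p ↥I).coprime_dvd_left (Subgroup.card_map_dvd _ g))
  obtain ⟨e⟩ : Nonempty (↥(I.map f) ⧸ Cfsg.pPrimeCore p ↥(I.map f) ≃* ↥I ⧸ Cfsg.pPrimeCore p ↥I) := by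
    have hk : ((QuotientGroup.mk' (Cfsg.pPrimeCore p ↥(I.map f))).comp g).ker = Cfsg.pPrimeCore p ↥I := by
      rw [← MonoidHom.comap_ker, QuotientGroup.ker_mk', hcomap]
    exact ⟨((QuotientGroup.quotientMulEquivOfEq hk.symm).trans
      (QuotientGroup.quotientKerEquivOfSurjective _ ((QuotientGroup.mk'_surjective _).comp hgs))).symm⟩
  refine ⟨PComp.pcompOf_iff.2 ⟨Subgroup.map_mono hIN, ?_,
    Local.isQuasisimple_congr e.symm hq, fun W hW ht => ?_⟩, ⟨e⟩⟩
  · have h1 := hsn.map (f := f.subgroupMap N) (f.subgroupMap_surjective N)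
    convert h1 using 1
    ext z
    constructor
    · rintro ⟨w, hw, he⟩
      exact ⟨⟨w, hIN hw⟩, hw, Subtype.ext he⟩
    · rintro ⟨w, hw, rfl⟩
      exact ⟨w, hw, rfl⟩
  · have h1 : W.comap g = ⊤ := hmin _ (hW.comap g) (by
      rw [← hcomap, Subgroup.comap_sup_eq g _ _ hgs, ht, Subgroup.comap_top])
    rw [← Subgroup.map_comap_eq_self_of_surjective hgs W, h1, Subgroup.map_top_of_surjective g hgs]

variable {G : Type u} [Group G] [Finite G]

theorem pcompOf_subgroupOf {A H L : Subgroup G} (hA : Cfsg.IsPComponentOf p A H) (hHL : H ≤ L) :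
    Cfsg.IsPComponentOf p (A.subgroupOf L) (H.subgroupOf L) := by
  obtain ⟨hAH, hsn, hq⟩ := PComp.pcompOf_iff.1 hA
  refine PComp.pcompOf_iff.2 ⟨fun z hz => hAH hz, ?_, hq.congr (Subgroup.subgroupOfEquivOfLe (hAH.trans hHL)).symm⟩
  have h1 := hsn.comap (Subgroup.subgroupOfEquivOfLe hHL).toMonoidHom
  convert h1 using 1
  ext g
  exact Iff.rfl

theorem pcompOf_congr_top {A : Subgroup G} :
    Cfsg.IsPComponentOf p A ⊤ ↔ Cfsg.IsPComponent p A := by
  rw [PComp.pcompOf_iff, PComp.isPComponent_iff]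
  constructor
  · rintro ⟨-, hsn, hq⟩
    refine ⟨?_, hq⟩
    have h1 := hsn.trans' (Subgroup.IsSubnormal.top)
    rwa [Subgroup.map_subgroupOf_eq_of_le le_top] at h1
  · exact fun h => ⟨le_top, h.1.subgroupOf, h.2⟩

/-- The number that is maximised. -/
noncomputable def size (p : ℕ) (K : Subgroup G) : ℕ := Nat.card (↥K ⧸ Cfsg.pPrimeCore p ↥K)

omit [Finite G] hp in
theorem size_congr {G' : Type v} [Group G'] {K : Subgroup G} {K' : Subgroup G'}
    (e : ↥K ⧸ Cfsg.pPrimeCore p ↥K ≃* ↥K' ⧸ Cfsg.pPrimeCore p ↥K') : size p K = size p K' :=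
  Nat.card_congr e.toEquiv

omit hp in
theorem size_le_card (K : Subgroup G) : size p K ≤ Nat.card K :=
  Nat.card_le_card_of_surjective _ (QuotientGroup.mk'_surjective _)

omit hp in
theorem core_eq_bot_of_card_le {K : Subgroup G} (h : Nat.card K ≤ size p K) :
    Cfsg.pPrimeCore p ↥K = ⊥ := by
  have h1 := Subgroup.card_eq_card_quotient_mul_card_subgroup (Cfsg.pPrimeCore p ↥K)
  unfold size at h
  refine Subgroup.card_eq_one.1 (le_antisymm ?_ Nat.card_pos)
  have h2 : 0 < Nat.card (↥K ⧸ Cfsg.pPrimeCore p ↥K) := Nat.card_pos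
  exact Nat.le_of_mul_le_mul_left (by rw [mul_one, ← h1]; exact h) h2

/-- A component of a group with trivial core is a `p`-component of every subgroup containing it. -/
theorem pcompOf_component (h0 : Cfsg.pPrimeCore p G = ⊥) {J C : Subgroup G} (hJ : Cfsg.IsComponent J)
    (hJC : J ≤ C) : Cfsg.IsPComponentOf p J C ∧ Cfsg.pPrimeCore p ↥J = ⊥ := by
  have hJ0 : Cfsg.pPrimeCore p ↥J = ⊥ := by
    have h1 : (Cfsg.pPrimeCore p ↥J).map J.subtype ≤ Cfsg.pPrimeCore p G :=
      piPrime_of_subnormal ((inferInstance : (Cfsg.pPrimeCore p ↥J).Normal).isSubnormal.trans' hJ.1)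
        (by rw [Solv.card_map_subtype]; exact card_pPrimeCore_coprime p _)
    rw [h0, le_bot_iff] at h1
    exact (Subgroup.map_eq_bot_iff_of_injective _ J.subtype_injective).1 h1
  refine ⟨PComp.pcompOf_iff.2 ⟨hJC, hJ.1.subgroupOf, Local.isQuasisimple_congr
    ((QuotientGroup.quotientMulEquivOfEq hJ0).trans QuotientGroup.quotientBot).symm hJ.2,
    fun W _ ht => ?_⟩, hJ0⟩
  rwa [hJ0, sup_bot_eq] at ht

theorem pcompOf_not_centralized {I C : Subgroup G} (hI : Cfsg.IsPComponentOf p I C) :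
    ¬ I ≤ Subgroup.centralizer (I : Set G) := fun h => by
  obtain ⟨-, -, hq, -⟩ := PComp.pcompOf_iff.1 hI
  refine Solv.qs_center_ne_top hq (eq_top_iff.2 fun z _ => Subgroup.mem_center_iff.2 fun w => ?_)
  induction z using QuotientGroup.induction_on with
  | _ z =>
    induction w using QuotientGroup.induction_on with
    | _ w =>
      rw [← QuotientGroup.mk_mul, ← QuotientGroup.mk_mul]
      exact congrArg _ (Subtype.ext (Subgroup.mem_centralizer_iff.1 (h z.2) w w.2))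

/-- The `p'`-core of a subgroup, inside the group. -/
noncomputable def coreOf (p : ℕ) (A : Subgroup G) : Subgroup G := (Cfsg.pPrimeCore p ↥A).map A.subtype

omit [Finite G] hp in
theorem coreOf_le (A : Subgroup G) : coreOf p A ≤ A := Subgroup.map_subtype_le _

omit hp in
theorem coreOf_coprime (A : Subgroup G) : (Nat.card (coreOf p A)).Coprime p := by
  rw [coreOf, Solv.card_map_subtype]; exact card_pPrimeCore_coprime p _

omit [Finite G] hp in
theorem centralizerPPrimeCore_eq (x : G) :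
    Cfsg.centralizerPPrimeCore p x = coreOf p (Subgroup.centralizer ({x} : Set G)) := rfl

omit hp in
theorem le_normalizer_coreOf (A : Subgroup G) :
    Subgroup.normalizer (A : Set G) ≤ Subgroup.normalizer (coreOf p A : Set G) :=
  LocBal.normalizer_le_map_core A

omit hp in
theorem coreOf_inf {A B : Subgroup G} {g : G} (hg : g ∈ coreOf p A) (hgB : g ∈ B) :
    g ∈ coreOf p (A ⊓ B) := by
  have hgAB : g ∈ A ⊓ B := Subgroup.mem_inf.2 ⟨coreOf_le A hg, hgB⟩
  haveI : ((coreOf p A).subgroupOf (A ⊓ B)).Normal := ⟨fun z hz w =>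
    (Subgroup.mem_normalizer_iff.1 (le_normalizer_coreOf A (Subgroup.le_normalizer (Subgroup.mem_inf.1 w.2).1)) _).1 hz⟩
  refine ⟨⟨g, hgAB⟩, le_pPrimeCore (N := (coreOf p A).subgroupOf (A ⊓ B)) ?_ hg, rfl⟩
  refine (coreOf_coprime (p := p) A).coprime_dvd_left ?_
  rw [← Solv.card_map_subtype, Subgroup.subgroupOf_map_subtype]
  exact Subgroup.card_dvd_of_le inf_le_left

/-- The centralizer of an element. -/
abbrev Cy (y : G) : Subgroup G := Subgroup.centralizer ({y} : Set G)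

/-- The quotient map of a centralizer by its core. -/
noncomputable abbrev bq (p : ℕ) (y : G) : ↥(Cy y) →* ↥(Cy y) ⧸ Cfsg.pPrimeCore p ↥(Cy y) :=
  QuotientGroup.mk' _

/-- The image of a subgroup in a centralizer modulo its core. -/
noncomputable abbrev bar (p : ℕ) (y : G) (A : Subgroup G) :
    Subgroup (↥(Cy y) ⧸ Cfsg.pPrimeCore p ↥(Cy y)) := (A.subgroupOf (Cy y)).map (bq p y)

/-- The `p`-layer of the fixed points of `y` on `K`. -/
noncomputable abbrev ly (p : ℕ) (K : Subgroup G) (y : G) : Subgroup G := Cfsg.pLayerOf p (K ⊓ Cy y)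

omit [Finite G] hp in
theorem mem_bar {y : G} {A : Subgroup G} {g : ↥(Cy y)} (hg : (g : G) ∈ A) : bq p y g ∈ bar p y A :=
  ⟨g, hg, rfl⟩

omit [Finite G] hp in
theorem mem_Cy_comm {x y : G} : x ∈ Cy y ↔ y ∈ Cy x := by
  rw [Subgroup.mem_centralizer_singleton_iff, Subgroup.mem_centralizer_singleton_iff, eq_comm]

omit [Finite G] hp in
theorem centralizer_zpowers (y : G) :
    Subgroup.centralizer (Subgroup.zpowers y : Set G) = Cy y := by
  rw [Subgroup.zpowers_eq_closure, Subgroup.centralizer_closure]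

omit hp [Finite G] in
theorem isPGroup_zpowers {y : G} (hy : y ^ p = 1) : IsPGroup p (Subgroup.zpowers y) := by
  rintro ⟨_, i, rfl⟩
  exact ⟨1, Subtype.ext (by
    show (y ^ i) ^ p ^ 1 = 1
    rw [pow_one, ← zpow_natCast, ← zpow_mul, mul_comm, zpow_mul, zpow_natCast, hy, one_zpow])⟩

omit hp in
theorem bq_eq_one_of_pow {y : G} {g : ↥(Cy y)} {n : ℕ} (hg : g ^ p ^ n = 1) (h : bq p y g = 1) : g = 1 := by
  rw [← orderOf_eq_one_iff]
  have h1 : g ∈ Cfsg.pPrimeCore p ↥(Cy y) := (QuotientGroup.eq_one_iff g).1 h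
  exact Nat.eq_one_of_dvd_coprimes ((mem_pPrimeCore_orderOf h1).pow_right n) dvd_rfl
    (orderOf_dvd_of_pow_eq_one hg)

/-- The centralizer in the quotient of an element of order `p`. -/
theorem centralizer_bar {y u : G} (hu : u ^ p = 1) (huy : u ∈ Cy y) :
    Subgroup.centralizer ({bq p y ⟨u, huy⟩} : Set _) = bar p y (Cy u ⊓ Cy y) := by
  refine le_antisymm (fun v hv => ?_) ?_
  · obtain ⟨U, hU⟩ : ∃ U, U = Subgroup.zpowers (⟨u, huy⟩ : ↥(Cy y)) := ⟨_, rfl⟩
    have hUp : IsPGroup p U := by rw [hU]; exact isPGroup_zpowers (Subtype.ext hu)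
    have hvn : v ∈ Subgroup.normalizer (U.map (bq p y) : Set _) := by
      rw [hU, MonoidHom.map_zpowers]
      refine Subgroup.centralizer_le_normalizer _ ?_
      rw [Subgroup.zpowers_eq_closure, Subgroup.centralizer_closure]
      exact hv
    obtain ⟨n, hn, rfl⟩ := Fusion.exists_preimage_normalizer (card_pPrimeCore_coprime p ↥(Cy y)) hUp hvn
    refine mem_bar (Subgroup.mem_inf.2 ⟨?_, n.2⟩)
    have h1 : n * ⟨u, huy⟩ * n⁻¹ * (⟨u, huy⟩ : ↥(Cy y))⁻¹ ∈ Cfsg.pPrimeCore p ↥(Cy y) ⊓ U := by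
      refine Subgroup.mem_inf.2 ⟨?_, mul_mem ((Subgroup.mem_normalizer_iff.1 hn _).1
        (hU ▸ Subgroup.mem_zpowers _)) (inv_mem (hU ▸ Subgroup.mem_zpowers _))⟩
      rw [← QuotientGroup.ker_mk' (Cfsg.pPrimeCore p ↥(Cy y)), MonoidHom.mem_ker, map_mul, map_mul, map_mul,
        map_inv, map_inv]
      have h2 := Subgroup.mem_centralizer_singleton_iff.1 hv
      rw [h2]
      group
    rw [coprime_inf_pGroup (card_pPrimeCore_coprime p _) hUp, Subgroup.mem_bot, mul_inv_eq_one,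
      mul_inv_eq_iff_eq_mul] at h1
    exact Subgroup.mem_centralizer_singleton_iff.2 (congrArg Subtype.val h1)
  · rintro _ ⟨g, hg, rfl⟩
    rw [Subgroup.mem_centralizer_singleton_iff, ← map_mul, ← map_mul]
    exact congrArg _ (Subtype.ext (Subgroup.mem_centralizer_singleton_iff.1 (Subgroup.mem_inf.1 hg).1))

/-- The fixed `p`-layer of a `p`-component in another centralizer modulo its core. -/
theorem bar_ly {x y : G} {K : Subgroup G} (hK : Cfsg.IsPComponentOf p K (Cy x)) (hx : x ^ p = 1)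
    (hy : y ∈ Cfsg.centralizerOfPComponent p x K) (hyp : y ^ p = 1) (hxy : x ∈ Cy y) :
    Cfsg.IsPComponentOf p (ly p K y) (Cy x ⊓ Cy y) ∧ ly p K y ≤ K ∧
      (∀ k ∈ K, ∃ i ∈ ly p K y, i⁻¹ * k ∈ Cfsg.centralizerPPrimeCore p x) ∧
      Cfsg.IsPComponentOf p (bar p y (ly p K y)) (Subgroup.centralizer {bq p y ⟨x, hxy⟩}) ∧
      Nonempty (↥(bar p y (ly p K y)) ⧸ Cfsg.pPrimeCore p ↥(bar p y (ly p K y)) ≃* ↥K ⧸ Cfsg.pPrimeCore p ↥K) := by
  obtain ⟨h1, h2, h3, ⟨e⟩⟩ := PComp.fixed_pLayer hK (isPGroup_zpowers hyp) (Subgroup.zpowers_le.2 hy)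
  rw [centralizer_zpowers] at h1 h2 h3 e
  obtain ⟨h4, ⟨e'⟩⟩ := pcompOf_map (bq p y) (by
    rw [QuotientGroup.ker_mk']; exact card_pPrimeCore_coprime p _)
    (pcompOf_subgroupOf h1 (inf_le_right : Cy x ⊓ Cy y ≤ Cy y))
  refine ⟨h1, h2, h3, by rw [centralizer_bar hx hxy]; exact h4, ⟨e'.trans ?_⟩⟩
  exact (QuotientGroup.congr _ _ (Subgroup.subgroupOfEquivOfLe (h1.1.trans inf_le_right))
    (PComp.pPrimeCore_map_equiv _)).trans e

/-- Balance puts the fixed `p`-layer into the layer. -/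
theorem bar_ly_le_layer {x y : G} {K : Subgroup G}
    (hS : ∀ J : Subgroup (↥(Cy y) ⧸ Cfsg.pPrimeCore p ↥(Cy y)), Cfsg.IsComponent J →
      Group.IsSolvable (Cfsg.Out (↥J ⧸ Subgroup.center ↥J)))
    (hI : Cfsg.IsPComponentOf p (ly p K y) (Cy x ⊓ Cy y)) (hx : x ^ p = 1) (hxy : x ∈ Cy y) :
    bar p y (ly p K y) ≤ Cfsg.layer _ := by
  obtain ⟨R, hR⟩ : ∃ R, R = Subgroup.zpowers (⟨x, hxy⟩ : ↥(Cy y)) := ⟨_, rfl⟩
  have hRp : IsPGroup p R := by rw [hR]; exact isPGroup_zpowers (Subtype.ext hx)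
  have hC : (Cy x ⊓ Cy y).subgroupOf (Cy y) = Subgroup.centralizer (R : Set ↥(Cy y)) := by
    rw [hR, Subgroup.zpowers_eq_closure, Subgroup.centralizer_closure]
    ext g
    rw [Subgroup.mem_subgroupOf, Subgroup.mem_inf]
    exact ⟨fun h => Subgroup.mem_centralizer_singleton_iff.2
        (Subtype.ext (Subgroup.mem_centralizer_singleton_iff.1 h.1)),
      fun h => ⟨Subgroup.mem_centralizer_singleton_iff.2
        (congrArg Subtype.val (Subgroup.mem_centralizer_singleton_iff.1 h)), g.2⟩⟩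
  have h1 := pcompOf_subgroupOf hI (inf_le_right : Cy x ⊓ Cy y ≤ Cy y)
  rw [hC] at h1
  have h2 := PComp.pcompOf_trans h1 (Subgroup.centralizer_le_normalizer _) (by
    haveI : (Subgroup.centralizer (R : Set ↥(Cy y))).subgroupOf
        (Subgroup.normalizer (R : Set ↥(Cy y))) |>.Normal :=
      (Subgroup.normal_subgroupOf_iff_le_normalizer (Subgroup.centralizer_le_normalizer _)).2
        fun n hn => mem_normalizer_of_cj_le (by rw [cj_centralizer, cj_eq_self hn])
    exact Subgroup.Normal.isSubnormal inferInstance)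
  have h3 : (ly p K y).subgroupOf (Cy y) ≤ Cfsg.pLayer p ↥(Cy y) :=
    (PComp.pcompOf_le_pLayerOf h2).trans (Fusion.pLayer_balance hS hRp)
  refine (Subgroup.map_mono h3).trans ?_
  exact le_of_eq map_pLayer

/-- The image of the core of a double centralizer is a normal `p'`-subgroup of the centralizer of the image. -/
theorem bar_coreOf {y u : G} (hu : u ^ p = 1) (huy : u ∈ Cy y) :
    bar p y (coreOf p (Cy u ⊓ Cy y)) ≤ Subgroup.centralizer {bq p y ⟨u, huy⟩} ∧
      Subgroup.centralizer {bq p y ⟨u, huy⟩} ≤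
        Subgroup.normalizer (bar p y (coreOf p (Cy u ⊓ Cy y)) : Set _) ∧
      (Nat.card (bar p y (coreOf p (Cy u ⊓ Cy y)))).Coprime p := by
  rw [centralizer_bar hu huy]
  refine ⟨Subgroup.map_mono fun g hg => ?_, ?_, ?_⟩
  · rw [Subgroup.mem_subgroupOf] at hg ⊢
    exact coreOf_le _ hg
  · rintro _ ⟨g, hg, rfl⟩
    refine mem_normalizer_of_cj_le ?_
    rintro _ ⟨_, ⟨w, hw, rfl⟩, rfl⟩
    refine ⟨g * w * g⁻¹, ?_, by rw [map_mul, map_mul, map_inv]; rfl⟩
    rw [SetLike.mem_coe, Subgroup.mem_subgroupOf] at hg hw ⊢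
    exact (Subgroup.mem_normalizer_iff.1 (le_normalizer_coreOf _ (Subgroup.le_normalizer hg)) _).1 hw
  · refine (coreOf_coprime (p := p) (Cy u ⊓ Cy y)).coprime_dvd_left ((Subgroup.card_map_dvd _ _).trans ?_)
    rw [← Solv.card_map_subtype, Subgroup.subgroupOf_map_subtype]
    exact Subgroup.card_dvd_of_le inf_le_left

/-- Core elements of a double centralizer centralise the components fixed by both. -/
theorem coreOf_centralizes {y u : G} (hu : u ^ p = 1) (huy : u ∈ Cy y)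
    {H : Subgroup (↥(Cy y) ⧸ Cfsg.pPrimeCore p ↥(Cy y))} (hH : Cfsg.IsComponent H)
    (hHu : H ≤ Subgroup.centralizer {bq p y ⟨u, huy⟩}) {o : ↥(Cy y)}
    (ho : (o : G) ∈ coreOf p (Cy u ⊓ Cy y)) : bq p y o ∈ Subgroup.centralizer (H : Set _) := by
  obtain ⟨h1, h2, h3⟩ := bar_coreOf (p := p) hu huy
  exact LocBal.component_centralized pPrimeCore_quotient_eq_bot hH hHu h1 h2 h3 (mem_bar ho)

end Cfsg.Agent.Terminal
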