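import Cfsg.Prelude.Def_EvenTechniques
import Cfsg.Prelude.Def_KGroupFacts
import Cfsg.Agent.Lib.Fusion.TerminalBasics

/-!
Tools for the balance of the non-quasisimple part of the `p`-layer.
-/

set_option autoImplicit false
set_option linter.style.haveILetI false

open Cfsg Cfsg.Agent Cfsg.Agent.Fusion
open scoped commutatorElement

namespace Cfsg.Agent.BpBal

universe u v

variable {p : ℕ} [hp : Fact p.Prime]

omit hp in
/-- A nontrivial image of a quasisimple group is quasisimple. -/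
theorem qs_image {A : Type u} {B : Type v} [Group A] [Group B] (φ : A →* B) (hφ : Function.Surjective φ)
    (hA : Cfsg.IsQuasisimple A) [Nontrivial B] : Cfsg.IsQuasisimple B := by
  haveI := hA.1
  haveI := hA.2
  haveI : Group.IsPerfect B := Group.IsPerfect.ofSurjective hφ
  obtain ⟨N, hN⟩ : ∃ N, N = (Subgroup.center B).comap φ := ⟨_, rfl⟩
  haveI : N.Normal := hN ▸ inferInstance
  have hne : N ≠ ⊤ := fun ht => by
    have hc : Subgroup.center B = ⊤ := by
      rw [← Subgroup.map_comap_eq_self_of_surjective hφ (Subgroup.center B), ← hN, ht,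
        Subgroup.map_top_of_surjective φ hφ]
    have h1 : (⊤ : Subgroup B) = ⊥ := by
      rw [← Group.IsPerfect.commutator_eq_top (G := B), commutator_def]
      refine Subgroup.commutator_eq_bot_iff_le_centralizer.2 fun x _ => Subgroup.mem_centralizer_iff.2 fun y _ => ?_
      exact Subgroup.mem_center_iff.1 (hc ▸ Subgroup.mem_top x) y
    exact (nontrivial_iff_exists_ne (1 : B)).1 inferInstance |>.elim fun b hb =>
      hb (Subgroup.mem_bot.1 (h1 ▸ Subgroup.mem_top b))
  have hNc : N = Subgroup.center A := by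
    refine le_antisymm ((Solv.qs_normal_le_center_or_top hA N).resolve_left hne) fun z hz => ?_
    rw [hN]
    refine Subgroup.mem_comap.2 (Subgroup.mem_center_iff.2 fun b => ?_)
    obtain ⟨a, rfl⟩ := hφ b
    rw [← map_mul, ← map_mul, Subgroup.mem_center_iff.1 hz a]
  have hker : ((QuotientGroup.mk' (Subgroup.center B)).comp φ).ker = Subgroup.center A := by
    rw [← MonoidHom.comap_ker, QuotientGroup.ker_mk', ← hN, hNc]
  exact ⟨inferInstance, ((QuotientGroup.quotientMulEquivOfEq hker.symm).trans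
    (QuotientGroup.quotientKerEquivOfSurjective _ ((QuotientGroup.mk'_surjective _).comp hφ))).symm.isSimpleGroup⟩

section
variable {Y : Type u} [Group Y]

omit hp in
/-- A perfect subgroup absorbs subgroups centralising it modulo its centralizer. -/
theorem centralizes_of_mod {W U : Subgroup Y} (hW : ⁅W, W⁆ = W)
    (h : ⁅U, W⁆ ≤ Subgroup.centralizer (W : Set Y)) : U ≤ Subgroup.centralizer (W : Set Y) := by
  have h1 : ⁅⁅U, W⁆, W⁆ = ⊥ := Subgroup.commutator_eq_bot_iff_le_centralizer.2 h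
  have h2 : ⁅⁅W, W⁆, U⁆ = ⊥ := Subgroup.commutator_commutator_eq_bot_of_rotate
    (by rw [Subgroup.commutator_comm W U]; exact h1) h1
  rw [hW, Subgroup.commutator_comm] at h2
  exact Subgroup.commutator_eq_bot_iff_le_centralizer.1 h2

variable [Finite Y]

theorem pcompOf_perfect {I C : Subgroup Y} (hI : Cfsg.IsPComponentOf p I C) : ⁅I, I⁆ = I := by
  have h := congrArg (Subgroup.map C.subtype) (pComponent_perfect hI.2)
  rwa [Subgroup.map_commutator, Subgroup.map_subgroupOf_eq_of_le hI.1] at h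

/-- `p`-components are preserved by conjugation with elements normalising the subgroup. -/
theorem pcompOf_cj {K W : Subgroup Y} (hK : Cfsg.IsPComponentOf p K W) {s : Y}
    (hs : s ∈ Subgroup.normalizer (W : Set Y)) : Cfsg.IsPComponentOf p (cj K s) W := by
  obtain ⟨hKW, hsn, hq⟩ := PComp.pcompOf_iff.1 hK
  refine PComp.pcompOf_iff.2 ⟨(cj_mono hKW s).trans (cj_eq_self hs).le, ?_,
    hq.congr (K.equivMapOfInjective _ (MulAut.conj s).injective)⟩
  let f : ↥W →* ↥W := MonoidHom.mk'
    (fun w => ⟨s * w * s⁻¹, (Subgroup.mem_normalizer_iff.1 hs _).1 w.2⟩) fun a b => Subtype.ext (by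
      show s * ((a : Y) * b) * s⁻¹ = s * a * s⁻¹ * (s * b * s⁻¹)
      group)
  have hf : Function.Surjective f := Finite.injective_iff_surjective.1 fun a b e =>
    Subtype.ext (mul_left_cancel (mul_right_cancel (congrArg Subtype.val e)))
  have h1 := hsn.map (f := f) hf
  convert h1 using 1
  ext z
  constructor
  · rintro ⟨k, hk, he⟩
    exact ⟨⟨k, hKW hk⟩, hk, Subtype.ext he⟩
  · rintro ⟨k, hk, rfl⟩
    exact ⟨k, hk, rfl⟩

omit hp [Finite Y] in
theorem pLayerOf_eq (W : Subgroup Y) :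
    Cfsg.pLayerOf p W = sSup {L : Subgroup Y | Cfsg.IsPComponentOf p L W} := by
  refine le_antisymm (Subgroup.map_le_iff_le_comap.2 (sSup_le fun L hL => ?_))
    (sSup_le fun L hL => PComp.pcompOf_le_pLayerOf hL)
  refine Subgroup.map_le_iff_le_comap.1 (le_sSup ⟨Subgroup.map_subtype_le L, ?_⟩)
  rwa [Subgroup.subgroupOf, Subgroup.comap_map_eq_self_of_injective W.subtype_injective]

theorem normalizer_le_pLayerOf (W : Subgroup Y) :
    Subgroup.normalizer (W : Set Y) ≤ Subgroup.normalizer (Cfsg.pLayerOf p W : Set Y) := fun s hs =>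
  mem_normalizer_of_cj_le (by
    rw [pLayerOf_eq, cj, Subgroup.map_le_iff_le_comap]
    exact sSup_le fun L hL => Subgroup.map_le_iff_le_comap.1 (le_sSup (pcompOf_cj hL hs)))

/-- A `p`-component has an image that is a `p`-component, when the kernel is central in it. -/
theorem pcompOf_map_central {Z : Type v} [Group Z] [Finite Z] (f : Y →* Z) {I N : Subgroup Y}
    (hI : Cfsg.IsPComponentOf p I N) (hc : ∀ z ∈ I, f z = 1 → z ∈ Subgroup.centralizer (I : Set Y)) :
    Cfsg.IsPComponentOf p (I.map f) (N.map f) ∧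
      (Cfsg.IsQuasisimple ↥(I.map f) → Cfsg.IsQuasisimple ↥I) := by
  obtain ⟨hIN, hsn, hq, hmin⟩ := PComp.pcompOf_iff.1 hI
  haveI hperf : Group.IsPerfect ↥I := Subgroup.isPerfect_iff.2 (pcompOf_perfect hI)
  obtain ⟨g, hg⟩ : ∃ g : ↥I →* ↥(I.map f), g = f.subgroupMap I := ⟨_, rfl⟩
  have hgs : Function.Surjective g := hg ▸ f.subgroupMap_surjective I
  have hgk : g.ker ≤ Subgroup.center ↥I := fun z hz => by
    rw [hg] at hz
    have h1 := hc z z.2 (congrArg Subtype.val (MonoidHom.mem_ker.1 hz))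
    exact Subgroup.mem_center_iff.2 fun w => Subtype.ext (Subgroup.mem_centralizer_iff.1 h1 w w.2)
  obtain ⟨O, hO⟩ : ∃ O, O = Cfsg.pPrimeCore p ↥I := ⟨_, rfl⟩
  obtain ⟨P, hP⟩ : ∃ P, P = (Cfsg.pPrimeCore p ↥(I.map f)).comap g := ⟨_, rfl⟩
  haveI hPn : P.Normal := hP ▸ inferInstance
  have hOP : O ≤ P := by
    rw [hO, hP, ← Subgroup.map_le_iff_le_comap]
    haveI : ((Cfsg.pPrimeCore p ↥I).map g).Normal := (inferInstance : (Cfsg.pPrimeCore p ↥I).Normal).map g hgs
    exact le_pPrimeCore ((card_pPrimeCore_coprime p ↥I).coprime_dvd_left (Subgroup.card_map_dvd _ g))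
  have hPtop : P ≠ ⊤ := fun ht => by
    have hcard : (Nat.card ↥(I.map f)).Coprime p := by
      have h1 : Cfsg.pPrimeCore p ↥(I.map f) = ⊤ := by
        rw [← Subgroup.map_comap_eq_self_of_surjective hgs (Cfsg.pPrimeCore p ↥(I.map f)), ← hP, ht,
          Subgroup.map_top_of_surjective g hgs]
      have h2 := card_pPrimeCore_coprime p ↥(I.map f)
      rwa [h1, Subgroup.card_top] at h2
    have hidx : g.ker.index.Coprime p := by
      rw [Subgroup.index_ker, MonoidHom.range_eq_top.2 hgs, Subgroup.card_top]; exact hcard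
    have htopI : Cfsg.IsPComponent p (⊤ : Subgroup ↥I) :=
      PComp.isPComponent_iff.2 ⟨Subgroup.IsSubnormal.top,
        PComp.PQ.congr (⟨hq, hmin⟩ : PComp.PQ p ↥I) Subgroup.topEquiv.symm⟩
    haveI : (g.ker.subgroupOf (⊤ : Subgroup ↥I)).Normal := inferInstance
    have hk := pComponent_normal_coprime_index htopI (g.ker.subgroupOf ⊤) (by
      rw [← Subgroup.relIndex, Subgroup.relIndex_top_right]; exact hidx)
    rw [Subgroup.subgroupOf_eq_top, top_le_iff] at hk
    refine Terminal.pcompOf_not_centralized hI fun z hz => Subgroup.mem_centralizer_iff.2 fun w hw => ?_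
    exact congrArg Subtype.val (Subgroup.mem_center_iff.1 (hgk (hk ▸ Subgroup.mem_top (⟨z, hz⟩ : I))) ⟨w, hw⟩)
  obtain ⟨ρ, hρ⟩ : ∃ ρ : ↥I →* ↥I ⧸ Cfsg.pPrimeCore p ↥I, ρ = QuotientGroup.mk' _ := ⟨_, rfl⟩
  have hρs : Function.Surjective ρ := hρ ▸ QuotientGroup.mk'_surjective _
  have hρk : ρ.ker = O := by rw [hρ, QuotientGroup.ker_mk', hO]
  haveI : (P.map ρ).Normal := hPn.map ρ hρs
  have hPc : P.map ρ ≤ Subgroup.center _ := (Solv.qs_normal_le_center_or_top hq (P.map ρ)).resolve_left fun e =>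
    hPtop (by
      rw [← Subgroup.comap_map_eq_self (hρk.le.trans hOP), e, Subgroup.comap_top])
  obtain ⟨φ, hφs⟩ : ∃ φ : ↥I ⧸ Cfsg.pPrimeCore p ↥I →* ↥(I.map f) ⧸ Cfsg.pPrimeCore p ↥(I.map f),
      Function.Surjective φ := by
    refine ⟨QuotientGroup.map _ _ g (hO ▸ hP ▸ hOP), fun q => ?_⟩
    obtain ⟨w, rfl⟩ := QuotientGroup.mk_surjective q
    obtain ⟨i, rfl⟩ := hgs w
    exact ⟨QuotientGroup.mk i, rfl⟩
  haveI : Nontrivial (↥(I.map f) ⧸ Cfsg.pPrimeCore p ↥(I.map f)) := QuotientGroup.nontrivial_iff.2 fun e =>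
    hPtop (by rw [hP, e, Subgroup.comap_top])
  refine ⟨PComp.pcompOf_iff.2 ⟨Subgroup.map_mono hIN, ?_, qs_image φ hφs hq, fun W hW ht => ?_⟩,
    fun hqs => qs_of_central_kernel g hgs hperf hgk hqs⟩
  · have h1 := hsn.map (f := f.subgroupMap N) (f.subgroupMap_surjective N)
    convert h1 using 1
    ext z
    constructor
    · rintro ⟨w, hw, he⟩
      exact ⟨⟨w, hIN hw⟩, hw, Subtype.ext he⟩
    · rintro ⟨w, hw, rfl⟩
      exact ⟨w, hw, rfl⟩
  · have hV : W.comap g ⊔ P = ⊤ := by
      rw [hP, Subgroup.comap_sup_eq g _ _ hgs, ht, Subgroup.comap_top]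
    have hVρ : (W.comap g).map ρ = ⊤ := by
      refine (Solv.qs_subnormal hq ((hW.comap g).map hρs)).resolve_right fun hle => Solv.qs_center_ne_top hq ?_
      rw [eq_top_iff, ← Subgroup.map_top_of_surjective ρ hρs, ← hV, Subgroup.map_sup]
      exact sup_le hle hPc
    have h1 : W.comap g = ⊤ := hmin _ (hW.comap g) (by
      rw [← hO, ← hρk, ← Subgroup.comap_map_eq, hVρ, Subgroup.comap_top])
    rw [← Subgroup.map_comap_eq_self_of_surjective hgs W, h1, Subgroup.map_top_of_surjective g hgs]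

/-- A `p`-component inside a quasisimple subgroup is that subgroup. -/
theorem qs_of_pcomp_le {I C Q : Subgroup Y} (hI : Cfsg.IsPComponentOf p I C) (hIQ : I ≤ Q) (hQC : Q ≤ C)
    (hQ : Cfsg.IsQuasisimple ↥Q) : Cfsg.IsQuasisimple ↥I := by
  obtain ⟨-, hsn, -⟩ := PComp.pcompOf_iff.1 hI
  have h1 := hsn.comap (Subgroup.inclusion hQC)
  rcases Solv.qs_subnormal hQ h1 with h | h
  · have he : I = Q := le_antisymm hIQ fun q hq => (Subgroup.mem_comap.1 (h ▸ Subgroup.mem_top (⟨q, hq⟩ : Q)) : _)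
    exact he ▸ hQ
  · refine absurd (fun z hz => Subgroup.mem_centralizer_iff.2 fun w hw => ?_) (Terminal.pcompOf_not_centralized hI)
    exact congrArg Subtype.val (Subgroup.mem_center_iff.1 (h (show (⟨z, hIQ hz⟩ : Q) ∈ _ from hz)) ⟨w, hIQ hw⟩)

end

omit hp in
/-- A component with trivial centralizer is the generalized Fitting subgroup. -/
theorem almost_simple {S : Type u} [Group S] [Finite S] {T : Subgroup S} (hT : Cfsg.IsComponent T)
    (hC : Subgroup.centralizer (T : Set S) = ⊥) :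
    Cfsg.generalizedFittingSubgroup S = T ∧ (p ∣ Nat.card T → [Fact p.Prime] → Cfsg.pPrimeCore p S = ⊥) := by
  have hcomm : ∀ L : Subgroup S, ⁅L, T⁆ = ⊥ → L = ⊥ := fun L h =>
    le_bot_iff.1 (hC ▸ Subgroup.commutator_eq_bot_iff_le_centralizer.1 h)
  have hlayer : Cfsg.layer S = T := by
    refine le_antisymm (sSup_le fun L hL => ?_) (Solv.component_le_layer hT)
    by_contra hne
    refine Solv.qs_ne_bot hL.2 (hcomm L (Solv.components_commute hL hT ?_))
    exact fun e => hne e.le
  refine ⟨?_, fun hd _ => ?_⟩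
  · rw [Cfsg.generalizedFittingSubgroup, hlayer, hcomm (Cfsg.fittingSubgroup S) (by
      rw [Subgroup.commutator_comm, ← hlayer]; exact Solv.layer_commutator_fitting), sup_bot_eq]
  · rcases Solv.component_normal_dichotomy hT (Cfsg.pPrimeCore p S) with h | h
    · exact absurd (hd.trans (Subgroup.card_dvd_of_le h))
        (coprime_card_iff_not_dvd.1 (card_pPrimeCore_coprime p S))
    · exact hcomm _ (by rw [Subgroup.commutator_comm]; exact h)

omit hp in
/-- Solvability of the outer automorphism group is an invariant. -/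
theorem out_solvable_congr {A : Type u} {B : Type v} [Group A] [Group B] (e : A ≃* B)
    (h : Group.IsSolvable (Cfsg.Out A)) : Group.IsSolvable (Cfsg.Out B) := by
  have hInn : (Cfsg.Inn A).map (MulAut.congr e).toMonoidHom ≤ Cfsg.Inn B := by
    rintro _ ⟨_, ⟨a, rfl⟩, rfl⟩
    refine ⟨e a, MulEquiv.ext fun b => ?_⟩
    show e a * b * (e a)⁻¹ = e (a * e.symm b * a⁻¹)
    rw [map_mul, map_mul, map_inv, MulEquiv.apply_symm_apply]
  haveI := h
  refine Group.isSolvable_of_surjective (f := QuotientGroup.map _ _ (MulAut.congr e).toMonoidHom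
    (Subgroup.map_le_iff_le_comap.1 hInn)) fun q => ?_
  obtain ⟨w, rfl⟩ := QuotientGroup.mk_surjective q
  obtain ⟨v, rfl⟩ := (MulAut.congr e).surjective w
  exact ⟨QuotientGroup.mk v, rfl⟩

end Cfsg.Agent.BpBal
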