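import Cfsg.Agent.S0238
import Cfsg.Agent.S0226
import Cfsg.Agent.Lib.Fusion.Involutions

/-!
# The Brauer–Fowler counting inequality
-/

set_option autoImplicit false

namespace Cfsg.Agent.Fusion

variable {G : Type*} [Group G] [Finite G]

/-- The elements sending `x` to `x` or `x⁻¹`. -/
def bfExtCent (x : G) : Subgroup G where
  carrier := {g | g * x * g⁻¹ = x ∨ g * x * g⁻¹ = x⁻¹}
  one_mem' := Or.inl (by simp)
  mul_mem' := by
    intro a b ha hb
    have key : a * b * x * (a * b)⁻¹ = a * (b * x * b⁻¹) * a⁻¹ := by group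
    have hinv : a * x⁻¹ * a⁻¹ = (a * x * a⁻¹)⁻¹ := by group
    show _ ∨ _
    rcases hb with hb | hb <;> rw [key, hb]
    · exact ha
    · rw [hinv]
      rcases ha with ha | ha <;> rw [ha]
      · exact Or.inr rfl
      · exact Or.inl (inv_inv x)
  inv_mem' := by
    intro a ha
    show _ ∨ _
    rcases ha with ha | ha
    · exact Or.inl (by nth_rewrite 1 [← ha]; group)
    · exact Or.inr (by
        have h : (a⁻¹ * (a * x * a⁻¹) * a)⁻¹ = (a⁻¹ * x⁻¹ * a)⁻¹ := congrArg (fun z => (a⁻¹ * z * a)⁻¹) ha
        rw [show a⁻¹ * (a * x * a⁻¹) * a = x by group,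
          show (a⁻¹ * x⁻¹ * a)⁻¹ = a⁻¹ * x * a by group] at h
        rw [h, inv_inv])

theorem bfExtCent_card {x : G} (hx : x ≠ x⁻¹) (s : G) (hs : s * x * s⁻¹ = x⁻¹) :
    2 * Nat.card (Subgroup.centralizer ({x} : Set G)) ≤ Nat.card (bfExtCent x) := by
  set C := Subgroup.centralizer ({x} : Set G)
  have hC : ∀ c : C, (c : G) * x * (c : G)⁻¹ = x := fun c => by
    rw [mul_inv_eq_iff_eq_mul]; exact Subgroup.mem_centralizer_singleton_iff.1 c.2
  have h1 : ∀ c : C, s * c * x * (s * (c : G))⁻¹ = x⁻¹ := fun c => by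
    rw [show s * c * x * (s * (c : G))⁻¹ = s * (c * x * (c : G)⁻¹) * s⁻¹ by group, hC c, hs]
  let f : C ⊕ C → bfExtCent x := fun o => match o with
    | .inl c => ⟨c, Or.inl (hC c)⟩
    | .inr c => ⟨s * c, Or.inr (h1 c)⟩
  have hne : ∀ c d : C, (c : G) ≠ s * d := fun c d h => hx (by
    have := hC c; rw [h, h1 d] at this; exact this.symm)
  have hf : Function.Injective f := by
    rintro (a | a) (b | b) h <;> have h' := congrArg Subtype.val h
    · exact congrArg _ (Subtype.ext h')
    · exact absurd h' (hne a b)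
    · exact absurd h'.symm (hne b a)
    · exact congrArg _ (Subtype.ext (mul_left_cancel h'))
  have := Nat.card_le_card_of_injective f hf
  rwa [Nat.card_sum, ← two_mul] at this

/-- The key inequality: if `M` bounds below the index of every proper subgroup, `Z(G)` has odd
order and no subgroup has index two, then `2M n(n+1) ≤ |G|(|G| + n - 1)`. -/
theorem brauerFowler_ineq (hZ : Odd (Nat.card (Subgroup.center G)))
    (hno : ∀ H : Subgroup G, H.index ≠ 2) (M : ℕ) (hM : ∀ H : Subgroup G, H ≠ ⊤ → M ≤ H.index) :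
    2 * M * (Nat.card {t : G // orderOf t = 2} ^ 2 + Nat.card {t : G // orderOf t = 2}) + Nat.card G
      ≤ Nat.card G * (Nat.card G + Nat.card {t : G // orderOf t = 2}) := by
  classical
  haveI : Fintype G := Fintype.ofFinite G
  let P : G → Type _ := fun x => {p : G × G // orderOf p.1 = 2 ∧ orderOf p.2 = 2 ∧ p.1 * p.2 = x}
  set N := Nat.card G with hN
  set I := {t : G // orderOf t = 2}
  set n := Nat.card I with hn
  have htot : ∑ x : G, Nat.card (P x) = n ^ 2 := by
    rw [← Nat.card_sigma, sq, hn, ← Nat.card_prod]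
    exact Nat.card_congr
      { toFun := fun q => (⟨q.2.1.1, q.2.2.1⟩, ⟨q.2.1.2, q.2.2.2.1⟩)
        invFun := fun q => ⟨q.1.1 * q.2.1, (q.1.1, q.2.1), q.1.2, q.2.2, rfl⟩
        left_inv := fun ⟨x, ⟨⟨a, b⟩, ha, hb, hab⟩⟩ => by subst hab; rfl
        right_inv := fun q => rfl }
  have hid : Nat.card (P 1) = n := Nat.card_congr
    { toFun := fun q => ⟨q.1.1, q.2.1⟩
      invFun := fun t => ⟨(t.1, t.1), t.2, t.2, invol_mul_self t.2⟩
      left_inv := fun ⟨⟨a, b⟩, ha, hb, hab⟩ => Subtype.ext (Prod.ext rfl (by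
        show a = b
        have : a⁻¹ = b := inv_eq_of_mul_eq_one_right hab
        rwa [invol_inv ha] at this))
      right_inv := fun t => rfl }
  have hprop : ∀ H : Subgroup G, H ≠ ⊤ → M * Nat.card H ≤ N := fun H hH => by
    rw [hN, ← Subgroup.card_mul_index H, mul_comm]
    exact Nat.mul_le_mul_left _ (hM H hH)
  have hstep : ∀ x : G, x ≠ 1 →
      2 * M * Nat.card (P x) + (if orderOf x = 2 then 4 * M else 0) ≤ (if orderOf x = 2 then 2 * N else N) := by
    intro x hx1
    obtain ⟨hle, hnr, hinv⟩ := S0238.result x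
    by_cases hx2 : orderOf x = 2
    · rw [if_pos hx2, if_pos hx2]
      have hne : Subgroup.centralizer ({x} : Set G) ≠ ⊤ := fun h => by
        have hc : x ∈ Subgroup.center G := by
          rw [Subgroup.mem_center_iff]; intro g
          exact Subgroup.mem_centralizer_singleton_iff.1 (h ▸ Subgroup.mem_top g)
        have h2 : 2 ∣ Nat.card (Subgroup.center G) :=
          hx2 ▸ Subgroup.orderOf_dvd_natCard _ hc
        exact (Nat.not_even_iff_odd.2 hZ) (even_iff_two_dvd.2 h2)
      have h1 := hprop _ hne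
      have h2 : M * (Nat.card (P x) + 2) ≤ N := (Nat.mul_le_mul_left M (hinv hx2)).trans h1
      linarith
    · rw [if_neg hx2, if_neg hx2, add_zero]
      by_cases hr : IsConj x x⁻¹
      · obtain ⟨s, hs⟩ := isConj_iff.1 hr
        have hne : x ≠ x⁻¹ := fun h => hx2 (orderOf_eq_prime (by
          rw [sq]; nth_rewrite 1 [h]; rw [inv_mul_cancel]) hx1)
        have hcard := bfExtCent_card hne s hs
        have hS : bfExtCent x ≠ ⊤ := fun h => by
          have h1 := (Subgroup.centralizer ({x} : Set G)).card_mul_index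
          have hle2 : 2 * Nat.card (Subgroup.centralizer ({x} : Set G)) ≤ N := by
            rw [h, Subgroup.card_top] at hcard; exact hcard
          -- the centralizer would have index two
          let C := Subgroup.centralizer ({x} : Set G)
          refine hno C (Subgroup.index_eq_two_iff.2 ⟨s, fun b => ?_⟩)
          have hb : b ∈ bfExtCent x := h ▸ Subgroup.mem_top b
          have hmem : ∀ g : G, g ∈ C ↔ g * x * g⁻¹ = x := fun g => by
            rw [Subgroup.mem_centralizer_singleton_iff, mul_inv_eq_iff_eq_mul]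
          rw [hmem, hmem, show b * s * x * (b * s)⁻¹ = b * (s * x * s⁻¹) * b⁻¹ by group, hs,
            show b * x⁻¹ * b⁻¹ = (b * x * b⁻¹)⁻¹ by group]
          rcases hb with hb | hb <;> rw [hb]
          · exact Or.inr ⟨rfl, hne.symm⟩
          · exact Or.inl ⟨inv_inv x, hne.symm⟩
        have h1 := hprop _ hS
        calc 2 * M * Nat.card (P x) ≤ 2 * M * Nat.card (Subgroup.centralizer ({x} : Set G)) :=
              Nat.mul_le_mul_left _ hle
          _ = M * (2 * Nat.card (Subgroup.centralizer ({x} : Set G))) := by ring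
          _ ≤ M * Nat.card (bfExtCent x) := Nat.mul_le_mul_left _ hcard
          _ ≤ N := h1
      · have h0 : Nat.card (P x) = 0 := hnr hr
        rw [h0, mul_zero]; exact Nat.zero_le _
  have hsum : ∑ x ∈ Finset.univ.erase (1 : G), (2 * M * Nat.card (P x) + (if orderOf x = 2 then 4 * M else 0))
      ≤ ∑ x ∈ Finset.univ.erase (1 : G), (if orderOf x = 2 then 2 * N else N) :=
    Finset.sum_le_sum fun x hx => hstep x (Finset.ne_of_mem_erase hx)
  have hI : ((Finset.univ.erase (1 : G)).filter fun x => orderOf x = 2).card = n := by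
    rw [hn, Nat.card_eq_fintype_card, Fintype.card_subtype]
    congr 1; ext x
    simp only [Finset.mem_filter, Finset.mem_erase, Finset.mem_univ, and_true, true_and,
      and_iff_right_iff_imp]
    rintro h rfl; rw [orderOf_one] at h; omega
  have hA : ∑ x ∈ Finset.univ.erase (1 : G), Nat.card (P x) + n = n ^ 2 := by
    rw [← htot, ← hid]; exact Finset.sum_erase_add _ _ (Finset.mem_univ _)
  have hB : ∑ x ∈ Finset.univ.erase (1 : G), (if orderOf x = 2 then 4 * M else 0) = n * (4 * M) := by
    rw [← Finset.sum_filter, Finset.sum_const, hI, smul_eq_mul]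
  have hC : ∑ x ∈ Finset.univ.erase (1 : G), (if orderOf x = 2 then 2 * N else N) + N = N * N + n * N := by
    have : ∀ x : G, (if orderOf x = 2 then 2 * N else N) = N + (if orderOf x = 2 then N else 0) := fun x => by
      split <;> omega
    simp only [this]
    rw [Finset.sum_add_distrib, Finset.sum_const, ← Finset.sum_filter, Finset.sum_const, hI, smul_eq_mul,
      smul_eq_mul]
    have hc : (Finset.univ.erase (1 : G)).card + 1 = N := by
      rw [Finset.card_erase_add_one (Finset.mem_univ _), Finset.card_univ, hN, Nat.card_eq_fintype_card]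
    calc (Finset.univ.erase (1 : G)).card * N + n * N + N
        = ((Finset.univ.erase (1 : G)).card + 1) * N + n * N := by ring
      _ = N * N + n * N := by rw [hc]
  rw [Finset.sum_add_distrib, ← Finset.mul_sum, hB] at hsum
  calc 2 * M * (n ^ 2 + n) + N
      = 2 * M * (∑ x ∈ Finset.univ.erase (1 : G), Nat.card (P x) + n + n) + N := by rw [hA]
    _ = (2 * M * ∑ x ∈ Finset.univ.erase (1 : G), Nat.card (P x) + n * (4 * M)) + N := by ring
    _ ≤ N * N + n * N := (Nat.add_le_add_right hsum N).trans hC.le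
    _ = N * (N + n) := by ring

/-- Brauer–Fowler: a proper subgroup of index two or of small index. -/
theorem brauerFowler_subgroup (heven : Even (Nat.card G)) (hZ : Odd (Nat.card (Subgroup.center G))) :
    ∃ H : Subgroup G, H ≠ ⊤ ∧ (H.index = 2 ∨
      2 * H.index * (Nat.card {t : G // orderOf t = 2}) ^ 2 <
        Nat.card G * (Nat.card G + Nat.card {t : G // orderOf t = 2})) := by
  classical
  by_cases h2 : ∃ H : Subgroup G, H.index = 2
  · obtain ⟨H, hH⟩ := h2
    exact ⟨H, fun h => by rw [h, Subgroup.index_top] at hH; omega, Or.inl hH⟩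
  haveI : Fintype G := Fintype.ofFinite G
  have hnt : (⊥ : Subgroup G) ≠ ⊤ := fun h => by
    have : Nat.card G = 1 := by rw [← Subgroup.card_top (G := G), ← h, Subgroup.card_bot]
    rw [this] at heven; exact absurd heven (by decide)
  have hne : ((Finset.univ : Finset (Subgroup G)).filter (· ≠ ⊤)).Nonempty :=
    ⟨⊥, Finset.mem_filter.2 ⟨Finset.mem_univ _, hnt⟩⟩
  obtain ⟨H, hH, hmin⟩ := Finset.exists_min_image _ (fun H : Subgroup G => H.index) hne
  have h := brauerFowler_ineq hZ (fun K hK => h2 ⟨K, hK⟩) H.index fun K hK =>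
    hmin K (Finset.mem_filter.2 ⟨Finset.mem_univ _, hK⟩)
  refine ⟨H, (Finset.mem_filter.1 hH).2, Or.inr ?_⟩
  have hN : 0 < Nat.card G := Nat.card_pos
  set n := Nat.card {t : G // orderOf t = 2}
  calc 2 * H.index * n ^ 2 < 2 * H.index * (n ^ 2 + n) + Nat.card G :=
        lt_of_le_of_lt (Nat.mul_le_mul_left _ (Nat.le_add_right _ _)) (Nat.lt_add_of_pos_right hN)
    _ ≤ _ := h

end Cfsg.Agent.Fusion
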