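import Cfsg.Agent.Lib.Char.ZStarElement
import Cfsg.Agent.Lib.Fusion.BurnsideFusion
import Cfsg.Agent.Lib.Solv.Cores

/-!
# Central elements of a Sylow 2-subgroup and the odd core
-/

set_option autoImplicit false
set_option linter.unusedSectionVars false
set_option linter.style.haveILetI false

namespace Cfsg.Agent.Fusion

open Cfsg

universe u

variable {G : Type u} [Group G] [Finite G]

theorem zmod_two_facts :
    (∀ a : ZMod 2, a = 0 ∨ a = 1) ∧ ((0 : ZMod 2) ≠ 1) ∧ ((2 : ℕ) : ZMod 2) = 0 := by decide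

/-- An element of the normaliser of a Sylow 2-subgroup cannot act as a nontrivial power map on an
element which the Sylow subgroup centralises. -/
theorem zpow_eq_self_of_normalizer_sylow (S : Sylow 2 G) {y n : G}
    (hy : y ∈ (S : Subgroup G)) (hyS : ∀ s ∈ (S : Subgroup G), s * y = y * s)
    (hn : n ∈ Subgroup.normalizer ((S : Subgroup G) : Set G)) {k : ℤ}
    (hk : n * y * n⁻¹ = y ^ k) : n * y * n⁻¹ = y := by
  haveI : Fact (Nat.Prime 2) := ⟨Nat.prime_two⟩
  set N := Subgroup.normalizer ((S : Subgroup G) : Set G) with hN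
  set m := ((S : Subgroup G).subgroupOf N).index with hm
  have hodd : Odd m := by
    rw [← Nat.not_even_iff_odd, even_iff_two_dvd]
    intro h2
    exact S.not_dvd_index (h2.trans (Subgroup.relIndex_dvd_index_of_le Subgroup.le_normalizer))
  haveI : ((S : Subgroup G).subgroupOf N).Normal := Subgroup.normal_in_normalizer
  have hpow : n ^ m ∈ (S : Subgroup G) :=
    Subgroup.mem_subgroupOf.mp (Subgroup.pow_index_mem ((S : Subgroup G).subgroupOf N) (⟨n, hn⟩ : N))
  have hiter : ∀ i : ℕ, n ^ i * y * (n ^ i)⁻¹ = y ^ (k ^ i) := by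
    intro i
    induction i with
    | zero => simp
    | succ i ih =>
      calc n ^ (i + 1) * y * (n ^ (i + 1))⁻¹ = n * (n ^ i * y * (n ^ i)⁻¹) * n⁻¹ := by
            rw [pow_succ']; group
        _ = (n * y * n⁻¹) ^ (k ^ i) := by rw [ih, conj_zpow]
        _ = y ^ (k ^ (i + 1)) := by rw [hk, ← zpow_mul, pow_succ']
  have hfix : y ^ (k ^ m - 1) = 1 := by
    rw [zpow_sub, ← hiter m, hyS _ hpow, zpow_one]
    group
  obtain ⟨j, hj⟩ := IsPGroup.iff_orderOf.mp S.isPGroup' ⟨y, hy⟩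
  have hj' : orderOf y = 2 ^ j := by rw [← hj, ← Subgroup.orderOf_coe]
  rw [hk]
  suffices h : (orderOf y : ℤ) ∣ k - 1 by
    have h1 := orderOf_dvd_iff_zpow_eq_one.mp h
    rw [zpow_sub, zpow_one, mul_inv_eq_one] at h1
    exact h1
  have hdvd : (orderOf y : ℤ) ∣ k ^ m - 1 := orderOf_dvd_iff_zpow_eq_one.mpr hfix
  rcases Nat.eq_zero_or_pos j with hj0 | hj0
  · rw [hj', hj0]; simp
  have hk2 : (k : ZMod 2) = 1 := by
    have h2 : ((2 : ℕ) : ℤ) ∣ k ^ m - 1 :=
      dvd_trans (by rw [hj']; exact_mod_cast dvd_pow_self 2 hj0.ne') hdvd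
    rw [← ZMod.intCast_zmod_eq_zero_iff_dvd, Int.cast_sub, Int.cast_pow, Int.cast_one,
      sub_eq_zero] at h2
    rcases zmod_two_facts.1 (k : ZMod 2) with h0 | h0
    · rw [h0, zero_pow hodd.pos.ne'] at h2; exact absurd h2 zmod_two_facts.2.1
    · exact h0
  have hcop : IsCoprime (orderOf y : ℤ) (∑ i ∈ Finset.range m, k ^ i) := by
    rw [hj']
    push_cast
    refine IsCoprime.pow_left ?_
    refine (Int.prime_two.coprime_iff_not_dvd).mpr fun h2 => ?_
    rw [show (2 : ℤ) = ((2 : ℕ) : ℤ) by rfl, ← ZMod.intCast_zmod_eq_zero_iff_dvd] at h2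
    push_cast at h2
    simp only [hk2, one_pow, Finset.sum_const, Finset.card_range, nsmul_eq_mul, mul_one] at h2
    obtain ⟨c, hc⟩ := hodd
    rw [hc, Nat.cast_add, Nat.cast_mul, zmod_two_facts.2.2, zero_mul,
      zero_add, Nat.cast_one] at h2
    exact one_ne_zero h2
  refine hcop.dvd_of_dvd_mul_left ?_
  rw [geom_sum_mul]
  exact hdvd

/-- Two conjugate elements of a cyclic subgroup central in a Sylow 2-subgroup are equal. -/
theorem eq_of_conj_mem_zpowers (S : Sylow 2 G) {y g : G}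
    (hy : y ∈ (S : Subgroup G)) (hyS : ∀ s ∈ (S : Subgroup G), s * y = y * s)
    (hg : g * y * g⁻¹ ∈ Subgroup.zpowers y) : g * y * g⁻¹ = y := by
  haveI : Fact (Nat.Prime 2) := ⟨Nat.prime_two⟩
  obtain ⟨k, hk⟩ := Subgroup.mem_zpowers_iff.mp hg
  have hc1 : y ∈ Subgroup.centralizer ((S : Subgroup G) : Set G) :=
    Subgroup.mem_centralizer_iff.mpr hyS
  have hc2 : g⁻¹⁻¹ * y * g⁻¹ ∈ Subgroup.centralizer ((S : Subgroup G) : Set G) := by
    rw [inv_inv, ← hk]; exact zpow_mem hc1 k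
  obtain ⟨n, hn, hny⟩ := Sylow.conj_eq_normalizer_conj_of_mem_centralizer S y g⁻¹ hc1 hc2
  rw [inv_inv] at hny
  have h3 := zpow_eq_self_of_normalizer_sylow S hy hyS (inv_mem hn) (k := k)
    (by rw [inv_inv, ← hny, hk])
  rwa [inv_inv, ← hny] at h3

/-- If a 2-subgroup `Z` is central modulo the odd core, then `G = O(G) C_G(Z)`. -/
theorem exists_core_mul_centralizer {Z : Subgroup G} (hZ : IsPGroup 2 Z)
    (hZab : ∀ a ∈ Z, ∀ b ∈ Z, a * b = b * a)
    (hc : ∀ z ∈ Z, ∀ g : G, z * g * z⁻¹ * g⁻¹ ∈ oddCore G) (g : G) :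
    ∃ o ∈ oddCore G, ∃ c ∈ Subgroup.centralizer (Z : Set G), g = o * c := by
  haveI : (oddCore G).Normal := Solv.pPrimeCore_normal 2
  have hUK : cj Z g ≤ Z ⊔ oddCore G := by
    intro w hw
    have h1 := mem_cj.1 hw
    have h2 := hc _ h1 g
    have h3 : w = (g⁻¹ * w * g * g * (g⁻¹ * w * g)⁻¹ * g⁻¹)⁻¹ * (g⁻¹ * w * g) := by group
    rw [h3]
    exact mul_mem (inv_mem (Subgroup.mem_sup_right h2)) (Subgroup.mem_sup_left h1)
  obtain ⟨a, ha, haZ⟩ := Char.exists_conj_le (T := Z) (K := Z ⊔ oddCore G) (U := cj Z g)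
    (N := oddCore G) (Char.card_oddCore_odd G) hZ (isPGroup_cj hZ g) le_sup_left le_rfl hUK
  have hag : a * g ∈ Subgroup.centralizer (Z : Set G) := by
    refine Subgroup.mem_centralizer_iff.mpr fun z hz => ?_
    have h1 : a * (g * z * g⁻¹) * a⁻¹ ∈ Z := haZ _ (mem_cj.2 (by
      rw [show g⁻¹ * (g * z * g⁻¹) * g = z by group]; exact hz))
    have h2 : z * ((a * (g * z * g⁻¹) * a⁻¹))⁻¹ ∈ oddCore G := by
      have := hc z hz (a * g)
      rw [show z * (a * (g * z * g⁻¹) * a⁻¹)⁻¹ = z * (a * g) * z⁻¹ * (a * g)⁻¹ by group]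
      exact this
    have h3 : z * (a * (g * z * g⁻¹) * a⁻¹)⁻¹ = 1 := by
      obtain ⟨j, hj⟩ := IsPGroup.iff_orderOf.mp hZ ⟨_, mul_mem hz (inv_mem h1)⟩
      rw [← Subgroup.orderOf_coe] at hj
      have ho2 := (Char.card_oddCore_odd G).of_dvd_nat
        ((Subgroup.orderOf_dvd_natCard _ h2))
      rw [hj] at ho2
      rcases Nat.eq_zero_or_pos j with rfl | hj0
      · exact orderOf_eq_one_iff.mp (by simpa using hj)
      · exact absurd ((Nat.even_pow.2 ⟨even_two, hj0.ne'⟩)) (Nat.not_even_iff_odd.2 ho2)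
    rw [mul_inv_eq_one] at h3
    calc z * (a * g) = a * (g * z * g⁻¹) * a⁻¹ * (a * g) := by rw [← h3]
      _ = a * g * z := by group
  obtain ⟨o, ho, z, hz, hoz⟩ := Subgroup.mem_sup_of_normal_left.1
    (show a⁻¹ ∈ oddCore G ⊔ Z by rw [sup_comm]; exact inv_mem ha)
  refine ⟨o, ho, z * (a * g), mul_mem (Subgroup.mem_centralizer_iff.mpr fun b hb =>
    hZab b hb z hz) hag, ?_⟩
  calc g = a⁻¹ * (a * g) := by group
    _ = o * (z * (a * g)) := by rw [← hoz, mul_assoc]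

end Cfsg.Agent.Fusion
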