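import Cfsg.Agent.Lib.Fusion.PComponentIntrinsic

/-!
A component moved by an element of order `p`: the product of its conjugates and the diagonal.
A `p`-component of the centralizer of that element inside the layer lies in the component or in the diagonal.
-/

set_option autoImplicit false
set_option linter.style.haveILetI false

open Cfsg Cfsg.Agent Cfsg.Agent.Fusion
open scoped commutatorElement

namespace Cfsg.Agent.CompDiag

universe u

variable {Y : Type u} [Group Y] [Finite Y] {p : ℕ} [hp : Fact p.Prime] {a : Y} {J : Subgroup Y}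

/-- `J` is a component moved by `a`, and `a ^ p = 1`. -/
structure Moved (p : ℕ) (a : Y) (J : Subgroup Y) : Prop where
  pow : a ^ p = 1
  comp : Cfsg.IsComponent J
  move : a ∉ Subgroup.normalizer (J : Set Y)

/-- The conjugation of `J` by the power `i` of `a`. -/
def phi (a : Y) (J : Subgroup Y) (i : ZMod p) : ↥J →* Y :=
  (MulAut.conj (a ^ i.val)).toMonoidHom.comp J.subtype

omit [Finite Y] hp in
theorem phi_apply (i : ZMod p) (x : J) : phi a J i x = a ^ i.val * x * (a ^ i.val)⁻¹ := rfl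

omit [Finite Y] hp in
theorem phi_mem (i : ZMod p) (x : J) : phi a J i x ∈ cj J (a ^ i.val) := conj_mem_cj x.2

omit [Finite Y] hp in
theorem phi_injective (i : ZMod p) : Function.Injective (phi a J i) :=
  (MulAut.conj (a ^ i.val)).injective.comp J.subtype_injective

omit [Finite Y] in
theorem phi_zero (x : J) : phi a J (0 : ZMod p) x = x := by simp [phi_apply]

omit [Finite Y] in
theorem pow_val_add (ha : a ^ p = 1) (i j : ZMod p) : a ^ (i + j).val = a ^ i.val * a ^ j.val := by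
  haveI : NeZero p := ⟨hp.out.ne_zero⟩
  rw [ZMod.val_add, ← pow_add]
  exact (pow_eq_pow_mod _ ha).symm

omit [Finite Y] in
theorem conj_phi (ha : a ^ p = 1) (i : ZMod p) (x : J) :
    a * phi a J i x * a⁻¹ = phi a J (i + 1) x := by
  haveI : Fact (1 < p) := ⟨hp.out.one_lt⟩
  rw [phi_apply, phi_apply, add_comm i 1, pow_val_add ha, ZMod.val_one, pow_one]
  group

namespace Moved

variable (h : Moved p a J)
include h

omit [Finite Y] in
theorem copy_ne {i j : ZMod p} (hne : i ≠ j) : cj J (a ^ i.val) ≠ cj J (a ^ j.val) := by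
  intro he
  haveI : NeZero p := ⟨hp.out.ne_zero⟩
  rw [show j = i + (j - i) by ring, pow_val_add h.pow, ← cj_cj] at he
  have h1 : cj J (a ^ (j - i).val) = J :=
    (Subgroup.map_injective (MulAut.conj (a ^ i.val)).injective he).symm
  have h2 : a ^ (j - i).val ∈ Subgroup.normalizer (J : Set Y) := mem_normalizer_iff_cj.2 h1
  obtain ⟨m, hm⟩ := exists_pow_eq_self_of_coprime (x := a) (n := (j - i).val) (by
    rw [show orderOf a = p from orderOf_eq_prime h.pow fun e => h.move (e ▸ one_mem _)]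
    refine ((Nat.Prime.coprime_iff_not_dvd hp.out).2 fun hd => ?_).symm
    have h0 : (j - i).val ≠ 0 := fun e => hne (sub_eq_zero.1 ((ZMod.val_eq_zero _).1 e)).symm
    exact (ZMod.val_lt (j - i)).not_ge (Nat.le_of_dvd (Nat.pos_of_ne_zero h0) hd))
  exact h.move (hm ▸ pow_mem h2 m)

omit [Finite Y] in
theorem comm_copy {i j : ZMod p} (hne : i ≠ j) {u v : Y} (hu : u ∈ cj J (a ^ i.val))
    (hv : v ∈ cj J (a ^ j.val)) : Commute u v :=
  (Subgroup.mem_centralizer_iff.1 (Subgroup.commutator_eq_bot_iff_le_centralizer.1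
    (Solv.components_commute (Solv.component_conj h.comp _) (Solv.component_conj h.comp _) (h.copy_ne hne)) hu)
      v hv).symm

omit [Finite Y] in
theorem comm_phi : Pairwise fun i j : ZMod p => ∀ x y : J, Commute (phi a J i x) (phi a J j y) :=
  fun i j hne x y => h.comm_copy hne (phi_mem i x) (phi_mem j y)

/-- The homomorphism onto the product of the conjugates. -/
noncomputable def prodHom : (ZMod p → ↥J) →* Y :=
  haveI : NeZero p := ⟨hp.out.ne_zero⟩
  MonoidHom.noncommPiCoprod (fun i : ZMod p => phi a J i) h.comm_phi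

omit [Finite Y] in
theorem prodHom_single (i : ZMod p) (x : J) : h.prodHom (Pi.mulSingle i x) = phi a J i x := by
  haveI : NeZero p := ⟨hp.out.ne_zero⟩
  exact MonoidHom.noncommPiCoprod_mulSingle (N := fun _ : ZMod p => ↥J) (ϕ := fun j => phi a J j) i x

omit [Finite Y] in
theorem prodHom_conj (f : ZMod p → J) :
    a * h.prodHom f * a⁻¹ = h.prodHom fun i => f (i - 1) := by
  haveI : NeZero p := ⟨hp.out.ne_zero⟩
  let sh : (ZMod p → ↥J) →* (ZMod p → ↥J) := MonoidHom.mk' (fun g i => g (i - 1)) fun _ _ => rfl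
  have he : (MulAut.conj a).toMonoidHom.comp h.prodHom = h.prodHom.comp sh := by
    refine MonoidHom.pi_ext fun i x => ?_
    have hs : sh (Pi.mulSingle i x) = Pi.mulSingle (i + 1) x := funext fun k => by
      show (Pi.mulSingle i x : ZMod p → ↥J) (k - 1) = _
      rcases eq_or_ne k (i + 1) with rfl | hk
      · rw [add_sub_cancel_right, Pi.mulSingle_eq_same, Pi.mulSingle_eq_same]
      · rw [Pi.mulSingle_eq_of_ne hk, Pi.mulSingle_eq_of_ne fun e => hk (sub_eq_iff_eq_add.1 e)]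
    rw [MonoidHom.comp_apply, MonoidHom.comp_apply, hs, h.prodHom_single, h.prodHom_single]
    exact conj_phi h.pow i x
  exact DFunLike.congr_fun he f

omit [Finite Y] in
theorem prodHom_act (f : ZMod p → J) (i : ZMod p) (x : J) :
    h.prodHom f * phi a J i x * (h.prodHom f)⁻¹ = phi a J i (f i * x * (f i)⁻¹) := by
  rw [← h.prodHom_single i x, ← h.prodHom_single i (f i * x * (f i)⁻¹), ← map_inv, ← map_mul, ← map_mul]
  congr 1
  funext k
  rcases eq_or_ne k i with rfl | hk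
  · simp
  · simp [Pi.mulSingle_eq_of_ne hk]

omit [Finite Y] in
theorem range_prodHom_le {S : Subgroup Y} (hS : ∀ (i : ZMod p) (x : J), phi a J i x ∈ S) :
    h.prodHom.range ≤ S := by
  haveI : NeZero p := ⟨hp.out.ne_zero⟩
  rw [prodHom, MonoidHom.noncommPiCoprod_range, iSup_le_iff]
  rintro i _ ⟨x, rfl⟩
  exact hS i x

/-- The diagonal. -/
noncomputable def diag : ↥J →* Y :=
  h.prodHom.comp (MonoidHom.mk' (fun x _ => x) fun _ _ => rfl)

omit [Finite Y] in
theorem diag_apply (x : J) : h.diag x = h.prodHom fun _ => x := rfl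

omit [Finite Y] in
theorem diag_fixed (x : J) : h.diag x ∈ Subgroup.centralizer ({a} : Set Y) := by
  rw [Subgroup.mem_centralizer_singleton_iff, diag_apply]
  have := h.prodHom_conj fun _ => x
  exact (mul_inv_eq_iff_eq_mul.1 this).symm

omit [Finite Y] in
theorem diag_act (i : ZMod p) (x y : J) :
    h.diag x * phi a J i y * (h.diag x)⁻¹ = phi a J i (x * y * x⁻¹) := h.prodHom_act _ i y

omit [Finite Y] in
theorem diag_ker_le : h.diag.ker ≤ Subgroup.center J := fun x hx => by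
  refine Subgroup.mem_center_iff.2 fun y => ?_
  have h1 := h.diag_act (0 : ZMod p) x y
  rw [MonoidHom.mem_ker.1 hx, one_mul, inv_one, mul_one] at h1
  exact mul_inv_eq_iff_eq_mul.1 (phi_injective _ h1).symm |>.symm

omit [Finite Y] in
theorem normalizes_diag {n : Y} (hn : n ∈ Subgroup.normalizer (J : Set Y))
    (hna : n ∈ Subgroup.centralizer ({a} : Set Y)) (x : J) :
    n * h.diag x * n⁻¹ = h.diag ⟨n * x * n⁻¹, (Subgroup.mem_normalizer_iff.1 hn _).1 x.2⟩ := by
  haveI : NeZero p := ⟨hp.out.ne_zero⟩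
  let cn : ↥J →* ↥J := MonoidHom.mk'
    (fun z => ⟨n * z * n⁻¹, (Subgroup.mem_normalizer_iff.1 hn _).1 z.2⟩)
    fun z w => Subtype.ext (by
      show n * ((z : Y) * w) * n⁻¹ = n * z * n⁻¹ * (n * w * n⁻¹)
      group)
  let cN : (ZMod p → ↥J) →* (ZMod p → ↥J) := MonoidHom.mk' (fun g i => cn (g i))
    fun g g' => funext fun i => map_mul cn (g i) (g' i)
  have he : (MulAut.conj n).toMonoidHom.comp h.prodHom = h.prodHom.comp cN := by
    refine MonoidHom.pi_ext fun i z => ?_
    have hs : cN (Pi.mulSingle i z) = Pi.mulSingle i (cn z) := funext fun k => by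
      show cn ((Pi.mulSingle i z : ZMod p → ↥J) k) = _
      rcases eq_or_ne k i with rfl | hk
      · rw [Pi.mulSingle_eq_same, Pi.mulSingle_eq_same]
      · rw [Pi.mulSingle_eq_of_ne hk, Pi.mulSingle_eq_of_ne hk, map_one]
    rw [MonoidHom.comp_apply, MonoidHom.comp_apply, hs, h.prodHom_single, h.prodHom_single]
    have hc : Commute n (a ^ i.val) :=
      (show Commute n a from Subgroup.mem_centralizer_singleton_iff.1 hna).pow_right _
    show n * (a ^ i.val * (z : Y) * (a ^ i.val)⁻¹) * n⁻¹ = a ^ i.val * (n * z * n⁻¹) * (a ^ i.val)⁻¹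
    calc _ = n * a ^ i.val * z * (n * a ^ i.val)⁻¹ := by group
      _ = a ^ i.val * n * z * (a ^ i.val * n)⁻¹ := by rw [hc.eq]
      _ = _ := by group
  exact DFunLike.congr_fun he (fun _ => x)

omit [Finite Y] hp h in
/-- Elements fixed by `a` centralising `J` centralise all the conjugates. -/
theorem comm_phi_of_centralizes {e : Y} (he : e ∈ Subgroup.centralizer ({a} : Set Y))
    (heJ : e ∈ Subgroup.centralizer (J : Set Y)) (i : ZMod p) (x : J) : Commute e (phi a J i x) := by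
  have hc : Commute e (a ^ i.val) :=
    (show Commute e a from Subgroup.mem_centralizer_singleton_iff.1 he).pow_right _
  have hx : Commute e (x : Y) := (Subgroup.mem_centralizer_iff.1 heJ x x.2).symm
  exact (hc.mul_right hx).mul_right hc.inv_right

omit [Finite Y] in
theorem comm_diag_of_centralizes {e : Y} (he : e ∈ Subgroup.centralizer ({a} : Set Y))
    (heJ : e ∈ Subgroup.centralizer (J : Set Y)) (x : J) : Commute e (h.diag x) := by
  refine Subgroup.mem_centralizer_singleton_iff.1 ?_ |>.symm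
  exact h.range_prodHom_le (S := Subgroup.centralizer {e})
    (fun i y => Subgroup.mem_centralizer_singleton_iff.2 (comm_phi_of_centralizes he heJ i y).eq.symm)
    ⟨_, rfl⟩

omit [Finite Y] in
theorem mem_copy_centralizes {i j : ZMod p} (hne : i ≠ j) {u : Y} (hu : u ∈ cj J (a ^ i.val)) :
    u ∈ Subgroup.centralizer (cj J (a ^ j.val) : Set Y) :=
  Subgroup.mem_centralizer_iff.2 fun _ hv => (h.comm_copy hne hu hv).eq.symm

/-- An element centralising the diagonal permutes the conjugates like a power of `a`. -/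
theorem perm {n : Y} (hn : n ∈ Subgroup.centralizer (h.diag.range : Set Y)) :
    ∃ k : ℕ, (a ^ k)⁻¹ * n ∈ Subgroup.normalizer (J : Set Y) := by
  by_contra hno
  push Not at hno
  have hne : ∀ i : ZMod p, cj J n ≠ cj J (a ^ i.val) := fun i he => hno i.val (mem_normalizer_iff_cj.2 (by
    rw [← cj_cj, he, cj_cj, inv_mul_cancel, cj_one]))
  have hle : h.prodHom.range ≤ Subgroup.centralizer (cj J n : Set Y) := h.range_prodHom_le fun i x =>
    Subgroup.commutator_eq_bot_iff_le_centralizer.1 (Solv.components_commute (Solv.component_conj h.comp _)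
      (Solv.component_conj h.comp _) (hne i).symm) (phi_mem i x)
  refine Solv.qs_center_ne_top h.comp.2 (eq_top_iff.2 fun x _ => Subgroup.mem_center_iff.2 fun y => ?_)
  have h1 := h.diag_act (0 : ZMod p) x y
  have h2 : n * (y : Y) * n⁻¹ * h.diag x = h.diag x * (n * y * n⁻¹) :=
    Subgroup.mem_centralizer_iff.1 (hle ⟨fun _ => x, rfl⟩) _ (conj_mem_cj y.2)
  have h3 : h.diag x * n = n * h.diag x := Subgroup.mem_centralizer_iff.1 hn _ ⟨x, rfl⟩
  have h4 : h.diag x * (y : Y) * (h.diag x)⁻¹ = y := by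
    calc h.diag x * (y : Y) * (h.diag x)⁻¹
        = n⁻¹ * (n * h.diag x) * y * (h.diag x)⁻¹ := by group
      _ = n⁻¹ * (h.diag x * (n * y * n⁻¹)) * (h.diag x * n⁻¹)⁻¹ * (h.diag x * n⁻¹) * n * (h.diag x)⁻¹ := by
          rw [← h3]; group
      _ = n⁻¹ * (n * y * n⁻¹ * h.diag x) * n * (h.diag x)⁻¹ := by rw [h2]; group
      _ = n⁻¹ * (n * y * n⁻¹) * (h.diag x * n) * (h.diag x)⁻¹ := by group
      _ = n⁻¹ * (n * y * n⁻¹) * (n * h.diag x) * (h.diag x)⁻¹ := by rw [h3]
      _ = _ := by group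
  rw [phi_zero, phi_zero, h4] at h1
  exact (mul_inv_eq_iff_eq_mul.1 (Subtype.ext h1 : y = x * y * x⁻¹).symm).symm

/-- An element fixed by `a` normalising `J` and centralising the diagonal centralises `J`. -/
theorem centralizes (hinj : Function.Injective h.diag) {n : Y}
    (hna : n ∈ Subgroup.centralizer ({a} : Set Y)) (hnJ : n ∈ Subgroup.normalizer (J : Set Y))
    (hn : n ∈ Subgroup.centralizer (h.diag.range : Set Y)) :
    n ∈ Subgroup.centralizer (J : Set Y) := by
  refine Subgroup.mem_centralizer_iff.2 fun y hy => ?_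
  have h1 : h.diag ⟨y, hy⟩ * n = n * h.diag ⟨y, hy⟩ := Subgroup.mem_centralizer_iff.1 hn _ ⟨⟨y, hy⟩, rfl⟩
  have h2 := h.normalizes_diag hnJ hna ⟨y, hy⟩
  rw [← h1, mul_inv_cancel_right] at h2
  exact mul_inv_eq_iff_eq_mul.1 (congrArg Subtype.val (hinj h2)).symm |>.symm

omit [Finite Y] in
/-- A fixed element of order dividing `p` of a conjugate is trivial, when the diagonal is injective. -/
theorem fixed_eq_one (hinj : Function.Injective h.diag) {z : Y}
    (hz : z ∈ Subgroup.centralizer ({a} : Set Y)) {i : ZMod p} (hzi : z ∈ cj J (a ^ i.val))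
    (hzp : z ^ p = 1) : z = 1 := by
  haveI : NeZero p := ⟨hp.out.ne_zero⟩
  have hc : ∀ k : ZMod p, a ^ k.val * z * (a ^ k.val)⁻¹ = z := fun k => by
    rw [← ((show Commute z a from Subgroup.mem_centralizer_singleton_iff.1 hz).pow_right _).eq,
      mul_inv_cancel_right]
  have hzJ : z ∈ J := by
    obtain ⟨w, hw, he⟩ := hzi
    have he' : a ^ i.val * w * (a ^ i.val)⁻¹ = z := he
    have : w = z := mul_left_cancel (mul_right_cancel (he'.trans (hc i).symm))
    exact this ▸ hw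
  have h1 : h.diag ⟨z, hzJ⟩ = 1 := by
    show MonoidHom.noncommPiCoprod (fun k : ZMod p => phi a J k) h.comm_phi (fun _ => (⟨z, hzJ⟩ : J)) = 1
    simp only [MonoidHom.noncommPiCoprod, MonoidHom.coe_mk, OneHom.coe_mk]
    refine Eq.trans (Finset.noncommProd_eq_pow_card _ _ _ z fun k _ => hc k) ?_
    rw [Finset.card_univ, ZMod.card, hzp]
  exact congrArg Subtype.val (hinj (h1.trans h.diag.map_one.symm))

omit [Finite Y] in
/-- An element of the product moving `a` by a given element of the diagonal. -/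
theorem exists_shift {j : J} (hj : j ^ p = 1) :
    ∃ w ∈ h.prodHom.range, w⁻¹ * a * w = a * (h.diag j)⁻¹ ∧ Commute w (h.diag j) := by
  haveI : NeZero p := ⟨hp.out.ne_zero⟩
  haveI : Fact (1 < p) := ⟨hp.out.one_lt⟩
  obtain ⟨e, he⟩ : ∃ e : ZMod p → ↥J, ∀ i, e i = j ^ i.val := ⟨fun i => j ^ i.val, fun _ => rfl⟩
  have h0 : (fun i => e (i - 1)) = e * (fun _ => j)⁻¹ := by
    refine funext fun i => ?_
    have h1 : e (i - 1) * j = e i := by
      rw [he, he, ← pow_succ]
      have h2 : ((i - 1).val + 1) % p = i.val := by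
        have := ZMod.val_add (i - 1) (1 : ZMod p)
        rw [sub_add_cancel, ZMod.val_one] at this
        exact this.symm
      rw [← h2]
      exact pow_eq_pow_mod _ hj
    exact eq_mul_inv_of_mul_eq h1
  refine ⟨h.prodHom e, ⟨e, rfl⟩, ?_, ?_⟩
  · have h2 := h.prodHom_conj e
    rw [h0, map_mul, map_inv, ← diag_apply] at h2
    have h3 : a * h.diag j = h.diag j * a := (Subgroup.mem_centralizer_singleton_iff.1 (h.diag_fixed j)).symm
    calc (h.prodHom e)⁻¹ * a * h.prodHom e = (h.prodHom e)⁻¹ * (a * h.prodHom e * a⁻¹) * a := by group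
      _ = (h.diag j)⁻¹ * a := by rw [h2]; group
      _ = _ := by rw [eq_mul_inv_iff_mul_eq, mul_assoc, h3, inv_mul_cancel_left]
  · rw [diag_apply]
    refine (show Commute e (fun _ => j) from funext fun i => ?_).map h.prodHom
    show e i * j = j * e i
    rw [he]
    exact ((Commute.refl j).pow_left _).eq

end Moved

/-! ### the `p`-component of the centralizer of `a` -/

omit hp in
/-- A subgroup of the layer normalises every component and splits over it. -/
theorem layer_split (hJ : Cfsg.IsComponent J) {i : Y} (hi : i ∈ Cfsg.layer Y) :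
    i ∈ Subgroup.normalizer (J : Set Y) ∧ ∃ j ∈ J, j⁻¹ * i ∈ Subgroup.centralizer (J : Set Y) := by
  obtain ⟨C, hC⟩ : ∃ C, C = Subgroup.centralizer (J : Set Y) := ⟨_, rfl⟩
  have hCN : C ≤ Subgroup.normalizer (J : Set Y) := hC ▸ Subgroup.centralizer_le_normalizer _
  have hle : Cfsg.layer Y ≤ J ⊔ C := sSup_le fun L hL => by
    rcases eq_or_ne L J with rfl | hne
    · exact le_sup_left
    · exact le_sup_of_le_right (hC ▸ Subgroup.commutator_eq_bot_iff_le_centralizer.1
        (Solv.components_commute hL hJ hne))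
  have h1 := hle hi
  refine ⟨sup_le Subgroup.le_normalizer hCN h1, ?_⟩
  rw [← SetLike.mem_coe, Subgroup.coe_mul_of_right_le_normalizer_left J C hCN] at h1
  obtain ⟨j, hj, e, he, rfl⟩ := h1
  exact ⟨j, hj, by rw [inv_mul_cancel_left, ← hC]; exact he⟩

/-- The common step: a normalised subgroup `M` of the centralizer covering `I` modulo the centralizer of `J`. -/
theorem pcomp_le_of_cover {C I M : Subgroup Y} (hI : Cfsg.IsPComponentOf p I C)
    (hIJ : I ≤ Subgroup.normalizer (J : Set Y)) (hMC : M ≤ C) (hMJ : M ≤ Subgroup.normalizer (J : Set Y))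
    (hMn : C ⊓ Subgroup.normalizer (J : Set Y) ≤ Subgroup.normalizer (M : Set Y))
    (hgen : ∀ i ∈ I, ∃ m ∈ M, m⁻¹ * i ∈ Subgroup.centralizer (J : Set Y))
    (hne : ¬ I ≤ Subgroup.centralizer (J : Set Y)) : I ≤ M := by
  obtain ⟨H, hH⟩ : ∃ H, H = C ⊓ Subgroup.normalizer (J : Set Y) := ⟨_, rfl⟩
  obtain ⟨E, hE⟩ : ∃ E, E = C ⊓ Subgroup.centralizer (J : Set Y) := ⟨_, rfl⟩
  have hIH : I ≤ H := hH ▸ le_inf hI.1 hIJ
  have hMH : M ≤ H := hH ▸ le_inf hMC hMJ
  have hEH : E ≤ H := by rw [hE, hH]; exact inf_le_inf le_rfl (Subgroup.centralizer_le_normalizer _)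
  have hIH' : Cfsg.IsPComponent p (I.subgroupOf H) :=
    (PComp.pcompOf_restrict hI hIH (hH ▸ inf_le_left)).2
  haveI : (M.subgroupOf H).Normal := (Subgroup.normal_subgroupOf_iff_le_normalizer hMH).2 (hH ▸ hMn)
  haveI : (E.subgroupOf H).Normal := (Subgroup.normal_subgroupOf_iff_le_normalizer hEH).2 fun n hn =>
    mem_normalizer_of_cj_le (by
      rw [hH] at hn
      rw [hE, cj_inf, cj_centralizer, cj_eq_self (Subgroup.mem_inf.1 hn).2, cj_eq_self_of_mem (Subgroup.mem_inf.1 hn).1])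
  obtain ⟨ρ, hρ⟩ : ∃ ρ : ↥H →* _, ρ = QuotientGroup.mk' (Cfsg.pPrimeCore p ↥H) := ⟨_, rfl⟩
  haveI : ((M.subgroupOf H).map ρ).Normal :=
    (inferInstance : (M.subgroupOf H).Normal).map ρ (hρ ▸ QuotientGroup.mk'_surjective _)
  have hback : ∀ W : Subgroup Y, W.subgroupOf H ≥ I.subgroupOf H → I ≤ W := fun W hW i hi =>
    hW (show (⟨i, hIH hi⟩ : H) ∈ I.subgroupOf H from hi)
  rcases Solv.component_normal_dichotomy (hρ ▸ hIH'.2.1 : Cfsg.IsComponent ((I.subgroupOf H).map ρ))
      ((M.subgroupOf H).map ρ) with h | h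
  · exact hback M (pComponent_le_of_map_le hIH' (inferInstance : (M.subgroupOf H).Normal).isSubnormal
      (hρ ▸ h))
  exfalso
  refine hne ((hback E (pComponent_le_of_map_le hIH' (inferInstance : (E.subgroupOf H).Normal).isSubnormal
    ?_)).trans (hE ▸ inf_le_right))
  rw [← hρ]
  haveI : ((E.subgroupOf H).map ρ).Normal :=
    (inferInstance : (E.subgroupOf H).Normal).map ρ (hρ ▸ QuotientGroup.mk'_surjective _)
  nth_rw 1 [← pComponent_perfect hIH']
  rw [Subgroup.map_commutator, Subgroup.commutator_le]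
  rintro _ ⟨u, hu, rfl⟩ _ ⟨v, hv, rfl⟩
  obtain ⟨m, hm, hme⟩ := hgen v hv
  obtain ⟨m₁, hm₁, hm₁e⟩ := hgen u hu
  have heC : m⁻¹ * (v : Y) ∈ C := mul_mem (inv_mem (hMC hm)) (hI.1 hv)
  have he₁C : m₁⁻¹ * (u : Y) ∈ C := mul_mem (inv_mem (hMC hm₁)) (hI.1 hu)
  have heH : m⁻¹ * (v : Y) ∈ H := mul_mem (inv_mem (hMH hm)) v.2
  obtain ⟨e, he⟩ : ∃ e : H, (e : Y) = m⁻¹ * v := ⟨⟨_, heH⟩, rfl⟩
  have hv' : v = ⟨m, hMH hm⟩ * e := Subtype.ext (by
    show (v : Y) = m * e
    rw [he, mul_inv_cancel_left])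
  have hcm : ρ u * ρ ⟨m, hMH hm⟩ = ρ ⟨m, hMH hm⟩ * ρ u := by
    rw [Subgroup.commutator_eq_bot_iff_le_centralizer] at h
    exact (Subgroup.mem_centralizer_iff.1 (h ⟨u, hu, rfl⟩) _ ⟨⟨m, hMH hm⟩, hm, rfl⟩).symm
  have hue : ⁅u, e⁆ ∈ E.subgroupOf H := by
    rw [commutatorElement_def]
    refine mul_mem ((inferInstance : (E.subgroupOf H).Normal).conj_mem e ?_ u) (inv_mem ?_) <;>
    · show (e : Y) ∈ E
      rw [hE, he]
      exact Subgroup.mem_inf.2 ⟨heC, hme⟩
  have e1 : ⁅ρ u, ρ v⁆ = ρ ⟨m, hMH hm⟩ * ⁅ρ u, ρ e⁆ * (ρ ⟨m, hMH hm⟩)⁻¹ := by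
    rw [hv', map_mul, commutatorElement_def, commutatorElement_def, ← mul_assoc, hcm]
    group
  rw [e1, ← map_commutatorElement, ← map_inv, ← map_mul, ← map_mul]
  exact Subgroup.mem_map_of_mem ρ ((inferInstance : (E.subgroupOf H).Normal).conj_mem _ hue _)

/-- If `a` normalises the component, the `p`-component lies in it. -/
theorem pcomp_le_component (hJ : Cfsg.IsComponent J) (haJ : a ∈ Subgroup.normalizer (J : Set Y)) {I : Subgroup Y}
    (hI : Cfsg.IsPComponentOf p I (Subgroup.centralizer ({a} : Set Y))) (hIL : I ≤ Cfsg.layer Y)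
    (hne : ¬ I ≤ Subgroup.centralizer (J : Set Y)) : I ≤ J := by
  let M' : Subgroup Y :=
    { carrier := {j | j ∈ J ∧ ⁅a, j⁆ ∈ Subgroup.centralizer (J : Set Y)}
      one_mem' := ⟨one_mem _, by rw [commutatorElement_one_right]; exact one_mem _⟩
      mul_mem' := fun {j k} hj hk => ⟨mul_mem hj.1 hk.1, by
        have h1 : j * ⁅a, k⁆ = ⁅a, k⁆ * j := Subgroup.mem_centralizer_iff.1 hk.2 j hj.1
        have h2 : ⁅a, j * k⁆ = ⁅a, j⁆ * ⁅a, k⁆ := by
          calc ⁅a, j * k⁆ = ⁅a, j⁆ * (j * ⁅a, k⁆) * j⁻¹ := by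
                rw [commutatorElement_def, commutatorElement_def, commutatorElement_def]; group
            _ = _ := by rw [h1]; group
        rw [h2]; exact mul_mem hj.2 hk.2⟩
      inv_mem' := fun {j} hj => ⟨inv_mem hj.1, by
        have h1 : j⁻¹ * ⁅a, j⁆⁻¹ = ⁅a, j⁆⁻¹ * j⁻¹ :=
          Subgroup.mem_centralizer_iff.1 (inv_mem hj.2) _ (inv_mem hj.1)
        have h2 : ⁅a, j⁻¹⁆ = ⁅a, j⁆⁻¹ := by
          calc ⁅a, j⁻¹⁆ = j⁻¹ * ⁅a, j⁆⁻¹ * j := by rw [commutatorElement_def, commutatorElement_def]; group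
            _ = _ := by rw [h1]; group
        rw [h2]; exact inv_mem hj.2⟩ }
  have hM'J : ⁅M', M'⁆ ≤ J :=
    (Subgroup.commutator_mono (H₁ := M') (K₁ := J) (fun j hj => hj.1) (H₂ := M') (K₂ := J) (fun j hj => hj.1)).trans (Subgroup.commutator_le_self J)
  obtain ⟨C, hC⟩ : ∃ C, C = Subgroup.centralizer ({a} : Set Y) := ⟨_, rfl⟩
  have hM'C : ⁅M', M'⁆ ≤ C := by
    rw [hC, Subgroup.commutator_le]
    intro j hj k hk
    rw [Subgroup.mem_centralizer_singleton_iff]
    obtain ⟨c, hc⟩ : ∃ c, c = ⁅a, j⁆ := ⟨_, rfl⟩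
    obtain ⟨d, hd⟩ : ∃ d, d = ⁅a, k⁆ := ⟨_, rfl⟩
    have hinJ : ∀ j ∈ J, ⁅a, j⁆ ∈ J := fun j hj => by
      rw [commutatorElement_def]
      exact mul_mem ((Subgroup.mem_normalizer_iff.1 haJ _).1 hj) (inv_mem hj)
    have hcJ : ∀ z ∈ J, Commute c z := fun z hz => (Subgroup.mem_centralizer_iff.1 (hc ▸ hj.2) z hz).symm
    have hdJ : ∀ z ∈ J, Commute d z := fun z hz => (Subgroup.mem_centralizer_iff.1 (hd ▸ hk.2) z hz).symm
    have h1 : a * j * a⁻¹ = c * j := by rw [hc, commutatorElement_def]; group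
    have h2 : a * k * a⁻¹ = d * k := by rw [hd, commutatorElement_def]; group
    have h3 : a * ⁅j, k⁆ * a⁻¹ = ⁅j, k⁆ := by
      have e : a * ⁅j, k⁆ * a⁻¹ = ⁅a * j * a⁻¹, a * k * a⁻¹⁆ := by
        rw [commutatorElement_def, commutatorElement_def]; group
      rw [e, h1, h2, commutatorElement_def, commutatorElement_def]
      have e1 : j * d = d * j := (hdJ j hj.1).eq.symm
      have e2 : d⁻¹ * c = c * d⁻¹ := (hcJ d (hd ▸ hinJ k hk.1)).inv_right.eq.symm
      calc c * j * (d * k) * (c * j)⁻¹ * (d * k)⁻¹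
          = c * (j * d) * k * j⁻¹ * c⁻¹ * k⁻¹ * d⁻¹ := by group
        _ = c * d * (j * k * j⁻¹) * c⁻¹ * (k⁻¹ * d⁻¹) := by rw [e1]; group
        _ = c * d * c⁻¹ * (j * k * j⁻¹) * (k⁻¹ * d⁻¹) := by
            rw [mul_assoc (c * d), ((hcJ _ (mul_mem (mul_mem hj.1 hk.1) (inv_mem hj.1))).inv_left).eq.symm]
            group
        _ = d * (j * k * j⁻¹ * k⁻¹) * d⁻¹ := by
            rw [(hcJ d (hd ▸ hinJ k hk.1)).eq]; group
        _ = _ := by
            rw [(hdJ _ (mul_mem (mul_mem (mul_mem hj.1 hk.1) (inv_mem hj.1)) (inv_mem hk.1))).eq]; group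
    exact (mul_inv_eq_iff_eq_mul.1 h3).symm
  rw [← hC] at hI
  have hIN : ∀ i ∈ I, i ∈ Subgroup.normalizer (J : Set Y) := fun i hi => (layer_split hJ (hIL hi)).1
  refine (pcomp_le_of_cover hI hIN hM'C (hM'J.trans Subgroup.le_normalizer) ?_ ?_ hne).trans hM'J
  · intro n hn
    rw [hC] at hn
    obtain ⟨hn1, hn2⟩ := Subgroup.mem_inf.1 hn
    refine mem_normalizer_of_cj_le ?_
    rw [cj_commutator]
    refine Subgroup.commutator_mono ?_ ?_ <;>
    · rintro _ ⟨j, hj, rfl⟩
      refine ⟨(Subgroup.mem_normalizer_iff.1 hn2 _).1 hj.1, ?_⟩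
      have hna : n * a * n⁻¹ = a := by
        rw [Subgroup.mem_centralizer_singleton_iff.1 hn1, mul_inv_cancel_right]
      show ⁅a, n * j * n⁻¹⁆ ∈ _
      rw [show ⁅a, n * j * n⁻¹⁆ = ⁅n * a * n⁻¹, n * j * n⁻¹⁆ by rw [hna],
        show ⁅n * a * n⁻¹, n * j * n⁻¹⁆ = n * ⁅a, j⁆ * n⁻¹ by
          rw [commutatorElement_def, commutatorElement_def]; group]
      have h1 : n * ⁅a, j⁆ * n⁻¹ ∈ cj (Subgroup.centralizer (J : Set Y)) n := conj_mem_cj hj.2
      rwa [cj_centralizer, cj_eq_self hn2] at h1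
  · -- `I` is perfect
    intro i hi
    have hIp : ⁅I, I⁆ = I := by
      have h := congrArg (Subgroup.map C.subtype) (pComponent_perfect hI.2)
      rwa [Subgroup.map_commutator, Subgroup.map_subgroupOf_eq_of_le hI.1] at h
    have hI' : I ≤ M' ⊔ Subgroup.centralizer (J : Set Y) := fun z hz => by
      obtain ⟨-, j, hj, hje⟩ := layer_split hJ (hIL hz)
      have hj' : j ∈ M' := by
        refine ⟨hj, ?_⟩
        obtain ⟨e, he⟩ : ∃ e, e = j⁻¹ * z := ⟨_, rfl⟩
        rw [← he] at hje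
        have hzC := hI.1 hz
        rw [hC, Subgroup.mem_centralizer_singleton_iff] at hzC
        have hae : a * e * a⁻¹ ∈ Subgroup.centralizer (J : Set Y) := by
          have h1 : a * e * a⁻¹ ∈ cj (Subgroup.centralizer (J : Set Y)) a := conj_mem_cj hje
          rwa [cj_centralizer, cj_eq_self haJ] at h1
        have h2 : j⁻¹ * (a * j * a⁻¹) = e * (a * e * a⁻¹)⁻¹ := by
          have hz' : z = j * e := by rw [he]; group
          rw [hz'] at hzC
          calc j⁻¹ * (a * j * a⁻¹) = j⁻¹ * (a * (j * e)) * e⁻¹ * a⁻¹ := by group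
            _ = _ := by rw [← hzC]; group
        have h3 : ⁅a, j⁆ = j * (e * (a * e * a⁻¹)⁻¹) * j⁻¹ := by
          rw [← h2, commutatorElement_def]; group
        have h4 := mul_mem hje (inv_mem hae)
        rw [h3, Subgroup.mem_centralizer_iff.1 h4 j hj, mul_inv_cancel_right]
        exact h4
      have := mul_mem (Subgroup.mem_sup_left hj' : j ∈ M' ⊔ Subgroup.centralizer (J : Set Y))
        (Subgroup.mem_sup_right hje)
      rwa [mul_inv_cancel_left] at this
    have hMn : Subgroup.centralizer (J : Set Y) ≤ Subgroup.centralizer (M' : Set Y) :=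
      Subgroup.centralizer_le fun j hj => hj.1
    have h1 : I ≤ ⁅M', M'⁆ ⊔ Subgroup.centralizer (J : Set Y) := by
      rw [← hIp, Subgroup.commutator_le]
      intro u hu v hv
      have hmem : ∀ z ∈ I, ∃ m ∈ M', ∃ e ∈ Subgroup.centralizer (J : Set Y), m * e = z := fun z hz => by
        have h := hI' hz
        rw [← SetLike.mem_coe, Subgroup.coe_mul_of_right_le_normalizer_left _ _
          (hMn.trans (Subgroup.centralizer_le_normalizer _))] at h
        obtain ⟨m, hm, e, he, rfl⟩ := h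
        exact ⟨m, hm, e, he, rfl⟩
      obtain ⟨m, hm, e, he, rfl⟩ := hmem u hu
      obtain ⟨m₂, hm₂, e₂, he₂, rfl⟩ := hmem v hv
      have c1 : Commute e m₂ := (Subgroup.mem_centralizer_iff.1 (hMn he) m₂ hm₂).symm
      have c2 : Commute e₂ m := (Subgroup.mem_centralizer_iff.1 (hMn he₂) m hm).symm
      have e3 : ⁅m * e, m₂ * e₂⁆ = ⁅m, m₂⁆ * ⁅e, e₂⁆ := by
        have c3 : Commute ⁅e, e₂⁆ m₂ := by
          refine (Subgroup.mem_centralizer_iff.1 (hMn ?_) m₂ hm₂).symm
          rw [commutatorElement_def]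
          exact mul_mem (mul_mem (mul_mem he he₂) (inv_mem he)) (inv_mem he₂)
        calc ⁅m * e, m₂ * e₂⁆ = m * (e * m₂) * e₂ * e⁻¹ * m⁻¹ * e₂⁻¹ * m₂⁻¹ := by
              rw [commutatorElement_def]; group
          _ = m * m₂ * (e * e₂ * e⁻¹) * (m⁻¹ * e₂⁻¹) * m₂⁻¹ := by rw [c1.eq]; group
          _ = m * m₂ * (e * e₂ * e⁻¹ * e₂⁻¹) * m⁻¹ * m₂⁻¹ := by rw [← c2.inv_inv.eq]; group
          _ = _ := by
            have c4 : Commute ⁅e, e₂⁆ m := by
              refine (Subgroup.mem_centralizer_iff.1 (hMn ?_) m hm).symm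
              rw [commutatorElement_def]
              exact mul_mem (mul_mem (mul_mem he he₂) (inv_mem he)) (inv_mem he₂)
            rw [← commutatorElement_def, mul_assoc (m * m₂), (c4.inv_right).eq, ← mul_assoc,
              mul_assoc (m * m₂ * m⁻¹), (c3.inv_right).eq, ← mul_assoc, ← commutatorElement_def]
      rw [e3]
      refine mul_mem (Subgroup.mem_sup_left (Subgroup.commutator_mem_commutator hm hm₂)) (Subgroup.mem_sup_right ?_)
      rw [commutatorElement_def]
      exact mul_mem (mul_mem (mul_mem he he₂) (inv_mem he)) (inv_mem he₂)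
    have h2 := h1 hi
    rw [← SetLike.mem_coe, Subgroup.coe_mul_of_right_le_normalizer_left _ _
      ((Subgroup.centralizer_le (fun j hj => hM'J hj)).trans (Subgroup.centralizer_le_normalizer _))] at h2
    obtain ⟨m, hm, e, he, rfl⟩ := h2
    exact ⟨m, hm, by rw [inv_mul_cancel_left]; exact he⟩

/-- If `a` moves the component, the `p`-component lies in the diagonal. -/
theorem Moved.pcomp_le_diag (h : Moved p a J) {I : Subgroup Y}
    (hI : Cfsg.IsPComponentOf p I (Subgroup.centralizer ({a} : Set Y))) (hIL : I ≤ Cfsg.layer Y)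
    (hne : ¬ I ≤ Subgroup.centralizer (J : Set Y)) : I ≤ h.diag.range := by
  refine pcomp_le_of_cover hI (fun i hi => (layer_split h.comp (hIL hi)).1) ?_ ?_ ?_ ?_ hne
  · rintro _ ⟨x, rfl⟩; exact h.diag_fixed x
  · rintro _ ⟨x, rfl⟩
    refine mem_normalizer_of_cj_le ?_
    rintro _ ⟨y, hy, rfl⟩
    have h1 := h.diag_act (0 : ZMod p) x ⟨y, hy⟩
    rw [phi_zero, phi_zero] at h1
    show h.diag x * y * (h.diag x)⁻¹ ∈ J
    rw [h1]
    exact SetLike.coe_mem _
  · intro n hn
    obtain ⟨hna, hnJ⟩ := Subgroup.mem_inf.1 hn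
    refine mem_normalizer_of_cj_le ?_
    rintro _ ⟨_, ⟨x, rfl⟩, rfl⟩
    exact ⟨_, (h.normalizes_diag hnJ hna x).symm⟩
  · intro i hi
    obtain ⟨-, j, hj, hje⟩ := layer_split h.comp (hIL hi)
    refine ⟨_, ⟨⟨j, hj⟩, rfl⟩, Subgroup.mem_centralizer_iff.2 fun y hy => ?_⟩
    have hiy : i * y * i⁻¹ = j * y * j⁻¹ := by
      have h1 : y * (j⁻¹ * i) = j⁻¹ * i * y := Subgroup.mem_centralizer_iff.1 hje y hy
      calc i * y * i⁻¹ = j * (j⁻¹ * i * y) * i⁻¹ := by group
        _ = j * (y * (j⁻¹ * i)) * i⁻¹ := by rw [h1]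
        _ = _ := by group
    have h1 := h.diag_act (0 : ZMod p) ⟨j, hj⟩ ⟨y, hy⟩
    rw [phi_zero, phi_zero] at h1
    have h2 : h.diag ⟨j, hj⟩ * y * (h.diag ⟨j, hj⟩)⁻¹ = i * y * i⁻¹ := h1.trans hiy.symm
    calc y * ((h.diag ⟨j, hj⟩)⁻¹ * i)
        = (h.diag ⟨j, hj⟩)⁻¹ * (h.diag ⟨j, hj⟩ * y * (h.diag ⟨j, hj⟩)⁻¹) * i := by group
      _ = _ := by rw [h2]; group

end Cfsg.Agent.CompDiag
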