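import Mathlib

/-!
# Fixed points and commutators of a coprime action on an abelian group
-/

set_option autoImplicit false

open scoped commutatorElement

namespace Cfsg.Agent.Fusion

variable {G : Type*} [Group G] [Finite G]

/-- For `N` acting on the abelian normal subgroup `A` through a group of order prime to `|A|`,
a fixed element of `⁅A, N⁆` is trivial. -/
theorem eq_one_of_fixed_commutator {A N N₀ : Subgroup G} [A.Normal] (hA : IsMulCommutative A)
    [(N₀.subgroupOf N).Normal] (hN₀ : ∀ n ∈ N₀, ∀ a ∈ A, n * a * n⁻¹ = a)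
    (hcop : (Nat.card A).Coprime (N₀.relIndex N)) {v : G} (hv : v ∈ ⁅A, N⁆)
    (hfix : ∀ n ∈ N, n * v * n⁻¹ = v) : v = 1 := by
  classical
  letI : CommGroup A := { (inferInstance : Group A) with mul_comm := hA.1.1 }
  set Q := ↥N ⧸ N₀.subgroupOf N
  haveI : Fintype Q := Fintype.ofFinite Q
  let c : ↥N → ↥A → ↥A := fun n a =>
    ⟨(n : G) * (a : G) * (n : G)⁻¹, (inferInstance : A.Normal).conj_mem _ a.2 n⟩
  have hmk : ∀ n m : ↥N, (QuotientGroup.mk n : Q) = QuotientGroup.mk m → c n = c m := by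
    intro n m h
    funext a
    apply Subtype.ext
    have h1 := hN₀ _ ((QuotientGroup.eq (s := N₀.subgroupOf N)).1 h) (a : G) a.2
    show (n : G) * (a : G) * (n : G)⁻¹ = (m : G) * (a : G) * (m : G)⁻¹
    conv_lhs => rw [← h1]
    show (n : G) * (((n⁻¹ * m : ↥N) : G) * (a : G) * ((n⁻¹ * m : ↥N) : G)⁻¹) * (n : G)⁻¹ = _
    rw [Subgroup.coe_mul, Subgroup.coe_inv]
    group
  let f : ↥A →* ↥A :=
    MonoidHom.mk' (fun a => ∏ q : Q, c q.out a) fun a b => by
      rw [← Finset.prod_mul_distrib]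
      refine Finset.prod_congr rfl fun q _ => Subtype.ext ?_
      show (q.out : G) * ((a * b : ↥A) : G) * (q.out : G)⁻¹ = _
      rw [Subgroup.coe_mul, Subgroup.coe_mul]
      show _ = (q.out : G) * (a : G) * (q.out : G)⁻¹ * ((q.out : G) * (b : G) * (q.out : G)⁻¹)
      group
  have hinv : ∀ (k : ↥N) (a : ↥A), f (c k a) = f a := by
    intro k a
    show (∏ q : Q, c q.out (c k a)) = ∏ q : Q, c q.out a
    rw [← Equiv.prod_comp (Equiv.mulRight (QuotientGroup.mk k : Q)) (fun q : Q => c q.out a)]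
    refine Finset.prod_congr rfl fun q _ => ?_
    have h1 : c q.out (c k a) = c (q.out * k) a := by
      apply Subtype.ext
      show (q.out : G) * ((k : G) * (a : G) * (k : G)⁻¹) * (q.out : G)⁻¹ =
        ((q.out * k : ↥N) : G) * (a : G) * ((q.out * k : ↥N) : G)⁻¹
      rw [Subgroup.coe_mul]
      group
    rw [h1]
    refine congrFun (hmk _ _ ?_) a
    rw [Equiv.coe_mulRight, QuotientGroup.mk_mul, QuotientGroup.out_eq', QuotientGroup.out_eq']
  have hker : ∀ x, ∀ hx : x ∈ ⁅A, N⁆, f ⟨x, Subgroup.commutator_le_left A N hx⟩ = 1 := by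
    suffices h : ⁅A, N⁆ ≤ f.ker.map A.subtype by
      intro x hx
      obtain ⟨y, hy, he⟩ := h hx
      have e : (⟨x, Subgroup.commutator_le_left A N hx⟩ : ↥A) = y := Subtype.ext he.symm
      rw [e]
      exact hy
    rw [Subgroup.commutator_le]
    intro a ha n hn
    refine ⟨⟨a, ha⟩ * (c ⟨n, hn⟩ ⟨a, ha⟩)⁻¹, ?_, ?_⟩
    · show f _ = 1
      rw [map_mul, map_inv, hinv, mul_inv_cancel]
    · show a * (n * a * n⁻¹)⁻¹ = ⁅a, n⁆
      rw [commutatorElement_def]; group
  have h1 := hker v hv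
  have h2 : f ⟨v, Subgroup.commutator_le_left A N hv⟩ =
      (⟨v, Subgroup.commutator_le_left A N hv⟩ : ↥A) ^ Fintype.card Q := by
    show (∏ q : Q, c q.out _) = _
    rw [← Finset.card_univ, ← Finset.prod_const]
    exact Finset.prod_congr rfl fun q _ => Subtype.ext (hfix _ q.out.2)
  rw [h2] at h1
  have hQ : Fintype.card Q = N₀.relIndex N := by
    rw [← Nat.card_eq_fintype_card]; rfl
  set x : ↥A := ⟨v, Subgroup.commutator_le_left A N hv⟩
  have h3 : x = 1 := by
    rw [← orderOf_eq_one_iff]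
    exact Nat.eq_one_of_dvd_coprimes hcop (orderOf_dvd_natCard x)
      (hQ ▸ orderOf_dvd_of_pow_eq_one h1)
  exact congrArg Subtype.val h3

end Cfsg.Agent.Fusion
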