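import Cfsg.Agent.Lib.Fusion.LBalanceTwo
import Cfsg.Agent.Lib.Fusion.SchreierBalanceApply

/-!
# Balance of cores for the extended 2-layer, without hypotheses on composition factors
-/

set_option autoImplicit false
set_option linter.style.haveILetI false

open Cfsg Cfsg.Agent Cfsg.Agent.Fusion
open scoped commutatorElement Pointwise

namespace Cfsg.Agent.LBal

universe u

variable {X : Type u} [Group X] [Finite X]

omit [Finite X] in
theorem coe_oddCent_le (T : Subgroup X) : oddCent T ≤ Subgroup.centralizer (T : Set X) :=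
  Subgroup.map_subtype_le _

/-- An element with image of odd order is congruent to an element of odd order in the same subgroup. -/
theorem exists_odd_lift {Y : Type u} [Group Y] (f : X →* Y) {M : Subgroup X} {m : X} (hm : m ∈ M)
    (ho : (orderOf (f m)).Coprime 2) : ∃ l ∈ M, (orderOf l).Coprime 2 ∧ f l = f m := by
  obtain ⟨a, b, hb, hab⟩ := Nat.exists_eq_pow_mul_and_not_dvd (orderOf_pos m).ne' 2 (by norm_num)
  obtain ⟨j, hj⟩ := exists_pow_eq_self_of_coprime (x := f m) (n := 2 ^ a) (Nat.Coprime.symm (ho.pow_right a))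
  refine ⟨(m ^ 2 ^ a) ^ j, pow_mem (pow_mem hm _) _, ?_, by rw [map_pow, map_pow, hj]⟩
  refine Nat.Coprime.coprime_dvd_left (orderOf_pow_dvd j) ?_
  rw [orderOf_pow' _ (pow_ne_zero _ two_ne_zero), hab, Nat.gcd_mul_right_left,
    Nat.mul_div_cancel_left _ (Nat.two_pow_pos a)]
  exact Nat.Coprime.symm ((Nat.Prime.coprime_iff_not_dvd Nat.prime_two).2 hb)

/-- With trivial core, the centralizer of a Sylow subgroup `T` of `E(X) O_2(X)` has all its odd elements
in its core. -/
theorem odd_mem_oddCent (h0 : Cfsg.pPrimeCore 2 X = ⊥) {P : Subgroup X} (hP : SylIn 2 P (Cfsg.layer X))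
    {c : X} (hc : c ∈ Subgroup.centralizer ((P ⊔ Cfsg.pCore 2 X : Subgroup X) : Set X))
    (hco : (orderOf c).Coprime 2) :
    c ∈ oddCent (P ⊔ Cfsg.pCore 2 X) := by
  haveI : Fact (Nat.Prime 2) := ⟨Nat.prime_two⟩
  haveI : (Cfsg.layer X).Normal := Local.layer_normal
  set Q := Cfsg.pCore 2 X
  obtain ⟨T, hT⟩ : ∃ T, T = P ⊔ Q := ⟨_, rfl⟩
  rw [← hT] at hc ⊢
  obtain ⟨C, hC⟩ : ∃ C, C = Subgroup.centralizer (T : Set X) := ⟨_, rfl⟩
  rw [← hC] at hc
  have hTp : IsPGroup 2 T := hT ▸ hP.isPGroup.to_sup_of_normal_right' (isPGroup_pCore 2 X)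
    (by rw [Subgroup.normalizer_eq_top]; exact le_top)
  have hTle : T ≤ Cfsg.layer X ⊔ Q := hT ▸ sup_le_sup_right hP.le _
  have hCP : C ≤ Subgroup.centralizer (P : Set X) :=
    hC ▸ Subgroup.centralizer_le (hT ▸ le_sup_left : P ≤ T)
  have hCQ : C ≤ Subgroup.centralizer (Q : Set X) :=
    hC ▸ Subgroup.centralizer_le (hT ▸ le_sup_right : Q ≤ T)
  -- 2-elements of the derived subgroup lie in `T`
  have h2 : ∀ x ∈ ⁅C, C⁆, IsPGroup 2 (Subgroup.zpowers x) → x ∈ T := by
    intro x hx hx2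
    have hxC : x ∈ C := Subgroup.commutator_le_self C hx
    have hxE : x ∈ Subgroup.centralizer (Cfsg.layer X : Set X) :=
      centralizes h0 hP hCP (commutator_le_gd C hx) hx2
    have hxF : x ∈ Cfsg.generalizedFittingSubgroup X := Solv.centralizer_gfit_le (by
      refine Subgroup.le_centralizer_iff.1 (sup_le ?_ ?_) (Subgroup.mem_zpowers _)
      · rw [Subgroup.le_centralizer_iff, Subgroup.zpowers_le]; exact hxE
      · rw [Subgroup.le_centralizer_iff, Subgroup.zpowers_le, fitting_eq_pCore h0]; exact hCQ hxC)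
    rw [Cfsg.generalizedFittingSubgroup, fitting_eq_pCore h0] at hxF
    obtain ⟨T', hT', hTT'⟩ := exists_sylIn_ge (hx2.to_sup_of_normal_right' hTp
      (Subgroup.zpowers_le.2 (Subgroup.centralizer_le_normalizer _ (hC ▸ hxC))))
      (sup_le (Subgroup.zpowers_le.2 hxF) hTle : Subgroup.zpowers x ⊔ T ≤ Cfsg.layer X ⊔ Q)
    have hxT' : x ∈ T' := hTT' (Subgroup.mem_sup_left (Subgroup.mem_zpowers x))
    obtain ⟨e, he, q, hq, rfl⟩ := Subgroup.mem_sup_of_normal_left.1 hxF
    have hqT : q ∈ T := hT ▸ Subgroup.mem_sup_right hq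
    have h3 : e ∈ T' ⊓ Cfsg.layer X := Subgroup.mem_inf.2
      ⟨by simpa using mul_mem hxT' (inv_mem (hTT' (Subgroup.mem_sup_right hqT))), he⟩
    rw [SylIn.eq_of_le hP hT'.isPGroup.to_inf_left
      (le_inf ((hT ▸ le_sup_left : P ≤ T).trans (le_sup_right.trans hTT')) hP.le) inf_le_right] at h3
    exact mul_mem (hT ▸ Subgroup.mem_sup_left h3) hqT
  obtain ⟨D, hD⟩ : ∃ D, D = ⁅C, C⁆ := ⟨_, rfl⟩
  have hDC : D ≤ C := hD ▸ Subgroup.commutator_le_self C
  have hsyl : ∀ S : Sylow 2 D, ∀ s ∈ (S : Subgroup D), (s : X) ∈ T := fun S s hs =>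
    h2 s (hD ▸ s.2) ((S.isPGroup'.map D.subtype).to_le (Subgroup.zpowers_le.2 ⟨s, hs, rfl⟩))
  obtain ⟨S₀⟩ : Nonempty (Sylow 2 D) := inferInstance
  obtain ⟨S, W, hWn, hWc⟩ := hnpc_of_normalizer_le_centralizer S₀ (fun v _ =>
    Subgroup.mem_centralizer_iff.2 fun s hs => Subtype.ext
      (mem_cent (hC ▸ hDC v.2) (hsyl S₀ s hs)).eq)
  haveI := hWn
  have hWD : W ≤ Cfsg.pPrimeCore 2 D := le_pPrimeCore (Nat.Coprime.symm
    ((Nat.Prime.coprime_iff_not_dvd Nat.prime_two).2 (by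
      rw [← hWc.index_eq_card]
      exact S.not_dvd_index)))
  obtain ⟨π, hπ⟩ : ∃ π : C →* C ⧸ Cfsg.pPrimeCore 2 C, π = QuotientGroup.mk' _ := ⟨_, rfl⟩
  have hπk : ∀ a, π a = 1 ↔ a ∈ Cfsg.pPrimeCore 2 C := fun a => by
    rw [hπ, QuotientGroup.mk'_apply, QuotientGroup.eq_one_iff]
  obtain ⟨M, hM⟩ : ∃ M, M = ((Cfsg.pPrimeCore 2 D).map D.subtype).subgroupOf C := ⟨_, rfl⟩
  have hMC : M ≤ Cfsg.pPrimeCore 2 C := by
    have hle : (Cfsg.pPrimeCore 2 D).map D.subtype ≤ C := (Subgroup.map_subtype_le _).trans hDC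
    haveI : M.Normal := hM ▸ (Subgroup.normal_subgroupOf_iff_le_normalizer hle).2
      (le_trans (fun v hv => mem_normalizer_of_cj_le (by rw [hD, cj_commutator, cj_eq_self_of_mem hv]))
        (LocBal.normalizer_le_map_core D))
    refine le_pPrimeCore ?_
    rw [hM, Nat.card_congr (Subgroup.subgroupOfEquivOfLe hle).toEquiv,
      Subgroup.card_map_of_injective D.subtype_injective]
    exact card_pPrimeCore_coprime 2 D
  have hrep : ∀ v : C, (v : X) ∈ D → ∃ z : C, (z : X) ∈ T ∧ π v = π z := by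
    intro v hv
    obtain ⟨⟨w, s⟩, he⟩ := hWc.2 ⟨(v : X), hv⟩
    refine ⟨⟨((s : D) : X), hDC (s : D).2⟩, hsyl S s s.2, mul_inv_eq_one.1 ?_⟩
    rw [← map_inv, ← map_mul, hπk]
    refine hMC (hM ▸ ⟨(w : D), hWD w.2, ?_⟩)
    have h4 := congrArg Subtype.val he
    simp only [Subgroup.coe_mul] at h4
    show ((w : D) : X) = (v : X) * (((s : D) : X))⁻¹
    rw [← h4, mul_inv_cancel_right]
  have hzc : ∀ z : C, (z : X) ∈ T → ∀ v : C, Commute (π z) (π v) := fun z hz v =>
    (show Commute z v from Subtype.ext (mem_cent (hC ▸ v.2) hz).eq).map π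
  obtain ⟨c', hc'⟩ : ∃ c' : C, c' = ⟨c, hc⟩ := ⟨_, rfl⟩
  have hcent : ∀ g : C, Commute (π c') (π g) := by
    intro g
    obtain ⟨z, hz, he⟩ := hrep ⁅c', g⁆ (by
      rw [hD, ← Subgroup.coe_subtype, map_commutatorElement]
      exact Subgroup.commutator_mem_commutator c'.2 g.2)
    have hstep : ∀ n : ℕ, π c' ^ n * π g * (π c' ^ n)⁻¹ = π z ^ n * π g := by
      intro n
      induction n with
      | zero => simp
      | succ n ihn =>
        have h1 : π c' * π g * (π c')⁻¹ = π z * π g := by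
          rw [← he, map_commutatorElement, commutatorElement_def]; group
        have h5 : π c' * π z ^ n * (π c')⁻¹ = π z ^ n := by
          have := ((hzc z hz c').pow_left n).eq
          rw [← this, mul_inv_cancel_right]
        calc π c' ^ (n + 1) * π g * (π c' ^ (n + 1))⁻¹
            = π c' * (π c' ^ n * π g * (π c' ^ n)⁻¹) * (π c')⁻¹ := by rw [pow_succ']; group
          _ = (π c' * π z ^ n * (π c')⁻¹) * (π c' * π g * (π c')⁻¹) := by rw [ihn]; group
          _ = _ := by rw [h5, h1, pow_succ, mul_assoc]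
    have h6 := hstep (orderOf c')
    rw [← map_pow, pow_orderOf_eq_one, map_one, inv_one, one_mul, mul_one, eq_comm, mul_eq_right] at h6
    obtain ⟨j, hj⟩ := hTp ⟨(z : X), hz⟩
    have h7 : π z ^ 2 ^ j = 1 := by
      rw [← map_pow, show z ^ 2 ^ j = 1 from Subtype.ext (by simpa using congrArg Subtype.val hj), map_one]
    have hco' : (orderOf c').Coprime 2 := by rwa [hc', Subgroup.orderOf_mk]
    have h8 : π z = 1 := orderOf_eq_one_iff.1 (Nat.eq_one_of_dvd_coprimes (hco'.pow_right j)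
      (orderOf_dvd_of_pow_eq_one h6) (orderOf_dvd_of_pow_eq_one h7))
    rw [← commutatorElement_eq_one_iff_commute, ← map_commutatorElement, he, h8]
  have hcore : c' ∈ Cfsg.pPrimeCore 2 C := by
    haveI : (Subgroup.zpowers (π c')).Normal := ⟨fun q hq v => by
      obtain ⟨v, rfl⟩ : ∃ a, π a = v := hπ ▸ QuotientGroup.mk'_surjective _ v
      obtain ⟨i, rfl⟩ := Subgroup.mem_zpowers_iff.1 hq
      rw [((hcent v).symm.zpow_right i).eq, mul_inv_cancel_right]
      exact zpow_mem (Subgroup.mem_zpowers _) _⟩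
    have h9 : Subgroup.zpowers (π c') ≤ Cfsg.pPrimeCore 2 (C ⧸ Cfsg.pPrimeCore 2 C) := le_pPrimeCore (by
      rw [Nat.card_zpowers]
      exact (by rwa [hc', Subgroup.orderOf_mk] : (orderOf c').Coprime 2).coprime_dvd_left (orderOf_map_dvd π c'))
    rw [pPrimeCore_quotient_eq_bot, Subgroup.zpowers_le, Subgroup.mem_bot, hπk] at h9
    exact h9
  subst hC hc'
  exact ⟨_, hcore, rfl⟩

/-- Core balance in a group with trivial core. -/
theorem core_balance_aux (h0 : Cfsg.pPrimeCore 2 X = ⊥) {R K : Subgroup X} (hR : IsPGroup 2 R)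
    (hKR : K ≤ Subgroup.centralizer (R : Set X))
    (hON : Subgroup.normalizer (R : Set X) ≤ Subgroup.normalizer (K : Set X))
    (hKc : (Nat.card K).Coprime 2) :
    ∃ P : Subgroup X, SylIn 2 P (Cfsg.layer X) ∧
      K ≤ Cfsg.layer X ⊔ oddCent (P ⊔ Cfsg.pCore 2 X) := by
  haveI : Fact (Nat.Prime 2) := ⟨Nat.prime_two⟩
  haveI : (Cfsg.layer X).Normal := Local.layer_normal
  set Q := Cfsg.pCore 2 X
  have hord : ∀ k ∈ K, (orderOf k).Coprime 2 := fun k hk =>
    hKc.coprime_dvd_left (Subgroup.orderOf_dvd_natCard K hk)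
  obtain ⟨P, L, hP, -, hLP, hLE⟩ := climb (E := Cfsg.layer X) hR hON hKc (le_gd_of_odd hKc) hKR
    (fun k hk w hw => by
      rw [show ⁅k, w⁆ = k * (w * k⁻¹ * w⁻¹) by rw [commutatorElement_def]; group]
      exact mul_mem hk ((Subgroup.mem_normalizer_iff.1 (hON (Subgroup.centralizer_le_normalizer _
        (Subgroup.mem_inf.1 hw).2)) _).1 (inv_mem hk)))
  have hKQ : K ≤ Subgroup.centralizer (Q : Set X) := fun k hk =>
    mem_centralizer_of_AB (isPGroup_pCore 2 X) hR (by rw [Subgroup.normalizer_eq_top]; exact le_top)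
      (by rw [Subgroup.normalizer_eq_top]; trivial) (fun r hr => (mem_cent (hKR hk) hr).symm.eq) (hord k hk)
      (fun q hq hqr => by
        have hqN : q ∈ Subgroup.normalizer (K : Set X) := hON (Subgroup.centralizer_le_normalizer _
          (Subgroup.mem_centralizer_iff.2 fun r hr => (hqr r hr).symm))
        have h1 : ⁅k, q⁆ ∈ K ⊓ Q := by
          refine Subgroup.mem_inf.2 ⟨?_, ?_⟩
          · rw [show ⁅k, q⁆ = k * (q * k⁻¹ * q⁻¹) by rw [commutatorElement_def]; group]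
            exact mul_mem hk ((Subgroup.mem_normalizer_iff.1 hqN _).1 (inv_mem hk))
          · rw [commutatorElement_def]
            exact mul_mem ((inferInstance : Q.Normal).conj_mem q hq k) (inv_mem hq)
        rw [coprime_inf_pGroup hKc (isPGroup_pCore 2 X), Subgroup.mem_bot,
          commutatorElement_eq_one_iff_mul_comm] at h1
        exact h1)
  have hEQ : Cfsg.layer X ≤ Subgroup.centralizer (Q : Set X) := by
    rw [← Subgroup.commutator_eq_bot_iff_le_centralizer, show Q = Cfsg.fittingSubgroup X from (fitting_eq_pCore h0).symm]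
    exact Solv.layer_commutator_fitting
  have hLQ : L ≤ Subgroup.centralizer (Q : Set X) :=
    (le_sup_left.trans hLE.le).trans (sup_le hKQ hEQ)
  refine ⟨P, hP, fun k hk => ?_⟩
  obtain ⟨π, hπ⟩ : ∃ π : X →* X ⧸ Cfsg.layer X, π = QuotientGroup.mk' _ := ⟨_, rfl⟩
  obtain ⟨m, hm, hmk⟩ : π k ∈ L.map π :=
    (hπ ▸ (sup_eq_iff_map.1 hLE).ge) (Subgroup.mem_map_of_mem π hk)
  obtain ⟨l, hl, hlo, hlm⟩ := exists_odd_lift π hm
    (by rw [hmk]; exact (hord k hk).coprime_dvd_left (orderOf_map_dvd π k))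
  have hlT : l ∈ oddCent (P ⊔ Q) := odd_mem_oddCent h0 hP (Subgroup.mem_centralizer_iff.2 fun t ht => by
    have h2 : P ⊔ Q ≤ Subgroup.centralizer ({l} : Set X) := sup_le
      (fun v hv => Subgroup.mem_centralizer_singleton_iff.2 (mem_cent (hLP hl) hv).eq)
      (fun v hv => Subgroup.mem_centralizer_singleton_iff.2 (mem_cent (hLQ hl) hv).eq)
    exact Subgroup.mem_centralizer_singleton_iff.1 (h2 ht)) hlo
  have he : k * l⁻¹ ∈ Cfsg.layer X := by
    rw [← QuotientGroup.eq_one_iff]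
    show QuotientGroup.mk' _ (k * l⁻¹) = 1
    rw [← hπ, map_mul, map_inv, hlm, hmk, mul_inv_cancel]
  rw [show k = k * l⁻¹ * l by group]
  exact mul_mem (Subgroup.mem_sup_left he) (Subgroup.mem_sup_right hlT)

/-- Core balance: the core of the centralizer of a 2-subgroup lies in the extended 2-layer. -/
theorem core_balance {R : Subgroup X} (hR : IsPGroup 2 R) : oddCent R ≤ Cfsg.extendedTwoLayer X := by
  haveI : Fact (Nat.Prime 2) := ⟨Nat.prime_two⟩
  haveI := pPrimePCore_normal (G := X) (p := 2)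
  haveI := extendedTwoLayer_normal (X := X)
  set O := Cfsg.pPrimeCore 2 X
  obtain ⟨π, hπ⟩ : ∃ π : X →* X ⧸ O, π = QuotientGroup.mk' O := ⟨_, rfl⟩
  have hπs : Function.Surjective π := hπ ▸ QuotientGroup.mk'_surjective O
  have hπk : π.ker = O := by rw [hπ, QuotientGroup.ker_mk']
  have hOc : (Nat.card O).Coprime 2 := card_pPrimeCore_coprime 2 X
  have hpre : ∀ {T : Subgroup X}, IsPGroup 2 T → ∀ v ∈ Subgroup.normalizer (T.map π : Set (X ⧸ O)),
      ∃ n ∈ Subgroup.normalizer (T : Set X), π n = v := fun {T} hT v hv => by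
    subst hπ
    exact exists_preimage_normalizer hOc hT hv
  have hoc : ∀ T : Subgroup X, (Nat.card (oddCent T)).Coprime 2 := fun T => by
    rw [oddCent, Subgroup.card_map_of_injective (Subgroup.centralizer (T : Set X)).subtype_injective]
    exact card_pPrimeCore_coprime 2 _
  have hocN : ∀ T : Subgroup X, Subgroup.normalizer (T : Set X) ≤ Subgroup.normalizer (oddCent T : Set X) :=
    fun T => le_trans (fun v hv => mem_normalizer_of_cj_le (by rw [cj_centralizer, cj_eq_self hv]))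
      (LocBal.normalizer_le_map_core _)
  obtain ⟨P, hP, hle⟩ := core_balance_aux (X := X ⧸ O) pPrimeCore_quotient_eq_bot (hR.map π)
    (K := (oddCent R).map π)
    (by
      rintro _ ⟨y, hy, rfl⟩
      rw [Subgroup.mem_centralizer_iff]
      rintro _ ⟨r, hr, rfl⟩
      rw [← map_mul, ← map_mul, (mem_cent (coe_oddCent_le R hy) hr).eq])
    (fun v hv => by
      obtain ⟨n, hn, rfl⟩ := hpre hR v hv
      exact Subgroup.le_normalizer_map π (Subgroup.mem_map_of_mem π (hocN R hn)))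
    ((hoc R).coprime_dvd_left (Subgroup.card_map_dvd _ π))
  haveI : (Cfsg.layer (X ⧸ O)).Normal := Local.layer_normal
  obtain ⟨B, hB⟩ : ∃ B, B = layerBase X := ⟨_, rfl⟩
  have hOB : O ≤ B := hB ▸ pPrimeCore_le_pPrimePCore.trans le_sup_right
  have hBmap : B.map π = Cfsg.layer (X ⧸ O) ⊔ Cfsg.pCore 2 (X ⧸ O) := by
    rw [hB, layerBase, Subgroup.map_sup, hπ, map_pLayer, map_pPrimePCore]
  obtain ⟨T₀, hT₀⟩ := exists_sylIn (p := 2) B
  have hT₀map : SylIn 2 (T₀.map π) (Cfsg.layer (X ⧸ O) ⊔ Cfsg.pCore 2 (X ⧸ O)) := by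
    rw [← hBmap]
    refine ⟨Subgroup.map_mono hT₀.le, hT₀.isPGroup.map π, fun hd => hT₀.not_dvd ?_⟩
    rw [Subgroup.relIndex_map_map, hπk, sup_eq_left.2 hOB] at hd
    exact hd.trans (Subgroup.relIndex_dvd_of_le_left B le_sup_left)
  obtain ⟨T', hT', hPT'⟩ := exists_sylIn_ge
    (hP.isPGroup.to_sup_of_normal_right' (isPGroup_pCore 2 (X ⧸ O))
      (by rw [Subgroup.normalizer_eq_top]; exact le_top))
    (sup_le_sup_right hP.le (Cfsg.pCore 2 (X ⧸ O)))
  have hT'eq : T' = P ⊔ Cfsg.pCore 2 (X ⧸ O) := by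
    refine le_antisymm (fun t ht => ?_) hPT'
    obtain ⟨e, he, q, hq, rfl⟩ := Subgroup.mem_sup_of_normal_left.1 (hT'.le ht)
    have h3 : e ∈ T' ⊓ Cfsg.layer (X ⧸ O) := Subgroup.mem_inf.2
      ⟨by simpa using mul_mem ht (inv_mem (hPT' (Subgroup.mem_sup_right hq))), he⟩
    rw [SylIn.eq_of_le hP hT'.isPGroup.to_inf_left (le_inf (le_sup_left.trans hPT') hP.le) inf_le_right] at h3
    exact mul_mem (Subgroup.mem_sup_left h3) (Subgroup.mem_sup_right hq)
  obtain ⟨b, hb, hbe⟩ := hT₀map.conj_eq hT'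
  rw [← hBmap] at hb
  obtain ⟨b₀, hb₀, rfl⟩ := hb
  obtain ⟨T, hT⟩ : ∃ T, T = cj T₀ b₀ := ⟨_, rfl⟩
  have hTsyl : SylIn 2 T B := hT ▸ hT₀.cj' (Subgroup.le_normalizer hb₀)
  have hTmap : T.map π = P ⊔ Cfsg.pCore 2 (X ⧸ O) := by
    rw [← hT'eq, ← hbe, hT, cj, cj, Subgroup.map_map, Subgroup.map_map]
    congr 1
    ext v
    simp
  have hlift : oddCent (T.map π) ≤ (oddCent T).map π := by
    let f : Subgroup.centralizer (T : Set X) →* Subgroup.centralizer (T.map π : Set (X ⧸ O)) :=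
      MonoidHom.mk' (fun v => ⟨π v, by
        rw [Subgroup.mem_centralizer_iff]
        rintro _ ⟨t, ht, rfl⟩
        rw [← map_mul, ← map_mul, (mem_cent v.2 ht).eq]⟩) fun a b => Subtype.ext (map_mul π _ _)
    have hf : Function.Surjective f := fun v => by
      obtain ⟨n, hn, he⟩ := hpre hTsyl.isPGroup v (Subgroup.centralizer_le_normalizer _ v.2)
      refine ⟨⟨n, Subgroup.mem_centralizer_iff.2 fun t ht => ?_⟩, Subtype.ext he⟩
      have h1 : ⁅n, t⁆ ∈ O ⊓ T := by
        refine Subgroup.mem_inf.2 ⟨?_, ?_⟩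
        · rw [← hπk, MonoidHom.mem_ker, map_commutatorElement, he, commutatorElement_eq_one_iff_mul_comm]
          exact (mem_cent v.2 (Subgroup.mem_map_of_mem π ht)).symm.eq
        · rw [commutatorElement_def]
          exact mul_mem ((Subgroup.mem_normalizer_iff.1 hn t).1 ht) (inv_mem ht)
      rw [coprime_inf_pGroup hOc hTsyl.isPGroup, Subgroup.mem_bot, commutatorElement_eq_one_iff_mul_comm] at h1
      exact h1.symm
    obtain ⟨N, hN⟩ : ∃ N, N = (Cfsg.pPrimeCore 2 (Subgroup.centralizer (T.map π : Set (X ⧸ O)))).comap f :=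
      ⟨_, rfl⟩
    haveI : N.Normal := hN ▸ inferInstance
    have hNc : (Nat.card N).Coprime 2 := by
      have h2 : Nat.card N = Nat.card (f.ker) *
          Nat.card (Cfsg.pPrimeCore 2 (Subgroup.centralizer (T.map π : Set (X ⧸ O)))) := by
        rw [hN, card_comap_eq_ker_mul f hf]
      rw [h2]
      refine Nat.Coprime.mul_left ?_ (card_pPrimeCore_coprime 2 _)
      refine hOc.coprime_dvd_left ?_
      rw [← Subgroup.card_map_of_injective (Subgroup.centralizer (T : Set X)).subtype_injective (K := f.ker)]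
      refine Subgroup.card_dvd_of_le ?_
      rintro _ ⟨v, hv, rfl⟩
      rw [← hπk]
      exact congrArg Subtype.val (MonoidHom.mem_ker.1 hv)
    rintro _ ⟨w, hw, rfl⟩
    obtain ⟨v, rfl⟩ := hf w
    exact ⟨v, ⟨v, le_pPrimeCore hNc (hN ▸ hw), rfl⟩, rfl⟩
  intro y hy
  have hOE : O ≤ Cfsg.extendedTwoLayer X := le_sup_of_le_left le_sup_right
  rw [← Subgroup.comap_map_eq_self (f := π) (hπk.le.trans hOE), Subgroup.mem_comap]
  refine (le_trans hle (sup_le ?_ ?_)) (Subgroup.mem_map_of_mem π hy)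
  · rw [hπ, ← map_pLayer]
    exact Subgroup.map_mono (le_sup_of_le_left le_sup_left)
  · rw [← hTmap]
    refine hlift.trans (Subgroup.map_mono ?_)
    rw [extendedTwoLayer_eq_of_sylIn (hB ▸ hTsyl)]
    exact le_sup_right
where
  card_comap_eq_ker_mul {A : Type u} {B : Type u} [Group A] [Group B] [Finite A] (f : A →* B)
      (hf : Function.Surjective f) {S : Subgroup B} : Nat.card (S.comap f) = Nat.card f.ker * Nat.card S := by
    have h1 := Subgroup.relIndex_mul_relIndex ⊥ f.ker (S.comap f) bot_le (by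
      intro a ha; rw [Subgroup.mem_comap, MonoidHom.mem_ker.1 ha]; exact one_mem S)
    rw [Subgroup.relIndex_bot_left, Subgroup.relIndex_bot_left] at h1
    rw [← h1]
    congr 1
    rw [← MonoidHom.comap_bot f, Subgroup.relIndex_comap, Subgroup.map_comap_eq_self_of_surjective hf,
      Subgroup.relIndex_bot_left]

end Cfsg.Agent.LBal
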