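import Cfsg.Agent.Lib.Fusion.LocalBalance
import Cfsg.Agent.Lib.Fusion.SchreierBalanceApply
import Cfsg.Agent.Lib.Fusion.BpBalanceTools

/-!
Cores of centralizers of elements of order `p` and the components.
-/

set_option autoImplicit false
set_option linter.style.haveILetI false

open Cfsg Cfsg.Agent Cfsg.Agent.Fusion
open scoped commutatorElement

namespace Cfsg.Agent.CoreComp

universe u

variable {X : Type u} [Group X] [Finite X] {p : ℕ} [hp : Fact p.Prime]

/-- A subgroup of the core of a centralizer centralising every component is trivial. -/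
theorem eq_bot_of_centralizes_components (h0 : Cfsg.pPrimeCore p X = ⊥) {a : X} (ha : a ^ p = 1)
    {Y : Subgroup X} (hY : Y ≤ Cfsg.centralizerPPrimeCore p a)
    (hc : ∀ J : Subgroup X, Cfsg.IsComponent J → Y ≤ Subgroup.centralizer (J : Set X)) : Y = ⊥ := by
  have hcF : Y ≤ Subgroup.centralizer (Cfsg.generalizedFittingSubgroup X : Set X) := by
    rw [Cfsg.generalizedFittingSubgroup]
    refine Subgroup.le_centralizer_iff.1 (sup_le (Subgroup.le_centralizer_iff.1 ?_)
      (Subgroup.le_centralizer_iff.1 ?_))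
    · rw [Cfsg.layer]
      exact Subgroup.le_centralizer_iff.1 (sSup_le fun J hJ => Subgroup.le_centralizer_iff.1 (hc J hJ))
    · rw [fitting_eq_pCore h0]
      exact fun d hd => (LocBal.core_fixes h0 ha (hY hd)).1
  obtain ⟨Z, hZ⟩ : ∃ Z, Z = Subgroup.centralizer (Cfsg.generalizedFittingSubgroup X : Set X) := ⟨_, rfl⟩
  haveI := Local.gfit_normal (H := X)
  haveI hZn : Z.Normal := hZ ▸ Solv.centralizer_normal_of_normal _
  have hZc : ∀ u v : Z, u * v = v * u := fun u v => Subtype.ext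
    (Subgroup.mem_centralizer_iff.1 (hZ.le v.2) u (Solv.centralizer_gfit_le (hZ.le u.2)))
  haveI : IsMulCommutative Z := ⟨⟨hZc⟩⟩
  have hZQ : Z ≤ Cfsg.pCore p X := by
    rw [← fitting_eq_pCore h0]
    letI : CommGroup Z := { (inferInstance : Group Z) with mul_comm := hZc }
    exact Solv.subnormal_nilpotent_le_fitting hZn.isSubnormal inferInstance
  rw [eq_bot_iff, ← coprime_inf_pGroup (LocBal.core_coprime (p := p) a) (isPGroup_pCore p X)]
  exact le_inf hY ((hcF.trans hZ.ge).trans hZQ)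

/-- If the automiser of the component is balanced, the core of the centralizer centralises it. -/
theorem balanced_component_centralized (h0 : Cfsg.pPrimeCore p X = ⊥) {a : X} (hap : a ^ p = 1) {J : Subgroup X}
    (hJ : Cfsg.IsComponent J) (haJ : a ∈ Subgroup.normalizer (J : Set X))
    (hbal : ∀ H : Subgroup X, J ≤ H → (J.subgroupOf H).Normal →
      ∀ [((Subgroup.centralizer (J : Set X)).subgroupOf H).Normal],
        Cfsg.IsBalancedFor p (↥H ⧸ (Subgroup.centralizer (J : Set X)).subgroupOf H)) :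
    Cfsg.centralizerPPrimeCore p a ≤ Subgroup.centralizer (J : Set X) := by
  classical
  by_cases hfaith : a ∈ Subgroup.centralizer (J : Set X)
  · exact LocBal.component_centralized h0 hJ
      (fun x hx => Subgroup.mem_centralizer_singleton_iff.2 (Subgroup.mem_centralizer_iff.1 hfaith x hx))
      (LocBal.core_le_centralizer a) (LocBal.centralizer_le_normalizer_core a) (LocBal.core_coprime a)
  obtain ⟨D, hD⟩ : ∃ D, D = Cfsg.centralizerPPrimeCore p a := ⟨_, rfl⟩
  obtain ⟨A, hA⟩ : ∃ A, A = Subgroup.zpowers a := ⟨_, rfl⟩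
  rw [← hD]
  have hAJ : A ≤ Subgroup.normalizer (J : Set X) := hA ▸ Subgroup.zpowers_le.2 haJ
  have elab_comm : ∀ b ∈ A, ∀ c ∈ A, b * c = c * b := by
    rw [hA]
    rintro _ ⟨i, rfl⟩ _ ⟨j, rfl⟩
    exact ((Commute.refl a).zpow_zpow i j).eq
  have hDA : ∀ b ∈ A, ∀ d ∈ D, Commute d b := by
    rw [hA, hD]
    rintro _ ⟨i, rfl⟩ d hd
    exact (show Commute d a from Subgroup.mem_centralizer_singleton_iff.1
      (LocBal.core_le_centralizer a hd)).zpow_right i
  have hDJ : D ≤ Subgroup.normalizer (J : Set X) := fun d hd =>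
    (LocBal.core_fixes h0 hap (hD ▸ hd)).2 J hJ
  have hDQ : D ≤ Subgroup.centralizer (Cfsg.pCore p X : Set X) := fun d hd =>
    (LocBal.core_fixes h0 hap (hD ▸ hd)).1
  obtain ⟨S, hS⟩ : ∃ S, S = J ⊔ D ⊔ A := ⟨_, rfl⟩
  have hJS : J ≤ S := hS ▸ le_sup_of_le_left le_sup_left
  have hAS : A ≤ S := hS ▸ le_sup_right
  have hSN : S ≤ Subgroup.normalizer (J : Set X) := hS ▸ sup_le (sup_le Subgroup.le_normalizer hDJ) hAJ
  have ha : a ∈ A := hA ▸ Subgroup.mem_zpowers a
  have haS : a ∈ S := hAS ha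
  obtain ⟨N, hN⟩ : ∃ N, N = (Subgroup.centralizer (J : Set X)).subgroupOf S := ⟨_, rfl⟩
  haveI hNn : ((Subgroup.centralizer (J : Set X)).subgroupOf S).Normal := ⟨fun z hz s => by
    rw [Subgroup.mem_subgroupOf] at hz ⊢
    have h1 : (s : X) * z * (s : X)⁻¹ ∈ cj (Subgroup.centralizer (J : Set X)) (s : X) := conj_mem_cj hz
    rwa [cj_centralizer, cj_eq_self (hSN s.2)] at h1⟩
  have hJn : (J.subgroupOf S).Normal := (Subgroup.normal_subgroupOf_iff_le_normalizer hJS).2 hSN
  have hbS := hbal S hJS hJn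
  haveI : N.Normal := by rw [hN]; exact hNn
  have hbS' : Cfsg.IsBalancedFor p (↥S ⧸ N) := by subst hN; exact hbS
  obtain ⟨π, hπ⟩ : ∃ π : S →* ↥S ⧸ N, π = QuotientGroup.mk' N := ⟨_, rfl⟩
  have hπs : Function.Surjective π := hπ ▸ QuotientGroup.mk'_surjective N
  have hπiff : ∀ n : S, π n = 1 ↔ (n : X) ∈ Subgroup.centralizer (J : Set X) := fun n => by
    rw [hπ, QuotientGroup.mk'_apply, QuotientGroup.eq_one_iff, hN, Subgroup.mem_subgroupOf]
  have hπk : ∀ n : S, π n = 1 → (n : X) ∈ Subgroup.centralizer (J : Set X) := fun n => (hπiff n).1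
  have hao : orderOf (π ⟨a, haS⟩) = p := orderOf_eq_prime
    (by rw [← map_pow, show (⟨a, haS⟩ : S) ^ p = 1 from Subtype.ext hap, map_one])
    fun e => hfaith (hπk _ e)
  -- the image of the component
  have hcoreQ : Cfsg.pPrimeCore p (↥S ⧸ N) = ⊥ := by
    obtain ⟨T, hT⟩ : ∃ T, T = (J.subgroupOf S).map π := ⟨_, rfl⟩
    obtain ⟨z, hzc, j, hzj⟩ := LocBal.exists_pelement_not_central h0 hJ
    have hz1 : π ⟨z, hJS z.2⟩ ≠ 1 := fun e => hzc (Subgroup.mem_center_iff.2 fun w => Subtype.ext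
      (Subgroup.mem_centralizer_iff.1 (hπk _ e) w w.2))
    haveI : Nontrivial ↥T := (Subgroup.nontrivial_iff_ne_bot _).2 fun e => hz1 (Subgroup.mem_bot.1
      (e ▸ hT ▸ Subgroup.mem_map_of_mem π (z.2 : (⟨(z : X), hJS z.2⟩ : S) ∈ J.subgroupOf S)))
    have hTc : Cfsg.IsComponent T := by
      subst hT
      exact ⟨hJn.isSubnormal.map hπs, BpBal.qs_image _ (π.subgroupMap_surjective _)
        (Local.isQuasisimple_congr (Subgroup.subgroupOfEquivOfLe hJS).symm hJ.2)⟩
    have hTC : Subgroup.centralizer (T : Set (↥S ⧸ N)) = ⊥ := by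
      rw [Subgroup.eq_bot_iff_forall]
      intro q hq
      obtain ⟨n, rfl⟩ := hπs q
      rw [hπiff]
      refine BpBal.centralizes_of_mod (Solv.qs_self_commutator hJ.2) ?_ (Subgroup.mem_zpowers (n : X))
      rw [Subgroup.commutator_le]
      rintro _ ⟨i, rfl⟩ w hw
      have h1 : π ⁅n ^ i, (⟨w, hJS hw⟩ : ↥S)⁆ = 1 := by
        rw [map_commutatorElement, commutatorElement_eq_one_iff_mul_comm, map_zpow]
        exact ((show Commute (π n) (π ⟨w, hJS hw⟩) from (Subgroup.mem_centralizer_iff.1 hq _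
          (hT ▸ Subgroup.mem_map_of_mem π (hw : (⟨w, hJS hw⟩ : ↥S) ∈ J.subgroupOf S))).symm).zpow_left i).eq
      rw [hπiff] at h1
      exact h1
    refine (BpBal.almost_simple (p := p) hTc hTC).2 ?_
    by_contra hd
    refine hz1 (orderOf_eq_one_iff.1 (Nat.eq_one_of_dvd_coprimes
      ((((Nat.Prime.coprime_iff_not_dvd hp.out).2 hd).symm.pow_right j)) ?_ ?_))
    · have hm : π ⟨z, hJS z.2⟩ ∈ T :=
        hT ▸ Subgroup.mem_map_of_mem π (z.2 : (⟨(z : X), hJS z.2⟩ : S) ∈ J.subgroupOf S)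
      rw [← Subgroup.orderOf_mk _ hm]; exact orderOf_dvd_natCard _
    · refine orderOf_dvd_of_pow_eq_one ?_
      rw [← map_pow, show (⟨z, hJS z.2⟩ : S) ^ p ^ j = 1 from Subtype.ext (by
        show (z : X) ^ p ^ j = 1
        rw [← Subgroup.coe_pow, hzj, Subgroup.coe_one]), map_one]
  intro d hd
  have hdS : d ∈ S := hS ▸ Subgroup.mem_sup_left (Subgroup.mem_sup_right hd)
  refine hπk ⟨d, hdS⟩ (Subgroup.mem_bot.1 (hcoreQ ▸ hbS' (π ⟨a, haS⟩) hao ?_))
  obtain ⟨U, hU⟩ : ∃ U, U = (J ⊔ D) ⊓ Subgroup.centralizer ({a} : Set X) := ⟨_, rfl⟩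
  obtain ⟨W, hW⟩ : ∃ W, W = (Cfsg.pPrimeCore p U).map U.subtype := ⟨_, rfl⟩
  have hdW : d ∈ W := by
    have hdU : d ∈ U := hU ▸ Subgroup.mem_inf.2 ⟨Subgroup.mem_sup_right hd,
      Subgroup.mem_centralizer_singleton_iff.2 (hDA a ha d hd).eq⟩
    rw [hW]
    refine ⟨⟨d, hdU⟩, ?_, rfl⟩
    have hUC : U ≤ Subgroup.centralizer ({a} : Set X) := hU ▸ inf_le_right
    haveI : ((Cfsg.centralizerPPrimeCore p a).subgroupOf U).Normal := ⟨fun x hx g =>
      (Subgroup.mem_normalizer_iff.1 (LocBal.centralizer_le_normalizer_core a (hUC g.2)) _).1 hx⟩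
    refine le_pPrimeCore (N := (Cfsg.centralizerPPrimeCore p a).subgroupOf U) ?_ (hD ▸ hd)
    refine (LocBal.core_coprime (p := p) a).coprime_dvd_left ?_
    rw [← Solv.card_map_subtype, Subgroup.subgroupOf_map_subtype]
    exact Subgroup.card_dvd_of_le inf_le_left
  have hJDA : A ≤ Subgroup.normalizer ((J ⊔ D : Subgroup X) : Set X) :=
    Solv.normalizer_smul_sup hAJ fun b hb => Subgroup.centralizer_le_normalizer _
      (Subgroup.mem_centralizer_iff.2 fun e he => (hDA b hb e he).eq)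
  have hWn : ∀ n : S, π n * π ⟨a, haS⟩ = π ⟨a, haS⟩ * π n → (n : X) ∈ Subgroup.normalizer (W : Set X) := by
    rintro ⟨n, hn⟩ hcomm
    rw [hS, ← SetLike.mem_coe, Subgroup.coe_mul_of_right_le_normalizer_left (J ⊔ D) A hJDA] at hn
    obtain ⟨v, hv, b, hb, rfl⟩ := hn
    have hvb : v * b ∈ Subgroup.normalizer (W : Set X) := by
      have hbU : b ∈ Subgroup.normalizer (U : Set X) := mem_normalizer_of_cj_le (by
        rw [hU, cj_inf, cj_eq_self (hJDA hb)]
        refine inf_le_inf le_rfl ?_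
        rintro _ ⟨y, hy, rfl⟩
        rw [Subgroup.mem_centralizer_singleton_iff]
        show b * y * b⁻¹ * a = a * (b * y * b⁻¹)
        have h1 : Commute b a := elab_comm b hb a ha
        exact ((h1.mul_left (Subgroup.mem_centralizer_singleton_iff.1 hy : Commute y a)).mul_left h1.inv_left).eq)
      have hvU : v ∈ Subgroup.normalizer (U : Set X) := by
        -- `v a v⁻¹ a⁻¹` is central in `J`
        have hvS : v ∈ S := hS ▸ Subgroup.mem_sup_left hv
        have hbS : b ∈ S := hAS hb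
        have hz : v * a * v⁻¹ * a⁻¹ ∈ Subgroup.centralizer (J : Set X) := by
          have := hπk (⟨v, hvS⟩ * ⟨b, hbS⟩ * ⟨a, haS⟩ * (⟨v, hvS⟩ * ⟨b, hbS⟩)⁻¹ * ⟨a, haS⟩⁻¹) (by
            have e : π (⟨v, hvS⟩ * ⟨b, hbS⟩) * π ⟨a, haS⟩ = π ⟨a, haS⟩ * π (⟨v, hvS⟩ * ⟨b, hbS⟩) := hcomm
            rw [map_mul, map_mul, map_inv, map_mul π _ ⟨a, haS⟩, e, map_inv]
            group)
          have e1 : v * b * a * (v * b)⁻¹ * a⁻¹ = v * a * v⁻¹ * a⁻¹ := by
            rw [mul_assoc v b a, elab_comm b hb a ha]; group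
          rw [← e1]
          exact this
        rw [Subgroup.coe_mul_of_right_le_normalizer_left J D hDJ] at hv
        obtain ⟨j, hj, e, he, rfl⟩ := hv
        have hje : j * e * a * (j * e)⁻¹ * a⁻¹ = j * a * j⁻¹ * a⁻¹ := by
          rw [show j * e * a = j * (e * a) by group, (hDA a ha e he).eq]; group
        obtain ⟨z, hzdef⟩ : ∃ z, z = j * a * j⁻¹ * a⁻¹ := ⟨_, rfl⟩
        have hzJ : z ∈ J := by
          rw [hzdef, show j * a * j⁻¹ * a⁻¹ = j * (a * j⁻¹ * a⁻¹) by group]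
          exact mul_mem hj ((Subgroup.mem_normalizer_iff.1 (hAJ ha) _).1 (inv_mem hj))
        have hzC : z ∈ Subgroup.centralizer (J : Set X) := by rw [hzdef, ← hje]; exact hz
        have hzQ : z ∈ Cfsg.pCore p X := by
          rw [← fitting_eq_pCore h0]
          refine Solv.center_component_le_fitting hJ ⟨⟨z, hzJ⟩, ?_, rfl⟩
          exact Subgroup.mem_center_iff.2 fun y => Subtype.ext (Subgroup.mem_centralizer_iff.1 hzC y y.2)
        have hzJD : J ⊔ D ≤ Subgroup.centralizer ({z} : Set X) := sup_le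
          (fun y hy => Subgroup.mem_centralizer_singleton_iff.2 (Subgroup.mem_centralizer_iff.1 hzC y hy))
          (fun y hy => Subgroup.mem_centralizer_singleton_iff.2
            (Subgroup.mem_centralizer_iff.1 (hDQ hy) z hzQ).symm)
        have hconj : j * e * a * (j * e)⁻¹ = z * a := by
          rw [hzdef, ← hje]; group
        have hvJD : j * e ∈ J ⊔ D := mul_mem (Subgroup.mem_sup_left hj) (Subgroup.mem_sup_right he)
        show j * e ∈ Subgroup.normalizer (U : Set X)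
        refine mem_normalizer_of_cj_le ?_
        rw [hU]
        rintro _ ⟨y, hy, rfl⟩
        obtain ⟨hy1, hy2⟩ := Subgroup.mem_inf.1 hy
        refine Subgroup.mem_inf.2 ⟨mul_mem (mul_mem hvJD hy1) (inv_mem hvJD),
          Subgroup.mem_centralizer_singleton_iff.2 ?_⟩
        obtain ⟨w, hw⟩ : ∃ w, w = j * e * y * (j * e)⁻¹ := ⟨_, rfl⟩
        have hwz : w * z = z * w := Subgroup.mem_centralizer_singleton_iff.1
          (hzJD (hw ▸ mul_mem (mul_mem hvJD hy1) (inv_mem hvJD)))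
        have hwza : w * (z * a) = z * a * w := by
          rw [hw, ← hconj]
          calc _ = j * e * (y * a) * (j * e)⁻¹ := by group
            _ = _ := by rw [Subgroup.mem_centralizer_singleton_iff.1 hy2]; group
        show j * e * y * (j * e)⁻¹ * a = a * (j * e * y * (j * e)⁻¹)
        rw [← hw]
        rw [← mul_assoc, hwz, mul_assoc, mul_assoc] at hwza
        exact mul_left_cancel hwza
      exact hW ▸ LocBal.normalizer_le_map_core U (mul_mem hvU hbU)
    exact hvb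
  obtain ⟨W', hW'⟩ : ∃ W', W' = (W.subgroupOf S).map π := ⟨_, rfl⟩
  have hW'C : W' ≤ Subgroup.centralizer {π ⟨a, haS⟩} := by
    rw [hW']
    rintro _ ⟨⟨w, hwS⟩, hw, rfl⟩
    replace hw : w ∈ W := hw
    rw [hW] at hw
    obtain ⟨⟨u, hu⟩, -, rfl⟩ := hw
    rw [hU] at hu
    rw [Subgroup.mem_centralizer_singleton_iff, ← map_mul, ← map_mul]
    exact congrArg π (Subtype.ext (Subgroup.mem_centralizer_singleton_iff.1 (Subgroup.mem_inf.1 hu).2))
  haveI : (W'.subgroupOf (Subgroup.centralizer {π ⟨a, haS⟩})).Normal := ⟨by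
    intro x hx g
    obtain ⟨n, hn⟩ := hπs g.1
    have hx' : (x : ↥S ⧸ N) ∈ W' := hx
    rw [hW'] at hx'
    obtain ⟨w, hw, hwx⟩ := hx'
    have hnW := hWn n (by rw [hn]; exact Subgroup.mem_centralizer_singleton_iff.1 g.2)
    rw [Subgroup.mem_subgroupOf, Subgroup.coe_mul, Subgroup.coe_mul, Subgroup.coe_inv, hW']
    exact ⟨n * w * n⁻¹, (Subgroup.mem_normalizer_iff.1 hnW _).1 hw,
      by rw [map_mul, map_mul, map_inv, hn, hwx]⟩⟩
  have hdW' : π ⟨d, hdS⟩ ∈ W' := by rw [hW']; exact ⟨⟨d, hdS⟩, hdW, rfl⟩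
  refine ⟨⟨π ⟨d, hdS⟩, hW'C hdW'⟩, le_pPrimeCore
    (N := W'.subgroupOf (Subgroup.centralizer {π ⟨a, haS⟩})) ?_ ?_, rfl⟩
  · rw [Solv.card_subgroupOf hW'C, hW']
    refine (card_pPrimeCore_coprime p U).coprime_dvd_left ((Subgroup.card_map_dvd _ π).trans ?_)
    rw [← Solv.card_map_subtype, Subgroup.subgroupOf_map_subtype]
    exact (Subgroup.card_dvd_of_le inf_le_left).trans (dvd_of_eq (hW ▸ Solv.card_map_subtype _))
  · exact Subgroup.mem_subgroupOf.2 hdW'

/-- The `p`-layer and the core of a `p`-local subgroup normalise every component. -/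
theorem local_layer_normalizes (h0 : Cfsg.pPrimeCore p X = ⊥) {R : Subgroup X} (hR : IsPGroup p R)
    {J : Subgroup X} (hJ : Cfsg.IsComponent J) :
    (Cfsg.pLayer p ↥(Subgroup.normalizer (R : Set X)) ⊔ Cfsg.pPrimeCore p ↥(Subgroup.normalizer (R : Set X))).map
      (Subgroup.normalizer (R : Set X)).subtype ≤ Subgroup.normalizer (J : Set X) := by
  obtain ⟨Y, hY⟩ : ∃ Y, Y = Subgroup.normalizer (R : Set X) := ⟨_, rfl⟩
  have hJp : Cfsg.IsPComponent p J :=
    Terminal.pcompOf_congr_top.1 (Terminal.pcompOf_component h0 hJ le_top).1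
  rw [Subgroup.map_sup]
  refine sup_le ?_ ((Fusion.pPrimeCore_normalizer_le_hatPLayer hR).trans (inf_le_left.trans (iInf_le_of_le ⟨J, hJp⟩ le_rfl)))
  rw [Subgroup.map_le_iff_le_comap, ← hY]
  refine sSup_le fun K hK => ?_
  obtain ⟨O, hO⟩ : ∃ O, O = (Cfsg.pPrimeCore p ↥Y).map Y.subtype := ⟨_, rfl⟩
  have hON : Y ≤ Subgroup.normalizer (O : Set X) :=
    hO ▸ Subgroup.le_normalizer.trans (LocBal.normalizer_le_map_core Y)
  have hOc : (Nat.card O).Coprime p := by
    rw [hO, Solv.card_map_subtype]; exact card_pPrimeCore_coprime p _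
  have hK' : ⁅K.map Y.subtype, K.map Y.subtype⁆ = K.map Y.subtype := by
    rw [← Subgroup.map_commutator, pComponent_perfect hK]
  haveI hKperf : Group.IsPerfect ↥(K.map Y.subtype) := Subgroup.isPerfect_iff.2 hK'
  rw [← Subgroup.map_le_iff_le_comap]
  haveI : (Cfsg.layer X).Normal := Local.layer_normal
  -- the dichotomy against normal subgroups of the local subgroup
  have hdich : ∀ W : Subgroup X, W ≤ Y → Y ≤ Subgroup.normalizer (W : Set X) →
      K.map Y.subtype ≤ W ∨ ∀ k ∈ K.map Y.subtype, ∀ w ∈ W, ⁅k, w⁆ ∈ O := by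
    intro W hWN hNW
    haveI : (W.subgroupOf Y).Normal := (Subgroup.normal_subgroupOf_iff_le_normalizer hWN).2 hNW
    obtain ⟨ρ, hρ⟩ : ∃ ρ : ↥Y →* _, ρ = QuotientGroup.mk' (Cfsg.pPrimeCore p ↥Y) := ⟨_, rfl⟩
    haveI : ((W.subgroupOf Y).map ρ).Normal :=
      (inferInstance : (W.subgroupOf Y).Normal).map ρ (hρ ▸ QuotientGroup.mk'_surjective _)
    rcases Solv.component_normal_dichotomy (hρ ▸ hK.2.1 : Cfsg.IsComponent (K.map ρ)) ((W.subgroupOf Y).map ρ) with h | h
    · left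
      rintro _ ⟨z, hz, rfl⟩
      exact pComponent_le_of_map_le hK (inferInstance : (W.subgroupOf Y).Normal).isSubnormal (hρ ▸ h) hz
    · right
      rintro _ ⟨z, hz, rfl⟩ w hw
      rw [← Subgroup.map_commutator, Subgroup.map_eq_bot_iff, hρ, QuotientGroup.ker_mk'] at h
      rw [hO]
      exact ⟨⁅z, ⟨w, hWN hw⟩⁆, h (Subgroup.commutator_mem_commutator hz hw), rfl⟩
  have hKY : K.map Y.subtype ≤ Y := Subgroup.map_subtype_le K
  have hnotle : ∀ W : Subgroup X, IsPGroup p W → ¬ K.map Y.subtype ≤ W := fun W hW hle => by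
    haveI : Nontrivial ↥(K.map Y.subtype) := (Subgroup.nontrivial_iff_ne_bot _).2 fun e => by
      rw [Subgroup.map_eq_bot_iff_of_injective _ Y.subtype_injective] at e
      exact Solv.qs_ne_bot hK.2.1.2 (by rw [e, Subgroup.map_bot])
    haveI := (hW.to_le hle).isNilpotent
    exact Group.IsPerfect.not_isSolvable (G := ↥(K.map Y.subtype)) inferInstance
  have hpc : ∀ W : Subgroup X, IsPGroup p W → W ≤ Y → Y ≤ Subgroup.normalizer (W : Set X) →
      ∀ k ∈ K.map Y.subtype, ∀ w ∈ W, k * w = w * k := by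
    intro W hW hWN hNW k hk w hw
    have hm : ⁅k, w⁆ ∈ O ⊓ W := ⟨(hdich W hWN hNW).resolve_left (hnotle W hW) k hk w hw, by
      rw [commutatorElement_def]
      exact W.mul_mem ((Subgroup.mem_normalizer_iff.1 (hNW (hKY hk)) w).1 hw) (W.inv_mem hw)⟩
    rw [coprime_inf_pGroup hOc hW, Subgroup.mem_bot, commutatorElement_eq_one_iff_mul_comm] at hm
    exact hm
  subst hY
  have hCR : Subgroup.centralizer (R : Set X) ≤ Subgroup.normalizer (R : Set X) :=
    Subgroup.centralizer_le_normalizer _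
  rcases hdich (Cfsg.layer X ⊓ Subgroup.centralizer (R : Set X)) (inf_le_right.trans hCR) (fun v hv =>
      mem_normalizer_of_cj_le (by rw [cj_inf, cj_of_normal, cj_centralizer, cj_eq_self hv])) with h | hKW
  · exact (h.trans inf_le_left).trans (Fusion.layer_le_normalizer_component hJ)
  refine le_of_pPrime_elements (p := p) hKperf fun k hk hkp => ?_
  exact (Fusion.local_element_fixes h0 hR (hO ▸ Subgroup.map_subtype_le _) hON hOc (hKY hk)
    (hpc R hR Subgroup.le_normalizer le_rfl k hk) hkp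
    (fun q hq hqr => hpc (Cfsg.pCore p X ⊓ Subgroup.centralizer (R : Set X))
      ((isPGroup_pCore p X).to_le inf_le_left) (inf_le_right.trans hCR)
      (fun v hv => mem_normalizer_of_cj_le (by rw [cj_inf, cj_of_normal, cj_centralizer, cj_eq_self hv])) k hk q
      ⟨hq, Subgroup.mem_centralizer_iff.2 fun r hr => (hqr r hr).symm⟩)
    (fun w hw hwr => hKW k hk w
      ⟨hw, Subgroup.mem_centralizer_iff.2 fun r hr => (hwr r hr).symm⟩)).2 J hJ

end Cfsg.Agent.CoreComp
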