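import Cfsg.Agent.Lib.Solv.UniqueSub
import Cfsg.Agent.Lib.Solv.PGroupPhi

/-!
# `p`-groups with a cyclic maximal subgroup
-/

set_option autoImplicit false

namespace Cfsg.Agent.Fusion

variable {G : Type*} [Group G] [Finite G] {p : ℕ} [hp : Fact p.Prime]

/-- The parameters of a non-abelian group of order `p ^ (N + 1)` with a cyclic subgroup of index `p`. -/
theorem cyclic_maximal_data {N : ℕ} (hG : Nat.card G = p ^ (N + 1)) (C : Subgroup G) (hC : IsCyclic C)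
    (hCi : C.index = p) (hna : ∃ x y : G, x * y ≠ y * x) :
    ∃ (a x : G) (m c : ℤ), orderOf a = p ^ N ∧ x ∉ Subgroup.zpowers a ∧
      x * a * x⁻¹ = a ^ m ∧ x ^ p = a ^ c ∧ ¬ ((p : ℤ) ^ N) ∣ m - 1 ∧
      ((p : ℤ) ^ N) ∣ m ^ p - 1 ∧ ((p : ℤ) ^ N) ∣ c * (m - 1) := by
  obtain ⟨g, hg⟩ := hC.exists_generator
  set a : G := (g : G) with ha
  have hCa : C = Subgroup.zpowers a := by
    refine le_antisymm (fun y hy => ?_) (Subgroup.zpowers_le.2 g.2)
    obtain ⟨i, hi⟩ := hg ⟨y, hy⟩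
    exact ⟨i, congrArg Subtype.val hi⟩
  have hao : orderOf a = p ^ N := by
    have h1 := C.card_mul_index
    rw [hCi, hG, pow_succ, hCa, Nat.card_zpowers] at h1
    exact Nat.eq_of_mul_eq_mul_right hp.out.pos h1
  have hGp : IsPGroup p G := IsPGroup.of_card hG
  have hne : C ≠ ⊤ := fun e => hp.out.ne_one (by rw [← hCi, e, Subgroup.index_top])
  obtain ⟨M, hM, hle⟩ := (eq_top_or_exists_le_coatom C).resolve_left hne
  have hCM : C = M := by
    have h := Subgroup.relIndex_mul_index hle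
    rw [hCi, Solv.coatom_index hGp hM, mul_eq_right₀ hp.out.ne_zero, Subgroup.relIndex_eq_one] at h
    exact le_antisymm hle h
  haveI hn : C.Normal := hCM ▸ Solv.coatom_normal hGp hM
  obtain ⟨x, -, hx⟩ := SetLike.exists_of_lt (lt_top_iff_ne_top.2 hne)
  obtain ⟨m, hm⟩ : x * a * x⁻¹ ∈ Subgroup.zpowers a := hCa ▸ hn.conj_mem a g.2 x
  obtain ⟨c, hc⟩ : x ^ p ∈ Subgroup.zpowers a := hCa ▸ (hCi ▸ C.pow_index_mem x)
  have hm : x * a * x⁻¹ = a ^ m := hm.symm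
  have hc : x ^ p = a ^ c := hc.symm
  have hdvd : ∀ k : ℤ, a ^ k = 1 ↔ ((p : ℤ) ^ N) ∣ k := fun k => by
    rw [← orderOf_dvd_iff_zpow_eq_one, hao, Nat.cast_pow]
  have hxa : x * a ≠ a * x := by
    intro e
    set Z := Subgroup.centralizer ({a} : Set G)
    have hCZ : C ≤ Z := hCa ▸ Subgroup.zpowers_le.2 (Subgroup.mem_centralizer_singleton_iff.2 rfl)
    have hxZ : x ∈ Z := Subgroup.mem_centralizer_singleton_iff.2 e
    have hZ : Z = ⊤ := by
      have := (hCM ▸ hM : IsCoatom C).2 Z (lt_of_le_of_ne hCZ fun h => hx (h ▸ hxZ))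
      exact this
    obtain ⟨u, v, huv⟩ := hna
    set W := Subgroup.centralizer ({x} : Set G)
    have haC : ∀ y : G, Commute y a := fun y =>
      Subgroup.mem_centralizer_singleton_iff.1 (hZ.ge (Subgroup.mem_top y))
    have hW : W = ⊤ := by
      refine (hCM ▸ hM : IsCoatom C).2 W (lt_of_le_of_ne ?_ fun h => hx (h ▸ Subgroup.mem_centralizer_singleton_iff.2 rfl))
      exact hCa ▸ Subgroup.zpowers_le.2 (Subgroup.mem_centralizer_singleton_iff.2 (haC x).symm.eq)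
    have hV : Subgroup.centralizer ({u} : Set G) = ⊤ := by
      have huC : C ≤ Subgroup.centralizer ({u} : Set G) :=
        hCa ▸ Subgroup.zpowers_le.2 (Subgroup.mem_centralizer_singleton_iff.2 (haC u).symm.eq)
      exact (hCM ▸ hM : IsCoatom C).2 _ (lt_of_le_of_ne huC fun h => hx (h ▸
        Subgroup.mem_centralizer_singleton_iff.2
          (Subgroup.mem_centralizer_singleton_iff.1 (hW.ge (Subgroup.mem_top u))).symm))
    exact huv (Subgroup.mem_centralizer_singleton_iff.1 (hV.ge (Subgroup.mem_top v))).symm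
  refine ⟨a, x, m, c, hao, hCa ▸ hx, hm, hc, fun h => hxa ?_, ?_, ?_⟩
  · rw [← hdvd, zpow_sub, zpow_one, mul_inv_eq_one, ← hm, mul_inv_eq_iff_eq_mul] at h
    exact h
  · rw [← hdvd, zpow_sub, zpow_one, mul_inv_eq_one]
    have h1 : ∀ k : ℕ, x ^ k * a * (x ^ k)⁻¹ = a ^ (m ^ k) := by
      intro k
      induction k with
      | zero => simp
      | succ k ih =>
        rw [pow_succ' x, mul_inv_rev, show x * x ^ k * a * ((x ^ k)⁻¹ * x⁻¹) =
          x * (x ^ k * a * (x ^ k)⁻¹) * x⁻¹ by group, ih, ← conj_zpow, hm, ← zpow_mul, pow_succ']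
    rw [← h1 p, hc, mul_inv_eq_iff_eq_mul]
    exact ((Commute.refl a).zpow_left c).eq
  · rw [← hdvd, mul_sub, mul_one, zpow_sub, mul_inv_eq_one, mul_comm, zpow_mul, ← hm, conj_zpow, ← hc,
      mul_inv_eq_iff_eq_mul]
    exact ((Commute.refl x).pow_right p).eq

theorem cyclic_maximal_odd (hp2 : p ≠ 2) {N : ℕ} (hN : 2 ≤ N) (hG : Nat.card G = p ^ (N + 1))
    (C : Subgroup G) (hC : IsCyclic C) (hCi : C.index = p) (hna : ∃ x y : G, x * y ≠ y * x) :
    ∃ a b : G, orderOf a = p ^ N ∧ orderOf b = p ∧ b ∉ Subgroup.zpowers a ∧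
      b * a * b⁻¹ = a ^ (1 + p ^ (N - 1)) := by
  obtain ⟨a, x, m, c, hao, hx, hm, hc, hm1, hmp, hcm⟩ := cyclic_maximal_data hG C hC hCi hna
  have hdvd : ∀ k : ℤ, a ^ k = 1 ↔ ((p : ℤ) ^ N) ∣ k := fun k => by
    rw [← orderOf_dvd_iff_zpow_eq_one, hao, Nat.cast_pow]
  have hp0 : (p : ℤ) ≠ 0 := Int.natCast_ne_zero.2 hp.out.ne_zero
  have hpZ : Prime (p : ℤ) := Nat.prime_iff_prime_int.1 hp.out
  obtain ⟨b₀, hb₀⟩ : (p : ℤ) ∣ m - 1 := by
    have h : (p : ℤ) ∣ m ^ p - 1 := (dvd_pow_self _ (by omega)).trans hmp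
    rw [← ZMod.intCast_zmod_eq_zero_iff_dvd] at h ⊢
    push_cast at h ⊢
    rwa [ZMod.pow_card] at h
  obtain ⟨t, ht⟩ := odd_sq_dvd_geom_sum₂_sub (R := ℤ) (a := 1) (b := b₀)
    (hp.out.eq_two_or_odd'.resolve_left hp2)
  simp only [one_pow, mul_one] at ht
  rw [show (1 : ℤ) + p * b₀ = m by rw [← hb₀]; ring] at ht
  have hS : ∑ j ∈ Finset.range p, m ^ j = p * (1 + p * t) := by linear_combination ht
  have hu : IsCoprime ((p : ℤ) ^ N) (1 + p * t) := IsCoprime.pow_left ⟨-t, 1, by ring⟩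
  obtain ⟨e, he⟩ : (p : ℤ) ^ (N - 1) ∣ m - 1 := by
    have h1 := hmp
    rw [← geom_sum_mul, hS, show (p : ℤ) * (1 + p * t) * (m - 1) = (1 + p * t) * (p * (m - 1)) by ring] at h1
    have h2 := hu.dvd_of_dvd_mul_left h1
    rw [show (p : ℤ) ^ N = p * p ^ (N - 1) by rw [← pow_succ', Nat.sub_add_cancel (by omega)]] at h2
    exact Int.dvd_of_mul_dvd_mul_left hp0 h2
  have hNsplit : (p : ℤ) ^ N = p ^ (N - 1) * p := by rw [← pow_succ, Nat.sub_add_cancel (by omega)]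
  have hpe : ¬ (p : ℤ) ∣ e := by
    intro h
    refine hm1 ?_
    rw [he, hNsplit]
    exact mul_dvd_mul_left _ h
  obtain ⟨c', hc'⟩ : (p : ℤ) ∣ c := by
    rw [he, hNsplit, ← mul_assoc, mul_comm c, mul_assoc] at hcm
    exact (hpZ.dvd_or_dvd (Int.dvd_of_mul_dvd_mul_left (pow_ne_zero _ hp0) hcm)).resolve_right hpe
  obtain ⟨w, v, hwv⟩ := hu.symm
  -- an element of order `p` outside
  set y := a ^ (-c' * w) * x with hy
  have hyp : y ^ p = 1 := by
    rw [Solv.twist_pow hm, hc, ← zpow_add, hdvd, hS, hc']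
    exact ⟨p * c' * v, by linear_combination (-(p : ℤ) * c') * hwv⟩
  have hya : y * a * y⁻¹ = a ^ m := by
    rw [hy, mul_inv_rev, show a ^ (-c' * w) * x * a * (x⁻¹ * (a ^ (-c' * w))⁻¹) =
      a ^ (-c' * w) * (x * a * x⁻¹) * (a ^ (-c' * w))⁻¹ by group, hm, ← zpow_add, ← zpow_neg, ← zpow_add]
    congr 1
    ring
  have hyC : y ∉ Subgroup.zpowers a := fun h =>
    hx ((Subgroup.mul_mem_cancel_left _ (Subgroup.zpow_mem_zpowers a _)).1 h)
  obtain ⟨i₀, v', hi₀⟩ := (hpZ.coprime_iff_not_dvd.2 hpe).symm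
  set i : ℕ := (i₀ % p).toNat with hidef
  have hi : ((p : ℤ)) ∣ (i : ℤ) * e - 1 := by
    have h1 : (i : ℤ) = i₀ % p := Int.toNat_of_nonneg (Int.emod_nonneg _ hp0)
    rw [h1, Int.emod_def]
    exact ⟨-(i₀ / p) * e - v', by linear_combination hi₀⟩
  have hyo : orderOf y = p := orderOf_eq_prime hyp fun h => hyC (h ▸ one_mem _)
  have hk : ∀ k : ℕ, y ^ k * a * (y ^ k)⁻¹ = a ^ (1 + (k : ℤ) * e * p ^ (N - 1)) := by
    intro k
    induction k with
    | zero => simp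
    | succ k ih =>
      rw [pow_succ' y, mul_inv_rev, show y * y ^ k * a * ((y ^ k)⁻¹ * y⁻¹) =
        y * (y ^ k * a * (y ^ k)⁻¹) * y⁻¹ by group, ih, ← conj_zpow, hya, ← zpow_mul]
      refine mul_inv_eq_one.1 ?_
      rw [← zpow_sub, hdvd]
      obtain ⟨r, hr⟩ : (p : ℤ) ^ N ∣ p ^ (N - 1) * p ^ (N - 1) := by
        rw [← pow_add]; exact pow_dvd_pow _ (by omega)
      refine ⟨r * k * e * e, ?_⟩
      push_cast
      linear_combination (1 + (k : ℤ) * e * p ^ (N - 1)) * he + (k : ℤ) * e * e * hr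
  have hconj : y ^ i * a * (y ^ i)⁻¹ = a ^ (1 + p ^ (N - 1)) := by
    rw [hk, ← zpow_natCast a (1 + p ^ (N - 1))]
    refine mul_inv_eq_one.1 ?_
    rw [← zpow_sub, hdvd]
    obtain ⟨r, hr⟩ := hi
    exact ⟨r, by rw [hNsplit]; push_cast; linear_combination ((p : ℤ) ^ (N - 1)) * hr⟩
  have hni : ¬ p ∣ i := by
    intro h
    have h1 : (p : ℤ) ∣ (i : ℤ) * e := dvd_mul_of_dvd_left (Int.natCast_dvd_natCast.2 h) e
    exact hpZ.not_dvd_one ((dvd_sub_right h1).1 hi)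
  have hcop : i.Coprime p := (hp.out.coprime_iff_not_dvd.2 hni).symm
  refine ⟨a, y ^ i, hao, ?_, ?_, hconj⟩
  · rw [Nat.Coprime.orderOf_pow (by rw [hyo]; exact hcop.symm), hyo]
  · intro h
    obtain ⟨j, hj⟩ := exists_pow_eq_self_of_coprime (x := y) (n := i) (hyo.symm ▸ hcop)
    exact hyC (hj ▸ pow_mem h j)

theorem cyclic_maximal_two {N : ℕ} (hN : 2 ≤ N) (hG : Nat.card G = 2 ^ (N + 1))
    (C : Subgroup G) (hC : IsCyclic C) (hCi : C.index = 2) (hna : ∃ x y : G, x * y ≠ y * x) :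
    ∃ a b : G, orderOf a = 2 ^ N ∧ b ∉ Subgroup.zpowers a ∧
      ((b ^ 2 = 1 ∧ b * a * b⁻¹ = a⁻¹) ∨ (b ^ 2 = a ^ (2 ^ (N - 1)) ∧ b * a * b⁻¹ = a⁻¹) ∨
        (3 ≤ N ∧ b ^ 2 = 1 ∧ b * a * b⁻¹ = a ^ (1 + 2 ^ (N - 1))) ∨
        (3 ≤ N ∧ b ^ 2 = 1 ∧ b * a * b⁻¹ = a ^ (2 ^ (N - 1) - 1))) := by
  haveI : Fact (Nat.Prime 2) := ⟨Nat.prime_two⟩
  obtain ⟨a, x, m, c, hao, hx, hm, hc, hm1, hmp, hcm⟩ := cyclic_maximal_data (p := 2) hG C hC hCi hna
  push_cast at hm1 hmp hcm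
  have hdvd : ∀ k : ℤ, a ^ k = 1 ↔ ((2 : ℤ) ^ N) ∣ k := fun k => by
    rw [← orderOf_dvd_iff_zpow_eq_one, hao, Nat.cast_pow, Nat.cast_ofNat]
  set P : ℤ := (2 : ℤ) ^ (N - 1) with hP
  have hNP : (2 : ℤ) ^ N = 2 * P := by rw [hP, ← pow_succ', Nat.sub_add_cancel (by omega)]
  have hPodd : ∀ u : ℤ, u % 2 = 1 → IsCoprime P u := fun u hu =>
    (((Nat.prime_iff_prime_int.1 Nat.prime_two).coprime_iff_not_dvd).2 (by push_cast; omega)).pow_left
  have hP2 : (2 : ℤ) ∣ P := dvd_pow_self 2 (by omega)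
  have hmo : m % 2 = 1 := by
    rcases Int.emod_two_eq_zero_or_one m with h | h
    · exfalso
      have h' : (2 : ℤ) ∣ m ^ 2 - 1 := (dvd_pow_self 2 (by omega)).trans hmp
      have h'' : (2 : ℤ) ∣ m ^ 2 := dvd_pow (Int.dvd_of_emod_eq_zero h) two_ne_zero
      omega
    · exact h
  rw [show m ^ 2 - 1 = (m - 1) * (m + 1) by ring, hNP] at hmp
  rw [hNP] at hm1 hcm
  have hzeq : ∀ u v : ℤ, 2 * P ∣ u - v → a ^ u = a ^ v := fun u v h => by
    refine mul_inv_eq_one.1 ?_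
    rw [← zpow_sub, hdvd, hNP]; exact h
  have htw : ∀ s : ℤ, (a ^ s * x) ^ 2 = a ^ (s * (1 + m) + c) := fun s => by
    rw [Solv.twist_pow hm, hc, ← zpow_add, Finset.sum_range_succ, Finset.sum_range_succ]
    simp
  have hconj : ∀ s : ℤ, (a ^ s * x) * a * (a ^ s * x)⁻¹ = a ^ m := fun s => by
    rw [mul_inv_rev, show a ^ s * x * a * (x⁻¹ * (a ^ s)⁻¹) =
      a ^ s * (x * a * x⁻¹) * (a ^ s)⁻¹ by group, hm, ← zpow_add, ← zpow_neg, ← zpow_add]
    congr 1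
    ring
  have hout : ∀ s : ℤ, a ^ s * x ∉ Subgroup.zpowers a := fun s h =>
    hx ((Subgroup.mul_mem_cancel_left _ (Subgroup.zpow_mem_zpowers a _)).1 h)
  have hPnat : ((2 ^ (N - 1) : ℕ) : ℤ) = P := by rw [hP]; push_cast; rfl
  rcases (show m % 4 = 1 ∨ m % 4 = 3 by omega) with h4 | h4
  · -- the modular case
    obtain ⟨v, hv⟩ : ∃ v, m + 1 = 2 * v := ⟨(m + 1) / 2, by omega⟩
    have hvo : v % 2 = 1 := by omega
    obtain ⟨t, ht⟩ : P ∣ m - 1 := by
      rw [hv, mul_left_comm] at hmp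
      exact (hPodd v hvo).dvd_of_dvd_mul_right (Int.dvd_of_mul_dvd_mul_left two_ne_zero hmp)
    have hto : t % 2 = 1 := by
      by_contra h
      obtain ⟨t', rfl⟩ : (2 : ℤ) ∣ t := by omega
      exact hm1 ⟨t', by rw [ht]; ring⟩
    have h3N : 3 ≤ N := by
      by_contra h
      have hN2 : N = 2 := by omega
      subst hN2
      rw [hP] at ht
      norm_num at ht
      omega
    obtain ⟨e, he⟩ : (2 : ℤ) ∣ c := by
      rw [ht, ← mul_assoc, mul_comm c, mul_assoc, mul_comm 2 P] at hcm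
      have h2 : (2 : ℤ) ∣ c * t :=
        Int.dvd_of_mul_dvd_mul_left (pow_ne_zero _ two_ne_zero) hcm
      rcases (Nat.prime_iff_prime_int.1 Nat.prime_two).dvd_or_dvd h2 with h | h
      · exact h
      · push_cast at h; omega
    obtain ⟨w, z, hwz⟩ := (hPodd v hvo).symm
    refine ⟨a, a ^ (-e * w) * x, hao, hout _, Or.inr (Or.inr (Or.inl ⟨h3N, ?_, ?_⟩))⟩
    · rw [htw, hdvd, hNP, add_comm 1 m, hv, he]
      exact ⟨e * z, by linear_combination (-2 * e) * hwz⟩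
    · rw [hconj, ← zpow_natCast a (1 + 2 ^ (N - 1))]
      refine hzeq _ _ ?_
      obtain ⟨t', ht'⟩ : (2 : ℤ) ∣ t - 1 := by omega
      exact ⟨t', by rw [Nat.cast_add, hPnat, Nat.cast_one]; linear_combination ht + P * ht'⟩
  · obtain ⟨v, hv⟩ : ∃ v, m - 1 = 2 * v := ⟨(m - 1) / 2, by omega⟩
    have hvo : v % 2 = 1 := by omega
    obtain ⟨e, he⟩ : P ∣ c := by
      rw [hv, mul_left_comm] at hcm
      exact (hPodd v hvo).dvd_of_dvd_mul_right (Int.dvd_of_mul_dvd_mul_left two_ne_zero hcm)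
    obtain ⟨t, ht⟩ : P ∣ m + 1 := by
      rw [hv, mul_assoc] at hmp
      exact (hPodd v hvo).dvd_of_dvd_mul_left (Int.dvd_of_mul_dvd_mul_left two_ne_zero hmp)
    rcases Int.emod_two_eq_zero_or_one t with hte | hto
    · obtain ⟨t', rfl⟩ : (2 : ℤ) ∣ t := by omega
      have hinv : x * a * x⁻¹ = a⁻¹ := by
        rw [hm, ← zpow_neg_one]
        exact hzeq _ _ ⟨t', by linear_combination ht⟩
      rcases Int.emod_two_eq_zero_or_one e with hee | heo
      · obtain ⟨e', rfl⟩ : (2 : ℤ) ∣ e := by omega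
        exact ⟨a, x, hao, hx, Or.inl ⟨by rw [hc, hdvd, hNP, he]; exact ⟨e', by ring⟩, hinv⟩⟩
      · obtain ⟨e', he'⟩ : (2 : ℤ) ∣ e - 1 := by omega
        refine ⟨a, x, hao, hx, Or.inr (Or.inl ⟨?_, hinv⟩)⟩
        rw [hc, ← zpow_natCast a (2 ^ (N - 1))]
        exact hzeq _ _ ⟨e', by rw [hPnat]; linear_combination he + P * he'⟩
    · have h3N : 3 ≤ N := by
        by_contra h
        have hN2 : N = 2 := by omega
        subst hN2
        rw [hP] at ht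
        norm_num at ht
        omega
      obtain ⟨t', ht'⟩ : (2 : ℤ) ∣ t - 1 := by omega
      have hcj : a ^ m = a ^ (2 ^ (N - 1) - 1 : ℕ) := by
        rw [← zpow_natCast a (2 ^ (N - 1) - 1)]
        refine hzeq _ _ ⟨t', ?_⟩
        rw [Nat.cast_sub Nat.one_le_two_pow, hPnat, Nat.cast_one]
        linear_combination ht + P * ht'
      rcases Int.emod_two_eq_zero_or_one e with hee | heo
      · obtain ⟨e', rfl⟩ : (2 : ℤ) ∣ e := by omega
        exact ⟨a, x, hao, hx, Or.inr (Or.inr (Or.inr ⟨h3N,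
          by rw [hc, hdvd, hNP, he]; exact ⟨e', by ring⟩, hm.trans hcj⟩))⟩
      · obtain ⟨e', he'⟩ : (2 : ℤ) ∣ t + e := by omega
        refine ⟨a, a ^ (1 : ℤ) * x, hao, hout _, Or.inr (Or.inr (Or.inr ⟨h3N, ?_, (hconj _).trans hcj⟩))⟩
        rw [htw, hdvd, hNP]
        exact ⟨e', by linear_combination ht + he + P * he'⟩

end Cfsg.Agent.Fusion
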