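import Mathlib

/-!
# Two by two matrices of determinant one
-/

set_option autoImplicit false

open Matrix

namespace Cfsg.Agent.Fusion.Dickson

variable {F : Type*} [Field F]

local notation "SL2" => Matrix.SpecialLinearGroup (Fin 2) F

/-- The scalar elements of `SL₂`. -/
def IsScalar (h : SL2) : Prop := h.1 0 1 = 0 ∧ h.1 1 0 = 0 ∧ h.1 0 0 = h.1 1 1

/-- The trace. -/
def tr (h : SL2) : F := h.1 0 0 + h.1 1 1

theorem det_eq (h : SL2) : h.1 0 0 * h.1 1 1 - h.1 0 1 * h.1 1 0 = 1 := by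
  rw [← Matrix.det_fin_two]; exact h.2

theorem mul_entry (h k : SL2) (i j : Fin 2) :
    (h * k).1 i j = h.1 i 0 * k.1 0 j + h.1 i 1 * k.1 1 j := by
  show (h.1 * k.1) i j = _
  rw [Matrix.mul_apply, Fin.sum_univ_two]

theorem inv_entries (h : SL2) : (h⁻¹).1 0 0 = h.1 1 1 ∧ (h⁻¹).1 0 1 = -h.1 0 1 ∧
    (h⁻¹).1 1 0 = -h.1 1 0 ∧ (h⁻¹).1 1 1 = h.1 0 0 := by
  have e : (h⁻¹).1 = !![h.1 1 1, -h.1 0 1; -h.1 1 0, h.1 0 0] := Matrix.adjugate_fin_two h.1
  rw [e]
  simp

theorem ext' {h k : SL2} (h00 : h.1 0 0 = k.1 0 0) (h01 : h.1 0 1 = k.1 0 1)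
    (h10 : h.1 1 0 = k.1 1 0) (h11 : h.1 1 1 = k.1 1 1) : h = k := by
  refine Subtype.ext ?_
  ext i j
  fin_cases i <;> fin_cases j <;> assumption

theorem one_entries : (1 : SL2).1 0 0 = 1 ∧ (1 : SL2).1 0 1 = 0 ∧ (1 : SL2).1 1 0 = 0 ∧
    (1 : SL2).1 1 1 = 1 := ⟨rfl, rfl, rfl, rfl⟩

theorem map_entry {R : Type*} [CommRing R] (φ : R →+* F) (g : Matrix.SpecialLinearGroup (Fin 2) R)
    (i j : Fin 2) : (SpecialLinearGroup.map φ g).1 i j = φ (g.1 i j) := rfl

theorem isScalar_one : IsScalar (1 : SL2) := by simp [IsScalar]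

theorem isScalar_commute {h : SL2} (hh : IsScalar h) (k : SL2) : h * k = k * h := by
  obtain ⟨h1, h2, h3⟩ := hh
  apply ext' <;> simp [mul_entry, h1, h2, h3, mul_comm]

theorem isScalar_mul {h k : SL2} (hh : IsScalar h) (hk : IsScalar k) : IsScalar (h * k) := by
  obtain ⟨h1, h2, h3⟩ := hh
  obtain ⟨k1, k2, k3⟩ := hk
  simp [IsScalar, mul_entry, h1, h2, h3, k1, k2, k3]

theorem isScalar_inv {h : SL2} (hh : IsScalar h) : IsScalar h⁻¹ := by
  obtain ⟨h1, h2, h3⟩ := hh
  obtain ⟨a, b, c, d⟩ := inv_entries h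
  simp [IsScalar, a, b, c, d, h1, h2, h3]

theorem isScalar_sq {h : SL2} (hh : IsScalar h) : h * h = 1 := by
  obtain ⟨h1, h2, h3⟩ := hh
  have := det_eq h
  rw [h1, h2, ← h3] at this
  apply ext' <;> simp [mul_entry, h1, h2, ← h3]
  all_goals linear_combination this

/-- The centralizer of a nonscalar element consists of linear combinations of it and `1`. -/
theorem commutant {h k : SL2} (hh : ¬ IsScalar h) (hc : k * h = h * k) :
    ∃ x y : F, k.1 0 0 = x + y * h.1 0 0 ∧ k.1 0 1 = y * h.1 0 1 ∧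
      k.1 1 0 = y * h.1 1 0 ∧ k.1 1 1 = x + y * h.1 1 1 := by
  have e : ∀ i j, (k * h).1 i j = (h * k).1 i j := fun i j => by rw [hc]
  have e00 := e 0 0
  have e01 := e 0 1
  have e10 := e 1 0
  simp only [mul_entry] at e00 e01 e10
  by_cases hb : h.1 0 1 = 0
  · by_cases hc' : h.1 1 0 = 0
    · have had : h.1 0 0 - h.1 1 1 ≠ 0 := sub_ne_zero.2 fun he => hh ⟨hb, hc', he⟩
      have k01 : k.1 0 1 = 0 := by
        refine (mul_eq_zero.1 ?_).resolve_left had
        linear_combination -e01 + (k.1 0 0 - k.1 1 1) * hb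
      have k10 : k.1 1 0 = 0 := by
        refine (mul_eq_zero.1 ?_).resolve_left had
        linear_combination e10 + (k.1 0 0 - k.1 1 1) * hc'
      refine ⟨k.1 0 0 - (k.1 0 0 - k.1 1 1) / (h.1 0 0 - h.1 1 1) * h.1 0 0,
        (k.1 0 0 - k.1 1 1) / (h.1 0 0 - h.1 1 1), by ring, by simp [hb, k01], by simp [hc', k10], ?_⟩
      field_simp
      ring
    · refine ⟨k.1 0 0 - k.1 1 0 / h.1 1 0 * h.1 0 0, k.1 1 0 / h.1 1 0, by ring, ?_,
        by field_simp, ?_⟩
      · field_simp; linear_combination e00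
      · field_simp; linear_combination e10
  · refine ⟨k.1 0 0 - k.1 0 1 / h.1 0 1 * h.1 0 0, k.1 0 1 / h.1 0 1, by ring, by field_simp, ?_, ?_⟩
    · field_simp; linear_combination -e00
    · field_simp; linear_combination -e01

theorem commute_trans {h k l : SL2} (hh : ¬ IsScalar h) (hk : k * h = h * k) (hl : l * h = h * l) :
    k * l = l * k := by
  obtain ⟨x, y, a1, a2, a3, a4⟩ := commutant hh hk
  obtain ⟨x', y', b1, b2, b3, b4⟩ := commutant hh hl
  apply ext' <;> simp only [mul_entry, a1, a2, a3, a4, b1, b2, b3, b4] <;> ring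

/-- A conjugate of a semisimple element commuting with it is the element or its inverse. -/
theorem conj_eq_or_inv {h k : SL2} (ht : tr h ^ 2 ≠ 4) (htr : tr k = tr h)
    (hc : k * h = h * k) (h2 : (2 : F) ≠ 0) : k = h ∨ k = h⁻¹ := by
  have hh : ¬ IsScalar h := fun hs => ht (by
    have := det_eq h
    obtain ⟨b, c, e⟩ := hs
    rw [b, c, ← e] at this
    simp only [tr, ← e]
    linear_combination 4 * this)
  obtain ⟨x, y, a1, a2, a3, a4⟩ := commutant hh hc
  have hdk := det_eq k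
  have hdh := det_eq h
  simp only [tr] at ht htr
  rw [a1, a4] at htr
  have hy : (y - 1) * (y + 1) = 0 := by
    have h0 : (4 - (h.1 0 0 + h.1 1 1) ^ 2) * (y ^ 2 - 1) = 0 := by
      rw [a1, a2, a3, a4] at hdk
      linear_combination 4 * hdk - 4 * y ^ 2 * hdh -
        (2 * x + (y + 1) * (h.1 0 0 + h.1 1 1)) * htr
    have := (mul_eq_zero.1 h0).resolve_left (sub_ne_zero.2 ht.symm)
    linear_combination this
  rcases mul_eq_zero.1 hy with hy1 | hy1
  · left
    have hy' : y = 1 := sub_eq_zero.1 hy1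
    subst hy'
    have hx : x = 0 := by
      refine (mul_eq_zero.1 ?_).resolve_left h2
      linear_combination htr
    subst hx
    apply ext' <;> simp [a1, a2, a3, a4]
  · right
    have hy' : y = -1 := eq_neg_of_add_eq_zero_left hy1
    subst hy'
    have hx : x = h.1 0 0 + h.1 1 1 := by
      refine mul_left_cancel₀ h2 ?_
      linear_combination htr
    subst hx
    obtain ⟨i1, i2, i3, i4⟩ := inv_entries h
    apply ext' <;> simp [a1, a2, a3, a4, i1, i2, i3, i4]

theorem tr_conj (h k : SL2) : tr (k * h * k⁻¹) = tr h := by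
  obtain ⟨i1, i2, i3, i4⟩ := inv_entries k
  simp only [tr, mul_entry, i1, i2, i3, i4]
  linear_combination (h.1 0 0 + h.1 1 1) * det_eq k

/-! ### Unipotent elements -/

variable (p : ℕ) [hp : Fact p.Prime] [CharP F p]

/-- A unipotent upper triangular element. -/
def upU (a : F) : SL2 := ⟨!![1, a; 0, 1], by simp [Matrix.det_fin_two]⟩

/-- A unipotent lower triangular element. -/
def lowL (a : F) : SL2 := ⟨!![1, 0; a, 1], by simp [Matrix.det_fin_two]⟩

omit hp [CharP F p] in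
@[simp] theorem upU_entries (a : F) : (upU a).1 0 0 = 1 ∧ (upU a).1 0 1 = a ∧
    (upU a).1 1 0 = 0 ∧ (upU a).1 1 1 = 1 := ⟨rfl, rfl, rfl, rfl⟩

omit hp [CharP F p] in
@[simp] theorem lowL_entries (a : F) : (lowL a).1 0 0 = 1 ∧ (lowL a).1 0 1 = 0 ∧
    (lowL a).1 1 0 = a ∧ (lowL a).1 1 1 = 1 := ⟨rfl, rfl, rfl, rfl⟩

theorem tr_of_pow_eq_one {h : SL2} {j : ℕ} (hj : h ^ p ^ j = 1) : tr h = 2 := by
  have hj' : h.1 ^ p ^ j = 1 := congrArg Subtype.val hj
  have h1 : (h.1 - 1) ^ p ^ j = 0 := by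
    rw [sub_pow_char_pow_of_commute (p := p) (h := Commute.one_right h.1), one_pow, hj', sub_self]
  have h2 : (h.1 - 1).det = 0 := by
    refine eq_zero_of_pow_eq_zero (n := p ^ j) ?_
    rw [← Matrix.det_pow, h1, Matrix.det_zero]
  have := det_eq h
  simp [Matrix.det_fin_two] at h2
  rw [tr]
  linear_combination this - h2

theorem pow_eq_one_of_tr {h : SL2} (ht : tr h = 2) : h ^ p = 1 := by
  have hsq : (h.1 - 1) * (h.1 - 1) = 0 := by
    have hd := det_eq h
    rw [tr] at ht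
    ext i j
    fin_cases i <;> fin_cases j <;>
      simp only [Matrix.mul_apply, Fin.sum_univ_two, Matrix.sub_apply, Matrix.one_apply,
        Matrix.zero_apply, Fin.isValue] <;> norm_num
    · linear_combination h.1 0 0 * ht - hd
    · linear_combination h.1 0 1 * ht
    · linear_combination h.1 1 0 * ht
    · linear_combination h.1 1 1 * ht - hd
  refine Subtype.ext ?_
  show h.1 ^ p = 1
  rw [← sub_eq_zero]
  obtain ⟨c, hc⟩ : ∃ c, p = c + 2 := Nat.exists_eq_add_of_le' hp.out.two_le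
  have h1 : (h.1 - 1) ^ p = 0 := by rw [hc, pow_add, sq, hsq, mul_zero]
  rwa [sub_pow_char_of_commute (p := p) (h := Commute.one_right h.1), one_pow] at h1

omit hp [CharP F p] in
theorem upU_mul (a b : F) : upU a * upU b = upU (a + b) := by
  apply ext' <;> simp [mul_entry, add_comm]

omit hp [CharP F p] in
theorem lowL_mul (a b : F) : lowL a * lowL b = lowL (a + b) := by
  apply ext' <;> simp [mul_entry]

omit hp [CharP F p] in
theorem upU_zero : upU (0 : F) = 1 := by apply ext' <;> simp [one_entries]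

omit hp [CharP F p] in
theorem lowL_zero : lowL (0 : F) = 1 := by apply ext' <;> simp [one_entries]

omit hp [CharP F p] in
theorem upU_pow (a : F) (m : ℕ) : upU a ^ m = upU (m * a) := by
  induction m with
  | zero => simp [upU_zero]
  | succ m ih => rw [pow_succ, ih, upU_mul]; congr 1; push_cast; ring

omit hp [CharP F p] in
theorem lowL_pow (a : F) (m : ℕ) : lowL a ^ m = lowL (m * a) := by
  induction m with
  | zero => simp [lowL_zero]
  | succ m ih => rw [pow_succ, ih, lowL_mul]; congr 1; push_cast; ring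

omit hp [CharP F p] in
/-- Conjugation of `SL₂` by an invertible matrix. -/
noncomputable def conjEquiv (M : Matrix (Fin 2) (Fin 2) F) (hM : M.det ≠ 0) : SL2 ≃* SL2 where
  toFun h := ⟨M⁻¹ * h.1 * M, by
    rw [Matrix.det_mul, Matrix.det_mul, h.2, mul_one, ← Matrix.det_mul,
      Matrix.nonsing_inv_mul _ (isUnit_iff_ne_zero.2 hM), Matrix.det_one]⟩
  invFun h := ⟨M * h.1 * M⁻¹, by
    rw [Matrix.det_mul, Matrix.det_mul, h.2, mul_one, ← Matrix.det_mul,
      Matrix.mul_nonsing_inv _ (isUnit_iff_ne_zero.2 hM), Matrix.det_one]⟩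
  left_inv h := Subtype.ext (by
    show M * (M⁻¹ * h.1 * M) * M⁻¹ = h.1
    rw [← mul_assoc, ← mul_assoc, Matrix.mul_nonsing_inv _ (isUnit_iff_ne_zero.2 hM), one_mul,
      mul_assoc, Matrix.mul_nonsing_inv _ (isUnit_iff_ne_zero.2 hM), mul_one])
  right_inv h := Subtype.ext (by
    show M⁻¹ * (M * h.1 * M⁻¹) * M = h.1
    rw [← mul_assoc, ← mul_assoc, Matrix.nonsing_inv_mul _ (isUnit_iff_ne_zero.2 hM), one_mul,
      mul_assoc, Matrix.nonsing_inv_mul _ (isUnit_iff_ne_zero.2 hM), mul_one])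
  map_mul' h k := Subtype.ext (by
    show M⁻¹ * (h.1 * k.1) * M = M⁻¹ * h.1 * M * (M⁻¹ * k.1 * M)
    simp only [mul_assoc]
    rw [← mul_assoc M M⁻¹, Matrix.mul_nonsing_inv _ (isUnit_iff_ne_zero.2 hM), one_mul])

/-- A nontrivial element of trace two is conjugate to the standard transvection. -/
theorem exists_conj_upU {h : SL2} (ht : tr h = 2) (h1 : h ≠ 1) :
    ∃ (M : Matrix (Fin 2) (Fin 2) F) (hM : M.det ≠ 0), conjEquiv M hM h = upU 1 := by
  have hd := det_eq h
  rw [tr] at ht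
  suffices hS : ∃ M : Matrix (Fin 2) (Fin 2) F, M.det ≠ 0 ∧ h.1 * M = M * !![1, 1; 0, 1] by
    obtain ⟨M, hM, he⟩ := hS
    refine ⟨M, hM, Subtype.ext ?_⟩
    show M⁻¹ * h.1 * M = !![1, 1; 0, 1]
    rw [mul_assoc, he, ← mul_assoc, Matrix.nonsing_inv_mul _ (isUnit_iff_ne_zero.2 hM), one_mul]
  by_cases hc : h.1 1 0 = 0
  · have ha : h.1 0 0 = 1 := by
      rw [hc, mul_zero, sub_zero] at hd
      have : (h.1 0 0 - 1) * (h.1 0 0 - 1) = 0 := by linear_combination h.1 0 0 * ht - hd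
      exact sub_eq_zero.1 (mul_self_eq_zero.1 this)
    have hd' : h.1 1 1 = 1 := by linear_combination ht - ha
    have hb : h.1 0 1 ≠ 0 := fun hb => h1 (by apply ext' <;> simp [ha, hb, hc, hd'])
    refine ⟨!![h.1 0 1, 0; 0, 1], by simpa [Matrix.det_fin_two] using hb, ?_⟩
    ext i j
    fin_cases i <;> fin_cases j <;> simp [Matrix.mul_apply, Fin.sum_univ_two, ha, hc, hd']
  · refine ⟨!![h.1 0 0 - 1, 1; h.1 1 0, 0], by simpa [Matrix.det_fin_two] using hc, ?_⟩
    ext i j
    fin_cases i <;> fin_cases j <;> simp [Matrix.mul_apply, Fin.sum_univ_two]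
    · linear_combination h.1 0 0 * ht - hd
    · linear_combination h.1 1 0 * ht

omit hp [CharP F p] in
theorem conjEquiv_conjEquiv (M N : Matrix (Fin 2) (Fin 2) F) (hM : M.det ≠ 0) (hN : N.det ≠ 0)
    (hNM : (N * M).det ≠ 0) (h : SL2) :
    conjEquiv M hM (conjEquiv N hN h) = conjEquiv (N * M) hNM h := Subtype.ext (by
  show M⁻¹ * (N⁻¹ * h.1 * N) * M = (N * M)⁻¹ * h.1 * (N * M)
  rw [Matrix.mul_inv_rev]
  simp only [mul_assoc])

omit hp [CharP F p] in
theorem conjEquiv_symm_apply (M : Matrix (Fin 2) (Fin 2) F) (hM : M.det ≠ 0) (hM' : M⁻¹.det ≠ 0)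
    (h : SL2) : (conjEquiv M hM).symm h = conjEquiv M⁻¹ hM' h := Subtype.ext (by
  show M * h.1 * M⁻¹ = (M⁻¹)⁻¹ * h.1 * M⁻¹
  rw [Matrix.nonsing_inv_nonsing_inv _ (isUnit_iff_ne_zero.2 hM)])

/-- The standard copy of `SL₂(p)`. -/
def stdMap : Matrix.SpecialLinearGroup (Fin 2) (ZMod p) →* SL2 :=
  SpecialLinearGroup.map (ZMod.castHom dvd_rfl F)

/-- `H` contains a conjugate of the standard copy of `SL₂(p)`. -/
def ContainsStd (H : Subgroup (Matrix.SpecialLinearGroup (Fin 2) F)) : Prop :=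
  ∃ (M : Matrix (Fin 2) (Fin 2) F) (hM : M.det ≠ 0),
    ∀ g : Matrix.SpecialLinearGroup (Fin 2) (ZMod p), conjEquiv M hM (stdMap p g) ∈ H

theorem ContainsStd.exists_equiv {H : Subgroup (Matrix.SpecialLinearGroup (Fin 2) F)}
    (h : ContainsStd p H) : ∃ K : Subgroup (Matrix.SpecialLinearGroup (Fin 2) F), K ≤ H ∧
      Nonempty (K ≃* Matrix.SpecialLinearGroup (Fin 2) (ZMod p)) := by
  obtain ⟨M, hM, h⟩ := h
  have hf : Function.Injective ((conjEquiv M hM).toMonoidHom.comp (stdMap (F := F) p)) :=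
    (conjEquiv M hM).injective.comp fun a b hab => Subtype.ext (Matrix.ext fun i j =>
      (ZMod.castHom dvd_rfl F).injective (congrFun (congrFun (congrArg Subtype.val hab) i) j))
  exact ⟨_, by rintro _ ⟨g, rfl⟩; exact h g, ⟨(MonoidHom.ofInjective hf).symm⟩⟩

theorem ContainsStd.mono {H H' : Subgroup (Matrix.SpecialLinearGroup (Fin 2) F)}
    (h : ContainsStd p H) (hle : H ≤ H') : ContainsStd p H' := by
  obtain ⟨M, hM, h⟩ := h
  exact ⟨M, hM, fun g => hle (h g)⟩

theorem ContainsStd.map_symm {H : Subgroup (Matrix.SpecialLinearGroup (Fin 2) F)}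
    (N : Matrix (Fin 2) (Fin 2) F) (hN : N.det ≠ 0)
    (h : ContainsStd p (H.map (conjEquiv N hN).toMonoidHom)) : ContainsStd p H := by
  obtain ⟨M, hM, h⟩ := h
  have hN' : N⁻¹.det ≠ 0 := by
    rw [Matrix.det_nonsing_inv, Ring.inverse_eq_inv']; exact inv_ne_zero hN
  have hMN : (M * N⁻¹).det ≠ 0 := by rw [Matrix.det_mul]; exact mul_ne_zero hM hN'
  refine ⟨M * N⁻¹, hMN, fun g => ?_⟩
  obtain ⟨w, hw, he⟩ := h g
  rw [← conjEquiv_conjEquiv N⁻¹ M hN' hM hMN, ← conjEquiv_symm_apply N hN hN', ← he]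
  simpa using hw

/-- The image of `SL₂(p)` is generated by the two standard transvections. -/
theorem containsStd_of_transvections {L : Subgroup SL2} (hu : upU (1 : F) ∈ L)
    (hl : lowL (1 : F) ∈ L) : ContainsStd p L := by
  set f : Matrix.SpecialLinearGroup (Fin 2) (ZMod p) →* SL2 :=
    SpecialLinearGroup.map (ZMod.castHom dvd_rfl F)
  have hf : Function.Injective f := fun a b hab => Subtype.ext (Matrix.ext fun i j =>
    (ZMod.castHom dvd_rfl F).injective (congrFun (congrFun (congrArg Subtype.val hab) i) j))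
  have hU : ∀ a : ZMod p, f (upU a) ∈ L := by
    intro a
    have e : upU a = upU (1 : ZMod p) ^ a.val := by rw [upU_pow, mul_one, ZMod.natCast_zmod_val]
    have e1 : f (upU (1 : ZMod p)) = upU (1 : F) := by
      apply ext' <;> simp [f, map_entry]
    rw [e, map_pow, e1]
    exact pow_mem hu _
  have hL : ∀ a : ZMod p, f (lowL a) ∈ L := by
    intro a
    have e : lowL a = lowL (1 : ZMod p) ^ a.val := by rw [lowL_pow, mul_one, ZMod.natCast_zmod_val]
    have e1 : f (lowL (1 : ZMod p)) = lowL (1 : F) := by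
      apply ext' <;> simp [f, map_entry]
    rw [e, map_pow, e1]
    exact pow_mem hl _
  have hgen : ∀ g : Matrix.SpecialLinearGroup (Fin 2) (ZMod p), g.1 1 0 ≠ 0 → f g ∈ L := by
    intro g hc
    have hd := det_eq g
    have e : g = upU ((g.1 0 0 - 1) / g.1 1 0) * lowL (g.1 1 0) * upU ((g.1 1 1 - 1) / g.1 1 0) := by
      apply ext' <;> simp [mul_entry] <;> field_simp <;>
        first | ring1 | linear_combination -hd | linear_combination hd
    rw [e, map_mul, map_mul]
    exact mul_mem (mul_mem (hU _) (hL _)) (hU _)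
  refine ⟨1, by simp, fun g => ?_⟩
  have e : conjEquiv (1 : Matrix (Fin 2) (Fin 2) F) (by simp) (stdMap p g) = f g := Subtype.ext (by
    show (1 : Matrix (Fin 2) (Fin 2) F)⁻¹ * (f g).1 * 1 = (f g).1
    simp)
  rw [e]
  by_cases hc : g.1 1 0 = 0
  · have hd := det_eq g
    rw [hc, mul_zero, sub_zero] at hd
    have ha : g.1 0 0 ≠ 0 := fun h0 => by simp [h0] at hd
    have h1 : f (lowL 1 * g) ∈ L := hgen _ (by simpa [mul_entry, hc] using ha)
    rw [map_mul] at h1
    exact (Subgroup.mul_mem_cancel_left L (hL 1)).1 h1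
  · exact hgen g hc

end Cfsg.Agent.Fusion.Dickson
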