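import Mathlib

/-!
# Counting with centralizers that form a trivial-intersection family
-/

set_option autoImplicit false

namespace Cfsg.Agent.Fusion.Dickson

variable {K : Type*} [Group K]

/-- The elements conjugate to an element of `A` outside `Z`. -/
def classSet (Z A : Subgroup K) : Set K := {y | ∃ x a : K, a ∈ A ∧ a ∉ Z ∧ x * a * x⁻¹ = y}

theorem subset_classSet {Z A : Subgroup K} {a : K} (ha : a ∈ A) (haZ : a ∉ Z) :
    a ∈ classSet Z A :=
  ⟨1, a, ha, haZ, by group⟩

theorem classSet_conj {Z A : Subgroup K} {y : K} (hy : y ∈ classSet Z A) (x : K) :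
    x * y * x⁻¹ ∈ classSet Z A := by
  obtain ⟨c, a, ha, haZ, rfl⟩ := hy
  exact ⟨x * c, a, ha, haZ, by group⟩

theorem classSet_disjoint_of_notMem {Z A B : Subgroup K} [Z.Normal] {h : K}
    (hh : h ∉ classSet Z A) (hhZ : h ∉ Z) (hhB : h ∈ B)
    (hA : ∀ a ∈ A, a ∉ Z → Subgroup.centralizer {a} = A)
    (hB : ∀ b ∈ B, b ∉ Z → Subgroup.centralizer {b} = B) :
    Disjoint (classSet Z A) (classSet Z B) := by
  rw [Set.disjoint_left]
  rintro y ⟨x, a, ha, haZ, rfl⟩ ⟨x', b, hb, hbZ, he⟩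
  set c := x'⁻¹ * x with hc
  have hb' : b = c * a * c⁻¹ := by
    rw [show b = x'⁻¹ * (x' * b * x'⁻¹) * x' by group, he, hc]; group
  have hcb : h * b = b * h := by
    rw [← Subgroup.mem_centralizer_singleton_iff, hB b hb hbZ]
    exact hhB
  refine hh ⟨c, c⁻¹ * h * c, ?_, fun hz => hhZ ?_, by group⟩
  · rw [← hA a ha haZ, Subgroup.mem_centralizer_singleton_iff]
    rw [hb'] at hcb
    calc c⁻¹ * h * c * a = c⁻¹ * (h * (c * a * c⁻¹)) * c := by group
      _ = c⁻¹ * (c * a * c⁻¹ * h) * c := by rw [hcb]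
      _ = a * (c⁻¹ * h * c) := by group
  · have := Subgroup.Normal.conj_mem ‹Z.Normal› _ hz c
    rwa [show c * (c⁻¹ * h * c) * c⁻¹ = h by group] at this

/-- The size of a class in terms of the normalizer of the centralizer. -/
theorem card_classSet_mul [Finite K] {Z A : Subgroup K} [Z.Normal] (hZA : Z ≤ A)
    (hA : ∀ a ∈ A, a ∉ Z → Subgroup.centralizer {a} = A) :
    Nat.card (classSet Z A) * Nat.card (Subgroup.normalizer (A : Set K)) =
      Nat.card K * (Nat.card A - Nat.card Z) := by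
  classical
  let M := {a : K // a ∈ A ∧ a ∉ Z}
  let f : K × M → classSet Z A := fun q =>
    ⟨q.1 * q.2.1 * q.1⁻¹, q.1, q.2.1, q.2.2.1, q.2.2.2, rfl⟩
  have hfib : ∀ y, Nat.card {q // f q = y} = Nat.card (Subgroup.normalizer (A : Set K)) := by
    rintro ⟨_, x, a, ha, haZ, rfl⟩
    refine Nat.card_congr
      { toFun := fun q => ⟨x⁻¹ * q.1.1, ?_⟩
        invFun := fun n => ⟨(x * n.1, ⟨n.1⁻¹ * a * n.1, ?_, ?_⟩), ?_⟩
        left_inv := ?_
        right_inv := ?_ }
    · obtain ⟨⟨x', a', ha', haZ'⟩, hq⟩ := q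
      have hq' : x' * a' * x'⁻¹ = x * a * x⁻¹ := congrArg Subtype.val hq
      have he : x⁻¹ * x' * a' * (x⁻¹ * x')⁻¹ = a := by
        rw [show x⁻¹ * x' * a' * (x⁻¹ * x')⁻¹ = x⁻¹ * (x' * a' * x'⁻¹) * x by group, hq']; group
      show x⁻¹ * x' ∈ Subgroup.normalizer (A : Set K)
      rw [Subgroup.mem_normalizer_iff]
      intro b
      rw [← SetLike.mem_coe, ← SetLike.mem_coe, SetLike.mem_coe, SetLike.mem_coe]
      conv_lhs => rw [← hA a' ha' haZ']
      conv_rhs => rw [← hA a ha haZ]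
      simp only [Subgroup.mem_centralizer_singleton_iff]
      generalize x⁻¹ * x' = c at he
      subst he
      constructor
      · intro hb
        calc c * b * c⁻¹ * (c * a' * c⁻¹) = c * (b * a') * c⁻¹ := by group
          _ = c * (a' * b) * c⁻¹ := by rw [hb]
          _ = c * a' * c⁻¹ * (c * b * c⁻¹) := by group
      · intro hb
        calc b * a' = c⁻¹ * (c * b * c⁻¹ * (c * a' * c⁻¹)) * c := by group
          _ = c⁻¹ * (c * a' * c⁻¹ * (c * b * c⁻¹)) * c := by rw [hb]
          _ = a' * b := by group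
    · exact (Subgroup.mem_normalizer_iff''.1 n.2 a).1 ha
    · intro hz
      have := Subgroup.Normal.conj_mem ‹Z.Normal› _ hz n.1
      rw [show n.1 * (n.1⁻¹ * a * n.1) * n.1⁻¹ = a by group] at this
      exact haZ this
    · exact Subtype.ext (by simp only [f]; group)
    · rintro ⟨⟨x', a', ha', haZ'⟩, hq⟩
      have hq' : x' * a' * x'⁻¹ = x * a * x⁻¹ := congrArg Subtype.val hq
      refine Subtype.ext (Prod.ext (by show x * (x⁻¹ * x') = x'; group) (Subtype.ext ?_))
      show (x⁻¹ * x')⁻¹ * a * (x⁻¹ * x') = a'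
      rw [show (x⁻¹ * x')⁻¹ * a * (x⁻¹ * x') = x'⁻¹ * (x * a * x⁻¹) * x' by group, ← hq']; group
    · intro n
      exact Subtype.ext (by show x⁻¹ * (x * n.1) = n.1; group)
  have h1 : Nat.card (K × M) = Nat.card (classSet Z A) *
      Nat.card (Subgroup.normalizer (A : Set K)) := by
    haveI := Fintype.ofFinite (classSet Z A)
    rw [Nat.card_congr (Equiv.sigmaFiberEquiv f).symm, Nat.card_sigma]
    simp only [hfib]
    rw [Finset.sum_const, Finset.card_univ, smul_eq_mul, ← Nat.card_eq_fintype_card]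
  rw [← h1, Nat.card_prod]
  congr 1
  show Nat.card ((A : Set K) \ (Z : Set K) : Set K) = _
  rw [Nat.card_coe_set_eq, Set.ncard_sdiff hZA, ← Nat.card_coe_set_eq, ← Nat.card_coe_set_eq]
  rfl

/-- The order of a group moving `h` inside a finite set, by the centralizer of `h`. -/
theorem card_eq_mul_of_conj_mem [Finite K] {A N : Subgroup K} {h : K} (T : Finset K)
    (hAN : A ≤ N) (hA : Subgroup.centralizer {h} = A) (hT : ∀ n ∈ N, n * h * n⁻¹ ∈ T) :
    ∃ r, 0 < r ∧ r ≤ T.card ∧ Nat.card N = r * Nat.card A := by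
  refine ⟨A.relIndex N, ?_, ?_, ?_⟩
  · exact Nat.pos_of_ne_zero (Subgroup.index_ne_zero_of_finite)
  · let φ : N ⧸ A.subgroupOf N → {t // t ∈ T} :=
      Quotient.lift (fun n => ⟨n.1 * h * n.1⁻¹, hT _ n.2⟩) (by
        intro a b hab
        have h0 : a⁻¹ * b ∈ A.subgroupOf N := QuotientGroup.leftRel_apply.1 hab
        have h1 : a.1⁻¹ * b.1 ∈ A := Subgroup.mem_subgroupOf.1 h0
        rw [← hA, Subgroup.mem_centralizer_singleton_iff] at h1
        refine Subtype.ext ?_
        show a.1 * h * a.1⁻¹ = b.1 * h * b.1⁻¹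
        calc a.1 * h * a.1⁻¹ = a.1 * (h * (a.1⁻¹ * b.1)) * b.1⁻¹ := by group
          _ = a.1 * (a.1⁻¹ * b.1 * h) * b.1⁻¹ := by rw [h1]
          _ = b.1 * h * b.1⁻¹ := by group)
    have hφ : Function.Injective φ := by
      intro a b
      induction a using QuotientGroup.induction_on with
      | H a =>
        induction b using QuotientGroup.induction_on with
        | H b =>
          intro hab
          have h1 : a.1 * h * a.1⁻¹ = b.1 * h * b.1⁻¹ := congrArg Subtype.val hab
          refine QuotientGroup.eq.2 ?_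
          show a.1⁻¹ * b.1 ∈ A
          rw [← hA, Subgroup.mem_centralizer_singleton_iff]
          calc a.1⁻¹ * b.1 * h = a.1⁻¹ * (b.1 * h * b.1⁻¹) * b.1 := by group
            _ = a.1⁻¹ * (a.1 * h * a.1⁻¹) * b.1 := by rw [h1]
            _ = h * (a.1⁻¹ * b.1) := by group
    have := Nat.card_le_card_of_injective φ hφ
    rwa [Nat.card_eq_finsetCard] at this
  · rw [← Subgroup.index_mul_card (A.subgroupOf N),
      Nat.card_congr (Subgroup.subgroupOfEquivOfLe hAN).toEquiv]
    rfl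

end Cfsg.Agent.Fusion.Dickson
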