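import Cfsg.Agent.Lib.Fusion.DicksonMatrix
import Cfsg.Agent.Lib.Fusion.DicksonTI

/-!
# Finite subgroups of two by two unimodular matrices containing a transvection
-/

set_option autoImplicit false

open Matrix

namespace Cfsg.Agent.Fusion.Dickson

variable {F : Type*} [Field F]

local notation "SL2" => Matrix.SpecialLinearGroup (Fin 2) F

/-- Minus the identity. -/
def negI : SL2 := ⟨!![-1, 0; 0, -1], by simp [Matrix.det_fin_two]⟩

@[simp] theorem negI_entries : (negI : SL2).1 0 0 = -1 ∧ (negI : SL2).1 0 1 = 0 ∧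
    (negI : SL2).1 1 0 = 0 ∧ (negI : SL2).1 1 1 = -1 := ⟨rfl, rfl, rfl, rfl⟩

theorem negI_sq : (negI : SL2) * negI = 1 := by
  apply ext' <;> simp [mul_entry, one_entries]

theorem negI_comm (h : SL2) : negI * h = h * negI :=
  isScalar_commute (by simp [IsScalar]) h

theorem negI_pow_odd {m : ℕ} (hm : Odd m) : (negI : SL2) ^ m = negI := by
  obtain ⟨k, rfl⟩ := hm
  rw [pow_succ, pow_mul, sq, negI_sq, one_pow, one_mul]

theorem isScalar_cases {h : SL2} (hh : IsScalar h) : h = 1 ∨ h = negI := by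
  obtain ⟨h1, h2, h3⟩ := hh
  have hd := det_eq h
  rw [h1, h2, ← h3] at hd
  have : (h.1 0 0 - 1) * (h.1 0 0 + 1) = 0 := by linear_combination hd
  rcases mul_eq_zero.1 this with h4 | h4
  · left
    have h5 := sub_eq_zero.1 h4
    apply ext' <;> simp [one_entries, h1, h2, ← h3, h5]
  · right
    have h5 := eq_neg_of_add_eq_zero_left h4
    apply ext' <;> simp [h1, h2, ← h3, h5]

/-- An element whose square is one is scalar, in odd characteristic. -/
theorem isScalar_of_sq {h : SL2} (h2 : (2 : F) ≠ 0) (hh : h * h = 1) : IsScalar h := by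
  have e : h = h⁻¹ := eq_inv_of_mul_eq_one_left hh
  obtain ⟨i1, i2, i3, i4⟩ := inv_entries h
  refine ⟨?_, ?_, ?_⟩
  · have := congrArg (fun t : SL2 => t.1 0 1) e
    simp only [i2] at this
    refine (mul_eq_zero.1 (?_ : (2 : F) * _ = 0)).resolve_left h2
    linear_combination this
  · have := congrArg (fun t : SL2 => t.1 1 0) e
    simp only [i3] at this
    refine (mul_eq_zero.1 (?_ : (2 : F) * _ = 0)).resolve_left h2
    linear_combination this
  · have := congrArg (fun t : SL2 => t.1 0 0) e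
    simpa only [i1] using this

theorem upper_of_commute {h x : SL2} (hh : ¬ IsScalar h) (h10 : h.1 1 0 = 0)
    (hc : x * h = h * x) : x.1 1 0 = 0 := by
  obtain ⟨a, b, _, _, e, _⟩ := commutant hh hc
  rw [e, h10, mul_zero]

theorem upU_one_not_scalar : ¬ IsScalar (upU (1 : F)) := fun h => by simpa using h.1

theorem commute_upU_one_iff {x : SL2} :
    x * upU 1 = upU 1 * x ↔ x.1 1 0 = 0 ∧ x.1 0 0 = x.1 1 1 := by
  constructor
  · intro hc
    obtain ⟨a, b, e1, _, e3, e4⟩ := commutant upU_one_not_scalar hc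
    simp at e1 e3 e4
    exact ⟨e3, by rw [e1, e4]⟩
  · rintro ⟨h1, h2⟩
    apply ext' <;> simp [mul_entry, h1, h2, add_comm]

theorem eq_upU {x : SL2} (h10 : x.1 1 0 = 0) (h00 : x.1 0 0 = 1) : x = upU (x.1 0 1) := by
  have hd := det_eq x
  rw [h10, h00, mul_zero, sub_zero, one_mul] at hd
  apply ext' <;> simp [h10, h00, hd]

variable (H : Subgroup (Matrix.SpecialLinearGroup (Fin 2) F))

/-- The scalar elements of `H`. -/
def scalarsIn : Subgroup H where
  carrier := {y | IsScalar (y : SL2)}
  mul_mem' ha hb := isScalar_mul ha hb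
  one_mem' := isScalar_one
  inv_mem' ha := isScalar_inv ha

/-- The upper unipotent elements of `H`. -/
def unipIn : Subgroup H where
  carrier := {y | (y : SL2).1 1 0 = 0 ∧ (y : SL2).1 0 0 = 1}
  mul_mem' := by
    rintro a b ⟨a1, a2⟩ ⟨b1, b2⟩
    simp [mul_entry, a1, a2, b1, b2]
  one_mem' := ⟨rfl, rfl⟩
  inv_mem' := by
    rintro a ⟨a1, a2⟩
    obtain ⟨-, -, i3, -⟩ := inv_entries (a : SL2)
    obtain ⟨i1, -, -, -⟩ := inv_entries (a : SL2)
    have hd := det_eq (a : SL2)
    rw [a1, a2, mul_zero, sub_zero, one_mul] at hd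
    simp [i1, i3, a1, hd]

/-- The upper triangular elements of `H`. -/
def upperIn : Subgroup H where
  carrier := {y | (y : SL2).1 1 0 = 0}
  mul_mem' {a b} ha hb := by
    simp only [Set.mem_ofPred_eq] at ha hb ⊢
    simp [mul_entry, ha, hb]
  one_mem' := rfl
  inv_mem' {a} ha := by
    simp only [Set.mem_ofPred_eq] at ha ⊢
    obtain ⟨-, -, i3, -⟩ := inv_entries (a : SL2)
    simp [i3, ha]

/-- The translations in `H`. -/
def shifts : AddSubgroup F where
  carrier := {s | upU s ∈ H}
  add_mem' {a b} ha hb := by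
    simp only [Set.mem_ofPred_eq, ← upU_mul] at *
    exact mul_mem ha hb
  zero_mem' := by simp [upU_zero]
  neg_mem' {a} ha := by
    simp only [Set.mem_ofPred_eq] at *
    have : (upU a)⁻¹ = upU (-a) := inv_eq_of_mul_eq_one_right (by rw [upU_mul, add_neg_cancel, upU_zero])
    rw [← this]
    exact inv_mem ha

/-- The points moved to from infinity by `H`. -/
def pts : Set F := {r | ∃ y ∈ H, y.1 1 0 ≠ 0 ∧ r = y.1 0 0 / y.1 1 0}

variable {H}

theorem mem_scalarsIn {y : H} : y ∈ scalarsIn H ↔ IsScalar (y : SL2) := Iff.rfl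

theorem mem_unipIn {y : H} :
    y ∈ unipIn H ↔ (y : SL2).1 1 0 = 0 ∧ (y : SL2).1 0 0 = 1 := Iff.rfl

theorem mem_upperIn {y : H} : y ∈ upperIn H ↔ (y : SL2).1 1 0 = 0 := Iff.rfl

theorem mem_shifts {s : F} : s ∈ shifts H ↔ upU s ∈ H := Iff.rfl

instance scalarsIn_normal : (scalarsIn H).Normal :=
  ⟨fun z hz g => by
    have e : g * z * g⁻¹ = z := Subtype.ext (by
      show (g : SL2) * (z : SL2) * (g : SL2)⁻¹ = z
      rw [← isScalar_commute hz, mul_inv_cancel_right])
    rwa [e]⟩

theorem card_unipIn : Nat.card (unipIn H) = Nat.card (shifts H) :=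
  Nat.card_congr
    { toFun := fun y => ⟨(y.1 : SL2).1 0 1, by
        rw [mem_shifts, ← eq_upU y.2.1 y.2.2]; exact y.1.2⟩
      invFun := fun s => ⟨⟨upU s.1, s.2⟩, by simp [mem_unipIn]⟩
      left_inv := fun y => Subtype.ext (Subtype.ext (eq_upU y.2.1 y.2.2).symm)
      right_inv := fun s => Subtype.ext (by simp) }

section Centralizer

theorem centralizer_eq_self {h : H} (hh : h ∉ scalarsIn H) :
    ∀ a ∈ Subgroup.centralizer ({h} : Set H), a ∉ scalarsIn H →
      Subgroup.centralizer ({a} : Set H) = Subgroup.centralizer {h} := by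
  intro a ha haZ
  rw [Subgroup.mem_centralizer_singleton_iff] at ha
  have ha' : (a : SL2) * h = h * a := congrArg Subtype.val ha
  ext b
  simp only [Subgroup.mem_centralizer_singleton_iff]
  constructor <;> intro hb <;> refine Subtype.ext ?_
  · have hb' : (b : SL2) * a = a * b := congrArg Subtype.val hb
    exact commute_trans haZ hb' ha'.symm
  · have hb' : (b : SL2) * h = h * b := congrArg Subtype.val hb
    exact commute_trans hh hb' ha'

theorem scalarsIn_le_centralizer (h : H) : scalarsIn H ≤ Subgroup.centralizer {h} := fun z hz => by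
  rw [Subgroup.mem_centralizer_singleton_iff]
  exact Subtype.ext (isScalar_commute hz _)

theorem card_centralizer_eq [Finite H] {h : H} (hh : h ∉ scalarsIn H) :
    ∃ a, 2 ≤ a ∧ Nat.card (Subgroup.centralizer ({h} : Set H)) = a * Nat.card (scalarsIn H) := by
  set A := Subgroup.centralizer ({h} : Set H)
  obtain ⟨a, ha⟩ := Subgroup.card_dvd_of_le (scalarsIn_le_centralizer h)
  refine ⟨a, ?_, by rw [mul_comm]; exact ha⟩
  have hlt : Nat.card (scalarsIn H) < Nat.card A := by
    refine lt_of_le_of_ne (Subgroup.card_le_of_le (scalarsIn_le_centralizer h)) fun he => hh ?_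
    rw [Subgroup.eq_of_le_of_card_ge (scalarsIn_le_centralizer h) he.ge]
    exact Subgroup.mem_centralizer_singleton_iff.2 rfl
  rw [ha] at hlt
  by_contra hc
  interval_cases a <;> omega

theorem card_scalarsIn [Finite H] : Nat.card (scalarsIn H) ≤ 2 := by
  classical
  have h1 : (Set.range fun z : scalarsIn H => ((z.1 : H) : SL2)) ⊆ ({1, negI} : Set SL2) := by
    rintro _ ⟨z, rfl⟩
    simpa using isScalar_cases z.2
  have h2 := Set.ncard_le_ncard h1 (Set.toFinite _)
  rw [Set.ncard_range_of_injective fun a b hab => Subtype.ext (Subtype.ext hab)] at h2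
  exact h2.trans ((Set.ncard_insert_le _ _).trans (by simp))

/-- A semisimple element is sent only to itself or its inverse by the normalizer of its centralizer. -/
theorem card_normalizer_centralizer [Finite H] (h2 : (2 : F) ≠ 0) {h : H}
    (hh : h ∉ scalarsIn H) (ht : tr (h : SL2) ^ 2 ≠ 4) :
    ∃ ε, 0 < ε ∧ ε ≤ 2 ∧
      Nat.card (Subgroup.normalizer ((Subgroup.centralizer ({h} : Set H) : Subgroup H) : Set H)) =
        ε * Nat.card (Subgroup.centralizer ({h} : Set H)) := by
  classical
  obtain ⟨r, hr, hr', he⟩ := card_eq_mul_of_conj_mem (A := Subgroup.centralizer ({h} : Set H))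
    (h := h) ({h, h⁻¹} : Finset H) Subgroup.le_normalizer rfl (N := Subgroup.normalizer _)
    (fun n hn => by
      have hm : n * h * n⁻¹ ∈ Subgroup.centralizer ({h} : Set H) :=
        (Subgroup.mem_normalizer_iff.1 hn h).1 (Subgroup.mem_centralizer_singleton_iff.2 rfl)
      rw [Subgroup.mem_centralizer_singleton_iff] at hm
      have := conj_eq_or_inv ht (tr_conj (h : SL2) n) (congrArg Subtype.val hm) h2
      rcases this with e | e
      · rw [show n * h * n⁻¹ = h from Subtype.ext e]; simp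
      · rw [show n * h * n⁻¹ = h⁻¹ from Subtype.ext e]; simp)
  exact ⟨r, hr, hr'.trans Finset.card_le_two, he⟩

end Centralizer

section Transvection

variable (hu : upU (1 : F) ∈ H)
include hu

/-- The standard transvection in `H`. -/
def transIn : H := ⟨upU 1, hu⟩

theorem transIn_not_scalar : transIn hu ∉ scalarsIn H := upU_one_not_scalar

theorem mem_centralizer_transIn {y : H} :
    y ∈ Subgroup.centralizer ({transIn hu} : Set H) ↔
      (y : SL2).1 1 0 = 0 ∧ (y : SL2).1 0 0 = (y : SL2).1 1 1 := by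
  rw [Subgroup.mem_centralizer_singleton_iff, ← commute_upU_one_iff]
  exact ⟨fun h => congrArg Subtype.val h, fun h => Subtype.ext h⟩

theorem mem_unipIn_of_commute [Finite H] {y : H} (ht : tr (y : SL2) = 2) (h2 : (2 : F) ≠ 0)
    (hc : y ∈ Subgroup.centralizer ({transIn hu} : Set H)) : y ∈ unipIn H := by
  rw [mem_centralizer_transIn] at hc
  refine ⟨hc.1, mul_left_cancel₀ h2 ?_⟩
  rw [tr, ← hc.2] at ht
  linear_combination ht

theorem unipIn_le_centralizer : unipIn H ≤ Subgroup.centralizer ({transIn hu} : Set H) := by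
  intro y hy
  rw [mem_centralizer_transIn]
  have hd := det_eq (y : SL2)
  rw [hy.1, hy.2, mul_zero, sub_zero, one_mul] at hd
  exact ⟨hy.1, hy.2.trans hd.symm⟩

theorem normalizer_centralizer_transIn :
    Subgroup.normalizer ((Subgroup.centralizer ({transIn hu} : Set H) : Subgroup H) : Set H) =
      upperIn H := by
  ext n
  obtain ⟨i1, i2, i3, i4⟩ := inv_entries (n : SL2)
  constructor
  · intro hn
    have h1 := (mem_centralizer_transIn hu).1
      ((Subgroup.mem_normalizer_iff.1 hn (transIn hu)).1 (Subgroup.mem_centralizer_singleton_iff.2 rfl))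
    have h2 : ((n : SL2) * upU 1 * (n : SL2)⁻¹).1 1 0 = 0 := h1.1
    simp [mul_entry, i1, i3] at h2
    have h4 : (n : SL2).1 1 0 * (n : SL2).1 1 0 = 0 := by linear_combination -h2
    exact mul_self_eq_zero.1 h4
  · intro hn
    rw [mem_upperIn] at hn
    have hd := det_eq (n : SL2)
    rw [hn, mul_zero, sub_zero] at hd
    rw [Subgroup.mem_normalizer_iff]
    intro b
    simp only [SetLike.mem_coe, mem_centralizer_transIn]
    show _ ↔ ((n : SL2) * (b : SL2) * (n : SL2)⁻¹).1 1 0 = 0 ∧
      ((n : SL2) * (b : SL2) * (n : SL2)⁻¹).1 0 0 = ((n : SL2) * (b : SL2) * (n : SL2)⁻¹).1 1 1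
    simp only [mul_entry, i1, i2, i3, i4, hn]
    constructor
    · rintro ⟨hb1, hb2⟩
      rw [hb1, hb2]
      constructor <;> ring
    · rintro ⟨hb1, hb2⟩
      have hne : (n : SL2).1 1 1 ≠ 0 := fun h0 => by simp [h0] at hd
      have e1 : (b : SL2).1 1 0 = 0 := by
        refine (mul_eq_zero.1 (?_ : ((n : SL2).1 1 1 * (n : SL2).1 1 1) * _ = 0)).resolve_left
          (mul_ne_zero hne hne)
        linear_combination hb1
      refine ⟨e1, ?_⟩
      rw [e1] at hb2
      linear_combination hb2 - ((b : SL2).1 0 0 - (b : SL2).1 1 1) * hd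

theorem card_centralizer_transIn [Finite H] (p : ℕ) [Fact p.Prime] [CharP F p] (hp : p ≠ 2) :
    Nat.card (Subgroup.centralizer ({transIn hu} : Set H)) =
      Nat.card (unipIn H) * Nat.card (scalarsIn H) := by
  rw [← Nat.card_prod]
  refine (Nat.card_congr (Equiv.ofBijective
    (fun q : unipIn H × scalarsIn H => (⟨q.1.1 * q.2.1,
      mul_mem (unipIn_le_centralizer hu q.1.2) (scalarsIn_le_centralizer _ q.2.2)⟩ :
        Subgroup.centralizer ({transIn hu} : Set H))) ⟨?_, ?_⟩)).symm
  · rintro ⟨s, z⟩ ⟨s', z'⟩ he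
    have e : (s.1 : SL2) * (z.1 : SL2) = (s'.1 : SL2) * (z'.1 : SL2) :=
      congrArg Subtype.val (congrArg Subtype.val he)
    have e0 := congrArg (fun t : SL2 => t.1 0 0) e
    simp only [mul_entry, s.2.2, s'.2.2, z.2.2.1, z'.2.2.1, one_mul, mul_zero, add_zero] at e0
    have ez : z = z' := Subtype.ext (Subtype.ext (ext' e0 (by rw [z.2.1, z'.2.1])
      (by rw [z.2.2.1, z'.2.2.1]) (by rw [← z.2.2.2, ← z'.2.2.2, e0])))
    subst ez
    rw [mul_right_cancel_iff] at e
    exact Prod.ext (Subtype.ext (Subtype.ext e)) rfl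
  · rintro ⟨y, hy⟩
    obtain ⟨h10, hdiag⟩ := (mem_centralizer_transIn hu).1 hy
    have hd := det_eq (y : SL2)
    rw [h10, ← hdiag, mul_zero, sub_zero] at hd
    rcases mul_self_eq_one_iff.1 hd with h00 | h00
    · exact ⟨(⟨y, h10, h00⟩, 1), Subtype.ext (by simp)⟩
    · have hs : negI * (y : SL2) = upU (-(y : SL2).1 0 1) := by
        apply ext' <;> simp [mul_entry, h10, h00, ← hdiag]
      have hy' : (y : SL2) = negI * upU (-(y : SL2).1 0 1) := by
        rw [← hs, ← mul_assoc, negI_sq, one_mul]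
      have hyp : (y : SL2) ^ p = negI := by
        have hc : Commute (negI : SL2) (upU (-(y : SL2).1 0 1)) := negI_comm _
        rw [hy', hc.mul_pow,
          negI_pow_odd ((Fact.out : p.Prime).eq_two_or_odd'.resolve_left hp), upU_pow,
          CharP.cast_eq_zero, zero_mul, upU_zero, mul_one]
      have hn : negI ∈ H := hyp ▸ pow_mem y.2 p
      refine ⟨(⟨⟨negI, hn⟩ * y, ?_, ?_⟩, ⟨⟨negI, hn⟩, by simp [mem_scalarsIn, IsScalar]⟩),
        Subtype.ext (Subtype.ext ?_)⟩
      · show ((negI : SL2) * (y : SL2)).1 1 0 = 0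
        simp [hs]
      · show ((negI : SL2) * (y : SL2)).1 0 0 = 1
        simp [hs]
      · show (negI : SL2) * (y : SL2) * (negI : SL2) = (y : SL2)
        rw [negI_comm, mul_assoc, negI_sq, mul_one]

theorem exists_conj_mem_unipIn [Finite H] (p : ℕ) [Fact p.Prime] [CharP F p] (hp : p ≠ 2)
    {x : H} (hx : x ^ p = 1) : ∃ c : H, c * x * c⁻¹ ∈ unipIn H := by
  have hS : IsPGroup p (unipIn H) := fun y => ⟨1, Subtype.ext (Subtype.ext (by
    show (y.1 : SL2) ^ p ^ 1 = 1
    rw [eq_upU y.2.1 y.2.2, pow_one, upU_pow, CharP.cast_eq_zero, zero_mul, upU_zero]))⟩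
  have h2 : (2 : F) ≠ 0 := Ring.two_ne_zero (by rw [ringChar.eq F p]; exact hp)
  obtain ⟨P, hP⟩ := hS.exists_le_sylow
  have hPS : (P : Subgroup H) ≤ unipIn H := by
    have hne : transIn hu ∈ (P : Subgroup H) := hP ⟨by simp [transIn], by simp [transIn]⟩
    haveI : Nontrivial (P : Subgroup H) := ⟨⟨⟨_, hne⟩, 1, fun he =>
      transIn_not_scalar hu (show transIn hu ∈ scalarsIn H from by
        rw [show transIn hu = 1 from congrArg Subtype.val he]; exact one_mem _)⟩⟩
    haveI := P.2.center_nontrivial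
    obtain ⟨⟨z, hz⟩, hz1⟩ := exists_ne (1 : Subgroup.center (P : Subgroup H))
    have htr : ∀ y : (P : Subgroup H), tr ((y : H) : SL2) = 2 := fun y => by
      obtain ⟨j, hj⟩ := P.2 y
      exact tr_of_pow_eq_one p (congrArg Subtype.val (congrArg Subtype.val hj))
    have hzc : (z : H) ∈ unipIn H := mem_unipIn_of_commute hu (htr z) h2
      (Subgroup.mem_centralizer_singleton_iff.2
        (congrArg Subtype.val (Subgroup.mem_center_iff.1 hz ⟨_, hne⟩)).symm)
    intro y hy
    have hzs : (z : H) ∉ scalarsIn H := by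
      intro hs
      refine hz1 (Subtype.ext (Subtype.ext (Subtype.ext ?_)))
      show ((z : H) : SL2) = 1
      rw [eq_upU hzc.1 hzc.2, hs.1, upU_zero]
    refine mem_unipIn_of_commute hu (htr ⟨y, hy⟩) h2 ?_
    rw [← centralizer_eq_self (transIn_not_scalar hu) _ (unipIn_le_centralizer hu hzc) hzs,
      Subgroup.mem_centralizer_singleton_iff]
    exact congrArg Subtype.val (Subgroup.mem_center_iff.1 hz ⟨y, hy⟩)
  have hxp : IsPGroup p (Subgroup.zpowers x) := by
    rintro ⟨_, k, rfl⟩
    exact ⟨1, Subtype.ext (by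
      show (x ^ k) ^ p ^ 1 = 1
      rw [pow_one, ← zpow_natCast, zpow_comm, zpow_natCast, hx, _root_.one_zpow])⟩
  obtain ⟨R, hR⟩ := hxp.exists_le_sylow
  obtain ⟨c, hc⟩ := MulAction.exists_smul_eq H R P
  refine ⟨c, hPS ?_⟩
  rw [← hc]
  exact ⟨x, hR (Subgroup.mem_zpowers x), rfl⟩

/-- An element that is not semisimple lies in the unipotent class. -/
theorem mem_classSet_of_tr [Finite H] (p : ℕ) [Fact p.Prime] [CharP F p] (hp : p ≠ 2)
    {h : H} (hh : h ∉ scalarsIn H) (ht : tr (h : SL2) ^ 2 = 4) :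
    h ∈ classSet (scalarsIn H) (Subgroup.centralizer ({transIn hu} : Set H)) := by
  have key : ∀ {x : H}, x ∉ scalarsIn H → tr (x : SL2) = 2 →
      x ∈ classSet (scalarsIn H) (Subgroup.centralizer ({transIn hu} : Set H)) := by
    intro x hx htx
    obtain ⟨c, hc⟩ := exists_conj_mem_unipIn hu p hp (Subtype.ext (pow_eq_one_of_tr p htx))
    refine ⟨c⁻¹, c * x * c⁻¹, unipIn_le_centralizer hu hc, fun hz => hx ?_, by group⟩
    have := (scalarsIn_normal (H := H)).conj_mem _ hz c⁻¹
    rwa [show c⁻¹ * (c * x * c⁻¹) * c⁻¹⁻¹ = x by group] at this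
  have : (tr (h : SL2) - 2) * (tr (h : SL2) + 2) = 0 := by linear_combination ht
  rcases mul_eq_zero.1 this with h1 | h1
  · exact key hh (sub_eq_zero.1 h1)
  · have hm : tr ((negI : SL2) * (h : SL2)) = 2 := by
      have := eq_neg_of_add_eq_zero_left h1
      rw [tr] at this
      simp [tr, mul_entry]
      linear_combination -this
    have hp1 : (h : SL2) ^ p = negI := by
      have e : (h : SL2) = negI * (negI * (h : SL2)) := by rw [← mul_assoc, negI_sq, one_mul]
      have hc : Commute (negI : SL2) (negI * (h : SL2)) := negI_comm _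
      rw [e, hc.mul_pow, negI_pow_odd ((Fact.out : p.Prime).eq_two_or_odd'.resolve_left hp),
        pow_eq_one_of_tr p hm, mul_one]
    have hn : negI ∈ H := hp1 ▸ pow_mem h.2 p
    set n : H := ⟨negI, hn⟩
    have hnz : n ∈ scalarsIn H := by simp [n, mem_scalarsIn, IsScalar]
    obtain ⟨c, a, ha, haZ, he⟩ := key (x := n * h)
      (fun hz => hh (by simpa [Subgroup.mul_mem_cancel_left _ hnz] using hz)) hm
    refine ⟨c, n * a, mul_mem (scalarsIn_le_centralizer _ hnz) ha,
      fun hz => haZ ((Subgroup.mul_mem_cancel_left _ hnz).1 hz), ?_⟩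
    have hcomm : ∀ y : H, n * y = y * n := fun y => Subtype.ext (negI_comm _)
    calc c * (n * a) * c⁻¹ = (c * n) * a * c⁻¹ := by group
      _ = n * (c * a * c⁻¹) := by rw [← hcomm]; group
      _ = n * n * h := by rw [he, mul_assoc]
      _ = h := by rw [show n * n = 1 from Subtype.ext negI_sq, one_mul]

omit hu in
/-- A split torus in `H`. -/
theorem card_torus [Finite H] {h : H} (hN : (h : SL2).1 1 0 = 0)
    (hd : (h : SL2).1 0 0 ≠ (h : SL2).1 1 1) :
    tr (h : SL2) ^ 2 ≠ 4 ∧
      Nat.card (Subgroup.centralizer ({h} : Set H)) * Nat.card (unipIn H) =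
        Nat.card (upperIn H) := by
  classical
  have hdet := det_eq (h : SL2)
  rw [hN, mul_zero, sub_zero] at hdet
  have hns : h ∉ scalarsIn H := fun hs => hd hs.2.2
  refine ⟨fun ht => hd ?_, ?_⟩
  · rw [tr] at ht
    refine sub_eq_zero.1 (mul_self_eq_zero.1 ?_)
    linear_combination ht - 4 * hdet
  set A := Subgroup.centralizer ({h} : Set H) with hA
  have hAN : A ≤ upperIn H := fun y hy =>
    upper_of_commute hns hN (congrArg Subtype.val (Subgroup.mem_centralizer_singleton_iff.1 hy))
  refine le_antisymm ?_ ?_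
  · rw [← Nat.card_prod]
    refine Nat.card_le_card_of_injective (fun q : A × unipIn H =>
      (⟨q.1.1 * q.2.1, mul_mem (hAN q.1.2) q.2.2.1⟩ : upperIn H)) ?_
    rintro ⟨a, s⟩ ⟨a', s'⟩ he
    have e : a.1 * s.1 = a'.1 * s'.1 := congrArg Subtype.val he
    have hm : a'.1⁻¹ * a.1 ∈ unipIn H := by
      have : a'.1⁻¹ * a.1 = s'.1 * s.1⁻¹ := by
        rw [inv_mul_eq_iff_eq_mul, ← mul_assoc, ← e, mul_inv_cancel_right]
      rw [this]
      exact mul_mem s'.2 (inv_mem s.2)
    have hone : a'.1⁻¹ * a.1 = 1 := by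
      set t := a'.1⁻¹ * a.1 with ht
      have hc : (t : SL2) * h = h * t := congrArg Subtype.val
        (Subgroup.mem_centralizer_singleton_iff.1 (show t ∈ A from mul_mem (inv_mem a'.2) a.2))
      obtain ⟨x, y, e1, e2, e3, e4⟩ := commutant hns hc
      have hd1 := det_eq (t : SL2)
      rw [hm.1, hm.2, mul_zero, sub_zero, one_mul] at hd1
      rw [hm.2] at e1
      rw [hd1] at e4
      have hy : y = 0 := by
        refine (mul_eq_zero.1 (?_ : y * _ = 0)).resolve_right (sub_ne_zero.2 hd)
        linear_combination e4 - e1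
      refine Subtype.ext ((eq_upU hm.1 hm.2).trans ?_)
      rw [e2, hy, zero_mul, upU_zero]
      rfl
    have ea : a = a' := Subtype.ext (inv_mul_eq_one.1 hone).symm
    subst ea
    exact Prod.ext rfl (Subtype.ext (mul_left_cancel e))
  · haveI := Fintype.ofFinite H
    let T : Finset H := Finset.univ.filter fun y => y ∈ upperIn H ∧ y * h⁻¹ ∈ unipIn H
    obtain ⟨r, -, hr, he⟩ := card_eq_mul_of_conj_mem T hAN hA.symm (fun n hn => by
      obtain ⟨i1, i2, i3, i4⟩ := inv_entries (n : SL2)
      obtain ⟨j1, j2, j3, j4⟩ := inv_entries (h : SL2)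
      have hn' : (n : SL2).1 1 0 = 0 := hn
      have hdn := det_eq (n : SL2)
      rw [hn', mul_zero, sub_zero] at hdn
      simp only [T, Finset.mem_filter, Finset.mem_univ, true_and, mem_upperIn, mem_unipIn]
      refine ⟨?_, ?_, ?_⟩
      · show ((n : SL2) * (h : SL2) * (n : SL2)⁻¹).1 1 0 = 0
        simp [mul_entry, i1, i3, hn', hN]
      · show ((n : SL2) * (h : SL2) * (n : SL2)⁻¹ * (h : SL2)⁻¹).1 1 0 = 0
        simp [mul_entry, i1, i2, i3, i4, j1, j3, hn', hN]
      · show ((n : SL2) * (h : SL2) * (n : SL2)⁻¹ * (h : SL2)⁻¹).1 0 0 = 1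
        simp only [mul_entry, i1, i2, i3, i4, j1, j3, hn', hN]
        linear_combination ((h : SL2).1 0 0 * (h : SL2).1 1 1) * hdn + hdet)
    have hT : T.card ≤ Nat.card (unipIn H) := by
      rw [← Nat.card_eq_finsetCard]
      refine Nat.card_le_card_of_injective
        (fun y => (⟨y.1 * h⁻¹, (Finset.mem_filter.1 y.2).2.2⟩ : unipIn H)) ?_
      intro a b hab
      exact Subtype.ext (mul_right_cancel (congrArg Subtype.val hab))
    rw [he, mul_comm r]
    exact Nat.mul_le_mul_left _ (hr.trans hT)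

/-- The index of the centralizer of the transvection in the upper triangular elements. -/
theorem card_upperIn [Finite H] :
    ∃ d, 0 < d ∧ d + 1 ≤ Nat.card (unipIn H) ∧
      Nat.card (upperIn H) = d * Nat.card (Subgroup.centralizer ({transIn hu} : Set H)) := by
  classical
  haveI := Fintype.ofFinite H
  let T : Finset H := Finset.univ.filter fun y => y ∈ unipIn H ∧ y ≠ 1
  obtain ⟨d, hd, hd', he⟩ := card_eq_mul_of_conj_mem T (N := upperIn H)
    (A := Subgroup.centralizer ({transIn hu} : Set H)) (h := transIn hu)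
    (fun y hy => ((mem_centralizer_transIn hu).1 hy).1) rfl (fun n hn => by
      obtain ⟨i1, i2, i3, i4⟩ := inv_entries (n : SL2)
      have hn' : (n : SL2).1 1 0 = 0 := hn
      have hdn := det_eq (n : SL2)
      rw [hn', mul_zero, sub_zero] at hdn
      simp only [T, Finset.mem_filter, Finset.mem_univ, true_and]
      refine ⟨⟨?_, ?_⟩, fun he => ?_⟩
      · show ((n : SL2) * upU 1 * (n : SL2)⁻¹).1 1 0 = 0
        simp [mul_entry, i1, i3, hn']
      · show ((n : SL2) * upU 1 * (n : SL2)⁻¹).1 0 0 = 1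
        simp [mul_entry, i1, i3, hn', hdn]
      · rw [mul_inv_eq_one, mul_eq_left] at he
        exact transIn_not_scalar hu (he ▸ one_mem _))
  refine ⟨d, hd, ?_, he⟩
  have hT : T = (Finset.univ.filter (fun y : H => y ∈ unipIn H)).erase 1 := by
    ext y; simp [T, and_comm]
  have h1 : Nat.card (unipIn H) = (Finset.univ.filter (fun y : H => y ∈ unipIn H)).card := by
    rw [← Nat.card_eq_finsetCard]
    exact Nat.card_congr (Equiv.subtypeEquivRight (by simp))
  rw [hT, Finset.card_erase_of_mem (by simp)] at hd'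
  omega

end Transvection

/-! ### The action on the projective line -/

theorem card_eq_upperIn_mul [Finite H] :
    Nat.card H = Nat.card (upperIn H) * (Nat.card (pts H) + 1) := by
  classical
  let φ : H ⧸ upperIn H → Option (pts H) := Quotient.lift (fun y =>
      if hy : (y : SL2).1 1 0 = 0 then none
      else some ⟨(y : SL2).1 0 0 / (y : SL2).1 1 0, y, y.2, hy, rfl⟩) (by
    intro a b hab
    have h1 : a⁻¹ * b ∈ upperIn H := QuotientGroup.leftRel_apply.1 hab
    set n := a⁻¹ * b
    have hb : b = a * n := by simp [n]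
    have hn : (n : SL2).1 1 0 = 0 := h1
    have hdn := det_eq (n : SL2)
    rw [hn, mul_zero, sub_zero] at hdn
    have hn0 : (n : SL2).1 0 0 ≠ 0 := fun h0 => by simp [h0] at hdn
    have e10 : (b : SL2).1 1 0 = (a : SL2).1 1 0 * (n : SL2).1 0 0 := by
      rw [hb]; show ((a : SL2) * (n : SL2)).1 1 0 = _
      simp [mul_entry, hn]
    have e00 : (b : SL2).1 0 0 = (a : SL2).1 0 0 * (n : SL2).1 0 0 := by
      rw [hb]; show ((a : SL2) * (n : SL2)).1 0 0 = _
      simp [mul_entry, hn]
    by_cases ha : (a : SL2).1 1 0 = 0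
    · have hb0 : (b : SL2).1 1 0 = 0 := by rw [e10, ha, zero_mul]
      simp [ha, hb0]
    · have hb0 : ¬ (b : SL2).1 1 0 = 0 := by rw [e10]; exact mul_ne_zero ha hn0
      simp only [ha, hb0, dite_false]
      refine congrArg some (Subtype.ext ?_)
      show (a : SL2).1 0 0 / (a : SL2).1 1 0 = (b : SL2).1 0 0 / (b : SL2).1 1 0
      rw [e10, e00]; field_simp)
  have hφ : Function.Bijective φ := by
    constructor
    · intro a b
      induction a using QuotientGroup.induction_on with
      | H a =>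
        induction b using QuotientGroup.induction_on with
        | H b =>
          intro hab
          refine QuotientGroup.eq.2 ?_
          rw [mem_upperIn]
          obtain ⟨i1, i2, i3, i4⟩ := inv_entries (a : SL2)
          show ((a : SL2)⁻¹ * (b : SL2)).1 1 0 = 0
          rw [mul_entry, i3, i4]
          change (if hy : (a : SL2).1 1 0 = 0 then none else some _) =
            (if hy : (b : SL2).1 1 0 = 0 then none else some _) at hab
          by_cases ha : (a : SL2).1 1 0 = 0 <;> by_cases hb : (b : SL2).1 1 0 = 0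
          · simp [ha, hb]
          · simp [ha, hb] at hab
          · simp [ha, hb] at hab
          · simp only [ha, hb, dite_false] at hab
            have hab' : (a : SL2).1 0 0 / (a : SL2).1 1 0 = (b : SL2).1 0 0 / (b : SL2).1 1 0 :=
              congrArg Subtype.val (Option.some.inj hab)
            field_simp at hab'
            linear_combination hab'
    · rintro (_ | ⟨r, y, hy, hy0, rfl⟩)
      · exact ⟨QuotientGroup.mk 1, dif_pos rfl⟩
      · exact ⟨QuotientGroup.mk ⟨y, hy⟩, dif_neg hy0⟩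
  haveI : Finite (H ⧸ upperIn H) := inferInstance
  haveI : Finite (Option (pts H)) := Finite.of_surjective φ hφ.2
  haveI : Finite (pts H) := Finite.of_injective (fun r => some r) (Option.some_injective _)
  rw [Subgroup.card_eq_card_quotient_mul_card_subgroup (upperIn H),
    Nat.card_eq_of_bijective φ hφ, Finite.card_option, mul_comm]

theorem pts_finite [Finite H] : (pts H).Finite := by
  have : pts H ⊆ Set.range fun y : H => (y : SL2).1 0 0 / (y : SL2).1 1 0 := by
    rintro r ⟨y, hy, _, rfl⟩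
    exact ⟨⟨y, hy⟩, rfl⟩
  exact (Set.finite_range _).subset this

theorem shifts_add_mem_pts {s r : F} (hs : s ∈ shifts H) (hr : r ∈ pts H) : s + r ∈ pts H := by
  obtain ⟨y, hy, hy0, rfl⟩ := hr
  refine ⟨upU s * y, mul_mem hs hy, by simpa [mul_entry] using hy0, ?_⟩
  simp [mul_entry]
  field_simp
  ring

theorem card_pts_dvd [Finite H] : ∃ k, Nat.card (pts H) = k * Nat.card (shifts H) := by
  refine ⟨Nat.card ((QuotientAddGroup.mk : F → F ⧸ shifts H) '' pts H), ?_⟩
  have e : (QuotientAddGroup.mk : F → F ⧸ shifts H) ⁻¹'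
      ((QuotientAddGroup.mk : F → F ⧸ shifts H) '' pts H) = pts H := by
    refine Set.Subset.antisymm ?_ (Set.subset_preimage_image _ _)
    rintro r ⟨r', hr', he⟩
    have := QuotientAddGroup.eq.1 he
    simpa using shifts_add_mem_pts this hr'
  conv_lhs => rw [← e]
  rw [Nat.card_congr (QuotientAddGroup.preimageMkEquivAddSubgroupProdSet _ _), Nat.card_prod,
    mul_comm]

theorem exists_pts_of_not_commute (p : ℕ) [Fact p.Prime] [CharP F p] (h2 : (2 : F) ≠ 0)
    {x y : SL2} (hx : x ∈ H) (hy : y ∈ H) (hxp : x ^ p = 1) (hyp : y ^ p = 1)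
    (hne : x * y ≠ y * x) : (pts H).Nonempty := by
  by_contra hc
  have hup : ∀ w ∈ H, w ^ p = 1 → w = upU (w.1 0 1) := by
    intro w hw hwp
    have h10 : w.1 1 0 = 0 := by
      by_contra h; exact hc ⟨_, w, hw, h, rfl⟩
    refine eq_upU h10 ?_
    have ht := tr_of_pow_eq_one p (j := 1) (by rw [pow_one]; exact hwp)
    have hd := det_eq w
    rw [h10, mul_zero, sub_zero] at hd
    rw [tr] at ht
    refine sub_eq_zero.1 (mul_self_eq_zero.1 ?_)
    linear_combination w.1 0 0 * ht - hd
  exact hne (by rw [hup x hx hxp, hup y hy hyp, upU_mul, upU_mul, add_comm])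

/-- The unipotent radical is regular on the other points: a copy of `SL₂(p)`. -/
theorem sl2_of_regular_zero [Finite H] (p : ℕ) [Fact p.Prime] [CharP F p]
    (hu : upU (1 : F) ∈ H) (h0 : (0 : F) ∈ pts H)
    (hcard : Nat.card (pts H) = Nat.card (shifts H)) :
    ContainsStd p H := by
  have hfin : Finite (pts H) := (pts_finite (H := H)).to_subtype
  have hsub : (shifts H : Set F) ⊆ pts H := fun s hs => by
    simpa using shifts_add_mem_pts hs h0
  have heq : (shifts H : Set F) = pts H := Set.eq_of_subset_of_ncard_le hsub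
    (by rw [← Nat.card_coe_set_eq, ← Nat.card_coe_set_eq]; exact hcard.le) pts_finite
  obtain ⟨y, hy, hy0, he⟩ := h0
  have ha : y.1 0 0 = 0 := by
    rcases div_eq_zero_iff.1 he.symm with h | h
    exacts [h, absurd h hy0]
  have hbc : y.1 0 1 * y.1 1 0 = -1 := by
    have := det_eq y
    rw [ha, zero_mul] at this
    linear_combination -this
  obtain ⟨i1, i2, i3, i4⟩ := inv_entries y
  have hconj : ∀ s, y * upU s * y⁻¹ = lowL (-(y.1 1 0) ^ 2 * s) := fun s => by
    apply ext' <;> simp [mul_entry, i1, i2, i3, i4, ha]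
    · linear_combination -hbc
    · ring
    · linear_combination -hbc
  haveI : Finite (shifts H) := (pts_finite.subset hsub).to_subtype
  let f : shifts H → shifts H := fun s => ⟨(-(y.1 1 0) ^ 2 * s.1)⁻¹, by
    by_cases h : (-(y.1 1 0) ^ 2 * s.1) = 0
    · rw [h, _root_.inv_zero]; exact zero_mem _
    · rw [← SetLike.mem_coe, heq]
      refine ⟨lowL (-(y.1 1 0) ^ 2 * s.1), ?_, by simpa using h, by simp⟩
      rw [← hconj]
      exact mul_mem (mul_mem hy s.2) (inv_mem hy)⟩
  have hf : Function.Injective f := fun a b hab => by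
    have := congrArg Subtype.val hab
    exact Subtype.ext (mul_left_cancel₀ (neg_ne_zero.2 (pow_ne_zero 2 hy0))
      (inv_injective this))
  obtain ⟨s, hs⟩ := (Finite.injective_iff_surjective.1 hf) ⟨1, hu⟩
  have hs' : -(y.1 1 0) ^ 2 * s.1 = 1 := inv_eq_one.1 (congrArg Subtype.val hs)
  refine containsStd_of_transvections p hu ?_
  rw [← hs', ← hconj]
  exact mul_mem (mul_mem hy s.2) (inv_mem hy)

theorem sl2_of_regular [Finite H] (p : ℕ) [Fact p.Prime] [CharP F p]
    (hu : upU (1 : F) ∈ H) (hne : (pts H).Nonempty)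
    (hcard : Nat.card (pts H) = Nat.card (shifts H)) :
    ContainsStd p H := by
  obtain ⟨r, hr⟩ := hne
  set e : SL2 ≃* SL2 := MulAut.conj (upU (-r)) with he
  set H' := H.map e.toMonoidHom with hH'
  have hinv : (upU (-r))⁻¹ = upU r :=
    inv_eq_of_mul_eq_one_right (by rw [upU_mul, neg_add_cancel, upU_zero])
  have happ : ∀ w, e w = upU (-r) * w * upU r := fun w => by
    rw [he, MulAut.conj_apply, hinv]
  have hfix : ∀ s, e (upU s) = upU s := fun s => by
    rw [happ, upU_mul, upU_mul]; congr 1; ring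
  have hmem : ∀ w, e w ∈ H' ↔ w ∈ H := fun w => by
    rw [hH', Subgroup.mem_map_equiv]
    simp
  haveI : Finite H' := Finite.of_equiv _ (H.equivMapOfInjective e.toMonoidHom e.injective).toEquiv
  have hs : shifts H' = shifts H := by
    ext s
    rw [mem_shifts, mem_shifts, ← hmem (upU s), hfix]
  have hp10 : ∀ w, (e w).1 1 0 = w.1 1 0 := fun w => by
    rw [happ]; simp [mul_entry]
  have hp00 : ∀ w, (e w).1 0 0 = w.1 0 0 - r * w.1 1 0 := fun w => by
    rw [happ]; simp [mul_entry]; ring
  have hpts : pts H' = (fun t => t - r) '' pts H := by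
    ext t
    constructor
    · rintro ⟨_, ⟨w, hw, rfl⟩, hw0, rfl⟩
      change (e w).1 1 0 ≠ 0 at hw0
      rw [hp10] at hw0
      refine ⟨_, ⟨w, hw, hw0, rfl⟩, ?_⟩
      show _ = (e w).1 0 0 / (e w).1 1 0
      rw [hp10, hp00]; field_simp
    · rintro ⟨_, ⟨w, hw, hw0, rfl⟩, rfl⟩
      refine ⟨e w, (hmem w).2 hw, by rwa [hp10], ?_⟩
      rw [hp10, hp00]; field_simp
  have hstd := sl2_of_regular_zero (H := H') p
    (by rw [← hfix, hmem]; exact hu) (hpts ▸ ⟨r, hr, sub_self r⟩)
    (by rw [hs, hpts, ← hcard]; exact Nat.card_image_of_injective (fun a b => sub_left_inj.1) _)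
  have hdet : (upU r : SL2).1.det ≠ 0 := by rw [(upU r : SL2).2]; exact one_ne_zero
  have heq : H' = H.map (conjEquiv (upU r : SL2).1 hdet).toMonoidHom := by
    rw [hH']
    refine congrArg H.map (MonoidHom.ext fun w => Subtype.ext ?_)
    show (e w).1 = ((upU r : SL2).1)⁻¹ * w.1 * (upU r : SL2).1
    rw [happ, show upU (-r) = (upU r : SL2)⁻¹ by rw [← hinv, inv_inv]]
    show ((upU r : SL2)⁻¹).1 * w.1 * (upU r : SL2).1 = _
    rw [show ((upU r : SL2)⁻¹).1 = ((upU r : SL2).1)⁻¹ from by
      rw [Matrix.inv_def, (upU r : SL2).2, Ring.inverse_one, one_smul]; rfl]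
  rw [heq] at hstd
  exact ContainsStd.map_symm p _ hdet hstd

end Cfsg.Agent.Fusion.Dickson
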