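import Cfsg.Agent.Lib.Fusion.Cores
import Cfsg.Agent.Lib.Local.Basics

/-!
Groups in which every involution centralizer is an elementary abelian 2-group.
-/

set_option autoImplicit false
set_option linter.style.haveILetI false

open Cfsg Cfsg.Agent Cfsg.Agent.Fusion

namespace Cfsg.Agent.ECent

variable {G : Type*} [Group G]

/-- The hypotheses. -/
structure Ctx (T : Sylow 2 G) : Prop where
  hnc : ¬ IsCyclic (T : Subgroup G)
  hnn : ¬ (T : Subgroup G).Normal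
  hC : ∀ t : G, orderOf t = 2 → IsMulCommutative (Subgroup.centralizer ({t} : Set G)) ∧
    ∀ c ∈ Subgroup.centralizer ({t} : Set G), c ^ 2 = 1

/-- `N(T)`. -/
def Hn (T : Sylow 2 G) : Subgroup G := Subgroup.normalizer ((T : Subgroup G) : Set G)

/-- `N(T) ∩ N(T)^g`. -/
def Dg (T : Sylow 2 G) (g : G) : Subgroup G := Hn T ⊓ (Hn T).map (MulAut.conj g).toMonoidHom

theorem mem_Dg {T : Sylow 2 G} {g x : G} : x ∈ Dg T g ↔ x ∈ Hn T ∧ g⁻¹ * x * g ∈ Hn T := by
  rw [Dg, Subgroup.mem_inf, Local.mem_conj_map]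

theorem conj_T {T : Sylow 2 G} {h x : G} (hh : h ∈ Hn T) (hx : x ∈ (T : Subgroup G)) :
    h * x * h⁻¹ ∈ (T : Subgroup G) :=
  (Subgroup.mem_normalizer_iff.1 hh x).1 hx

theorem T_le {T : Sylow 2 G} : (T : Subgroup G) ≤ Hn T := Subgroup.le_normalizer

theorem orderOf_two {x : G} (h : x * x = 1) (h1 : x ≠ 1) : orderOf x = 2 :=
  haveI : Fact (Nat.Prime 2) := ⟨Nat.prime_two⟩
  orderOf_eq_prime (by rw [sq]; exact h) h1

variable [Finite G] {T : Sylow 2 G} (h : Ctx T)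

include h

theorem centralizer_sq {t c : G} (ht : orderOf t = 2) (hc : c * t = t * c) : c * c = 1 := by
  rw [← sq]; exact (h.hC t ht).2 c (Subgroup.mem_centralizer_singleton_iff.2 hc)

theorem centralizer_comm {t c d : G} (ht : orderOf t = 2) (hc : c * t = t * c) (hd : d * t = t * d) :
    c * d = d * c :=
  congrArg Subtype.val ((h.hC t ht).1.is_comm.comm ⟨c, Subgroup.mem_centralizer_singleton_iff.2 hc⟩
    ⟨d, Subgroup.mem_centralizer_singleton_iff.2 hd⟩)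

theorem T_elem : (∀ x ∈ (T : Subgroup G), ∀ y ∈ (T : Subgroup G), x * y = y * x) ∧
    ∀ x ∈ (T : Subgroup G), x * x = 1 := by
  haveI : Fact (Nat.Prime 2) := ⟨Nat.prime_two⟩
  haveI : Nontrivial ↥(T : Subgroup G) := by
    by_contra hn
    rw [not_nontrivial_iff_subsingleton] at hn
    exact h.hnc isCyclic_of_subsingleton
  haveI := T.isPGroup'.center_nontrivial
  obtain ⟨j, hj, hj'⟩ := (IsPGroup.nontrivial_iff_card
    (T.isPGroup'.to_subgroup (Subgroup.center ↥(T : Subgroup G)))).1 inferInstance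
  obtain ⟨⟨z, hzc⟩, hz⟩ := exists_prime_orderOf_dvd_card' 2
    (G := ↥(Subgroup.center ↥(T : Subgroup G))) (hj' ▸ dvd_pow_self 2 hj.ne')
  rw [Subgroup.orderOf_mk, ← Subgroup.orderOf_coe] at hz
  have hcz : ∀ x ∈ (T : Subgroup G), x * (z : G) = (z : G) * x := fun x hx =>
    congrArg Subtype.val (Subgroup.mem_center_iff.1 hzc ⟨x, hx⟩)
  exact ⟨fun x hx y hy => centralizer_comm h hz (hcz x hx) (hcz y hy),
    fun x hx => centralizer_sq h hz (hcz x hx)⟩

theorem T_comm {x y : G} (hx : x ∈ (T : Subgroup G)) (hy : y ∈ (T : Subgroup G)) : x * y = y * x :=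
  (T_elem h).1 x hx y hy

theorem T_sq {x : G} (hx : x ∈ (T : Subgroup G)) : x * x = 1 := (T_elem h).2 x hx

theorem T_card : ∃ m : ℕ, 2 ≤ m ∧ Nat.card ↥(T : Subgroup G) = 2 ^ m := by
  obtain ⟨m, hm⟩ := T.isPGroup'.exists_card_eq
  refine ⟨m, ?_, hm⟩
  by_contra hlt
  interval_cases m
  · haveI := (Nat.card_eq_one_iff_unique.1 (show Nat.card ↥(T : Subgroup G) = 1 by rw [hm, pow_zero])).1
    exact h.hnc isCyclic_of_subsingleton
  · haveI : Fact (Nat.Prime 2) := ⟨Nat.prime_two⟩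
    exact h.hnc (isCyclic_of_prime_card (p := 2) (by simpa using hm))

theorem four_le : 4 ≤ Nat.card ↥(T : Subgroup G) := by
  obtain ⟨m, hm, hc⟩ := T_card h
  rw [hc]; exact Nat.pow_le_pow_right (show 0 < 2 by norm_num) hm

theorem cent_T {t g : G} (ht : t ∈ (T : Subgroup G)) (ht1 : t ≠ 1) (hc : g * t = t * g) :
    g ∈ (T : Subgroup G) := by
  have hto := orderOf_two (T_sq h ht) ht1
  have hp : IsPGroup 2 ↥(Subgroup.centralizer ({t} : Set G)) := fun c =>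
    ⟨1, Subtype.ext (by simpa using (h.hC t hto).2 c c.2)⟩
  have hle : (T : Subgroup G) ≤ Subgroup.centralizer ({t} : Set G) := fun x hx =>
    Subgroup.mem_centralizer_singleton_iff.2 (T_comm h hx ht)
  rw [← T.is_maximal' hp hle]
  exact Subgroup.mem_centralizer_singleton_iff.2 hc

theorem ti {t g : G} (ht : t ∈ (T : Subgroup G)) (ht1 : t ≠ 1) (hg : g * t * g⁻¹ ∈ (T : Subgroup G)) :
    g ∈ Hn T := by
  refine mem_normalizer_of_cj_le ?_
  rintro _ ⟨x, hx, rfl⟩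
  show g * x * g⁻¹ ∈ (T : Subgroup G)
  refine cent_T h hg (fun e => ht1 (by simpa using e)) ?_
  calc g * x * g⁻¹ * (g * t * g⁻¹) = g * (x * t) * g⁻¹ := by group
    _ = g * (t * x) * g⁻¹ := by rw [T_comm h hx ht]
    _ = g * t * g⁻¹ * (g * x * g⁻¹) := by group

omit h in
theorem invol_H {s : G} (hs : s ∈ Hn T) (hss : s * s = 1) : s ∈ (T : Subgroup G) := by
  haveI : Fact (Nat.Prime 2) := ⟨Nat.prime_two⟩
  have hp : IsPGroup 2 ↥(Subgroup.zpowers s) := by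
    rintro ⟨_, i, rfl⟩
    refine ⟨1, Subtype.ext ?_⟩
    show (s ^ i) ^ 2 ^ 1 = 1
    rw [pow_one, ← zpow_natCast, ← zpow_mul, mul_comm, zpow_mul, zpow_natCast, sq, hss, one_zpow]
  have h1 : s ∈ Subgroup.zpowers s ⊓ Subgroup.normalizer ((T : Subgroup G) : Set G) :=
    Subgroup.mem_inf.2 ⟨Subgroup.mem_zpowers s, hs⟩
  exact (Subgroup.mem_inf.1 ((hp.inf_normalizer_sylow T).le h1)).2

theorem exists_invol_outside : ∃ u : G, u * u = 1 ∧ u ≠ 1 ∧ u ∉ Hn T := by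
  obtain ⟨g, hg⟩ : ∃ g : G, g ∉ Hn T := by
    by_contra hno
    push Not at hno
    exact h.hnn (Subgroup.normalizer_eq_top_iff.1 (eq_top_iff.2 fun g _ => hno g))
  obtain ⟨t, ht, ht1⟩ : ∃ t ∈ (T : Subgroup G), t ≠ 1 := by
    by_contra hno
    push Not at hno
    have := four_le h
    rw [(Subgroup.eq_bot_iff_forall _).2 hno, Subgroup.card_bot] at this
    omega
  refine ⟨g * t * g⁻¹, by rw [show g * t * g⁻¹ * (g * t * g⁻¹) = g * (t * t) * g⁻¹ by group, T_sq h ht]; group,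
    fun e => ht1 (by simpa using e), fun hH => hg (ti h ht ht1 (invol_H hH ?_))⟩
  rw [show g * t * g⁻¹ * (g * t * g⁻¹) = g * (t * t) * g⁻¹ by group, T_sq h ht]; group

/-- An involution of `T` is conjugate to every involution outside. -/
theorem conj_outside {t s : G} (ht : t ∈ (T : Subgroup G)) (ht1 : t ≠ 1) (hs : s * s = 1)
    (hsT : s ∉ (T : Subgroup G)) : ∃ g : G, g * t * g⁻¹ = s := by
  have hs1 : s ≠ 1 := fun e => hsT (e ▸ one_mem _)
  have htt := T_sq h ht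
  obtain ⟨w, hw⟩ : ∃ w, w = s * t := ⟨_, rfl⟩
  have htw : t * w * t = w⁻¹ := by
    rw [hw, mul_inv_rev, inv_eq_of_mul_eq_one_right hs, inv_eq_of_mul_eq_one_right htt,
      show t * (s * t) * t = t * s * (t * t) by group, htt, mul_one]
  have htwk : ∀ k : ℕ, t * w ^ k * t = (w ^ k)⁻¹ := by
    intro k
    induction k with
    | zero => simp [htt]
    | succ k ih =>
      rw [show t * w ^ (k + 1) * t = (t * w ^ k * t) * (t * w * t) by
        rw [pow_succ, show t * w ^ k * t * (t * w * t) = t * w ^ k * (t * t) * w * t by group, htt]; group,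
        ih, htw, ← mul_inv_rev, ← pow_succ']
  rcases Nat.even_or_odd (orderOf w) with ⟨k, hk⟩ | ⟨k, hk⟩
  · exfalso
    obtain ⟨v, hv⟩ : ∃ v, v = w ^ k := ⟨_, rfl⟩
    have hk0 : 0 < k := by
      have := orderOf_pos w
      omega
    have hv1 : v ≠ 1 := fun e => by
      have := orderOf_le_of_pow_eq_one hk0 (hv ▸ e)
      omega
    have hvv : v * v = 1 := by rw [hv, ← pow_add, ← hk, pow_orderOf_eq_one]
    have hvt : v * t = t * v := by
      have := htwk k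
      rw [← hv, inv_eq_of_mul_eq_one_right hvv] at this
      calc v * t = t * v * t * t := by rw [this]
        _ = t * v := by rw [mul_assoc, htt, mul_one]
    have hvw : v * w = w * v := by rw [hv, ← pow_succ, ← pow_succ']
    have hvT : v ∈ (T : Subgroup G) := cent_T h ht ht1 hvt
    have hsv : s * v = v * s := by
      have e : s = w * t := by rw [hw, mul_assoc, htt, mul_one]
      rw [e, mul_assoc w t v, ← hvt, ← mul_assoc, ← hvw, mul_assoc]
    exact hsT (cent_T h hvT hv1 hsv)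
  · refine ⟨w ^ (k + 1), ?_⟩
    have h1 : t * w ^ (k + 1) = (w ^ (k + 1))⁻¹ * t := by
      rw [← htwk (k + 1), mul_assoc, htt, mul_one]
    rw [mul_assoc, show t * (w ^ (k + 1))⁻¹ = w ^ (k + 1) * t by
      rw [← mul_right_inj t, ← mul_assoc, htt, one_mul, ← mul_assoc, h1, mul_assoc, htt, mul_one],
      ← mul_assoc, ← pow_add, show k + 1 + (k + 1) = orderOf w + 1 by omega, pow_succ, pow_orderOf_eq_one,
      one_mul, hw, mul_assoc, htt, mul_one]

/-- `N(T)` is transitive on the involutions of `T`. -/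
theorem conj_H {t t' : G} (ht : t ∈ (T : Subgroup G)) (ht1 : t ≠ 1) (ht' : t' ∈ (T : Subgroup G)) (ht'1 : t' ≠ 1) :
    ∃ g ∈ Hn T, g * t * g⁻¹ = t' := by
  obtain ⟨u, huu, -, huH⟩ := exists_invol_outside h
  have huT : u ∉ (T : Subgroup G) := fun e => huH (T_le e)
  obtain ⟨a, ha⟩ := conj_outside h ht ht1 huu huT
  obtain ⟨b, hb⟩ := conj_outside h ht' ht'1 huu huT
  have e : b⁻¹ * a * t * (b⁻¹ * a)⁻¹ = t' := by
    rw [show b⁻¹ * a * t * (b⁻¹ * a)⁻¹ = b⁻¹ * (a * t * a⁻¹) * b by group, ha, ← hb]; group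
  exact ⟨_, ti h ht ht1 (e.symm ▸ ht'), e⟩

theorem card_H : Nat.card ↥(Hn T) = Nat.card ↥(T : Subgroup G) * (Nat.card ↥(T : Subgroup G) - 1) := by
  classical
  obtain ⟨t, ht, ht1⟩ : ∃ t ∈ (T : Subgroup G), t ≠ 1 := by
    by_contra hno
    push Not at hno
    have := four_le h
    rw [(Subgroup.eq_bot_iff_forall _).2 hno, Subgroup.card_bot] at this
    omega
  choose s hsH hs using fun x : {x : ↥(T : Subgroup G) // x ≠ 1} =>
    conj_H h ht ht1 x.1.2 (fun e => x.2 (Subtype.ext e))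
  have e : ↥(T : Subgroup G) × {x : ↥(T : Subgroup G) // x ≠ 1} ≃ ↥(Hn T) := by
    refine Equiv.ofBijective (fun p => ⟨s p.2 * p.1, mul_mem (hsH p.2) (T_le p.1.2)⟩) ⟨?_, ?_⟩
    · rintro ⟨a, x⟩ ⟨b, y⟩ hxy
      have h1 : s x * a = s y * b := congrArg Subtype.val hxy
      have hc : ∀ (z : {x : ↥(T : Subgroup G) // x ≠ 1}) (c : ↥(T : Subgroup G)),
          s z * c * t * (s z * c)⁻¹ = (z.1 : G) := fun z c => by
        rw [mul_assoc (s z) (c : G) t, T_comm h c.2 ht, ← mul_assoc (s z) t, mul_inv_rev,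
          show s z * t * c * ((c : G)⁻¹ * (s z)⁻¹) = s z * t * (s z)⁻¹ by group, hs]
      have hxy' : x = y := Subtype.ext (Subtype.ext (by rw [← hc x a, ← hc y b, h1]))
      subst hxy'
      exact Prod.ext (Subtype.ext (mul_left_cancel h1)) rfl
    · rintro ⟨g, hg⟩
      have hx : g * t * g⁻¹ ∈ (T : Subgroup G) := conj_T hg ht
      have hx1 : (⟨_, hx⟩ : ↥(T : Subgroup G)) ≠ 1 := fun e => ht1 (by simpa using congrArg Subtype.val e)
      obtain ⟨a, ha⟩ : ∃ a, a = (s ⟨⟨_, hx⟩, hx1⟩)⁻¹ * g := ⟨_, rfl⟩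
      have haT : a ∈ (T : Subgroup G) := by
        refine cent_T h ht ht1 ?_
        have h2 : s ⟨⟨_, hx⟩, hx1⟩ * t * (s ⟨⟨_, hx⟩, hx1⟩)⁻¹ = g * t * g⁻¹ := hs _
        rw [ha]
        calc _ = (s ⟨⟨_, hx⟩, hx1⟩)⁻¹ * (g * t * g⁻¹) * g := by group
          _ = (s ⟨⟨_, hx⟩, hx1⟩)⁻¹ * (s ⟨⟨_, hx⟩, hx1⟩ * t * (s ⟨⟨_, hx⟩, hx1⟩)⁻¹) * g := by rw [h2]
          _ = _ := by group
      exact ⟨(⟨a, haT⟩, ⟨⟨_, hx⟩, hx1⟩), Subtype.ext (by simp [ha])⟩
  rw [← Nat.card_congr e, Nat.card_prod]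
  congr 1
  have : Fintype ↥(T : Subgroup G) := Fintype.ofFinite _
  rw [Nat.card_eq_fintype_card, Nat.card_eq_fintype_card, Fintype.card_subtype_compl]
  simp

theorem Dg_no_invol {g x : G} (hg : g ∉ Hn T) (hx : x ∈ Dg T g) (hxx : x * x = 1) : x = 1 := by
  by_contra hx1
  obtain ⟨h1, h2⟩ := mem_Dg.1 hx
  refine hg (inv_mem_iff.1 (ti h (invol_H h1 hxx) hx1 (g := g⁻¹) ?_))
  rw [inv_inv]
  refine invol_H h2 ?_
  rw [show g⁻¹ * x * g * (g⁻¹ * x * g) = g⁻¹ * (x * x) * g by group, hxx]; group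

theorem Dg_T {g x : G} (hg : g ∉ Hn T) (hx : x ∈ Dg T g) (hxT : x ∈ (T : Subgroup G)) : x = 1 :=
  Dg_no_invol h hg hx (T_sq h hxT)

theorem Dg_card_le {g : G} (hg : g ∉ Hn T) :
    Nat.card ↥(Dg T g) ≤ Nat.card ↥(T : Subgroup G) - 1 := by
  haveI : Fact (Nat.Prime 2) := ⟨Nat.prime_two⟩
  obtain ⟨m, -, hm⟩ := T_card h
  have hodd : ¬ 2 ∣ Nat.card ↥(Dg T g) := fun hd => by
    obtain ⟨⟨x, hx⟩, hxo⟩ := exists_prime_orderOf_dvd_card' 2 hd
    rw [Subgroup.orderOf_mk] at hxo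
    have := Dg_no_invol h hg hx (by rw [← sq, ← hxo]; exact pow_orderOf_eq_one x)
    rw [this, orderOf_one] at hxo
    omega
  have hd : Nat.card ↥(Dg T g) ∣ Nat.card ↥(T : Subgroup G) * (Nat.card ↥(T : Subgroup G) - 1) := by
    rw [← card_H h]; exact Subgroup.card_dvd_of_le inf_le_left
  refine Nat.le_of_dvd (by have := four_le h; omega) (Nat.Coprime.dvd_of_dvd_mul_left ?_ hd)
  rw [hm]
  exact (Nat.Coprime.pow_left m ((Nat.Prime.coprime_iff_not_dvd Nat.prime_two).2 hodd)).symm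

/-- Each coset outside `N(T)` contains `q - 1` involutions, and `|D_g| = q - 1` is inverted by each of them. -/
theorem coset_facts {g : G} (hg : g ∉ Hn T) :
    (∃ s : G, s * s = 1 ∧ g⁻¹ * s ∈ Hn T) ∧ Nat.card ↥(Dg T g) = Nat.card ↥(T : Subgroup G) - 1 ∧
      ∀ s : G, s * s = 1 → g⁻¹ * s ∈ Hn T → ∀ d ∈ Dg T g, s * d * s⁻¹ = d⁻¹ := by
  classical
  haveI : Fintype G := Fintype.ofFinite G
  obtain ⟨q, hq⟩ : ∃ q, q = Nat.card ↥(T : Subgroup G) := ⟨_, rfl⟩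
  rw [← hq]
  obtain ⟨t, ht, ht1⟩ : ∃ t ∈ (T : Subgroup G), t ≠ 1 := by
    by_contra hno
    push Not at hno
    have := four_le h
    rw [(Subgroup.eq_bot_iff_forall _).2 hno, Subgroup.card_bot] at this
    omega
  let I : G ⧸ Hn T → Finset G := fun x =>
    Finset.univ.filter (fun s : G => s * s = 1 ∧ s ≠ 1 ∧ (QuotientGroup.mk s : G ⧸ Hn T) = x)
  have hI : ∀ (x : G) (s : G), s ∈ I (QuotientGroup.mk x) ↔ s * s = 1 ∧ s ≠ 1 ∧ x⁻¹ * s ∈ Hn T := by
    intro x s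
    simp only [I, Finset.mem_filter, Finset.mem_univ, true_and]
    rw [eq_comm (a := (QuotientGroup.mk s : G ⧸ Hn T)), QuotientGroup.eq]
  -- the bound
  have pair : ∀ {x s s' : G}, s ∈ I (QuotientGroup.mk x) → s' ∈ I (QuotientGroup.mk x) →
      s * s' ∈ Dg T x ∧ s * (s * s') * s⁻¹ = (s * s')⁻¹ := by
    intro x s s' hs hs'
    obtain ⟨hss, -, hsx⟩ := (hI x s).1 hs
    obtain ⟨hss', -, hsx'⟩ := (hI x s').1 hs'
    obtain ⟨a, ha⟩ : ∃ a, a = x⁻¹ * s := ⟨_, rfl⟩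
    obtain ⟨b, hb⟩ : ∃ b, b = x⁻¹ * s' := ⟨_, rfl⟩
    rw [← ha] at hsx; rw [← hb] at hsx'
    have e1 : s * s' = a⁻¹ * b := by
      rw [ha, hb, mul_inv_rev, inv_eq_of_mul_eq_one_right hss]; group
    have e2 : x⁻¹ * (s * s') * x = a * b⁻¹ := by
      rw [ha, hb, mul_inv_rev, inv_eq_of_mul_eq_one_right hss']; group
    refine ⟨mem_Dg.2 ⟨e1 ▸ mul_mem (inv_mem hsx) hsx', e2 ▸ mul_mem hsx (inv_mem hsx')⟩, ?_⟩
    rw [mul_inv_rev, inv_eq_of_mul_eq_one_right hss', inv_eq_of_mul_eq_one_right hss,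
      show s * (s * s') * s = (s * s) * s' * s by group, hss, one_mul]
  have hbound : ∀ x : G, x ∉ Hn T → (I (QuotientGroup.mk x)).card ≤ q - 1 := by
    intro x hx
    rcases (I (QuotientGroup.mk x)).eq_empty_or_nonempty with h0 | ⟨s, hs⟩
    · rw [h0]; simp
    refine le_trans ?_ (hq ▸ Dg_card_le h hx)
    rw [Nat.card_eq_fintype_card, ← Fintype.card_coe]
    exact Fintype.card_le_of_injective (fun s' => (⟨s * s'.1, (pair hs s'.2).1⟩ : ↥(Dg T x)))
      (fun a b e => Subtype.ext (mul_left_cancel (congrArg Subtype.val e)))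
  -- the total
  have hnum : (Finset.univ.filter (fun s : G => s * s = 1 ∧ s ≠ 1)).card * q = Nat.card G := by
    have hall : ∀ s : {s : G // s * s = 1 ∧ s ≠ 1}, ∃ g : G, g * t * g⁻¹ = s.1 := fun s => by
      by_cases hsT : s.1 ∈ (T : Subgroup G)
      · obtain ⟨g, -, e⟩ := conj_H h ht ht1 hsT s.2.2
        exact ⟨g, e⟩
      · exact conj_outside h ht ht1 s.2.1 hsT
    choose c hc using hall
    have e : {s : G // s * s = 1 ∧ s ≠ 1} × ↥(T : Subgroup G) ≃ G := by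
      refine Equiv.ofBijective (fun p => c p.1 * p.2) ⟨?_, ?_⟩
      · rintro ⟨x, a⟩ ⟨y, b⟩ hxy
        replace hxy : c x * a = c y * b := hxy
        have hcj : ∀ (z : {s : G // s * s = 1 ∧ s ≠ 1}) (a : ↥(T : Subgroup G)), c z * a * t * (c z * a)⁻¹ = z.1 :=
          fun z a => by
            rw [mul_assoc (c z) (a : G) t, T_comm h a.2 ht, ← mul_assoc (c z) t, mul_inv_rev,
              show c z * t * a * ((a : G)⁻¹ * (c z)⁻¹) = c z * t * (c z)⁻¹ by group, hc]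
        have hxy' : x = y := Subtype.ext (by rw [← hcj x a, ← hcj y b, hxy])
        subst hxy'
        exact Prod.ext rfl (Subtype.ext (mul_left_cancel hxy))
      · intro y
        obtain ⟨z, hz⟩ : ∃ z : {s : G // s * s = 1 ∧ s ≠ 1}, z.1 = y * t * y⁻¹ :=
          ⟨⟨_, by rw [show y * t * y⁻¹ * (y * t * y⁻¹) = y * (t * t) * y⁻¹ by group, T_sq h ht]; group,
            fun e => ht1 (by simpa using e)⟩, rfl⟩
        have h2 := (hc z).trans hz
        refine ⟨(z, ⟨(c z)⁻¹ * y, cent_T h ht ht1 ?_⟩), mul_inv_cancel_left _ _⟩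
        calc _ = (c z)⁻¹ * (y * t * y⁻¹) * y := by group
          _ = (c z)⁻¹ * (c z * t * (c z)⁻¹) * y := by rw [h2]
          _ = _ := by group
    rw [← Nat.card_congr e, Nat.card_prod, hq, Nat.card_eq_fintype_card (α := {s : G // s * s = 1 ∧ s ≠ 1}),
      Fintype.card_subtype]
  have hnum' : (Finset.univ.filter (fun s : G => s * s = 1 ∧ s ≠ 1)).card =
      Nat.card (G ⧸ Hn T) * (q - 1) := by
    have h1 := Subgroup.card_eq_card_quotient_mul_card_subgroup (Hn T)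
    rw [card_H h, ← hq, ← hnum, mul_comm q, ← mul_assoc] at h1
    exact Nat.eq_of_mul_eq_mul_right (by have := four_le h; omega) h1
  have hsum : (Finset.univ.filter (fun s : G => s * s = 1 ∧ s ≠ 1)).card =
      ∑ x : G ⧸ Hn T, (I x).card := by
    rw [Finset.card_eq_sum_card_fiberwise (t := Finset.univ) (f := fun s : G => (QuotientGroup.mk s : G ⧸ Hn T))
      (fun s _ => Finset.mem_univ _)]
    refine Finset.sum_congr rfl fun x _ => congrArg Finset.card ?_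
    ext s; simp [I, and_assoc]
  have hle : ∀ x : G ⧸ Hn T, (I x).card ≤ q - 1 := by
    intro x
    obtain ⟨x, rfl⟩ := QuotientGroup.mk_surjective x
    by_cases hx : x ∈ Hn T
    · have hT1 : Fintype.card {y : ↥(T : Subgroup G) // ¬ y = 1} = q - 1 := by
        rw [Fintype.card_subtype_compl, Fintype.card_subtype_eq, hq, Nat.card_eq_fintype_card]
      rw [← hT1, ← Fintype.card_coe]
      have key : ∀ s : ↥(I (QuotientGroup.mk x)), s.1 ∈ (T : Subgroup G) ∧ s.1 ≠ 1 := fun s => by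
        obtain ⟨h1, h2, h3⟩ := (hI x s.1).1 s.2
        exact ⟨invol_H (by simpa using mul_mem hx h3) h1, h2⟩
      exact Fintype.card_le_of_injective (fun s => (⟨⟨s.1, (key s).1⟩, fun e => (key s).2 (congrArg Subtype.val e)⟩ :
          {y : ↥(T : Subgroup G) // ¬ y = 1})) (fun a b e => Subtype.ext (congrArg (fun w : {y : ↥(T : Subgroup G) // ¬ y = 1} => (w.1 : G)) e))
    · exact hbound x hx
  have heq : ∀ x : G ⧸ Hn T, (I x).card = q - 1 := by
    have := (Finset.sum_eq_sum_iff_of_le (s := Finset.univ) (fun x _ => hle x)).1 (by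
      rw [← hsum, hnum', Finset.sum_const, Finset.card_univ, smul_eq_mul, Nat.card_eq_fintype_card])
    exact fun x => this x (Finset.mem_univ _)
  have hq4 : 4 ≤ q := hq ▸ four_le h
  have hne : (I (QuotientGroup.mk g)).Nonempty := Finset.card_pos.1 (by rw [heq]; omega)
  obtain ⟨s₀, hs₀⟩ := hne
  have hcard : Nat.card ↥(Dg T g) = q - 1 := by
    refine le_antisymm (hq ▸ Dg_card_le h hg) ?_
    rw [← heq (QuotientGroup.mk g), ← Fintype.card_coe, Nat.card_eq_fintype_card]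
    exact Fintype.card_le_of_injective (fun s' => (⟨s₀ * s'.1, (pair hs₀ s'.2).1⟩ : ↥(Dg T g)))
      (fun a b e => Subtype.ext (mul_left_cancel (congrArg Subtype.val e)))
  refine ⟨⟨s₀, ((hI g s₀).1 hs₀).1, ((hI g s₀).1 hs₀).2.2⟩, hcard, fun s hss hsg d hd => ?_⟩
  have hs1 : s ≠ 1 := fun e => hg (inv_mem_iff.1 (by simpa [e] using hsg))
  have hs : s ∈ I (QuotientGroup.mk g) := (hI g s).2 ⟨hss, hs1, hsg⟩
  obtain ⟨⟨s', hs'⟩, hsd⟩ := (Fintype.bijective_iff_injective_and_card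
    (fun s' : ↥(I (QuotientGroup.mk g)) => (⟨s * s'.1, (pair hs s'.2).1⟩ : ↥(Dg T g)))).2
      ⟨fun a b e => Subtype.ext (mul_left_cancel (congrArg Subtype.val e)),
        by rw [Fintype.card_coe, heq, ← Nat.card_eq_fintype_card, hcard]⟩ |>.2 ⟨d, hd⟩
  have hd' : s * s' = d := congrArg Subtype.val hsd
  rw [← hd']
  exact (pair hs hs').2

variable {u : G} (huu : u * u = 1) (huH : u ∉ Hn T)

include huu huH

theorem u_inverts {d : G} (hd : d ∈ Dg T u) : u * d * u⁻¹ = d⁻¹ :=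
  (coset_facts h huH).2.2 u huu (by simpa using one_mem _) d hd

theorem card_D : Nat.card ↥(Dg T u) = Nat.card ↥(T : Subgroup G) - 1 := (coset_facts h huH).2.1

theorem decomp {g : G} (hg : g ∈ Hn T) : ∃ d ∈ Dg T u, ∃ t ∈ (T : Subgroup G), g = d * t := by
  classical
  haveI : Fintype G := Fintype.ofFinite G
  have hb := (Fintype.bijective_iff_injective_and_card
    (fun p : ↥(Dg T u) × ↥(T : Subgroup G) => (⟨p.1 * p.2, mul_mem (mem_Dg.1 p.1.2).1 (T_le p.2.2)⟩ : ↥(Hn T)))).2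
    ⟨?_, ?_⟩
  · obtain ⟨⟨d, t⟩, e⟩ := hb.2 ⟨g, hg⟩
    exact ⟨d, d.2, t, t.2, (congrArg Subtype.val e).symm⟩
  · rintro ⟨a, x⟩ ⟨b, y⟩ e
    have e1 : (a : G) * x = b * y := congrArg Subtype.val e
    have e2 : (b : G)⁻¹ * a = y * (x : G)⁻¹ := by
      calc (b : G)⁻¹ * a = (b : G)⁻¹ * ((a : G) * x) * (x : G)⁻¹ := by group
        _ = (b : G)⁻¹ * ((b : G) * y) * (x : G)⁻¹ := by rw [e1]
        _ = _ := by group
    have h0 := Dg_T h huH (mul_mem (inv_mem b.2) a.2) (e2 ▸ mul_mem y.2 (inv_mem x.2))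
    have hab : a = b := Subtype.ext (inv_mul_eq_one.1 h0).symm
    subst hab
    exact Prod.ext rfl (Subtype.ext (mul_left_cancel e1))
  · rw [← Nat.card_eq_fintype_card, ← Nat.card_eq_fintype_card, Nat.card_prod, card_D h huu huH, card_H h, mul_comm]

theorem D_comm {a b : G} (ha : a ∈ Dg T u) (hb : b ∈ Dg T u) : a * b = b * a := by
  have e := u_inverts h huu huH (mul_mem ha hb)
  rw [show u * (a * b) * u⁻¹ = (u * a * u⁻¹) * (u * b * u⁻¹) by group, u_inverts h huu huH ha,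
    u_inverts h huu huH hb, ← mul_inv_rev, inv_inj] at e
  exact e.symm

theorem C_inter_H {d : G} (hd : d ∈ Dg T u) (hd1 : d ≠ 1) {x : G} (hx : x ∈ Hn T) (hc : x * d = d * x) :
    x ∈ Dg T u := by
  obtain ⟨e, he, t, ht, rfl⟩ := decomp h huu huH hx
  have htd : t * d = d * t := by
    have h1 : e * (t * d) = e * (d * t) := by
      rw [← mul_assoc, hc, ← mul_assoc, ← D_comm h huu huH he hd, mul_assoc]
    exact mul_left_cancel h1
  by_cases ht1 : t = 1
  · rwa [ht1, mul_one]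
  · exact absurd (Dg_T h huH hd (cent_T h ht ht1 htd.symm)) hd1

/-- The centralizer of a non-identity element of `D` is `D`. -/
theorem C_eq {d : G} (hd : d ∈ Dg T u) (hd1 : d ≠ 1) {c : G} (hc : c * d = d * c) : c ∈ Dg T u := by
  classical
  haveI : Fintype G := Fintype.ofFinite G
  obtain ⟨C, hC⟩ : ∃ C, C = Subgroup.centralizer ({d} : Set G) := ⟨_, rfl⟩
  have hm : ∀ x, x ∈ C ↔ x * d = d * x := fun x => by rw [hC, Subgroup.mem_centralizer_singleton_iff]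
  have hdd : ¬ d * d = 1 := fun e => hd1 (Dg_no_invol h huH hd e)
  have hodd : ∀ x ∈ C, x * x = 1 → x = 1 := by
    intro x hx hxx
    by_contra hx1
    exact hdd (centralizer_sq h (orderOf_two hxx hx1) ((hm x).1 hx).symm)
  have hud := u_inverts h huu huH hd
  have hun : ∀ x ∈ C, u * x * u⁻¹ ∈ C := by
    intro x hx
    have hxi : x * d⁻¹ = d⁻¹ * x := ((show Commute x d from (hm x).1 hx).inv_right).eq
    rw [hm]
    have e : (u * x * u⁻¹) * d⁻¹⁻¹ = d⁻¹⁻¹ * (u * x * u⁻¹) := by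
      have hud' : u * d⁻¹ * u⁻¹ = d⁻¹⁻¹ := by rw [← conj_inv, hud]
      rw [← hud']
      calc u * x * u⁻¹ * (u * d⁻¹ * u⁻¹) = u * (x * d⁻¹) * u⁻¹ := by group
        _ = u * (d⁻¹ * x) * u⁻¹ := by rw [hxi]
        _ = u * d⁻¹ * u⁻¹ * (u * x * u⁻¹) := by group
    rwa [inv_inv] at e
  have hfix : ∀ x ∈ C, u * x * u⁻¹ = x → x = 1 := by
    intro x hx e
    refine hodd x hx (centralizer_sq h (orderOf_two huu fun e' => huH (e' ▸ one_mem _)) ?_)
    exact (mul_inv_eq_iff_eq_mul.1 e).symm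
  have hinv : ∀ x ∈ C, u * x * u⁻¹ = x⁻¹ := by
    have hinj : Function.Injective (fun k : ↥C => (⟨(k : G)⁻¹ * (u * k * u⁻¹), mul_mem (inv_mem k.2) (hun k k.2)⟩ : ↥C)) := by
      intro a b e
      have e1 : (a : G)⁻¹ * (u * a * u⁻¹) = (b : G)⁻¹ * (u * b * u⁻¹) := congrArg Subtype.val e
      have e2 : u * ((a : G) * (b : G)⁻¹) * u⁻¹ = (a : G) * (b : G)⁻¹ := by
        calc u * ((a : G) * (b : G)⁻¹) * u⁻¹ = (a : G) * ((a : G)⁻¹ * (u * a * u⁻¹)) * (u * b * u⁻¹)⁻¹ := by group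
          _ = (a : G) * ((b : G)⁻¹ * (u * b * u⁻¹)) * (u * b * u⁻¹)⁻¹ := by rw [e1]
          _ = _ := by group
      exact Subtype.ext (mul_inv_eq_one.1 (hfix _ (mul_mem a.2 (inv_mem b.2)) e2))
    intro x hx
    obtain ⟨k, hk⟩ := (Finite.injective_iff_surjective.1 hinj) ⟨x, hx⟩
    have hk' : (k : G)⁻¹ * (u * k * u⁻¹) = x := congrArg Subtype.val hk
    rw [← hk', show u * ((k : G)⁻¹ * (u * k * u⁻¹)) * u⁻¹ = (u * k * u⁻¹)⁻¹ * ((u * u) * k * (u * u)⁻¹) by group, huu]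
    group
  have hab : ∀ x ∈ C, ∀ y ∈ C, x * y = y * x := by
    intro x hx y hy
    have e := hinv _ (mul_mem hx hy)
    rw [show u * (x * y) * u⁻¹ = (u * x * u⁻¹) * (u * y * u⁻¹) by group, hinv x hx, hinv y hy, ← mul_inv_rev,
      inv_inj] at e
    exact e.symm
  have hcC : c ∈ C := (hm c).2 hc
  by_cases hcH : c ∈ Hn T
  · exact C_inter_H h huu huH hd hd1 hcH hc
  exfalso
  have hdc : d ∈ Dg T c := mem_Dg.2 ⟨(mem_Dg.1 hd).1, by
    rw [mul_assoc, ← hc, inv_mul_cancel_left]; exact (mem_Dg.1 hd).1⟩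
  obtain ⟨⟨s, hss, hsc⟩, -, hsinv⟩ := coset_facts h hcH
  have hsd := hsinv s hss hsc d hdc
  have hus : u * s ∈ C := by
    rw [hm]
    have e : (u * s) * d * (u * s)⁻¹ = d := by
      rw [show u * s * d * (u * s)⁻¹ = u * (s * d * s⁻¹) * u⁻¹ by group, hsd,
        show u * d⁻¹ * u⁻¹ = (u * d * u⁻¹)⁻¹ by group, hud, inv_inv]
    exact mul_inv_eq_iff_eq_mul.1 e
  obtain ⟨a, ha⟩ : ∃ a, a = c⁻¹ * s := ⟨_, rfl⟩
  rw [← ha] at hsc
  have hce : a = u * (c * (u * s)) := by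
    have e := hinv c hcC
    rw [ha, ← e, inv_eq_of_mul_eq_one_right huu]
    calc u * c * u * s = u * (c * (u * s)) := by group
      _ = _ := rfl
  have haa : a * a = 1 := by
    rw [hce]
    have e := hinv _ (mul_mem hcC hus)
    rw [inv_eq_of_mul_eq_one_right huu] at e
    calc u * (c * (u * s)) * (u * (c * (u * s))) = u * (c * (u * s)) * u * (c * (u * s)) := by group
      _ = _ := by rw [e]; group
  have haT := invol_H hsc haa
  have hcs : a * d * a⁻¹ = d⁻¹ := by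
    rw [ha, show c⁻¹ * s * d * (c⁻¹ * s)⁻¹ = c⁻¹ * (s * d * s⁻¹) * c by group, hsd, mul_assoc,
      ← ((show Commute c d from hc).inv_right).eq, inv_mul_cancel_left]
  have hd2 : d⁻¹ * d⁻¹ ∈ (T : Subgroup G) := by
    have : a * (d * a⁻¹ * d⁻¹) ∈ (T : Subgroup G) :=
      mul_mem haT (conj_T (mem_Dg.1 hd).1 (inv_mem haT))
    rwa [show a * (d * a⁻¹ * d⁻¹) = a * d * a⁻¹ * d⁻¹ by group, hcs] at this
  have h0 := Dg_T h huH (mul_mem (inv_mem hd) (inv_mem hd)) hd2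
  rw [← mul_inv_rev, inv_eq_one] at h0
  exact hdd h0

/-- Fixed points of a non-identity element of `D`. -/
theorem fixed {d : G} (hd : d ∈ Dg T u) (hd1 : d ≠ 1) {g : G} (hg : g⁻¹ * d * g ∈ Hn T) :
    g ∈ Hn T ∨ u⁻¹ * g ∈ Hn T := by
  by_cases hgH : g ∈ Hn T
  · exact Or.inl hgH
  right
  obtain ⟨⟨s, hss, hsg⟩, -, hsinv⟩ := coset_facts h hgH
  have hsd := hsinv s hss hsg d (mem_Dg.2 ⟨(mem_Dg.1 hd).1, hg⟩)
  have hus : u * s ∈ Dg T u := by
    refine C_eq h huu huH hd hd1 (mul_inv_eq_iff_eq_mul.1 ?_)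
    rw [show u * s * d * (u * s)⁻¹ = u * (s * d * s⁻¹) * u⁻¹ by group, hsd,
      show u * d⁻¹ * u⁻¹ = (u * d * u⁻¹)⁻¹ by group, u_inverts h huu huH hd, inv_inv]
  rw [show u⁻¹ * g = (u * s) * (g⁻¹ * s)⁻¹ by rw [inv_eq_of_mul_eq_one_right huu]; group]
  exact mul_mem (mem_Dg.1 hus).1 (inv_mem hsg)

theorem exists_D_ne_one : ∃ d ∈ Dg T u, d ≠ 1 := by
  by_contra hno
  push Not at hno
  have h1 := card_D h huu huH
  rw [(Subgroup.eq_bot_iff_forall _).2 hno, Subgroup.card_bot] at h1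
  have := four_le h
  omega

/-- `N(D) = D⟨u⟩`. -/
theorem norm_D : Subgroup.normalizer ((Dg T u : Subgroup G) : Set G) = Dg T u ⊔ Subgroup.zpowers u := by
  refine le_antisymm ?_ (sup_le Subgroup.le_normalizer (Subgroup.zpowers_le.2 ?_))
  · obtain ⟨d, hd, hd1⟩ := exists_D_ne_one h huu huH
    have hH : ∀ g, g ∈ Subgroup.normalizer ((Dg T u : Subgroup G) : Set G) → g ∈ Hn T → g ∈ Dg T u := by
      intro g hg hgH
      obtain ⟨e, he, t, ht, rfl⟩ := decomp h huu huH hgH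
      have htn : t ∈ Subgroup.normalizer ((Dg T u : Subgroup G) : Set G) := by
        have := mul_mem (inv_mem (Subgroup.le_normalizer he)) hg
        rwa [inv_mul_cancel_left] at this
      have h0 : t * d * t⁻¹ * d⁻¹ = 1 := by
        refine Dg_T h huH (mul_mem ((Subgroup.mem_normalizer_iff.1 htn d).1 hd) (inv_mem hd)) ?_
        rw [show t * d * t⁻¹ * d⁻¹ = t * (d * t⁻¹ * d⁻¹) by group]
        exact mul_mem ht (conj_T (mem_Dg.1 hd).1 (inv_mem ht))
      exact mul_mem he (C_eq h huu huH hd hd1 (mul_inv_eq_iff_eq_mul.1 (mul_inv_eq_one.1 h0)))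
    intro g hg
    have hgd : g⁻¹ * d * g ∈ Hn T := by
      have h1 := (Subgroup.mem_normalizer_iff.1 (inv_mem hg) d).1 hd
      rw [inv_inv] at h1
      exact (mem_Dg.1 h1).1
    rcases fixed h huu huH hd hd1 hgd with h1 | h1
    · exact Subgroup.mem_sup_left (hH g hg h1)
    · have hun : u ∈ Subgroup.normalizer ((Dg T u : Subgroup G) : Set G) := by
        refine mem_normalizer_of_cj_le ?_
        rintro _ ⟨x, hx, rfl⟩
        show u * x * u⁻¹ ∈ Dg T u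
        rw [u_inverts h huu huH hx]; exact inv_mem hx
      rw [← mul_inv_cancel_left u g]
      exact mul_mem (Subgroup.mem_sup_right (Subgroup.mem_zpowers u))
        (Subgroup.mem_sup_left (hH _ (mul_mem (inv_mem hun) hg) h1))
  · refine mem_normalizer_of_cj_le ?_
    rintro _ ⟨x, hx, rfl⟩
    show u * x * u⁻¹ ∈ Dg T u
    rw [u_inverts h huu huH hx]; exact inv_mem hx

/-- `T` is transitive outside `N(T)`. -/
theorem bruhat {g : G} (hg : g ∉ Hn T) : ∃ t ∈ (T : Subgroup G), (t * u)⁻¹ * g ∈ Hn T := by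
  classical
  haveI : Fintype G := Fintype.ofFinite G
  -- the conjugates of `D` cover `H \ T`
  have hmem : ∀ p : ↥(T : Subgroup G) × {d : ↥(Dg T u) // d ≠ 1},
      (p.1 : G) * p.2.1 * (p.1 : G)⁻¹ ∈ Hn T ∧ (p.1 : G) * p.2.1 * (p.1 : G)⁻¹ ∉ (T : Subgroup G) := by
    rintro ⟨t, d, hd1⟩
    refine ⟨mul_mem (mul_mem (T_le t.2) (mem_Dg.1 d.2).1) (inv_mem (T_le t.2)), fun hT => hd1 (Subtype.ext ?_)⟩
    refine Dg_T h huH d.2 ?_
    have := mul_mem (mul_mem (inv_mem t.2) hT) t.2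
    rwa [show (t : G)⁻¹ * ((t : G) * d * (t : G)⁻¹) * t = d by group] at this
  let Φ : ↥(T : Subgroup G) × {d : ↥(Dg T u) // d ≠ 1} → {x : ↥(Hn T) // (x : G) ∉ (T : Subgroup G)} :=
    fun p => ⟨⟨_, (hmem p).1⟩, (hmem p).2⟩
  have hinj : Function.Injective Φ := by
    rintro ⟨a, d, hd1⟩ ⟨b, e, he1⟩ heq
    have e1 : (a : G) * d * (a : G)⁻¹ = (b : G) * e * (b : G)⁻¹ :=
      congrArg (fun w : {x : ↥(Hn T) // (x : G) ∉ (T : Subgroup G)} => (w.1 : G)) heq
    obtain ⟨c, hc⟩ : ∃ c, c = (b : G)⁻¹ * a := ⟨_, rfl⟩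
    have hcT : c ∈ (T : Subgroup G) := hc ▸ mul_mem (inv_mem b.2) a.2
    have e2 : c * d * c⁻¹ = e := by
      rw [hc, show (b : G)⁻¹ * a * d * ((b : G)⁻¹ * a)⁻¹ = (b : G)⁻¹ * ((a : G) * d * (a : G)⁻¹) * b by group, e1]
      group
    have h0 : c * d * c⁻¹ * (d : G)⁻¹ = 1 := by
      refine Dg_T h huH (e2.symm ▸ mul_mem e.2 (inv_mem d.2)) ?_
      rw [show c * d * c⁻¹ * (d : G)⁻¹ = c * (d * c⁻¹ * (d : G)⁻¹) by group]
      exact mul_mem hcT (conj_T (mem_Dg.1 d.2).1 (inv_mem hcT))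
    have hde : (d : G) = e := by rw [← e2]; exact (mul_inv_eq_one.1 h0).symm
    have hc1 : c = 1 := Dg_T h huH (C_eq h huu huH d.2 (fun e' => hd1 (Subtype.ext e'))
      (mul_inv_eq_iff_eq_mul.1 (mul_inv_eq_one.1 h0))) hcT
    rw [hc, inv_mul_eq_one] at hc1
    exact Prod.ext (Subtype.ext hc1.symm) (Subtype.ext (Subtype.ext hde))
  have hcard : Fintype.card (↥(T : Subgroup G) × {d : ↥(Dg T u) // d ≠ 1}) =
      Fintype.card {x : ↥(Hn T) // (x : G) ∉ (T : Subgroup G)} := by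
    have hT : Fintype.card {x : ↥(Hn T) // (x : G) ∈ (T : Subgroup G)} = Fintype.card ↥(T : Subgroup G) :=
      Fintype.card_congr
        { toFun := fun x => ⟨x.1.1, x.2⟩
          invFun := fun x => ⟨⟨x.1, T_le x.2⟩, x.2⟩
          left_inv := fun x => rfl
          right_inv := fun x => rfl }
    have hq4 := four_le h
    have hD := card_D h huu huH
    have hH := card_H h
    rw [Fintype.card_prod, Fintype.card_subtype_compl, Fintype.card_subtype_compl, hT]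
    simp only [Nat.card_eq_fintype_card] at hq4 hD hH
    rw [hH, hD, Fintype.card_subtype_eq, Nat.mul_sub_left_distrib, mul_one]
  have hsurj := ((Fintype.bijective_iff_injective_and_card Φ).2 ⟨hinj, hcard⟩).2
  -- a non-identity element fixing `gH`
  obtain ⟨x, hx, hx1⟩ : ∃ x ∈ Dg T g, x ≠ 1 := by
    by_contra hno
    push Not at hno
    have h1 := (coset_facts h hg).2.1
    rw [(Subgroup.eq_bot_iff_forall _).2 hno, Subgroup.card_bot] at h1
    have := four_le h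
    omega
  have hxT : x ∉ (T : Subgroup G) := fun e => hx1 (Dg_T h hg hx e)
  obtain ⟨⟨t, d, hd1⟩, hp⟩ := hsurj ⟨⟨x, (mem_Dg.1 hx).1⟩, hxT⟩
  have hxe : (t : G) * d * (t : G)⁻¹ = x :=
    congrArg (fun w : {x : ↥(Hn T) // (x : G) ∉ (T : Subgroup G)} => (w.1 : G)) hp
  refine ⟨t, t.2, ?_⟩
  have hfix : ((t : G)⁻¹ * g)⁻¹ * d * ((t : G)⁻¹ * g) ∈ Hn T := by
    rw [show ((t : G)⁻¹ * g)⁻¹ * d * ((t : G)⁻¹ * g) = g⁻¹ * ((t : G) * d * (t : G)⁻¹) * g by group, hxe]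
    exact (mem_Dg.1 hx).2
  rcases fixed h huu huH d.2 (fun e => hd1 (Subtype.ext e)) hfix with h1 | h1
  · exact absurd (by simpa using mul_mem (T_le t.2) h1) hg
  · rwa [mul_inv_rev, mul_assoc]

theorem free {t t' : G} (ht : t ∈ (T : Subgroup G)) (ht' : t' ∈ (T : Subgroup G))
    (he : (t * u)⁻¹ * (t' * u) ∈ Hn T) : t = t' := by
  obtain ⟨a, ha⟩ : ∃ a, a = t⁻¹ * t' := ⟨_, rfl⟩
  have haT : a ∈ (T : Subgroup G) := ha ▸ mul_mem (inv_mem ht) ht'
  have he' : u * a * u⁻¹ ∈ Hn T := by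
    rw [inv_eq_of_mul_eq_one_right huu, ha]
    rwa [mul_inv_rev, inv_eq_of_mul_eq_one_right huu, mul_assoc, ← mul_assoc t⁻¹, ← mul_assoc u] at he
  by_contra hne
  have ha1 : a ≠ 1 := fun e => hne (inv_mul_eq_one.1 (ha ▸ e))
  refine huH (ti h haT ha1 (invol_H he' ?_))
  rw [show u * a * u⁻¹ * (u * a * u⁻¹) = u * (a * a) * u⁻¹ by group, T_sq h haT]; group

theorem conj_D {t t' : G} (ht : t ∈ (T : Subgroup G)) (ht1 : t ≠ 1) (ht' : t' ∈ (T : Subgroup G)) (ht'1 : t' ≠ 1) :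
    ∃ d ∈ Dg T u, d * t * d⁻¹ = t' := by
  obtain ⟨g, hg, e⟩ := conj_H h ht ht1 ht' ht'1
  obtain ⟨d, hd, a, ha, rfl⟩ := decomp h huu huH hg
  refine ⟨d, hd, ?_⟩
  rw [← e, mul_assoc d a t, T_comm h ha ht, mul_inv_rev, ← mul_assoc d t a,
    show d * t * a * (a⁻¹ * d⁻¹) = d * t * d⁻¹ by group]

end Cfsg.Agent.ECent
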