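import Cfsg.Agent.Lib.Solv.Extraspecial

/-! Groups of odd prime exponent with centre of prime order containing the derived subgroup
are determined by their order. -/

set_option autoImplicit false
set_option linter.style.haveILetI false

open scoped commutatorElement

namespace Cfsg.Agent.Fusion.ExtOdd

universe u v w

/-- exponent `p`, centre generated by `z` of order `p`, containing all commutators -/
structure ExtP (p : ℕ) (E : Type u) [Group E] (z : E) : Prop where
  prime : p.Prime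
  ne : z ≠ 1
  pow : ∀ g : E, g ^ p = 1
  central : ∀ g : E, Commute z g
  center : ∀ g : E, (∀ h : E, Commute g h) → g ∈ Subgroup.zpowers z
  comm : ∀ g h : E, ∃ k : ℤ, h * g = g * h * z ^ k

variable {p : ℕ} {E : Type u} [Group E] {z : E}

theorem ExtP.orderOf_z (h : ExtP p E z) : orderOf z = p := by
  haveI : Fact p.Prime := ⟨h.prime⟩
  exact orderOf_eq_prime (h.pow z) h.ne

theorem ExtP.zpow_central (h : ExtP p E z) (k : ℤ) (g : E) : Commute (z ^ k) g :=
  (h.central g).zpow_left k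

theorem conj_zpow (h : ExtP p E z) {a b : E} {k : ℤ} (hab : b * a = a * b * z ^ k) (m : ℤ) :
    b * a ^ m = a ^ m * b * z ^ (k * m) := by
  have h1 : b * a * b⁻¹ = a * z ^ k := by
    rw [hab, mul_assoc a b (z ^ k), ← (h.zpow_central k b).eq, ← mul_assoc, mul_assoc, mul_inv_cancel,
      mul_one]
  have h2 := _root_.conj_zpow (a := b) (b := a) (i := m)
  rw [h1, ((h.zpow_central k a).symm).mul_zpow, ← zpow_mul] at h2
  calc b * a ^ m = (b * a ^ m * b⁻¹) * b := by group
    _ = a ^ m * z ^ (k * m) * b := by rw [h2]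
    _ = _ := by rw [mul_assoc, (h.zpow_central _ b).eq, ← mul_assoc]

theorem nf_mul (h : ExtP p E z) {a b : E} (hab : b * a = a * b * z) (i j k i' j' k' : ℤ) :
    a ^ i * b ^ j * z ^ k * (a ^ i' * b ^ j' * z ^ k') =
      a ^ (i + i') * b ^ (j + j') * z ^ (k + k' + j * i') := by
  have h1 := conj_zpow h (k := 1) (by rwa [zpow_one]) i'
  rw [one_mul] at h1
  have h2 : b ^ j * a ^ i' = a ^ i' * b ^ j * z ^ (j * i') := by
    have e1 : a ^ i' * b = b * a ^ i' * z ^ (-i') := by
      rw [h1, mul_assoc, ← zpow_add, add_neg_cancel, zpow_zero, mul_one]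
    have e2 := conj_zpow h e1 j
    rw [e2, mul_assoc, ← zpow_add]
    conv_rhs => rw [show -i' * j + j * i' = 0 by ring, zpow_zero, mul_one]
  calc a ^ i * b ^ j * z ^ k * (a ^ i' * b ^ j' * z ^ k')
      = a ^ i * b ^ j * (z ^ k * (a ^ i' * b ^ j')) * z ^ k' := by simp only [mul_assoc]
    _ = a ^ i * (b ^ j * a ^ i') * (b ^ j' * (z ^ k * z ^ k')) := by
        rw [(h.zpow_central k _).eq]; simp only [mul_assoc]
    _ = a ^ i * a ^ i' * b ^ j * (z ^ (j * i') * b ^ j') * (z ^ k * z ^ k') := by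
        rw [h2]; simp only [mul_assoc]
    _ = a ^ (i + i') * b ^ (j + j') * (z ^ (j * i') * (z ^ k * z ^ k')) := by
        rw [(h.zpow_central _ _).eq, zpow_add, zpow_add]; simp only [mul_assoc]
    _ = _ := by rw [← zpow_add, ← zpow_add]; congr 2; ring

/-- a pair with commutator `z` -/
structure Pair (p : ℕ) (a b z : E) : Prop where
  ext : ExtP p E z
  rel : b * a = a * b * z

theorem Pair.parity {a b : E} (h : Pair p a b z) {i j k : ℤ}
    (hc : Commute (a ^ i * b ^ j * z ^ k) a) (hc' : Commute (a ^ i * b ^ j * z ^ k) b) :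
    (p : ℤ) ∣ i ∧ (p : ℤ) ∣ j := by
  have ha : a ^ (1 : ℤ) * b ^ (0 : ℤ) * z ^ (0 : ℤ) = a := by simp
  have hb : a ^ (0 : ℤ) * b ^ (1 : ℤ) * z ^ (0 : ℤ) = b := by simp
  have key : ∀ {x y : ℤ} {c d : E}, c * d * z ^ x = c * d * z ^ y → (p : ℤ) ∣ y - x := by
    intro x y c d e
    have e1 := mul_left_cancel e
    rw [← h.ext.orderOf_z, orderOf_dvd_iff_zpow_eq_one, zpow_sub, ← e1, mul_inv_cancel]
  constructor
  · have e1 := nf_mul h.ext h.rel i j k 0 1 0
    have e2 := nf_mul h.ext h.rel 0 1 0 i j k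
    rw [hb] at e1 e2
    have e := e1.symm.trans (hc'.eq.trans e2)
    rw [add_comm 0 i, add_comm 1 j] at e
    have := key e
    simpa using this
  · have e1 := nf_mul h.ext h.rel i j k 1 0 0
    have e2 := nf_mul h.ext h.rel 1 0 0 i j k
    rw [ha] at e1 e2
    have e := e1.symm.trans (hc.eq.trans e2)
    rw [add_comm 0 j, add_comm 1 i] at e
    have := key e
    simpa using this

variable {E' : Type v} [Group E'] {z' : E'}

theorem Pair.word {a b : E} {a' b' : E'} (h : Pair p a b z) (h' : Pair p a' b' z')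
    (x : FreeGroup Bool) :
    ∃ i j k : ℤ, FreeGroup.lift (fun t => cond t a b) x = a ^ i * b ^ j * z ^ k ∧
      FreeGroup.lift (fun t => cond t a' b') x = a' ^ i * b' ^ j * z' ^ k := by
  induction x using FreeGroup.induction_on with
  | C1 => exact ⟨0, 0, 0, by simp, by simp⟩
  | of t =>
    cases t
    · exact ⟨0, 1, 0, by simp, by simp⟩
    · exact ⟨1, 0, 0, by simp, by simp⟩
  | inv_of t _ =>
    cases t
    · exact ⟨0, -1, 0, by simp, by simp⟩
    · exact ⟨-1, 0, 0, by simp, by simp⟩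
  | mul x y ihx ihy =>
    obtain ⟨i, j, k, e1, e2⟩ := ihx
    obtain ⟨i', j', k', f1, f2⟩ := ihy
    exact ⟨_, _, _, by rw [map_mul, e1, f1, nf_mul h.ext h.rel],
      by rw [map_mul, e2, f2, nf_mul h'.ext h'.rel]⟩

/-- the centralizer of a pair -/
def cent (a b : E) : Subgroup E := Subgroup.centralizer {a, b}

theorem mem_cent {a b g : E} : g ∈ cent a b ↔ Commute g a ∧ Commute g b := by
  rw [cent, Subgroup.mem_centralizer_iff]
  constructor
  · exact fun h => ⟨(h a (Or.inl rfl)).symm, (h b (Or.inr rfl)).symm⟩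
  · rintro ⟨ha, hb⟩ x (rfl | rfl)
    · exact ha.eq.symm
    · exact hb.eq.symm

theorem Pair.cover {a b : E} (h : Pair p a b z) (g : E) :
    ∃ i j : ℤ, a ^ i * b ^ j * g ∈ cent a b := by
  obtain ⟨u, hu⟩ := h.ext.comm a g
  obtain ⟨v, hv⟩ := h.ext.comm b g
  -- `g * a = a * g * z ^ u`, `g * b = b * g * z ^ v`
  refine ⟨v, -u, mem_cent.2 ⟨?_, ?_⟩⟩
  · have hab := conj_zpow h.ext (k := (-1 : ℤ)) (a := b) (b := a) (by
      rw [h.rel, mul_assoc, ← zpow_one_add, add_neg_cancel, zpow_zero, mul_one]) (-u)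
    show a ^ v * b ^ (-u) * g * a = a * (a ^ v * b ^ (-u) * g)
    symm
    calc a * (a ^ v * b ^ (-u) * g) = a ^ v * (a * b ^ (-u)) * g := by
          simp only [← mul_assoc]; rw [(Commute.refl a).zpow_right v |>.eq]
      _ = a ^ v * b ^ (-u) * (a * g * z ^ (-1 * -u)) := by
          rw [hab]
          simp only [mul_assoc]
          rw [(h.ext.zpow_central _ g).eq]
      _ = a ^ v * b ^ (-u) * (g * a) := by
          rw [hu, show -1 * -u = u by ring]
      _ = _ := by simp only [mul_assoc]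
  · have hab := conj_zpow h.ext (k := (1 : ℤ)) (by rw [zpow_one]; exact h.rel) v
    show a ^ v * b ^ (-u) * g * b = b * (a ^ v * b ^ (-u) * g)
    symm
    calc b * (a ^ v * b ^ (-u) * g) = b * a ^ v * b ^ (-u) * g := by simp only [mul_assoc]
      _ = a ^ v * b * (z ^ (1 * v) * (b ^ (-u) * g)) := by rw [hab]; simp only [mul_assoc]
      _ = a ^ v * (b * b ^ (-u)) * (g * z ^ v) := by
          rw [(h.ext.zpow_central _ _).eq, one_mul]; simp only [mul_assoc]
      _ = a ^ v * b ^ (-u) * (b * g * z ^ v) := by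
          rw [((Commute.refl b).zpow_right _).eq]; simp only [mul_assoc]
      _ = _ := by rw [← hv]; simp only [mul_assoc]

theorem Pair.index_cent [Finite E] {a b : E} (h : Pair p a b z) :
    Nat.card (cent a b) * p ^ 2 = Nat.card E := by
  haveI : Fact p.Prime := ⟨h.ext.prime⟩
  let f : (ZMod p × ZMod p) × cent a b → E :=
    fun t => a ^ (t.1.1.val : ℤ) * b ^ (t.1.2.val : ℤ) * z ^ (0 : ℤ) * (t.2 : E)
  have hpow : ∀ (g : E) (i : ℤ), g ^ i = g ^ ((i : ZMod p).val : ℤ) := fun g i => by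
    rw [ZMod.val_intCast]
    exact zpow_eq_zpow_emod' i (h.ext.pow g)
  have hf : Function.Bijective f := by
    constructor
    · rintro ⟨⟨i, j⟩, c⟩ ⟨⟨i', j'⟩, c'⟩ e
      simp only [f] at e
      have e1 : a ^ ((i.val : ℤ) - i'.val) * b ^ ((j.val : ℤ) - j'.val) *
          z ^ (-(j'.val : ℤ) * ((i.val : ℤ) - i'.val)) ∈ cent a b := by
        have := nf_mul h.ext h.rel (i'.val : ℤ) (j'.val : ℤ) 0 ((i.val : ℤ) - i'.val)
          ((j.val : ℤ) - j'.val) (-(j'.val : ℤ) * ((i.val : ℤ) - i'.val))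
        rw [add_sub_cancel, add_sub_cancel, zero_add,
          show -(j'.val : ℤ) * ((i.val : ℤ) - i'.val) + (j'.val : ℤ) * ((i.val : ℤ) - i'.val) = 0 by
            ring] at this
        rw [← this] at e
        have e2 : a ^ ((i.val : ℤ) - i'.val) * b ^ ((j.val : ℤ) - j'.val) *
            z ^ (-(j'.val : ℤ) * ((i.val : ℤ) - i'.val)) = (c' : E) * (c : E)⁻¹ := by
          rw [mul_assoc] at e
          exact eq_mul_inv_of_mul_eq (mul_left_cancel e)
        rw [e2]
        exact mul_mem c'.2 (inv_mem c.2)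
      obtain ⟨hi, hj⟩ := h.parity (mem_cent.1 e1).1 (mem_cent.1 e1).2
      have hcast : ∀ x y : ZMod p, (p : ℤ) ∣ (x.val : ℤ) - y.val → x = y := fun x y hd => by
        rw [← ZMod.intCast_zmod_eq_zero_iff_dvd] at hd
        simpa [sub_eq_zero] using hd
      obtain rfl := hcast _ _ hi
      obtain rfl := hcast _ _ hj
      obtain rfl := Subtype.ext (mul_left_cancel e)
      rfl
    · intro g
      obtain ⟨i, j, hc⟩ := h.cover g
      have e3 : (a ^ i * b ^ j)⁻¹ = a ^ (-i) * b ^ (-j) * z ^ (j * i) := by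
        rw [mul_inv_rev, ← zpow_neg, ← zpow_neg]
        have := nf_mul h.ext h.rel 0 (-j) 0 (-i) 0 0
        simp only [zpow_zero, one_mul, mul_one, zero_add, add_zero] at this
        rw [this, neg_mul_neg]
      have hz : z ∈ cent a b := mem_cent.2 ⟨h.ext.central a, h.ext.central b⟩
      refine ⟨((((-i : ℤ) : ZMod p), ((-j : ℤ) : ZMod p)),
        ⟨z ^ (j * i) * (a ^ i * b ^ j * g), mul_mem (zpow_mem hz _) hc⟩), ?_⟩
      simp only [f, zpow_zero, mul_one]
      rw [← hpow, ← hpow, ← mul_assoc, ← e3, inv_mul_cancel_left]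
  have := Nat.card_congr (Equiv.ofBijective f hf)
  rw [Nat.card_prod, Nat.card_prod, Nat.card_zmod] at this
  rw [← this]; ring

/-- central product gluing -/
theorem Pair.glue [Finite E] [Finite E'] {a b : E} {a' b' : E'} (h : Pair p a b z)
    (h' : Pair p a' b' z') (hE : Nat.card E = Nat.card E') (e : cent a b ≃* cent a' b')
    (hz : ∀ hm : z ∈ cent a b, (e ⟨z, hm⟩ : E') = z') : ∃ F : E ≃* E', F z = z' := by
  set φ := FreeGroup.lift (fun t => cond t a b) with hφ
  set ψ := FreeGroup.lift (fun t => cond t a' b') with hψ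
  set ι' : cent a b →* E' := (cent a' b').subtype.comp e.toMonoidHom with hι'
  have hcomm : ∀ x (c : cent a b), Commute (φ x) ((cent a b).subtype c) := by
    intro x c
    obtain ⟨i, j, k, e1, -⟩ := h.word h' x
    obtain ⟨ca, cb⟩ := mem_cent.1 c.2
    rw [hφ, e1]
    exact ((ca.symm.zpow_left i).mul_left (cb.symm.zpow_left j)).mul_left (h.ext.zpow_central k _)
  have hcomm' : ∀ x c, Commute (ψ x) (ι' c) := by
    intro x c
    obtain ⟨i, j, k, -, e1⟩ := h.word h' x
    obtain ⟨ca, cb⟩ := mem_cent.1 (e c).2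
    rw [hψ, e1]
    exact ((ca.symm.zpow_left i).mul_left (cb.symm.zpow_left j)).mul_left (h'.ext.zpow_central k _)
  set Φ : FreeGroup Bool × cent a b →* E := φ.noncommCoprod (cent a b).subtype hcomm with hΦ
  set Ψ : FreeGroup Bool × cent a b →* E' := ψ.noncommCoprod ι' hcomm' with hΨ
  have hzc : z ∈ cent a b := mem_cent.2 ⟨h.ext.central a, h.ext.central b⟩
  have hsurj : Function.Surjective Φ := fun g => by
    obtain ⟨i, j, hc⟩ := h.cover g
    refine ⟨(((FreeGroup.of true) ^ i * (FreeGroup.of false) ^ j)⁻¹, ⟨_, hc⟩), ?_⟩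
    show φ _ * (a ^ i * b ^ j * g) = g
    simp [hφ, map_inv, map_mul, map_zpow, mul_assoc]
  have hsurj' : Function.Surjective Ψ := fun g => by
    obtain ⟨i, j, hc⟩ := h'.cover g
    refine ⟨(((FreeGroup.of true) ^ i * (FreeGroup.of false) ^ j)⁻¹, e.symm ⟨_, hc⟩), ?_⟩
    show ψ _ * ι' (e.symm ⟨_, hc⟩) = g
    simp [hψ, hι', map_inv, map_mul, map_zpow, mul_assoc]
  have hker : Φ.ker ≤ Ψ.ker := by
    rintro ⟨x, c⟩ hxc
    rw [MonoidHom.mem_ker] at hxc ⊢
    change φ x * (c : E) = 1 at hxc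
    show ψ x * ι' c = 1
    obtain ⟨i, j, k, e1, e1'⟩ := h.word h' x
    rw [hφ, e1] at hxc
    rw [hψ, e1']
    have hnf : a ^ i * b ^ j * z ^ k ∈ cent a b := by
      rw [eq_inv_of_mul_eq_one_left hxc]; exact inv_mem c.2
    obtain ⟨⟨i₀, rfl⟩, ⟨j₀, rfl⟩⟩ := h.parity (mem_cent.1 hnf).1 (mem_cent.1 hnf).2
    have hp : ∀ {F : Type u} [Group F] (g : F), g ^ p = 1 → ∀ t : ℤ, g ^ ((p : ℤ) * t) = 1 :=
      fun g hg t => by rw [zpow_mul, zpow_natCast, hg, one_zpow]
    have hp' : ∀ (g : E') (t : ℤ), g ^ ((p : ℤ) * t) = 1 :=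
      fun g t => by rw [zpow_mul, zpow_natCast, h'.ext.pow g, one_zpow]
    rw [hp a (h.ext.pow a), hp b (h.ext.pow b), one_mul, one_mul] at hxc
    rw [hp', hp', one_mul, one_mul]
    have h1 : (⟨z, hzc⟩ : cent a b) ^ k * c = 1 := Subtype.ext hxc
    have h2 := congrArg ι' h1
    rw [map_mul, map_zpow, map_one] at h2
    have h3 : ι' ⟨z, hzc⟩ = z' := hz hzc
    rwa [h3] at h2
  let f : (FreeGroup Bool × cent a b) ⧸ Φ.ker →* E' := QuotientGroup.lift Φ.ker Ψ hker
  let F : E →* E' := f.comp (QuotientGroup.quotientKerEquivOfSurjective Φ hsurj).symm.toMonoidHom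
  have hF : Function.Surjective F :=
    (QuotientGroup.lift_surjective_of_surjective _ _ hsurj' hker).comp
      (QuotientGroup.quotientKerEquivOfSurjective Φ hsurj).symm.surjective
  refine ⟨MulEquiv.ofBijective F ((Nat.bijective_iff_surjective_and_card F).2 ⟨hF, hE⟩), ?_⟩
  show F z = z'
  have hpre : Φ (1, ⟨z, hzc⟩) = z := by show φ 1 * z = z; rw [map_one, one_mul]
  have h4 : (QuotientGroup.quotientKerEquivOfSurjective Φ hsurj).symm z =
      QuotientGroup.mk (1, ⟨z, hzc⟩) := by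
    rw [MulEquiv.symm_apply_eq]
    exact hpre.symm
  show f ((QuotientGroup.quotientKerEquivOfSurjective Φ hsurj).symm z) = z'
  rw [h4]
  show ψ 1 * ι' ⟨z, hzc⟩ = z'
  rw [map_one, one_mul]
  exact hz hzc

theorem ExtP.exists_pair (h : ExtP p E z) {x y : E} (hxy : ¬ Commute x y) :
    ∃ a b : E, Pair p a b z := by
  haveI : Fact p.Prime := ⟨h.prime⟩
  obtain ⟨k, hk⟩ := h.comm x y
  have hk0 : ((k : ℤ) : ZMod p) ≠ 0 := fun e => hxy (by
    rw [ZMod.intCast_zmod_eq_zero_iff_dvd] at e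
    rw [← h.orderOf_z, orderOf_dvd_iff_zpow_eq_one] at e
    rw [e, mul_one] at hk
    exact hk.symm)
  refine ⟨x ^ (((k : ZMod p)⁻¹).val : ℤ), y, h, ?_⟩
  rw [conj_zpow h hk]
  congr 1
  conv_rhs => rw [← zpow_one z]
  rw [zpow_eq_zpow_iff_modEq, h.orderOf_z]
  rw [← ZMod.intCast_eq_intCast_iff]
  push_cast
  rw [ZMod.natCast_zmod_val, mul_inv_cancel₀ hk0]

theorem ExtP.cent_ext {a b : E} (h : Pair p a b z) (hm : z ∈ cent a b) :
    ExtP p (cent a b) ⟨z, hm⟩ := by
  refine ⟨h.ext.prime, fun e => h.ext.ne (congrArg Subtype.val e),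
    fun g => Subtype.ext (h.ext.pow g), fun g => Subtype.ext (h.ext.central g), fun g hg => ?_,
    fun g k => ?_⟩
  · have hgE : (g : E) ∈ Subgroup.zpowers z := h.ext.center g fun k => by
      obtain ⟨i, j, hc⟩ := h.cover k
      obtain ⟨ga, gb⟩ := mem_cent.1 g.2
      have h1 : Commute (g : E) (a ^ i * b ^ j * k) := congrArg Subtype.val (hg ⟨_, hc⟩).eq
      have h2 := ((ga.zpow_right i).mul_right (gb.zpow_right j)).inv_right.mul_right h1
      rwa [inv_mul_cancel_left] at h2
    obtain ⟨s, hs⟩ := Subgroup.mem_zpowers_iff.1 hgE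
    exact Subgroup.mem_zpowers_iff.2 ⟨s, Subtype.ext (by simpa using hs)⟩
  · obtain ⟨s, hs⟩ := h.ext.comm g k
    exact ⟨s, Subtype.ext (by simpa using hs)⟩

theorem ExtP.card_of_comm [Finite E] (h : ExtP p E z) (hc : ∀ x y : E, Commute x y) :
    Nat.card E = p := by
  have : Subgroup.zpowers z = ⊤ := eq_top_iff.2 fun g _ => h.center g (hc g)
  rw [← Subgroup.card_top, ← this, Nat.card_zpowers, h.orderOf_z]

theorem ExtP.comm_of_card [Finite E] (h : ExtP p E z) (hc : Nat.card E = p) (x y : E) :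
    Commute x y := by
  haveI : Fact p.Prime := ⟨h.prime⟩
  haveI := isCyclic_of_prime_card hc
  exact @mul_comm _ IsCyclic.commGroup.toCommMagma x y

theorem unique : ∀ (n : ℕ) (E : Type u) [Group E] [Finite E] (E' : Type v) [Group E'] [Finite E']
    (z : E) (z' : E'), Nat.card E ≤ n → ExtP p E z → ExtP p E' z' → Nat.card E = Nat.card E' →
    ∃ F : E ≃* E', F z = z' := by
  intro n
  induction n with
  | zero => intro E _ _ E' _ _ z z' hn; exact absurd hn (by have := Nat.card_pos (α := E); omega)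
  | succ n ih =>
    intro E _ _ E' _ _ z z' hn h h' hcard
    by_cases hc : ∀ x y : E, Commute x y
    · have hE := h.card_of_comm hc
      have hgen : ∀ g : E, g ∈ Subgroup.zpowers z := fun g => h.center g (hc g)
      have hgen' : ∀ g : E', g ∈ Subgroup.zpowers z' := fun g =>
        h'.center g (h'.comm_of_card (hcard.symm.trans hE) g)
      have hd : orderOf z' ∣ orderOf z := by rw [h.orderOf_z, h'.orderOf_z]
      refine ⟨MulEquiv.ofBijective (monoidHomOfForallMemZpowers hgen hd)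
        ((Nat.bijective_iff_surjective_and_card _).2 ⟨fun g => ?_, hcard⟩),
        monoidHomOfForallMemZpowers_apply_gen hgen hd⟩
      obtain ⟨s, rfl⟩ := hgen' g
      exact ⟨z ^ s, by simp [monoidHomOfForallMemZpowers_apply_gen]⟩
    push Not at hc
    obtain ⟨x, y, hxy⟩ := hc
    obtain ⟨a, b, hP⟩ := h.exists_pair hxy
    obtain ⟨x', y', hxy'⟩ : ∃ x y : E', ¬ Commute x y := by
      by_contra hno
      push Not at hno
      exact hxy (h.comm_of_card (hcard.trans (h'.card_of_comm hno)) x y)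
    obtain ⟨a', b', hP'⟩ := h'.exists_pair hxy'
    have h1 := hP.index_cent
    have h2 := hP'.index_cent
    have hp2 : 2 ≤ p ^ 2 := le_trans h.prime.two_le (Nat.le_self_pow two_ne_zero p)
    have hlt : Nat.card (cent a b) ≤ n := by
      have := Nat.card_pos (α := cent a b)
      have := Nat.mul_le_mul_left (Nat.card (cent a b)) hp2
      omega
    have hceq : Nat.card (cent a b) = Nat.card (cent a' b') :=
      Nat.eq_of_mul_eq_mul_right (by omega : 0 < p ^ 2) (by rw [h1, h2, hcard])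
    have hm : z ∈ cent a b := mem_cent.2 ⟨h.central a, h.central b⟩
    have hm' : z' ∈ cent a' b' := mem_cent.2 ⟨h'.central a', h'.central b'⟩
    obtain ⟨e, he⟩ := ih (cent a b) (cent a' b') ⟨z, hm⟩ ⟨z', hm'⟩ hlt (ExtP.cent_ext hP hm)
      (ExtP.cent_ext hP' hm') hceq
    exact hP.glue hP' hcard e fun _ => congrArg Subtype.val he

theorem of_extraspecial {E : Type u} [Group E] [Finite E] [hp : Fact p.Prime]
    (hE : Cfsg.IsExtraspecial p E) (he : Monoid.exponent E = p) : ∃ z : E, ExtP p E z := by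
  haveI : Nontrivial (Subgroup.center E) := Finite.one_lt_card_iff_nontrivial.1 (by
    rw [hE.2]; exact hp.out.one_lt)
  obtain ⟨w, hw⟩ := exists_ne (1 : Subgroup.center E)
  have hgen : ∀ g : E, g ∈ Subgroup.center E → g ∈ Subgroup.zpowers (w : E) := fun g hg => by
    obtain ⟨s, hs⟩ := Subgroup.mem_zpowers_iff.1
      (mem_zpowers_of_prime_card (p := p) hE.2 hw (g' := ⟨g, hg⟩))
    exact Subgroup.mem_zpowers_iff.2 ⟨s, by simpa using congrArg Subtype.val hs⟩
  refine ⟨w, hp.out, fun e => hw (Subtype.ext e), fun g => by rw [← he, Monoid.pow_exponent_eq_one],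
    fun g => (Subgroup.mem_center_iff.1 w.2 g).symm, fun g hg =>
      hgen g (Subgroup.mem_center_iff.2 fun k => (hg k).eq.symm), fun g k => ?_⟩
  have hm : ⁅k, g⁆ ∈ Subgroup.center E :=
    hE.1.2.2.le (Subgroup.commutator_mem_commutator (Subgroup.mem_top k) (Subgroup.mem_top g))
  obtain ⟨s, hs⟩ := Subgroup.mem_zpowers_iff.1 (hgen _ hm)
  refine ⟨s, ?_⟩
  rw [hs, Subgroup.mem_center_iff.1 hm (g * k), commutatorElement_def]
  group

end Cfsg.Agent.Fusion.ExtOdd
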