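import Cfsg.Agent.Lib.Fusion.WeakClosedElements

/-!
Thompson factorization by the powers of the centre, at the level of fusion, in a constrained group.
-/

set_option autoImplicit false

open scoped commutatorElement

universe u

namespace Cfsg.Agent.Fusion

open Cfsg Cfsg.Agent.Local.FS

/-- The `p`-th powers of the centre of `T`. -/
def centerPow {L : Type*} [Group L] (p : ℕ) (T : Subgroup L) : Set L :=
  {y | ∃ z ∈ T, (∀ t ∈ T, t * z = z * t) ∧ z ^ p = y}

set_option maxHeartbeats 1000000 in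
/-- **Thompson factorization** for the powers of the centre. -/
theorem fusion_factor_powers {p : ℕ} [Fact p.Prime] : ∀ (n : ℕ) (L : Type u) [Group L] [Finite L] (T : Sylow p L)
    (Kl : Subgroup L → L → Prop), Nat.card L ≤ n →
    Subgroup.centralizer ((pCore p L : Subgroup L) : Set L) ≤ pCore p L →
    (∀ P g h, P ≤ (T : Subgroup L) → cj P g ≤ (T : Subgroup L) → cj P (h * g) ≤ (T : Subgroup L) →
      Kl P g → Kl (cj P g) h → Kl P (h * g)) →
    (∀ P g, P ≤ (T : Subgroup L) → cj P g ≤ (T : Subgroup L) →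
      g ∈ Subgroup.centralizer (centerPow p (T : Subgroup L)) → Kl P g) →
    (∀ P g, P ≤ (T : Subgroup L) → cj P g ≤ (T : Subgroup L) →
      g ∈ Subgroup.normalizer (thompsonSubgroupAOf (T : Subgroup L) : Set L) → Kl P g) →
    ∀ P g, P ≤ (T : Subgroup L) → cj P g ≤ (T : Subgroup L) → Kl P g := by
  intro n
  induction n using Nat.strong_induction_on with
  | _ n ihn =>
  intro L _ _ T Kl hn hc hcomp hbaseC hbaseN
  have hp : p.Prime := Fact.out
  set Q := pCore p L
  set J := thompsonSubgroupAOf (T : Subgroup L)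
  set 𝒜 := maxIn (fun A : Subgroup L => IsMulCommutative A) (T : Subgroup L) with h𝒜
  have hJA : ∀ A ∈ 𝒜, A ≤ J := fun A hA => by
    show A ≤ thompsonSubgroupAOf _
    rw [thompsonA_eq_sSup]; exact le_sSup hA
  have hJe : ∀ H : Subgroup L, inducedFunctor wJA H = thompsonSubgroupAOf H := inducedFunctor_wJA
  have hcf := isConjugacyFunctor_induced (G := L) (isCharPFunctor_wJA (p := p))
  have hTJ : (T : Subgroup L) ≤ Subgroup.normalizer (J : Set L) := by
    show _ ≤ Subgroup.normalizer ((thompsonSubgroupAOf (T : Subgroup L) : Subgroup L) : Set L)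
    rw [← hJe]; exact sylow_le_normalizer_functor hcf T.2
  have hQT : Q ≤ (T : Subgroup L) := pCore_le_sylow T
  set Z := Q ⊓ Subgroup.centralizer (Q : Set L)
  haveI : Z.Normal := Subgroup.normal_inf_normal Q (Subgroup.centralizer (Q : Set L))
  set ZT : Set L := {z | z ∈ (T : Subgroup L) ∧ ∀ t ∈ (T : Subgroup L), t * z = z * t}
  have hzZ : ZT ⊆ Z := fun z hz => by
    have h1 : z ∈ Subgroup.centralizer (Q : Set L) := Subgroup.mem_centralizer_iff.2 fun q hq => hz.2 q (hQT hq)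
    exact ⟨hc h1, h1⟩
  set V := Subgroup.normalClosure ZT with hVdef
  have hVZ : V ≤ Z := Subgroup.normalClosure_le_normal hzZ
  have hVT : V ≤ (T : Subgroup L) := fun v hv => hQT (hVZ hv).1
  have hVp : IsPGroup p V := T.2.to_le hVT
  have hVab : ∀ a ∈ V, ∀ b ∈ V, a * b = b * a := fun a ha b hb =>
    Subgroup.mem_centralizer_iff.1 (hVZ hb).2 a (hVZ ha).1
  have hzV : ∀ z ∈ ZT, z ∈ V := fun z hz => Subgroup.subset_normalClosure hz
  set C₀ := Subgroup.centralizer (V : Set L)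
  have hQC₀ : Q ≤ C₀ := fun q hq => Subgroup.mem_centralizer_iff.2 fun v hv =>
    (Subgroup.mem_centralizer_iff.1 (hVZ hv).2 q hq).symm
  have hVC₀ : V ≤ C₀ := fun v hv => Subgroup.mem_centralizer_iff.2 fun w hw => hVab w hw v hv
  set π := QuotientGroup.mk' C₀
  have hπs : Function.Surjective π := QuotientGroup.mk'_surjective C₀
  have hmem : ∀ {l : L}, π l = 1 ↔ l ∈ C₀ := fun {l} => QuotientGroup.eq_one_iff l
  have hfac : ∀ (C D : Subgroup L) [C.Normal], C ≤ Subgroup.centralizer (centerPow p (T : Subgroup L)) →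
      D = (T : Subgroup L) ⊓ C →
      (∀ P g, P ≤ (T : Subgroup L) → cj P g ≤ (T : Subgroup L) → g ∈ Subgroup.normalizer (D : Set L) → Kl P g) →
      ∀ P g, P ≤ (T : Subgroup L) → cj P g ≤ (T : Subgroup L) → Kl P g := by
    intro C D hCn hCX hD hN P g hP hPg
    have hsyl : SylIn p D C :=
      hD ▸ (sylIn_top T).inf_normal le_top (by rw [Subgroup.normalizer_eq_top])
    have hDn : (T : Subgroup L) ≤ Subgroup.normalizer (D : Set L) := fun t ht =>
      mem_normalizer_of_cj_le (hD ▸ le_inf ((cj_mono inf_le_left t).trans (cj_eq_self_of_mem ht).le)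
        ((cj_mono inf_le_right t).trans (cj_of_normal C t).le))
    obtain ⟨c, hcC, hcg⟩ := frattini_conj hsyl (H := ⊤) (by rw [Subgroup.normalizer_eq_top]) (Subgroup.mem_top g)
    set M := (C ⊔ (T : Subgroup L)) ⊓ Subgroup.normalizer (D : Set L)
    have hP' : cj P (c * g) ≤ M := by
      refine le_inf ?_ ((cj_mono (hP.trans hDn) _).trans (cj_eq_self (Subgroup.le_normalizer hcg)).le)
      rw [← cj_cj]
      exact (cj_mono (hPg.trans le_sup_right) c).trans (cj_eq_self_of_mem (Subgroup.mem_sup_left hcC)).le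
    have hTM : SylIn p (T : Subgroup L) M := (sylIn_top T).mono (le_inf le_sup_right hDn) le_top
    obtain ⟨x, hx, hxT⟩ := hTM.conj_le (isPGroup_cj (T.2.to_le hP) (c * g)) hP'
    obtain ⟨t, ht, c', hc', rfl⟩ := Subgroup.mem_sup_of_normal_right.1 ((sup_comm C _).le hx.1)
    have hc'D : c' ∈ Subgroup.normalizer (D : Set L) := by
      have := (Subgroup.normalizer (D : Set L)).mul_mem (inv_mem (hDn ht)) hx.2
      rwa [inv_mul_cancel_left] at this
    have hc'T : cj P (c' * (c * g)) ≤ (T : Subgroup L) := by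
      rw [cj_cj] at hxT
      rw [show c' * (c * g) = t⁻¹ * (t * c' * (c * g)) by group, ← cj_cj]
      exact (cj_mono hxT t⁻¹).trans (cj_eq_self_of_mem (inv_mem ht)).le
    rw [show g = (c' * c)⁻¹ * (c' * (c * g)) by group] at hPg ⊢
    exact hcomp P _ _ hP hc'T hPg (hN P _ hP hc'T (Subgroup.mul_mem _ hc'D hcg))
      (hbaseC _ _ hc'T (by rw [cj_cj]; exact hPg) (hCX (C.inv_mem (C.mul_mem hc' hcC))))
  have hC₀X : C₀ ≤ Subgroup.centralizer (centerPow p (T : Subgroup L)) := fun c hc' =>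
    Subgroup.mem_centralizer_iff.2 fun y ⟨z, hz, hzc, hy⟩ =>
      hy ▸ ((show Commute z c from Subgroup.mem_centralizer_iff.1 hc' z (hzV z ⟨hz, hzc⟩)).pow_left p).eq
  by_cases hall : ∀ A ∈ 𝒜, A ≤ C₀
  · refine hfac C₀ _ hC₀X rfl fun P g hP hPg hg => hbaseN P g hP hPg ?_
    have hJC : thompsonSubgroupAOf (T : Subgroup L) ≤ (T : Subgroup L) ⊓ C₀ := by
      rw [thompsonA_eq_sSup]
      exact sSup_le fun A hA => le_inf hA.1 (hall A hA)
    have h2 := conjFunctor_normalizer_le hcf (T.2.to_le inf_le_left) hg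
    rwa [hJe, thompsonSubgroupAOf_eq_of_le inf_le_left hJC] at h2
  push Not at hall
  -- minimal members
  obtain ⟨A₁, ⟨hA₁, hA₁C⟩, hmin⟩ := Set.exists_min_image {A : Subgroup L | A ∈ 𝒜 ∧ ¬ A ≤ C₀}
    (fun A => Nat.card (A.map π)) (Set.toFinite _) hall
  set k₀ := Nat.card (A₁.map π)
  set 𝒬 := {A : Subgroup L | A ∈ 𝒜 ∧ ¬ A ≤ C₀ ∧ Nat.card (A.map π) = k₀ ∧ V ≤ Subgroup.normalizer (A : Set L)}
  have hVn : (T : Subgroup L) ≤ Subgroup.normalizer (V : Set L) := by
    rw [Subgroup.normalizer_eq_top]; exact le_top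
  have h𝒬ne : 𝒬.Nonempty := by
    obtain ⟨A, ⟨hA, hAC, hAk⟩, hmax⟩ := Set.exists_max_image
      {A : Subgroup L | A ∈ 𝒜 ∧ ¬ A ≤ C₀ ∧ Nat.card (A.map π) = k₀}
      (fun A => Nat.card (A ⊓ V : Subgroup L)) (Set.toFinite _) ⟨A₁, hA₁, hA₁C, rfl⟩
    refine ⟨A, hA, hAC, hAk, ?_⟩
    by_contra hnot
    obtain ⟨R, hRT, hRc, hR, hlt, hltV, b, hb, hle⟩ :=
      exists_replacement_abelian T.2 hVT hVn hVab hA.1 hA.2.1 hnot
    have hR𝒜 : R ∈ 𝒜 := ⟨hRT, hR, fun B hB hB' => hRc ▸ hA.2.2 B hB hB'⟩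
    have hRC : ¬ R ≤ C₀ := fun h => by
      have h1 : IsMulCommutative (R ⊔ V : Subgroup L) := comm_sup
        (fun a ha b hb => congrArg Subtype.val (hR.1.1 ⟨a, ha⟩ ⟨b, hb⟩)) hVab
        fun a ha v hv => (Subgroup.mem_centralizer_iff.1 (h ha) v hv).symm
      have h2 := hR𝒜.2.2 (R ⊔ V) (sup_le hRT hVT) h1
      have h3 : R = R ⊔ V := Subgroup.eq_of_le_of_card_ge le_sup_left h2
      exact hltV.ne (inf_eq_right.2 (le_sup_right.trans h3.ge))
    have hbπ : π b = 1 := hmem.2 (hVC₀ hb)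
    have hRπ : R.map π ≤ A.map π := (Subgroup.map_mono hle).trans (by
      rw [Subgroup.map_sup]
      refine sup_le le_rfl ?_
      rintro _ ⟨_, ⟨a, ha, rfl⟩, rfl⟩
      refine ⟨a, ha, ?_⟩
      show π a = π (b * a * b⁻¹)
      rw [map_mul, map_mul, map_inv, hbπ, one_mul, inv_one, mul_one])
    exact absurd (hmax R ⟨hR𝒜, hRC, le_antisymm (hAk ▸ Subgroup.card_le_of_le hRπ) (hmin R ⟨hR𝒜, hRC⟩)⟩)
      (not_le.2 (replacement_property.card_lt_card_of_lt hlt))
  have hquad : ∀ A ∈ 𝒬, ∀ a ∈ A, ∀ w ∈ V, a * (a * w * a⁻¹ * w⁻¹) = a * w * a⁻¹ * w⁻¹ * a := by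
    intro A hA a ha w hw
    have h1 : a * w * a⁻¹ * w⁻¹ ∈ A := by
      rw [show a * w * a⁻¹ * w⁻¹ = a * (w * a⁻¹ * w⁻¹) by group]
      exact A.mul_mem ha ((Subgroup.mem_normalizer_iff.1 (hA.2.2.2 hw) _).1 (A.inv_mem ha))
    exact congrArg Subtype.val (hA.1.2.1.1.1 ⟨a, ha⟩ ⟨_, h1⟩)
  set K := sSup 𝒬
  have hKT : K ≤ (T : Subgroup L) := sSup_le fun A hA => hA.1.1
  have hKweak : ∀ g : L, cj K g ≤ (T : Subgroup L) → cj K g = K := by
    intro g hg
    refine Subgroup.eq_of_le_of_card_ge ?_ (card_cj K g).ge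
    rw [cj_le_iff]
    refine sSup_le fun A hA => cj_le_iff.1 (le_sSup ?_)
    have hAg : cj A g ≤ (T : Subgroup L) := (cj_mono (le_sSup hA) g).trans hg
    have hAgp : IsMulCommutative (cj A g) := isMulCommutative_map _ hA.1.2.1
    refine ⟨⟨hAg, hAgp, fun B hB hB' => card_cj A g ▸ hA.1.2.2 B hB hB'⟩, fun h => hA.2.1 ?_, ?_, ?_⟩
    · exact (cj_le_iff.1 h).trans (cj_of_normal C₀ _).le
    · rw [← hA.2.2.1]
      have e : (cj A g).map π = cj (A.map π) (π g) := by
        show (A.map (MulAut.conj g).toMonoidHom).map π = (A.map π).map (MulAut.conj (π g)).toMonoidHom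
        rw [Subgroup.map_map, Subgroup.map_map]
        congr 1
      rw [e, card_cj]
    · rw [← cj_normalizer, ← cj_of_normal V g]
      exact cj_mono hA.2.2.2 g
  have hTH : (T : Subgroup L) ≤ Subgroup.normalizer (K : Set L) := fun t ht =>
    mem_normalizer_iff_cj.2 (hKweak t ((cj_mono hKT t).trans (cj_eq_self (Subgroup.le_normalizer ht)).le))
  -- the core of the image is trivial
  have hcore : pCore p (L ⧸ C₀) = ⊥ := by
    set K₁ := (pCore p (L ⧸ C₀)).comap π
    obtain ⟨T', hT'⟩ := (sylIn_map_mk (N := C₀) (sylIn_top T)).exists_sylow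
    have hle : ∀ l ∈ K₁, ∀ z ∈ ZT, l * z = z * l := fun l hl z hz => by
      obtain ⟨t, ht, he⟩ : π l ∈ (T : Subgroup L).map π := hT' ▸ pCore_le_sylow T' hl
      have hk : t⁻¹ * l ∈ C₀ := QuotientGroup.eq.1 he
      have h3 : Commute (t * (t⁻¹ * l)) z := (show Commute t z from hz.2 t ht).mul_left
        (Subgroup.mem_centralizer_iff.1 hk z (hzV z hz)).symm
      rw [mul_inv_cancel_left] at h3
      exact h3.eq
    have h2 : K₁ ≤ C₀ := by
      rw [Subgroup.le_centralizer_iff]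
      exact Subgroup.normalClosure_le_normal fun z hz => Subgroup.mem_centralizer_iff.2 fun l hl => hle l hl z hz
    rw [eq_bot_iff]
    intro y hy
    obtain ⟨l, rfl⟩ := hπs y
    exact Subgroup.mem_bot.2 (hmem.2 (h2 hy))
  -- the elements of order `p`
  set E : Subgroup L :=
    { carrier := {v | v ∈ V ∧ v ^ p = 1}
      one_mem' := ⟨one_mem _, one_pow _⟩
      mul_mem' := fun {a b} ha hb => ⟨mul_mem ha.1 hb.1, by
        rw [(show Commute a b from hVab a ha.1 b hb.1).mul_pow, ha.2, hb.2, one_mul]⟩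
      inv_mem' := fun {a} ha => ⟨inv_mem ha.1, by rw [inv_pow, ha.2, inv_one]⟩ } with hEdef
  haveI hEn : E.Normal := ⟨fun v hv g => ⟨(inferInstance : V.Normal).conj_mem v hv.1 g, by
    rw [conj_pow, hv.2, mul_one, mul_inv_cancel]⟩⟩
  have hEC : Subgroup.centralizer (E : Set L) ≤ C₀ := by
    haveI : (Subgroup.centralizer (E : Set L)).Normal := Subgroup.normal_centralizer (H := E)
    haveI : ((Subgroup.centralizer (E : Set L)).map π).Normal := Subgroup.Normal.map inferInstance _ hπs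
    have hp' : IsPGroup p ((Subgroup.centralizer (E : Set L)).map π) := by
      rintro ⟨_, l, hl, rfl⟩
      obtain ⟨i, j, hj, hij⟩ := Nat.exists_eq_pow_mul_and_not_dvd (orderOf_pos l).ne' p hp.ne_one
      refine ⟨i, Subtype.ext ?_⟩
      show π l ^ p ^ i = 1
      rw [← map_pow]
      refine hmem.2 (Subgroup.mem_centralizer_iff.2 fun v hv => ?_)
      refine (commute_of_coprime_fixed_omega hVp hVab (y := l ^ p ^ i) (by rw [Subgroup.normalizer_eq_top]; trivial)
        hj (fun w _ => by rw [← pow_mul, ← hij, pow_orderOf_eq_one, one_mul, mul_one]) (fun w hw hwp => ?_) v hv).symm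
      exact (Subgroup.mem_centralizer_iff.1 (Subgroup.pow_mem _ hl _) w ⟨hw, hwp⟩).symm
    intro l hl
    have h1 := le_pCore (p := p) hp' (Subgroup.mem_map_of_mem π hl)
    rw [hcore, Subgroup.mem_bot] at h1
    exact hmem.1 h1
  have hapow : ∀ A ∈ 𝒬, ∀ a ∈ A, a ^ p ∈ C₀ := by
    intro A hA a ha
    refine hEC (Subgroup.mem_centralizer_iff.2 fun v hv => ?_)
    set d := a * v * a⁻¹ * v⁻¹ with hd
    have hdc : Commute a d := hquad A hA a ha v hv.1
    have hdE : d ∈ E := E.mul_mem (hEn.conj_mem v hv a) (E.inv_mem hv)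
    have hiter : ∀ i : ℕ, a ^ i * v * (a ^ i)⁻¹ = d ^ i * v := by
      intro i
      induction i with
      | zero => simp
      | succ i hi =>
        calc a ^ (i + 1) * v * (a ^ (i + 1))⁻¹ = a * (a ^ i * v * (a ^ i)⁻¹) * a⁻¹ := by rw [pow_succ']; group
          _ = a * d ^ i * v * a⁻¹ := by rw [hi]; group
          _ = d ^ i * (a * v * a⁻¹ * v⁻¹) * v := by rw [(hdc.pow_right i).eq]; group
          _ = d ^ (i + 1) * v := by rw [← hd, pow_succ]
    have h1 := hiter p
    rw [hdE.2, one_mul, mul_inv_eq_iff_eq_mul] at h1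
    exact h1.symm
  -- the members centralize the powers
  haveI hC'n : (Subgroup.centralizer {y | ∃ v ∈ V, v ^ p = y}).Normal := ⟨fun c hc' g =>
    Subgroup.mem_centralizer_iff.2 fun y ⟨v, hv, hy⟩ => by
      have h1 := Subgroup.mem_centralizer_iff.1 hc' _
        ⟨g⁻¹ * v * g, by simpa using (inferInstance : V.Normal).conj_mem v hv g⁻¹, rfl⟩
      rw [← hy, show v ^ p = g * (g⁻¹ * v * g) ^ p * g⁻¹ by rw [← conj_pow]; congr 1; group]
      calc g * (g⁻¹ * v * g) ^ p * g⁻¹ * (g * c * g⁻¹) = g * ((g⁻¹ * v * g) ^ p * c) * g⁻¹ := by group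
        _ = g * (c * (g⁻¹ * v * g) ^ p) * g⁻¹ := by rw [h1]
        _ = g * c * g⁻¹ * (g * (g⁻¹ * v * g) ^ p * g⁻¹) := by group⟩
  set C' := Subgroup.centralizer {y | ∃ v ∈ V, v ^ p = y}
  have hKC' : K ≤ C' := sSup_le fun A hA a ha => Subgroup.mem_centralizer_iff.2 fun y ⟨v, hv, hy⟩ => by
    set d := a * v * a⁻¹ * v⁻¹ with hd
    have hdc : Commute a d := hquad A hA a ha v hv
    have hdV : d ∈ V := V.mul_mem ((inferInstance : V.Normal).conj_mem v hv a) (V.inv_mem hv)
    have hiter : ∀ i : ℕ, a ^ i * v * (a ^ i)⁻¹ = d ^ i * v := by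
      intro i
      induction i with
      | zero => simp
      | succ i hi =>
        calc a ^ (i + 1) * v * (a ^ (i + 1))⁻¹ = a * (a ^ i * v * (a ^ i)⁻¹) * a⁻¹ := by rw [pow_succ']; group
          _ = a * d ^ i * v * a⁻¹ := by rw [hi]; group
          _ = d ^ i * (a * v * a⁻¹ * v⁻¹) * v := by rw [(hdc.pow_right i).eq]; group
          _ = d ^ (i + 1) * v := by rw [← hd, pow_succ]
    have h1 := hiter p
    rw [← Subgroup.mem_centralizer_iff.1 (hapow A hA a ha) v hv, mul_inv_cancel_right] at h1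
    have h2 : d ^ p = 1 := right_eq_mul.1 h1
    have h3 : a * v * a⁻¹ = d * v := by rw [hd]; group
    have h4 : a * v ^ p * a⁻¹ = v ^ p := by
      rw [← conj_pow, h3, (show Commute d v from hVab d hdV v hv).mul_pow, h2, one_mul]
    rw [← hy]
    exact (mul_inv_eq_iff_eq_mul.1 h4).symm
  have hC'X : C' ≤ Subgroup.centralizer (centerPow p (T : Subgroup L)) := fun c hc' =>
    Subgroup.mem_centralizer_iff.2 fun y ⟨z, hz, hzc, hy⟩ =>
      Subgroup.mem_centralizer_iff.1 hc' y ⟨z, hzV z ⟨hz, hzc⟩, hy⟩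
  refine hfac C' _ hC'X rfl fun P g hP hPg hg => ?_
  have hgK : g ∈ Subgroup.normalizer (K : Set L) := mem_normalizer_iff_cj.2
    (hKweak g ((cj_mono (le_inf hKT hKC') g).trans ((cj_eq_self hg).le.trans inf_le_left)))
  set H := Subgroup.normalizer (K : Set L)
  have hHtop : H ≠ ⊤ := fun h => by
    haveI := Subgroup.normalizer_eq_top_iff.1 h
    obtain ⟨A, hA⟩ := h𝒬ne
    exact hA.2.1 ((le_sSup hA).trans ((le_pCore (T.2.to_le hKT)).trans hQC₀))
  have hlt : Nat.card H < n := lt_of_lt_of_le (lt_of_le_of_ne (Subgroup.card_le_card_group H)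
    fun h => hHtop (Subgroup.eq_top_of_card_eq H h)) hn
  have hpc : Q.subgroupOf H ≤ pCore p H := le_pCore ((isPGroup_pCore p L).comap_subtype)
  have hQH : Q ≤ H := hQT.trans hTH
  have hmap : ((T.subtype hTH : Subgroup H)).map H.subtype = (T : Subgroup L) := by
    rw [Sylow.coe_subtype, Subgroup.map_subgroupOf_eq_of_le hTH]
  have hcjm : ∀ (P : Subgroup H) (g : H), (cj P g).map H.subtype = cj (P.map H.subtype) (g : L) := fun P g => by
    show (P.map _).map _ = (P.map _).map _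
    simp only [Subgroup.map_map]; rfl
  have hmle : ∀ P : Subgroup H, P ≤ (T.subtype hTH : Subgroup H) → P.map H.subtype ≤ (T : Subgroup L) :=
    fun P hP => (Subgroup.map_mono hP).trans hmap.le
  have h := ihn _ hlt H (T.subtype hTH) (fun P g => Kl (P.map H.subtype) (g : L)) le_rfl
    (fun y hy => hpc (Subgroup.mem_subgroupOf.2 (hc (Subgroup.mem_centralizer_iff.2 fun q hq => by
      exact congrArg Subtype.val (Subgroup.mem_centralizer_iff.1 hy ⟨q, hQH hq⟩ (hpc (Subgroup.mem_subgroupOf.2 hq)))))))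
    (fun P a b hP ha hb h1 h2 => by
      rw [Subgroup.coe_mul]
      exact hcomp _ _ _ (hmle P hP) (hcjm P a ▸ hmle _ ha) (by rw [← Subgroup.coe_mul, ← hcjm]; exact hmle _ hb)
        h1 (hcjm P a ▸ h2))
    (fun P a hP ha haC => hbaseC _ _ (hmle P hP) (hcjm P a ▸ hmle _ ha) (Subgroup.mem_centralizer_iff.2
      fun y ⟨z, hz, hzc, hy⟩ => by
        have := Subgroup.mem_centralizer_iff.1 haC (⟨z, hTH hz⟩ ^ p : H)
          ⟨⟨z, hTH hz⟩, hz, fun t ht => Subtype.ext (hzc t ht), rfl⟩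
        rw [← hy]
        exact congrArg Subtype.val this))
    (fun P a hP ha haN => hbaseN _ _ (hmle P hP) (hcjm P a ▸ hmle _ ha) (by
      have h1 := Subgroup.le_normalizer_map H.subtype ⟨a, haN, rfl⟩
      rwa [← inducedFunctor_wJA, ← inducedFunctor_map_of_injOn (isCharPFunctor_wJA (p := p)) H.subtype
        H.subtype_injective.injOn (T.subtype hTH).2, hmap, hJe] at h1))
    (P.subgroupOf H) ⟨g, hgK⟩ (fun y hy => hP hy) ?_
  · rwa [Subgroup.map_subgroupOf_eq_of_le (hP.trans hTH)] at h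
  · rintro _ ⟨y, hy, rfl⟩
    exact hPg ⟨(y : L), hy, rfl⟩

end Cfsg.Agent.Fusion
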