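import Cfsg.Agent.Lib.Perm.FixFour.Frame

/-!
Parity of the conjugates of an involution in a Sylow two-subgroup, weighted by a character of order two.
-/

set_option autoImplicit false
set_option linter.unusedSectionVars false
set_option linter.style.haveILetI false

namespace Cfsg.Agent.Fusion.FixedPointParity

open Cfsg.Agent.Perm.FixFour (val val_mk smul_coset_iff transfer_formula)

variable {G : Type*} [Group G] [Finite G]

theorem two_cases : ∀ a : Multiplicative (ZMod 2), a = 1 ∨ a = Multiplicative.ofAdd 1 := by decide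

/-- The two counts of the conjugators carrying an involution to a marked element. -/
theorem count (S : Sylow 2 G) (χ : ↥(S : Subgroup G) →* Multiplicative (ZMod 2)) (x : G) :
    Nat.card ↥(Subgroup.centralizer ({x} : Set G)) *
        Nat.card {y : ↥(S : Subgroup G) // IsConj x (y : G) ∧ χ y ≠ 1} =
      Nat.card ↥(S : Subgroup G) * Nat.card {q : G ⧸ (S : Subgroup G) // val χ x q ≠ 1} := by
  classical
  have hmem : ∀ g : G, val χ x (g : G ⧸ (S : Subgroup G)) ≠ 1 ↔
      ∃ h : g⁻¹ * x * g ∈ (S : Subgroup G), χ ⟨_, h⟩ ≠ 1 := fun g => by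
    constructor
    · intro hg
      by_cases h : g⁻¹ * x * g ∈ (S : Subgroup G)
      · exact ⟨h, by rwa [val_mk χ x g h] at hg⟩
      · refine absurd (dif_neg fun hm => h ?_) hg
        exact smul_coset_iff.1 (by
          conv_rhs => rw [← QuotientGroup.out_eq' (g : G ⧸ (S : Subgroup G))]
          conv_lhs => rw [← QuotientGroup.out_eq' (g : G ⧸ (S : Subgroup G))]
          exact smul_coset_iff.2 hm)
    · rintro ⟨h, hg⟩
      rwa [val_mk χ x g h]
  refine ((Nat.card_prod _ _).symm.trans ?_).trans (Nat.card_prod _ _)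
  have hrep : ∀ y : {y : ↥(S : Subgroup G) // IsConj x (y : G) ∧ χ y ≠ 1}, ∃ g : G, g⁻¹ * x * g = (y.1 : G) :=
    fun y => by
      obtain ⟨g, hg⟩ := isConj_iff.1 y.2.1
      exact ⟨g⁻¹, by rw [inv_inv, hg]⟩
  choose rep hrep using hrep
  refine Nat.card_congr (Equiv.trans (Equiv.ofBijective
    (fun p : ↥(Subgroup.centralizer ({x} : Set G)) × {y : ↥(S : Subgroup G) // IsConj x (y : G) ∧ χ y ≠ 1} =>
      (⟨((p.1 : G) * rep p.2 : G), ?_⟩ : ↥(QuotientGroup.mk (s := (S : Subgroup G)) ⁻¹'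
        {q | val χ x q ≠ 1}))) ⟨?_, ?_⟩) (QuotientGroup.preimageMkEquivSubgroupProdSet _ _))
  · obtain ⟨⟨c, hc⟩, y⟩ := p
    have e : (c * rep y)⁻¹ * x * (c * rep y) = (y.1 : G) := by
      rw [← hrep y, mul_inv_rev, show (rep y)⁻¹ * c⁻¹ * x * (c * rep y) = (rep y)⁻¹ * (c⁻¹ * (x * c)) * rep y by group,
        ← Subgroup.mem_centralizer_singleton_iff.1 hc, inv_mul_cancel_left]
    refine (hmem (c * rep y)).2 ⟨e ▸ y.1.2, ?_⟩
    rw [show (⟨_, e ▸ y.1.2⟩ : ↥(S : Subgroup G)) = y.1 from Subtype.ext e]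
    exact y.2.2
  · rintro ⟨c, y⟩ ⟨c', y'⟩ h
    have h' : (c : G) * rep y = c' * rep y' := congrArg Subtype.val h
    have e : ∀ (d : ↥(Subgroup.centralizer ({x} : Set G))) (z : _), ((d : G) * rep z)⁻¹ * x * (d * rep z) = (z.1 : G) :=
      fun d z => by
        rw [← hrep z, mul_inv_rev,
          show (rep z)⁻¹ * (d : G)⁻¹ * x * (d * rep z) = (rep z)⁻¹ * ((d : G)⁻¹ * (x * d)) * rep z by group,
          ← Subgroup.mem_centralizer_singleton_iff.1 d.2, inv_mul_cancel_left]
    have hy : y = y' := Subtype.ext (Subtype.ext ((e c y).symm.trans (h'.symm ▸ e c' y')))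
    subst hy
    exact Prod.ext (Subtype.ext (mul_right_cancel h')) rfl
  · rintro ⟨g, hg⟩
    obtain ⟨h, hg'⟩ := (hmem g).1 hg
    set y : {y : ↥(S : Subgroup G) // IsConj x (y : G) ∧ χ y ≠ 1} :=
      ⟨⟨_, h⟩, isConj_iff.2 ⟨g⁻¹, by rw [inv_inv]⟩, hg'⟩ with hy
    have e := hrep y
    refine ⟨(⟨g * (rep y)⁻¹, ?_⟩, y), Subtype.ext (inv_mul_cancel_right _ _)⟩
    rw [Subgroup.mem_centralizer_singleton_iff]
    calc g * (rep y)⁻¹ * x = g * ((rep y)⁻¹ * x * rep y) * (rep y)⁻¹ := by group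
      _ = g * (g⁻¹ * x * g) * (rep y)⁻¹ := by rw [e]
      _ = x * (g * (rep y)⁻¹) := by group

/-- In a perfect group the marked count is even. -/
theorem even_count (hperf : commutator G = ⊤) (S : Sylow 2 G)
    (χ : ↥(S : Subgroup G) →* Multiplicative (ZMod 2)) {x : G} (hx : orderOf x = 2) :
    Even (Nat.card {q : G ⧸ (S : Subgroup G) // val χ x q ≠ 1}) := by
  classical
  haveI : Fact (Nat.Prime 2) := ⟨Nat.prime_two⟩
  letI := Fintype.ofFinite (G ⧸ (S : Subgroup G))
  have h := transfer_formula (P := S) χ hx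
  rw [MonoidHom.mem_ker.1 (Abelianization.commutator_subset_ker _ (hperf ▸ Subgroup.mem_top x)),
    ← Finset.prod_filter_ne_one, Finset.prod_congr rfl (g := fun _ => Multiplicative.ofAdd (1 : ZMod 2))
      (fun q hq => (two_cases _).resolve_left (Finset.mem_filter.1 hq).2), Finset.prod_const, ← ofAdd_nsmul,
    eq_comm, ofAdd_eq_one, nsmul_one, ZMod.natCast_eq_zero_iff] at h
  rw [Nat.card_eq_fintype_card, Fintype.card_subtype, even_iff_two_dvd]
  exact h

/-- Some conjugate of an involution lies in the kernel of a character of order two of a Sylow subgroup. -/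
theorem exists_conj_ker (hperf : commutator G = ⊤) (S : Sylow 2 G)
    (χ : ↥(S : Subgroup G) →* Multiplicative (ZMod 2)) {x : G} (hx : orderOf x = 2) :
    ∃ y : ↥(S : Subgroup G), IsConj x (y : G) ∧ χ y = 1 := by
  classical
  haveI : Fact (Nat.Prime 2) := ⟨Nat.prime_two⟩
  by_contra hno
  push Not at hno
  letI := Fintype.ofFinite (G ⧸ (S : Subgroup G))
  have hz : IsPGroup 2 ↥(Subgroup.zpowers x) := IsPGroup.of_card (n := 1) (by rw [Nat.card_zpowers, hx, pow_one])
  have h1 := hz.card_modEq_card_fixedPoints (G ⧸ (S : Subgroup G))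
  have h2 : MulAction.fixedPoints ↥(Subgroup.zpowers x) (G ⧸ (S : Subgroup G)) = {q | val χ x q ≠ 1} := by
    ext q
    obtain ⟨g, rfl⟩ := QuotientGroup.mk_surjective q
    simp only [MulAction.mem_fixedPoints, Set.mem_setOf_eq]
    constructor
    · intro h
      have hg := smul_coset_iff.1 (h ⟨x, Subgroup.mem_zpowers x⟩)
      rw [val_mk χ x g hg]
      exact hno ⟨_, hg⟩ (isConj_iff.2 ⟨g⁻¹, by rw [inv_inv]; rfl⟩)
    · intro h
      have hg : g⁻¹ * x * g ∈ (S : Subgroup G) := by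
        by_contra hg
        refine h (dif_neg fun hm => hg (smul_coset_iff.1 ?_))
        conv_rhs => rw [← QuotientGroup.out_eq' (g : G ⧸ (S : Subgroup G))]
        conv_lhs => rw [← QuotientGroup.out_eq' (g : G ⧸ (S : Subgroup G))]
        exact smul_coset_iff.2 hm
      rintro ⟨_, k, rfl⟩
      exact MulAction.mem_stabilizer_iff.1 (zpow_mem (MulAction.mem_stabilizer_iff.2 (smul_coset_iff.2 hg)) k)
  have h3 := even_count hperf S χ hx
  rw [h2] at h1
  have h4 : ¬ 2 ∣ Nat.card (G ⧸ (S : Subgroup G)) := S.not_dvd_index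
  exact h4 (Nat.ModEq.dvd_iff h1 dvd_rfl |>.2 h3.two_dvd)

end Cfsg.Agent.Fusion.FixedPointParity
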