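import Cfsg.Agent.Lib.Fusion.FunctorPairTransfer

/-!
# Strong fusion controlled by a pair of functors
-/

set_option autoImplicit false

open Cfsg
open scoped Pointwise

namespace Cfsg.Agent.Fusion

variable {G : Type*} [Group G] [Finite G] {p : ℕ} [hp : Fact p.Prime] {S : Subgroup G}

/-- Fusion by well-placed subgroups containing `Z(S)` and by centralizers. -/
theorem chain_wellPlaced_center (hS : SylIn p S ⊤) {W : Subgroup G → Subgroup G}
    (hW : IsConjugacyFunctor p W) {A : Set G} {g : G} (hA : A ⊆ S) (hAg : rcj g A ⊆ S) :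
    Chain (fun T y => (IsWellPlaced p W S T ∧ S ⊓ Subgroup.centralizer (S : Set G) ≤ T ∧
      y ∈ Subgroup.normalizer (T : Set G)) ∨ y ∈ Subgroup.centralizer (T : Set G)) A g := by
  refine chain_of_local hS (fun T y h => ?_) (fun X hX => ?_) hA hAg
  · rcases h with ⟨h1, h2, h3⟩ | h3
    · exact ⟨h3, Or.inl ⟨h1, h2, inv_mem h3⟩⟩
    · exact ⟨Subgroup.centralizer_le_normalizer _ h3, Or.inr (inv_mem h3)⟩
  obtain ⟨e, hwp, heS, hsyl⟩ := exists_wellPlaced_top hS hW X hX
  refine ⟨cj X e, e, rfl, heS, hsyl, fun y hy bigger => ?_⟩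
  rcases good_or_factor hS heS hsyl with h | ⟨-, h⟩
  · refine Chain.single (Or.inl ⟨hwp, ?_, hy⟩) subset_rfl
    set N := Subgroup.normalizer (cj X e : Set G)
    set O := (pPrimeCore p ↥N).map N.subtype
    set M := (pPrimePCore p ↥N).map N.subtype
    set Z := S ⊓ Subgroup.centralizer (S : Set G)
    have hZc : Z ≤ Subgroup.centralizer (cj X e : Set G) :=
      inf_le_right.trans (Subgroup.centralizer_le (SetLike.coe_subset_coe.2 heS))
    have hOp : (Nat.card O).Coprime p := by
      rw [Subgroup.card_map_of_injective N.subtype_injective]; exact card_pPrimeCore_coprime p N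
    obtain ⟨-, hUM, hcomm, hdisj, hMeq⟩ := h.2.2.2
    set P := (S ⊓ N) ⊓ M
    have hPp : IsPGroup p P := hS.isPGroup.to_inf_left.to_inf_left
    have hZP : Z ≤ P := le_inf (le_inf inf_le_left (hZc.trans (Subgroup.centralizer_le_normalizer _)))
      (hZc.trans h.2.2.1)
    refine hZP.trans fun z hz => ?_
    have hzM : z ∈ O ⊔ cj X e := hMeq.ge hz.2
    have hUN : cj X e ≤ Subgroup.normalizer (O : Set G) := fun u hu =>
      Subgroup.centralizer_le_normalizer _
        (Subgroup.mem_centralizer_iff.2 fun o ho => hcomm o ho u hu)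
    rw [← SetLike.mem_coe, Subgroup.coe_mul_of_right_le_normalizer_left _ _ hUN] at hzM
    obtain ⟨o, ho, u, hu, rfl⟩ := Set.mem_mul.1 hzM
    have huP : u ∈ P := ⟨⟨heS hu, Subgroup.le_normalizer hu⟩, hUM hu⟩
    have h1 : o ∈ O ⊓ P := ⟨ho, (P.mul_mem_cancel_right huP).1 hz⟩
    rw [coprime_inf_pGroup hOp hPp, Subgroup.mem_bot] at h1
    rw [h1, one_mul]; exact hu
  obtain ⟨c, hc, D, hD, hDS, z, hz, rfl⟩ := h y hy
  refine Chain.cons (cj X e) c (Or.inr hc) subset_rfl ?_
  rw [rcj_coe, cj_eq_self (inv_mem (Subgroup.centralizer_le_normalizer _ hc))]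
  refine (bigger D z ?_ hDS ?_).mono (SetLike.coe_subset_coe.2 hD.le)
  · rw [← card_cj X e]; exact Cfsg.Agent.Solv.card_lt_of_lt hD
  · rw [cj_eq_self (inv_mem hz)]; exact hDS

omit [Finite G] in
theorem rcj_eq_self_of_centralizer {c : G} {A : Set G} (hc : c ∈ Subgroup.centralizer A) : rcj c A = A := by
  conv_rhs => rw [← Set.image_id A]
  refine Set.image_congr fun a ha => ?_
  show c⁻¹ * a * c = a
  rw [mul_assoc, Subgroup.mem_centralizer_iff.1 hc a ha, inv_mul_cancel_left]

/-- `g` acts on `X` like a product of steps in `E`, the conjugates staying in `S`. -/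
def PairGood (S : Subgroup G) (E : G → Prop) (X : Set G) (g : G) : Prop :=
  ∃ c ∈ Subgroup.centralizer X, ∃ g', Chain (fun T x => T = S ∧ E x) X g' ∧ g = c * g'

omit [Finite G] in
theorem PairGood.mul {E : G → Prop} {X : Set G} {g h : G} (hg : PairGood S E X g)
    (hh : PairGood S E (rcj g X) h) : PairGood S E X (g * h) := by
  obtain ⟨c, hc, g', hg', rfl⟩ := hg
  have e : rcj (c * g') X = rcj g' X := by rw [← rcj_rcj, rcj_eq_self_of_centralizer hc]
  rw [e] at hh
  obtain ⟨d, hd, h', hh', rfl⟩ := hh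
  refine ⟨c * (g' * d * g'⁻¹), mul_mem hc (Subgroup.mem_centralizer_iff.2 fun a ha => ?_), g' * h',
    hg'.append hh', by group⟩
  have h1 := Subgroup.mem_centralizer_iff.1 hd (g'⁻¹ * a * g') ⟨a, ha, rfl⟩
  calc a * (g' * d * g'⁻¹) = g' * (g'⁻¹ * a * g' * d) * g'⁻¹ := by group
    _ = g' * d * g'⁻¹ * a := by rw [h1]; group

omit [Finite G] in
theorem PairGood.of_centralizer {E : G → Prop} {X : Set G} {c : G} (hc : c ∈ Subgroup.centralizer X) :
    PairGood S E X c := ⟨c, hc, 1, Chain.nil _, (mul_one c).symm⟩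

omit [Finite G] in
theorem pairGood_list {E : G → Prop} {R : Subgroup G} {P : G → Prop}
    (step : ∀ (x : G) (Y : Set G), P x → Y ⊆ R → rcj x Y ⊆ R → PairGood S E Y x)
    (l : List G) (Y : Set G) (hl : ∀ x ∈ l, P x)
    (hY : ∀ k ≤ l.length, rcj (l.take k).prod Y ⊆ R) : PairGood S E Y l.prod := by
  induction l generalizing Y with
  | nil => exact PairGood.of_centralizer (one_mem _)
  | cons x l ih =>
    rw [List.prod_cons]
    have h0 : Y ⊆ R := by
      have := hY 0 (Nat.zero_le _)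
      rwa [List.take_zero, List.prod_nil, rcj_one] at this
    have h1 : rcj x Y ⊆ R := by
      have := hY 1 (by simp)
      simpa using this
    refine (step x Y (hl x (List.mem_cons_self ..)) h0 h1).mul
      (ih _ (fun y hy => hl y (List.mem_cons_of_mem _ hy)) fun k hk => ?_)
    have := hY (k + 1) (by simpa using hk)
    rw [rcj_rcj]
    simpa using this

theorem fusion_functor_pair (hdiv : p ∣ Nat.card G) (hS : SylIn p S ⊤) (W V : Subgroup G → Subgroup G)
    (hW : IsConjugacyFunctor p W) (hV : IsConjugacyFunctor p V)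
    (hWZ : ∀ H : Subgroup G, IsPGroup p ↥H → H ⊓ Subgroup.centralizer (H : Set G) ≤ W H)
    (hVmono : ∀ H K : Subgroup G, IsPGroup p ↥H → IsPGroup p ↥K → H ≠ ⊥ → K ≠ ⊥ →
      H ⊓ Subgroup.centralizer (H : Set G) ≤ K ⊓ Subgroup.centralizer (K : Set G) → V H ≤ V K)
    (hloc : ∀ H : Subgroup G, S ⊓ Subgroup.centralizer (S : Set G) ≤ H → H ≤ S →
      ∃ Q : Subgroup G, Q ≤ Subgroup.normalizer (H : Set G) ∧ IsPGroup p ↥Q ∧
        ¬ p ∣ Q.relIndex (Subgroup.normalizer (H : Set G)) ∧
        ∀ (X : Set G) (a : G), X ⊆ Q → a ∈ Subgroup.normalizer (H : Set G) → rcj a X ⊆ Q →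
          ∃ c ∈ Subgroup.normalizer (H : Set G) ⊓ Subgroup.centralizer X, ∃ (n : ℕ) (b : Fin n → G),
            (∀ i, b i ∈ Subgroup.normalizer (H : Set G) ⊓ Subgroup.normalizer (W Q : Set G) ∨
              b i ∈ Subgroup.normalizer (H : Set G) ⊓ Subgroup.centralizer (V Q : Set G)) ∧
            a = c * (List.ofFn b).prod ∧
            ∀ k : ℕ, k ≤ n → rcj ((List.ofFn b).take k).prod (rcj c X) ⊆ Q)
    {X : Set G} {a : G} (hX : X ⊆ S) (hXa : rcj a X ⊆ S) :
    ∃ c ∈ Subgroup.centralizer X, ∃ (n : ℕ) (b : Fin n → G),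
      (∀ i, b i ∈ ⊤ ⊓ Subgroup.normalizer (W S : Set G) ∨ b i ∈ ⊤ ⊓ Subgroup.centralizer (V S : Set G)) ∧
      a = c * (List.ofFn b).prod ∧
      ∀ k : ℕ, k ≤ n → rcj ((List.ofFn b).take k).prod (rcj c X) ⊆ S := by
  set Z := S ⊓ Subgroup.centralizer (S : Set G) with hZ
  let E : G → Prop := fun x => x ∈ Subgroup.normalizer (W S : Set G) ∨ x ∈ Subgroup.centralizer (V S : Set G)
  have hSne : S ≠ ⊥ := fun h => hS.not_dvd (by
    rw [h, Subgroup.relIndex_bot_left, Subgroup.card_top]; exact hdiv)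
  have hlocal : ∀ k : ℕ, ∀ U : Subgroup G, IsWellPlaced p W S U → Z ≤ U →
      Nat.card S ≤ Nat.card (S ⊓ Subgroup.normalizer (U : Set G) : Subgroup G) + k →
      ∀ (Y : Set G) (y : G), y ∈ Subgroup.normalizer (U : Set G) →
        Y ⊆ (S ⊓ Subgroup.normalizer (U : Set G) : Subgroup G) →
        rcj y Y ⊆ (S ⊓ Subgroup.normalizer (U : Set G) : Subgroup G) → PairGood S E Y y := by
    intro k
    induction k using Nat.strong_induction_on with
    | _ k IH =>
    intro U hU hZU hk Y y hy hY hYy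
    set N := Subgroup.normalizer (U : Set G) with hN
    set R := S ⊓ N with hR
    have hRsyl : SylIn p R N := ⟨inf_le_right, hS.isPGroup.to_inf_left, hU.2 0⟩
    have hRp : IsPGroup p R := hS.isPGroup.to_inf_left
    have hUR : U ≤ R := le_inf hU.1 Subgroup.le_normalizer
    have hZR : Z ≤ R ⊓ Subgroup.centralizer (R : Set G) := le_inf (hZU.trans hUR)
      (inf_le_right.trans (Subgroup.centralizer_le (SetLike.coe_subset_coe.2 inf_le_left)))
    obtain ⟨Q, hQN, hQp, hQd, hQ⟩ := hloc U hZU hU.1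
    obtain ⟨m, hm, hmQ⟩ := (⟨hQN, hQp, hQd⟩ : SylIn p Q N).conj_eq hRsyl
    have hRQ : rcj m (R : Set G) = Q := by
      rw [rcj_coe, ← hmQ, cj_cj, inv_mul_cancel, cj_one]
    have hback : ∀ {B : Set G}, B ⊆ R → rcj m B ⊆ Q := fun hB => hRQ ▸ Set.image_mono hB
    obtain ⟨c, hc, n, b, hb, hab, hpre⟩ := hQ (rcj m Y) (m⁻¹ * y * m) (hback hY)
      (mul_mem (mul_mem (inv_mem hm) hy) hm) (by
        rw [rcj_rcj, show m * (m⁻¹ * y * m) = y * m by group, ← rcj_rcj]; exact hback hYy)
    set l := (List.ofFn b).map (MulAut.conj m) with hl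
    have hprod : ∀ k, (l.take k).prod = m * ((List.ofFn b).take k).prod * m⁻¹ := fun k => by
      rw [hl, ← List.map_take]
      exact (map_list_prod (MulAut.conj m) _).symm
    have hy' : y = (m * c * m⁻¹) * l.prod := by
      have h1 := hprod l.length
      have h2 : (List.ofFn b).take l.length = List.ofFn b := List.take_of_length_le (by simp [hl])
      rw [List.take_length, h2] at h1
      calc y = m * (m⁻¹ * y * m) * m⁻¹ := by group
        _ = _ := by rw [hab, h1]; group
    have hcY : m * c * m⁻¹ ∈ Subgroup.centralizer Y := by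
      refine Subgroup.mem_centralizer_iff.2 fun z hz => ?_
      have h1 := Subgroup.mem_centralizer_iff.1 hc.2 (m⁻¹ * z * m) ⟨z, hz, rfl⟩
      calc z * (m * c * m⁻¹) = m * (m⁻¹ * z * m * c) * m⁻¹ := by group
        _ = m * c * m⁻¹ * z := by rw [h1]; group
    rw [hy']
    refine (PairGood.of_centralizer hcY).mul ?_
    rw [rcj_eq_self_of_centralizer hcY]
    refine pairGood_list (R := R) (P := fun x => x ∈ Subgroup.normalizer (W R : Set G) ∨
      x ∈ Subgroup.centralizer (V R : Set G)) ?_ l Y ?_ ?_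
    · intro x B hx hB hBx
      have hBS : B ⊆ S := fun z hz => (hB hz).1
      rcases hx with hx | hx
      · by_cases hRS : R = S
        · exact ⟨1, one_mem _, x, Chain.single ⟨rfl, Or.inl (by rwa [hRS] at hx)⟩ hBS, (one_mul x).symm⟩
        have hwp : IsWellPlaced p W S (W R) := ⟨(conjFunctor_le hW hRp).trans inf_le_left, fun i => by
          have h2 := hU.2 (i + 1); rwa [functorTower_shift] at h2⟩
        have hlt : Nat.card R < Nat.card (S ⊓ Subgroup.normalizer (W R : Set G) : Subgroup G) :=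
          Cfsg.Agent.Solv.card_lt_of_lt (lt_of_lt_of_le
            (SylIn.normalizer_growth (p := p) inf_le_left hRS hS.isPGroup)
            (inf_le_inf_left _ (conjFunctor_normalizer_le hW hRp)))
        have hkpos : Nat.card (S ⊓ Subgroup.normalizer (W R : Set G) : Subgroup G) ≤ Nat.card S :=
          Subgroup.card_le_of_le inf_le_left
        have hle : R ≤ S ⊓ Subgroup.normalizer (W R : Set G) :=
          le_inf inf_le_left (sylow_le_normalizer_functor hW hRp)
        exact IH (k - 1) (by omega) (W R) hwp (hZR.trans (hWZ R hRp)) (by omega) B x hx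
          (hB.trans hle) (hBx.trans hle)
      · have hRne : R ≠ ⊥ := fun h => hSne (by
          by_contra hne
          obtain ⟨z, hz, hz1⟩ : ∃ z ∈ Z, z ≠ 1 := by
            have hS' : Nontrivial S := (Subgroup.nontrivial_iff_ne_bot S).2 hne
            have := hS.isPGroup.center_nontrivial
            obtain ⟨⟨⟨z, hzS⟩, hzc⟩, hz1⟩ := exists_ne (1 : Subgroup.center S)
            refine ⟨z, ⟨hzS, Subgroup.mem_centralizer_iff.2 fun s hs => ?_⟩, fun e => hz1 (Subtype.ext (Subtype.ext e))⟩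
            exact congrArg Subtype.val (Subgroup.mem_center_iff.1 hzc ⟨s, hs⟩)
          exact hz1 (Subgroup.mem_bot.1 (h ▸ hUR (hZU hz))))
        have hle : V S ≤ V R := hVmono S R hS.isPGroup hRp hSne hRne hZR
        exact ⟨1, one_mem _, x, Chain.single ⟨rfl, Or.inr (Subgroup.centralizer_le hle hx)⟩ hBS, (one_mul x).symm⟩
    · intro x hx
      obtain ⟨x', hx', rfl⟩ := List.mem_map.1 hx
      obtain ⟨i, rfl⟩ := List.mem_ofFn.1 hx'
      rcases hb i with h1 | h1
      · refine Or.inl ?_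
        rw [← hmQ, conjFunctor_cj hW hQp, ← cj_normalizer]
        exact conj_mem_cj h1.2
      · refine Or.inr ?_
        rw [← hmQ, conjFunctor_cj hV hQp, ← cj_centralizer]
        exact conj_mem_cj h1.2
    · intro j hj
      have hjn : j ≤ n := by simpa [hl] using hj
      have h1 := hpre j hjn
      rw [rcj_eq_self_of_centralizer hc.2, rcj_rcj] at h1
      have h2 : rcj m⁻¹ (rcj (m * ((List.ofFn b).take j).prod) Y) ⊆ rcj m⁻¹ (Q : Set G) := Set.image_mono h1
      rw [← hRQ, rcj_rcj, rcj_rcj, mul_inv_cancel, rcj_one] at h2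
      rwa [hprod]
  have key : ∀ (B : Set G) (h : G),
      Chain (fun T y => (IsWellPlaced p W S T ∧ Z ≤ T ∧ y ∈ Subgroup.normalizer (T : Set G)) ∨
        y ∈ Subgroup.centralizer (T : Set G)) B h → PairGood S E B h := by
    intro B h hc
    induction hc with
    | nil B => exact PairGood.of_centralizer (one_mem _)
    | @cons B h T y hy hBT _ ih =>
      refine PairGood.mul ?_ ih
      rcases hy with ⟨hwp, hZT, hyT⟩ | hyT
      · have hTle : T ≤ S ⊓ Subgroup.normalizer (T : Set G) := le_inf hwp.1 Subgroup.le_normalizer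
        refine hlocal (Nat.card S) T hwp hZT (Nat.le_add_left _ _) B y hyT
          (hBT.trans hTle) ?_
        rintro _ ⟨z, hz, rfl⟩
        exact hTle (by simpa using (Subgroup.mem_normalizer_iff.1 (inv_mem hyT) z).1 (hBT hz))
      · exact PairGood.of_centralizer (Subgroup.centralizer_le hBT hyT)
  obtain ⟨c, hc, g', hg', rfl⟩ := key _ _ (chain_wellPlaced_center hS hW hX hXa)
  obtain ⟨n, T, b, hp, hR, h0, hs⟩ := hg'.to_fin
  refine ⟨c, hc, n, b, fun i => (hR i).2.imp (fun h => ⟨trivial, h⟩) (fun h => ⟨trivial, h⟩),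
    by rw [hp], fun k hk => ?_⟩
  rw [rcj_eq_self_of_centralizer hc]
  rcases Nat.eq_zero_or_pos k with rfl | hk0
  · rwa [List.take_zero, List.prod_nil, rcj_one]
  rcases Nat.lt_or_ge k n with hlt | hge
  · have hlt' : (⟨k - 1, by omega⟩ : Fin n).val + 1 < n := by simp only; omega
    have h1 := hs ⟨k - 1, by omega⟩ hlt'
    simp only [Nat.sub_add_cancel hk0] at h1
    rwa [(hR ⟨k, hlt⟩).1] at h1
  · obtain rfl : k = n := by omega
    rw [List.take_of_length_le (by simp), hp]
    rw [← rcj_rcj, rcj_eq_self_of_centralizer hc] at hXa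
    exact hXa

end Cfsg.Agent.Fusion
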