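import Cfsg.Agent.Lib.Fusion.LocalGlobal
import Cfsg.Agent.Lib.Fusion.GoldschmidtChain

/-!
# Transfer controlled by a pair of functors
-/

set_option autoImplicit false

open Cfsg
open scoped commutatorElement Pointwise

namespace Cfsg.Agent.Fusion

variable {G : Type*} [Group G] [Finite G] {p : ℕ} [hp : Fact p.Prime] {S : Subgroup G}

omit [Finite G] in
theorem conj_mem_commutator_of_cj {H K : Subgroup G} {n : G} (h : cj H n ≤ K) {x : G}
    (hx : x ∈ ⁅H, H⁆) : n * x * n⁻¹ ∈ ⁅K, K⁆ := by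
  have h1 : (⁅H, H⁆).map (MulAut.conj n).toMonoidHom ≤ ⁅K, K⁆ := by
    rw [Subgroup.map_commutator]; exact Subgroup.commutator_mono h h
  exact h1 ⟨x, hx, rfl⟩

theorem transfer_functor_pair (hdiv : p ∣ Nat.card G) (hS : SylIn p S ⊤) (W V : Subgroup G → Subgroup G)
    (hW : IsConjugacyFunctor p W) (hV : IsConjugacyFunctor p V)
    (hWZ : ∀ H : Subgroup G, IsPGroup p ↥H → H ⊓ Subgroup.centralizer (H : Set G) ≤ W H)
    (hVmono : ∀ H K : Subgroup G, IsPGroup p ↥H → IsPGroup p ↥K → H ≠ ⊥ → K ≠ ⊥ →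
      H ⊓ Subgroup.centralizer (H : Set G) ≤ K ⊓ Subgroup.centralizer (K : Set G) → V H ≤ V K)
    (hloc : ∀ H : Subgroup G, S ⊓ Subgroup.centralizer (S : Set G) ≤ H → H ≤ S →
      ∃ Q : Subgroup G, Q ≤ Subgroup.normalizer (H : Set G) ∧ IsPGroup p ↥Q ∧
        ¬ p ∣ Q.relIndex (Subgroup.normalizer (H : Set G)) ∧
        ∀ x : G, x ∈ Q ⊓ ⁅Subgroup.normalizer (H : Set G), Subgroup.normalizer (H : Set G)⁆ ↔
          ∃ a ∈ Q ⊓ ⁅Subgroup.normalizer (H : Set G) ⊓ Subgroup.normalizer (W Q : Set G),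
            Subgroup.normalizer (H : Set G) ⊓ Subgroup.normalizer (W Q : Set G)⁆,
          ∃ b ∈ Q ⊓ ⁅Subgroup.normalizer (H : Set G) ⊓ Subgroup.centralizer (V Q : Set G),
            Subgroup.normalizer (H : Set G) ⊓ Subgroup.centralizer (V Q : Set G)⁆, x = a * b) :
    ∀ x : G, x ∈ S ⊓ commutator G ↔
      ∃ a ∈ S ⊓ ⁅Subgroup.normalizer (W S : Set G), Subgroup.normalizer (W S : Set G)⁆,
        ∃ b ∈ S ⊓ ⁅Subgroup.centralizer (V S : Set G), Subgroup.centralizer (V S : Set G)⁆, x = a * b := by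
  set A := S ⊓ ⁅Subgroup.normalizer (W S : Set G), Subgroup.normalizer (W S : Set G)⁆ with hAdef
  set B := S ⊓ ⁅Subgroup.centralizer (V S : Set G), Subgroup.centralizer (V S : Set G)⁆ with hBdef
  set Z := S ⊓ Subgroup.centralizer (S : Set G) with hZ
  have hSne : S ≠ ⊥ := fun h => hS.not_dvd (by
    rw [h, Subgroup.relIndex_bot_left, Subgroup.card_top]; exact hdiv)
  have hlocal : ∀ k : ℕ, ∀ U : Subgroup G, IsWellPlaced p W S U → Z ≤ U →
      Nat.card S ≤ Nat.card (S ⊓ Subgroup.normalizer (U : Set G) : Subgroup G) + k →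
      (S ⊓ Subgroup.normalizer (U : Set G)) ⊓
        ⁅Subgroup.normalizer (U : Set G), Subgroup.normalizer (U : Set G)⁆ ≤ A ⊔ B := by
    intro k
    induction k using Nat.strong_induction_on with
    | _ k IH =>
    intro U hU hZU hk
    set N := Subgroup.normalizer (U : Set G) with hN
    set R := S ⊓ N with hR
    have hRsyl : SylIn p R N := ⟨inf_le_right, hS.isPGroup.to_inf_left, hU.2 0⟩
    have hRp : IsPGroup p R := hS.isPGroup.to_inf_left
    have hUR : U ≤ R := le_inf hU.1 Subgroup.le_normalizer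
    have hZR : Z ≤ R ⊓ Subgroup.centralizer (R : Set G) := le_inf (hZU.trans hUR)
      (inf_le_right.trans (Subgroup.centralizer_le (SetLike.coe_subset_coe.2 inf_le_left)))
    obtain ⟨Q, hQN, hQp, hQd, hQ⟩ := hloc U hZU hU.1
    obtain ⟨n, hn, hnQ⟩ := (⟨hQN, hQp, hQd⟩ : SylIn p Q N).conj_eq hRsyl
    intro x hx
    have hxQ : n⁻¹ * x * n ∈ Q ⊓ ⁅N, N⁆ := by
      refine ⟨?_, ?_⟩
      · have h1 := hx.1
        rw [← hnQ] at h1
        exact mem_cj.1 h1
      · have := conj_mem_commutator_of_cj (n := n⁻¹) (cj_eq_self (Subgroup.le_normalizer (inv_mem hn))).le hx.2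
        rwa [inv_inv] at this
    obtain ⟨a, ha, b, hb, hab⟩ := (hQ _).1 hxQ
    have hxab : x = (n * a * n⁻¹) * (n * b * n⁻¹) := by
      rw [show x = n * (n⁻¹ * x * n) * n⁻¹ by group, hab]; group
    rw [hxab]
    have hmemR : ∀ {y : G}, y ∈ Q → n * y * n⁻¹ ∈ R := fun hy => hnQ ▸ conj_mem_cj hy
    refine mul_mem ?_ ?_
    · have h1 : n * a * n⁻¹ ∈ ⁅Subgroup.normalizer (W R : Set G), Subgroup.normalizer (W R : Set G)⁆ := by
        refine conj_mem_commutator_of_cj ?_ ha.2
        rw [← hnQ, conjFunctor_cj hW hQp, ← cj_normalizer]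
        exact cj_mono inf_le_right n
      by_cases hRS : R = S
      · exact Subgroup.mem_sup_left ⟨(hmemR ha.1).1, by rwa [hRS] at h1⟩
      have hwp : IsWellPlaced p W S (W R) := ⟨(conjFunctor_le hW hRp).trans inf_le_left, fun i => by
        have h2 := hU.2 (i + 1); rwa [functorTower_shift] at h2⟩
      have hlt : Nat.card R < Nat.card (S ⊓ Subgroup.normalizer (W R : Set G) : Subgroup G) :=
        Cfsg.Agent.Solv.card_lt_of_lt (lt_of_lt_of_le
          (SylIn.normalizer_growth (p := p) inf_le_left hRS hS.isPGroup)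
          (inf_le_inf_left _ (conjFunctor_normalizer_le hW hRp)))
      have hkpos : Nat.card (S ⊓ Subgroup.normalizer (W R : Set G) : Subgroup G) ≤ Nat.card S :=
        Subgroup.card_le_of_le inf_le_left
      refine IH (k - 1) (by omega) (W R) hwp (hZR.trans (hWZ R hRp)) (by omega) ⟨⟨(hmemR ha.1).1, ?_⟩, h1⟩
      exact sylow_le_normalizer_functor hW hRp (hmemR ha.1)
    · have hRne : R ≠ ⊥ := fun h => hSne (by
        by_contra hne
        obtain ⟨z, hz, hz1⟩ : ∃ z ∈ Z, z ≠ 1 := by
          have hS' : Nontrivial S := (Subgroup.nontrivial_iff_ne_bot S).2 hne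
          have := hS.isPGroup.center_nontrivial
          obtain ⟨⟨⟨z, hzS⟩, hzc⟩, hz1⟩ := exists_ne (1 : Subgroup.center S)
          refine ⟨z, ⟨hzS, Subgroup.mem_centralizer_iff.2 fun s hs => ?_⟩, fun e => hz1 (Subtype.ext (Subtype.ext e))⟩
          exact congrArg Subtype.val (Subgroup.mem_center_iff.1 hzc ⟨s, hs⟩)
        exact hz1 (Subgroup.mem_bot.1 (h ▸ hUR (hZU hz))))
      have hle : V S ≤ V R := hVmono S R hS.isPGroup hRp hSne hRne hZR
      refine Subgroup.mem_sup_right ⟨(hmemR hb.1).1,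
        Subgroup.commutator_mono (Subgroup.centralizer_le hle) (Subgroup.centralizer_le hle) ?_⟩
      refine conj_mem_commutator_of_cj ?_ hb.2
      rw [← hnQ, conjFunctor_cj hV hQp, ← cj_centralizer]
      exact cj_mono inf_le_right n
  have hfocal : S ⊓ commutator G ≤ A ⊔ B := by
    rw [inf_commutator_eq_focalIn_top hS]
    refine (Subgroup.closure_le _).2 ?_
    rintro _ ⟨x, hx, g, -, hxg, rfl⟩
    let R : Subgroup G → G → Prop := fun T y =>
      (IsWellPlaced p W S T ∧ Z ≤ T ∧ y ∈ Subgroup.normalizer (T : Set G)) ∨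
        y ∈ Subgroup.centralizer (T : Set G)
    have hch : Chain R ({x} : Set G) g⁻¹ := by
      refine chain_of_local hS (fun T y h => ?_) (fun X hX => ?_) (by simpa using hx) (by simpa [rcj] using hxg)
      · rcases h with ⟨h1, h2, h3⟩ | h3
        · exact ⟨h3, Or.inl ⟨h1, h2, inv_mem h3⟩⟩
        · exact ⟨Subgroup.centralizer_le_normalizer _ h3, Or.inr (inv_mem h3)⟩
      obtain ⟨e, hwp, heS, hsyl⟩ := exists_wellPlaced_top hS hW X hX
      refine ⟨cj X e, e, rfl, heS, hsyl, fun y hy bigger => ?_⟩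
      rcases good_or_factor hS heS hsyl with h | ⟨-, h⟩
      · refine Chain.single (Or.inl ⟨hwp, ?_, hy⟩) subset_rfl
        set N := Subgroup.normalizer (cj X e : Set G)
        set O := (pPrimeCore p ↥N).map N.subtype
        set M := (pPrimePCore p ↥N).map N.subtype
        have hZc : Z ≤ Subgroup.centralizer (cj X e : Set G) :=
          inf_le_right.trans (Subgroup.centralizer_le (SetLike.coe_subset_coe.2 heS))
        have hOp : (Nat.card O).Coprime p := by
          rw [Subgroup.card_map_of_injective N.subtype_injective]; exact card_pPrimeCore_coprime p N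
        obtain ⟨-, hUM, hcomm, hdisj, hMeq⟩ := h.2.2.2
        set P := (S ⊓ N) ⊓ M
        have hPp : IsPGroup p P := hS.isPGroup.to_inf_left.to_inf_left
        have hZP : Z ≤ P := le_inf (le_inf inf_le_left (hZc.trans (Subgroup.centralizer_le_normalizer _)))
          (hZc.trans h.2.2.1)
        refine hZP.trans fun z hz => ?_
        have hzM : z ∈ O ⊔ cj X e := hMeq.ge hz.2
        have hUN : cj X e ≤ Subgroup.normalizer (O : Set G) := fun u hu =>
          Subgroup.centralizer_le_normalizer _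
            (Subgroup.mem_centralizer_iff.2 fun o ho => hcomm o ho u hu)
        rw [← SetLike.mem_coe, Subgroup.coe_mul_of_right_le_normalizer_left _ _ hUN] at hzM
        obtain ⟨o, ho, u, hu, rfl⟩ := Set.mem_mul.1 hzM
        have huP : u ∈ P := ⟨⟨heS hu, Subgroup.le_normalizer hu⟩, hUM hu⟩
        have h1 : o ∈ O ⊓ P := ⟨ho, (P.mul_mem_cancel_right huP).1 hz⟩
        rw [coprime_inf_pGroup hOp hPp, Subgroup.mem_bot] at h1
        rw [h1, one_mul]; exact hu
      obtain ⟨c, hc, D, hD, hDS, z, hz, rfl⟩ := h y hy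
      refine Chain.cons (cj X e) c (Or.inr hc) subset_rfl ?_
      rw [rcj_coe, cj_eq_self (inv_mem (Subgroup.centralizer_le_normalizer _ hc))]
      refine (bigger D z ?_ hDS ?_).mono (SetLike.coe_subset_coe.2 hD.le)
      · rw [← card_cj X e]; exact Cfsg.Agent.Solv.card_lt_of_lt hD
      · rw [cj_eq_self (inv_mem hz)]; exact hDS
    have key : ∀ (C : Set G) (h : G), Chain R C h → ∀ a ∈ C, a⁻¹ * (h⁻¹ * a * h) ∈ A ⊔ B := by
      intro C h hc
      induction hc with
      | nil C => intro a _; simp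
      | @cons C h T y hy hCT _ ih =>
        intro a ha
        have h2 := ih _ ⟨a, ha, rfl⟩
        have h3 : a⁻¹ * ((y * h)⁻¹ * a * (y * h))
            = a⁻¹ * (y⁻¹ * a * y) * ((y⁻¹ * a * y)⁻¹ * (h⁻¹ * (y⁻¹ * a * y) * h)) := by group
        rw [h3]
        refine mul_mem ?_ h2
        rcases hy with ⟨hwp, hZT, hyT⟩ | hyT
        · have hTle : T ≤ S ⊓ Subgroup.normalizer (T : Set G) := le_inf hwp.1 Subgroup.le_normalizer
          have haT : a ∈ T := hCT ha
          have hya : y⁻¹ * a * y ∈ T := by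
            simpa using (Subgroup.mem_normalizer_iff.1 (inv_mem hyT) a).1 haT
          refine hlocal (Nat.card S) T hwp hZT (Nat.le_add_left _ _)
            ⟨hTle (mul_mem (inv_mem haT) hya), ?_⟩
          have := Subgroup.commutator_mem_commutator (inv_mem (Subgroup.le_normalizer haT)) (inv_mem hyT)
            (H₁ := Subgroup.normalizer (T : Set G)) (H₂ := Subgroup.normalizer (T : Set G))
          simpa [commutatorElement_def, mul_assoc] using this
        · rw [mul_assoc y⁻¹, Subgroup.mem_centralizer_iff.1 hyT a (hCT ha), inv_mul_cancel_left,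
            inv_mul_cancel]
          exact one_mem _
    simpa [mul_assoc] using key _ _ hch x rfl
  intro x
  constructor
  · intro hx
    have h1 := hfocal hx
    have hn : B ≤ Subgroup.normalizer (A : Set G) := by
      intro y hy
      refine mem_normalizer_of_cj_le ?_
      rintro _ ⟨a, ha, rfl⟩
      exact ⟨mul_mem (mul_mem hy.1 ha.1) (S.inv_mem hy.1),
        conj_mem_commutator_of_cj (cj_eq_self (Subgroup.le_normalizer (sylow_le_normalizer_functor hW hS.isPGroup hy.1))).le ha.2⟩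
    rw [← SetLike.mem_coe, Subgroup.coe_mul_of_right_le_normalizer_left _ _ hn] at h1
    obtain ⟨a, ha, b, hb, rfl⟩ := Set.mem_mul.1 h1
    exact ⟨a, ha, b, hb, rfl⟩
  · rintro ⟨a, ha, b, hb, rfl⟩
    exact ⟨mul_mem ha.1 hb.1, mul_mem (Subgroup.commutator_mono le_top le_top ha.2)
      (Subgroup.commutator_mono le_top le_top hb.2)⟩

end Cfsg.Agent.Fusion
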