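import Cfsg.Agent.Lib.Fusion.CentralIsolated
import Cfsg.Agent.Lib.Fusion.TransferPow
import Cfsg.Agent.Lib.Fusion.NPC
import Cfsg.Agent.Lib.Fusion.DihedralFours

/-!
# Tools for groups with small Sylow 2-fusion: automisers on three objects, transfer, classes
-/

set_option autoImplicit false
set_option linter.unusedSectionVars false
set_option linter.style.haveILetI false

namespace Cfsg.Agent.Fusion

open Cfsg

variable {G : Type*} [Group G] [Finite G]

/-- A group permuting three subgroups, with an element swapping two of them. -/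
theorem three_action {N K : Subgroup G} {M : Fin 3 → Subgroup G} (hM : Function.Injective M)
    (hst : ∀ a ∈ N, ∀ i, ∃ j, cj (M i) a = M j)
    (hK : K ≤ N) (hker : ∀ a ∈ N, a ∈ K ↔ ∀ i, cj (M i) a = M i)
    {s : G} (hs : s ∈ N) (h0 : cj (M 0) s = M 0) (h1 : cj (M 1) s = M 2) :
    (K.relIndex N = 2 ∨ K.relIndex N = 6) ∧
      (K.relIndex N = 2 → ∀ a ∈ N, cj (M 0) a = M 0 ∧ (a ∈ K ∨ a * s ∈ K)) ∧
      (K.relIndex N = 6 → ∃ a ∈ N, Odd (orderOf a) ∧
        cj (M 0) a = M 1 ∧ cj (M 1) a = M 2 ∧ cj (M 2) a = M 0) := by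
  classical
  choose f hf using fun (a : N) (i : Fin 3) => hst a a.2 i
  have hfmul : ∀ (a b : N) (i : Fin 3), f (a * b) i = f a (f b i) := by
    intro a b i
    apply hM
    rw [← hf, ← hf a, ← hf b, cj_cj]
    rfl
  have hfone : ∀ i : Fin 3, f 1 i = i := fun i => hM (by rw [← hf]; exact cj_one _)
  let φ : N →* Equiv.Perm (Fin 3) :=
    { toFun := fun a => ⟨f a, f a⁻¹, fun i => by rw [← hfmul, inv_mul_cancel, hfone],
        fun i => by rw [← hfmul, mul_inv_cancel, hfone]⟩
      map_one' := Equiv.ext hfone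
      map_mul' := fun a b => Equiv.ext (hfmul a b) }
  have hφ : ∀ (a : N) (i : Fin 3), cj (M i) (a : G) = M (φ a i) := fun a i => hf a i
  have hkerφ : φ.ker = K.subgroupOf N := by
    ext a
    rw [MonoidHom.mem_ker, Subgroup.mem_subgroupOf, hker a a.2]
    constructor
    · intro h i; rw [hφ, h]; rfl
    · intro h; exact Equiv.ext fun i => hM (by rw [← hφ]; exact h i)
  have hidx : K.relIndex N = Nat.card φ.range := by
    rw [← Subgroup.index_ker, hkerφ]; rfl
  have hτ : φ ⟨s, hs⟩ = Equiv.swap 1 2 := by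
    have e0 : φ ⟨s, hs⟩ 0 = 0 := hM (by rw [← hφ]; exact h0)
    have e1 : φ ⟨s, hs⟩ 1 = 2 := hM (by rw [← hφ]; exact h1)
    revert e0 e1
    generalize φ ⟨s, hs⟩ = σ
    revert σ
    decide
  have hd6 : Nat.card φ.range ∣ 6 := by
    have := φ.range.card_subgroup_dvd_card
    rwa [Nat.card_eq_fintype_card (α := Equiv.Perm (Fin 3)), Fintype.card_perm,
      Fintype.card_fin] at this
  have hd2 : 2 ∣ Nat.card φ.range := by
    have h2 : orderOf (φ ⟨s, hs⟩) = 2 := by
      rw [hτ]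
      exact orderOf_eq_prime (by decide) (by decide)
    rw [← h2]
    exact Subgroup.orderOf_dvd_natCard φ.range ⟨_, rfl⟩
  have hcases : Nat.card φ.range = 2 ∨ Nat.card φ.range = 6 := by
    obtain ⟨k, hk⟩ := hd2
    have hle := Nat.le_of_dvd (by norm_num) hd6
    have hpos : 0 < Nat.card φ.range := Nat.card_pos
    generalize Nat.card φ.range = c at hd6 hk hle hpos ⊢
    interval_cases c
    all_goals first
      | exact Or.inl rfl
      | exact Or.inr rfl
      | omega
  refine ⟨hidx ▸ hcases, fun h2 a ha => ?_, fun h6 => ?_⟩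
  · rw [hidx] at h2
    have hmem : φ ⟨a, ha⟩ = 1 ∨ φ ⟨a, ha⟩ = Equiv.swap 1 2 := by
      have h3 : Subgroup.zpowers (Equiv.swap (1 : Fin 3) 2) = φ.range := by
        refine Subgroup.eq_of_le_of_card_ge (Subgroup.zpowers_le.2 ⟨_, hτ⟩) ?_
        rw [h2, Nat.card_zpowers, orderOf_eq_prime (p := 2) (by decide) (by decide)]
      obtain ⟨k, hk⟩ := Subgroup.mem_zpowers_iff.1 (h3.ge ⟨⟨a, ha⟩, rfl⟩)
      rw [← hk, ← zpow_mod_orderOf, orderOf_eq_prime (p := 2) (by decide) (by decide)]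
      rcases Int.emod_two_eq k with h | h <;> push_cast <;> rw [h] <;> simp
    refine ⟨?_, ?_⟩
    · have := hφ ⟨a, ha⟩ 0
      rcases hmem with h | h <;> rw [h] at this <;> exact this
    · rcases hmem with h | h
      · exact Or.inl (Subgroup.mem_subgroupOf.1 (hkerφ.le (MonoidHom.mem_ker.2 h)))
      · refine Or.inr (Subgroup.mem_subgroupOf.1 (hkerφ.le (x := (⟨a, ha⟩ * ⟨s, hs⟩ : N))
          (MonoidHom.mem_ker.2 ?_)))
        rw [map_mul, h, hτ, Equiv.swap_mul_self]
  · rw [hidx] at h6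
    have htop : φ.range = ⊤ := Subgroup.eq_top_of_card_eq _ (by
      rw [h6, Nat.card_eq_fintype_card, Fintype.card_perm, Fintype.card_fin]; rfl)
    let σ : Equiv.Perm (Fin 3) := Equiv.swap 0 1 * Equiv.swap 1 2
    obtain ⟨b, hb⟩ : σ ∈ φ.range := htop ▸ Subgroup.mem_top _
    obtain ⟨k, m, hm, hkm⟩ := Nat.exists_eq_pow_mul_and_not_dvd (orderOf_pos (b : G)).ne' 2 (by norm_num)
    -- an exponent congruent to one modulo three
    set e : ℕ := if 2 ^ k % 3 = 1 then 2 ^ k else 2 * 2 ^ k with he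
    have he3 : e % 3 = 1 := by
      have h2 : 2 ^ k % 3 = 1 ∨ 2 ^ k % 3 = 2 := by
        clear hkm he
        induction k with
        | zero => simp
        | succ k ih => rw [pow_succ]; omega
      rw [he]; split_ifs <;> omega
    have hek : 2 ^ k ∣ e := by rw [he]; split_ifs <;> simp
    have hσ : σ ^ e = σ := by
      rw [← Nat.mod_add_div e 3, he3, pow_add, pow_one, pow_mul,
        show σ ^ 3 = 1 by decide, one_pow, mul_one]
    refine ⟨(b : G) ^ e, pow_mem b.2 e, ?_, ?_⟩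
    · obtain ⟨c, hc⟩ := hek
      have hodd : Odd m := Nat.odd_iff.2 (Nat.two_dvd_ne_zero.1 hm)
      refine hodd.of_dvd_nat (orderOf_dvd_of_pow_eq_one ?_)
      rw [← pow_mul, hc, show 2 ^ k * c * m = (2 ^ k * m) * c by ring, ← hkm, pow_mul,
        pow_orderOf_eq_one, one_pow]
    · have := fun i => hφ (b ^ e) i
      simp only [map_pow, hb, hσ, Subgroup.coe_pow] at this
      exact ⟨this 0, this 1, this 2⟩

theorem mul_zmod_two_facts :
    ((1 : Multiplicative (ZMod 2)) = Multiplicative.ofAdd 1 * Multiplicative.ofAdd 1) ∧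
      (Multiplicative.ofAdd (1 : ZMod 2) ^ 2 = 1) ∧ (Multiplicative.ofAdd (1 : ZMod 2) ≠ 1) := by
  decide

/-- Every element of 2-power order is conjugate into a given Sylow 2-subgroup. -/
theorem exists_conj_mem_sylow (S : Sylow 2 G) {t : G} {k : ℕ} (ht : orderOf t = 2 ^ k) :
    ∃ g : G, g * t * g⁻¹ ∈ (S : Subgroup G) := by
  haveI : Fact (Nat.Prime 2) := ⟨Nat.prime_two⟩
  obtain ⟨g, -, hg⟩ := (sylIn_top S).conj_le
    (IsPGroup.of_card (n := k) (by rw [Nat.card_zpowers, ht]) : IsPGroup 2 (Subgroup.zpowers t)) le_top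
  exact ⟨g, hg (conj_mem_cj (Subgroup.mem_zpowers t))⟩

/-- Counting conjugacy classes of elements of order `2 ^ k` through representatives in a Sylow
subgroup. -/
theorem card_classes (S : Sylow 2 G) (k : ℕ) (R : Set G) (hR : ∀ r ∈ R, orderOf r = 2 ^ k)
    (hall : ∀ s ∈ (S : Subgroup G), orderOf s = 2 ^ k → ∃ r ∈ R, IsConj s r) :
    Nat.card {C : ConjClasses G // ∃ t : G, orderOf t = 2 ^ k ∧ ConjClasses.mk t = C} =
      (ConjClasses.mk '' R).ncard := by
  rw [← Nat.card_coe_set_eq]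
  refine Nat.card_congr (Equiv.subtypeEquivProp (funext fun C => propext ⟨?_, ?_⟩))
  · rintro ⟨t, ht, rfl⟩
    obtain ⟨g, hg⟩ := exists_conj_mem_sylow S ht
    obtain ⟨r, hr, hrc⟩ := hall _ hg (by
      rw [show g * t * g⁻¹ = MulAut.conj g t from rfl, MulEquiv.orderOf_eq, ht])
    exact ⟨r, hr, (ConjClasses.mk_eq_mk_iff_isConj.2 ((isConj_iff.2 ⟨g, rfl⟩).trans hrc)).symm⟩
  · rintro ⟨r, hr, rfl⟩
    exact ⟨r, hR r hr, rfl⟩

/-- A character of a Sylow 2-subgroup which is constant on the conjugates of the powers of `g`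
gives a homomorphism of the whole group. -/
theorem exists_hom_of_controlled {H : Subgroup G} {A : Type*} [CommGroup A] (χ : H →* A) {g : G}
    (hg : g ∈ H) (hH : ¬ 2 ∣ H.index)
    (hctrl : ∀ (m : ℕ) (a : G) (h : a * g ^ m * a⁻¹ ∈ H), χ ⟨_, h⟩ = χ ⟨g, hg⟩ ^ m) :
    ∃ f : G →* A, ∃ k : ℕ, Odd k ∧ f g = χ ⟨g, hg⟩ ^ k := by
  refine ⟨MonoidHom.transfer χ, H.index, Nat.odd_iff.2 (Nat.two_dvd_ne_zero.1 hH), ?_⟩
  refine transfer_eq_map_pow χ g hg fun m a h => ?_
  have h2 : a⁻¹ * g ^ m * (a⁻¹)⁻¹ ∈ H := by rwa [inv_inv]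
  rw [← hctrl m a⁻¹ h2]
  exact congrArg χ (Subtype.ext (by simp))

/-- An index two subgroup of a Sylow subgroup avoiding the conjugates of the odd powers of `g`
gives a normal subgroup of index two avoiding `g`. -/
theorem exists_index_two_of_controlled (S : Sylow 2 G) {M : Subgroup G}
    (hidx : M.relIndex (S : Subgroup G) = 2) {g : G} (hgS : g ∈ (S : Subgroup G)) (hgM : g ∉ M)
    (hctrl : ∀ (m : ℕ) (a : G), a * g ^ m * a⁻¹ ∈ (S : Subgroup G) →
      (a * g ^ m * a⁻¹ ∈ M ↔ Even m)) :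
    ∃ K : Subgroup G, K.Normal ∧ K.index = 2 ∧ g ∉ K := by
  haveI : Fact (Nat.Prime 2) := ⟨Nat.prime_two⟩
  classical
  set H : Subgroup G := (S : Subgroup G) with hH
  set T := M.subgroupOf H with hT
  have hT2 : T.index = 2 := hidx
  let χ : H →* Multiplicative (ZMod 2) :=
    { toFun := fun s => if s ∈ T then 1 else Multiplicative.ofAdd 1
      map_one' := if_pos (one_mem _)
      map_mul' := fun a b => by
        by_cases ha : a ∈ T <;> by_cases hb : b ∈ T <;>
          simp [Subgroup.mul_mem_iff_of_index_two hT2, ha, hb]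
        exact mul_zmod_two_facts.1 }
  have hχg : χ ⟨g, hgS⟩ = Multiplicative.ofAdd 1 :=
    if_neg (fun h => hgM (Subgroup.mem_subgroupOf.1 h))
  obtain ⟨f, k, hk, hfg⟩ := exists_hom_of_controlled χ hgS S.not_dvd_index fun m a h => by
    rw [hχg]
    show (if _ then _ else _) = _
    obtain ⟨c, rfl⟩ | ⟨c, rfl⟩ := Nat.even_or_odd m
    · rw [if_pos (Subgroup.mem_subgroupOf.2 ((hctrl _ a h).2 ⟨c, rfl⟩)), ← two_mul, pow_mul,
        mul_zmod_two_facts.2.1, one_pow]
    · rw [if_neg (fun hm => Nat.not_even_iff_odd.2 ⟨c, rfl⟩ ((hctrl _ a h).1 (Subgroup.mem_subgroupOf.1 hm))),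
        pow_succ, pow_mul, mul_zmod_two_facts.2.1, one_pow, one_mul]
  rw [hχg] at hfg
  obtain ⟨c, rfl⟩ := hk
  rw [pow_succ, pow_mul, mul_zmod_two_facts.2.1, one_pow,
    one_mul] at hfg
  refine ⟨f.ker, f.normal_ker, ?_, fun h => ?_⟩
  · rw [Subgroup.index_ker]
    have hd := f.range.card_subgroup_dvd_card
    rw [Nat.card_eq_fintype_card (α := Multiplicative (ZMod 2)), Fintype.card_multiplicative, ZMod.card] at hd
    refine ((Nat.dvd_prime Nat.prime_two).1 hd).resolve_left fun h1 => ?_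
    have h2 : Multiplicative.ofAdd (1 : ZMod 2) ∈ f.range := ⟨g, hfg⟩
    rw [Subgroup.card_eq_one.1 h1, Subgroup.mem_bot] at h2
    exact mul_zmod_two_facts.2.2 h2
  · rw [MonoidHom.mem_ker, hfg] at h
    exact mul_zmod_two_facts.2.2 h

/-- A subgroup of index two contains the squares and is invariant under conjugation. -/
theorem index_two_facts {H : Subgroup G} (h : H.index = 2) :
    (∀ a : G, a * a ∈ H) ∧ (∀ a x : G, x ∈ H ↔ a * x * a⁻¹ ∈ H) ∧
      (∀ a b : G, a * b ∈ H ↔ (a ∈ H ↔ b ∈ H)) := by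
  haveI := Subgroup.normal_of_index_eq_two h
  refine ⟨fun a => (Subgroup.mul_mem_iff_of_index_two h).2 Iff.rfl,
    fun a x => ⟨fun hx => Subgroup.Normal.conj_mem inferInstance x hx a, fun hx => ?_⟩,
    fun a b => Subgroup.mul_mem_iff_of_index_two h⟩
  have := Subgroup.Normal.conj_mem inferInstance _ hx a⁻¹
  simpa [mul_assoc] using this

/-- A subgroup of index two cannot contain a Sylow 2-subgroup. -/
theorem index_ne_two_of_sylow_le (S : Sylow 2 G) {H : Subgroup G} (h : (S : Subgroup G) ≤ H) :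
    H.index ≠ 2 := by
  haveI : Fact (Nat.Prime 2) := ⟨Nat.prime_two⟩
  exact fun h2 => S.not_dvd_index (dvd_trans (by rw [h2]) (Subgroup.index_dvd_of_le h))

/-- The intersection with a normal subgroup of 2-power index. -/
theorem relIndex_inf_normal (S : Sylow 2 G) {K : Subgroup G} [K.Normal] {k : ℕ}
    (hK : K.index = 2 ^ k) : ((S : Subgroup G) ⊓ K).relIndex (S : Subgroup G) = 2 ^ k := by
  haveI : Fact (Nat.Prime 2) := ⟨Nat.prime_two⟩
  rw [Subgroup.inf_relIndex_left, ← Subgroup.relIndex_sup_right, ← hK]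
  suffices h : (S : Subgroup G) ⊔ K = ⊤ by rw [h, Subgroup.relIndex_top_right]
  rw [← Subgroup.index_eq_one]
  have h1 : ((S : Subgroup G) ⊔ K).index ∣ (S : Subgroup G).index := Subgroup.index_dvd_of_le le_sup_left
  have h2 : ((S : Subgroup G) ⊔ K).index ∣ 2 ^ k := by
    rw [← hK]; exact Subgroup.index_dvd_of_le le_sup_right
  exact Nat.eq_one_of_dvd_coprimes
    (((Nat.Prime.coprime_iff_not_dvd Nat.prime_two).2 S.not_dvd_index).symm.pow_right k) h1 h2

/-- The Sylow 2-subgroups of a normal subgroup of 2-power index. -/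
theorem sylow_normal_equiv (S : Sylow 2 G) {K : Subgroup G} [K.Normal] (P : Sylow 2 K) :
    Nonempty ((P : Subgroup K) ≃* ↥((S : Subgroup G) ⊓ K : Subgroup G)) := by
  haveI : Fact (Nat.Prime 2) := ⟨Nat.prime_two⟩
  have h1 : SylIn 2 ((S : Subgroup G) ⊓ K) K :=
    (sylIn_top S).inf_normal le_top (Subgroup.normalizer_eq_top K).ge
  obtain ⟨x, -, hx⟩ := (sylIn_map K P).conj_eq h1
  exact ⟨((Subgroup.equivMapOfInjective (P : Subgroup K) K.subtype K.subtype_injective).trans
    (Subgroup.equivMapOfInjective _ (MulAut.conj x).toMonoidHom (MulAut.conj x).injective)).trans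
    (MulEquiv.subgroupCongr hx)⟩

/-- A normal subgroup of 2-power index with cyclic Sylow 2-subgroups. -/
theorem hnpc_of_normal_cyclic (S : Sylow 2 G) {L : Subgroup G} [L.Normal] {k : ℕ}
    (hL : L.index = 2 ^ k) (hc : IsCyclic ↥((S : Subgroup G) ⊓ L : Subgroup G)) :
    Cfsg.HasNormalPComplement 2 G := by
  haveI : Fact (Nat.Prime 2) := ⟨Nat.prime_two⟩
  obtain ⟨e⟩ := sylow_normal_equiv S (default : Sylow 2 L)
  have h1 : Cfsg.HasNormalPComplement 2 L := DihedralFours.hnpc_two_cyclic _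
    (isCyclic_of_surjective e.symm e.symm.surjective)
  rw [hnpc_iff] at h1 ⊢
  have hle : Cfsg.pResidual 2 G ≤ (Cfsg.pResidual 2 L).map L.subtype := by
    refine (Subgroup.closure_le _).2 fun g (hg : (orderOf g).Coprime 2) => ?_
    have hgL : g ∈ L := pResidual_le_of_isPGroup_quotient
      (IsPGroup.of_card (n := k) (by rw [← Subgroup.index_eq_card, hL]))
      (Subgroup.subset_closure hg)
    exact ⟨⟨g, hgL⟩, Subgroup.subset_closure (show (orderOf (⟨g, hgL⟩ : L)).Coprime 2 by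
      rwa [Subgroup.orderOf_mk]), rfl⟩
  refine Nat.Coprime.coprime_dvd_left (Subgroup.card_dvd_of_le hle) ?_
  rwa [Subgroup.card_map_of_injective L.subtype_injective]

end Cfsg.Agent.Fusion
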