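import Cfsg.Agent.Lib.Solv.Component

/-!
# The generalised Fitting subgroup of a normal subgroup
-/

set_option autoImplicit false

open scoped commutatorElement

namespace Cfsg.Agent.Fusion

variable {A : Type*} [Group A] [Finite A]

theorem gfit_inf_normal (B : Subgroup A) [hB : B.Normal] :
    Cfsg.generalizedFittingSubgroup A ⊓ B = (Cfsg.generalizedFittingSubgroup ↥B).map B.subtype := by
  have hcomp : ∀ K : Subgroup A, Cfsg.IsComponent K → K ≤ B →
      K ≤ (Cfsg.generalizedFittingSubgroup ↥B).map B.subtype := by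
    intro K hK hKB
    rw [← Subgroup.map_subgroupOf_eq_of_le hKB]
    exact Subgroup.map_mono ((Solv.component_le_layer (Solv.component_subgroupOf hK hKB)).trans le_sup_left)
  refine le_antisymm ?_ (le_inf ?_ (Subgroup.map_subtype_le _))
  swap
  · rw [Cfsg.generalizedFittingSubgroup, Subgroup.map_sup]
    refine sup_le ?_ ?_
    · rw [Subgroup.map_le_iff_le_comap]
      refine sSup_le fun K hK => Subgroup.map_le_iff_le_comap.1 ((Solv.component_le_layer ?_).trans le_sup_left)
      refine Solv.component_of_subgroupOf hB.isSubnormal (Subgroup.map_subtype_le K) ?_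
      rwa [Subgroup.subgroupOf, Subgroup.comap_map_eq_self_of_injective B.subtype_injective]
    · haveI : ((Cfsg.fittingSubgroup ↥B).map B.subtype).Normal := inferInstance
      exact (Solv.normal_le_fitting (@Group.nilpotent_of_mulEquiv _ _ _ _ Solv.fittingSubgroup_nilpotent
        (Subgroup.equivMapOfInjective _ B.subtype B.subtype_injective))).trans le_sup_right
  -- components outside `B` centralise `B`
  obtain ⟨E', hE'⟩ : ∃ E', E' = sSup {K : Subgroup A | Cfsg.IsComponent K ∧ ¬ K ≤ B} := ⟨_, rfl⟩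
  obtain ⟨F, hFdef⟩ : ∃ F, F = Cfsg.fittingSubgroup A := ⟨_, rfl⟩
  haveI hE'n : E'.Normal := by
    constructor
    intro n hn x
    have h : E'.map (MulAut.conj x).toMonoidHom ≤ E' := by
      rw [hE', Subgroup.map_le_iff_le_comap]
      refine sSup_le fun K hK => ?_
      rw [← Subgroup.map_le_iff_le_comap]
      refine le_sSup ⟨Solv.component_conj hK.1 x, fun hle => hK.2 fun k hk => ?_⟩
      have := hle (Subgroup.mem_map_of_mem _ hk)
      simpa [mul_assoc] using hB.conj_mem _ this x⁻¹
    exact h (Subgroup.mem_map_of_mem _ hn)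
  have hE'B : E' ≤ Subgroup.centralizer (B : Set A) := by
    rw [hE']
    exact sSup_le fun K hK => Subgroup.commutator_eq_bot_iff_le_centralizer.1
      ((Solv.component_subnormal_dichotomy hK.1 hB.isSubnormal).resolve_left hK.2)
  have hE'F : E' ≤ Subgroup.centralizer (F : Set A) := by
    refine le_trans ?_ (Subgroup.commutator_eq_bot_iff_le_centralizer.1 (hFdef ▸ Solv.layer_commutator_fitting))
    rw [hE']
    exact sSup_le fun K hK => Solv.component_le_layer hK.1
  haveI : F.Normal := hFdef ▸ Solv.fittingSubgroup_normal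
  -- the part outside the layer of `B` is nilpotent
  have hdec : ∀ y ∈ (E' ⊔ F) ⊓ B, ∃ e ∈ E', ∃ f ∈ F, y = e * f ∧ ∀ a ∈ F, ⁅a, y⁆ = ⁅a, f⁆ := by
    intro y hy
    obtain ⟨e, he, f, hf, rfl⟩ := Subgroup.mem_sup_of_normal_left.1 (Subgroup.mem_inf.1 hy).1
    refine ⟨e, he, f, hf, rfl, fun a ha => ?_⟩
    have h1 := Subgroup.mem_centralizer_iff.1 (hE'F he)
    rw [commutatorElement_def, commutatorElement_def]
    calc a * (e * f) * a⁻¹ * (e * f)⁻¹ = (a * e) * f * a⁻¹ * f⁻¹ * e⁻¹ := by group
      _ = e * (a * f * a⁻¹ * f⁻¹) * e⁻¹ := by rw [h1 a ha]; group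
      _ = a * f * a⁻¹ * f⁻¹ := by
          rw [← h1 _ (mul_mem (mul_mem (mul_mem ha hf) (inv_mem ha)) (inv_mem hf)), mul_inv_cancel_right]
  have hgam : ∀ n, ((E' ⊔ F) ⊓ B).lowerCentralSeries (n + 1) ≤ F.lowerCentralSeries (n + 1) := by
    intro n
    induction n with
    | zero =>
      rw [Subgroup.lowerCentralSeries_succ, Subgroup.lowerCentralSeries_succ, Subgroup.lowerCentralSeries_zero,
        Subgroup.lowerCentralSeries_zero, Subgroup.commutator_le]
      intro y hy w hw
      obtain ⟨e, he, f, hf, rfl, -⟩ := hdec y hy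
      obtain ⟨e₂, he₂, f₂, hf₂, rfl, hcw⟩ := hdec w hw
      have h1 : e * (e₂ * f₂) = (e₂ * f₂) * e :=
        (Subgroup.mem_centralizer_iff.1 (hE'B he) _ (Subgroup.mem_inf.1 hw).2).symm
      have h2 : ⁅e * f, e₂ * f₂⁆ = ⁅f, f₂⁆ := by
        rw [← hcw f hf, commutatorElement_def, commutatorElement_def]
        have h3 : e * f = f * e := (Subgroup.mem_centralizer_iff.1 (hE'F he) f hf).symm
        generalize e₂ * f₂ = w at h1 ⊢
        calc e * f * w * (e * f)⁻¹ * w⁻¹ = f * (e * w) * e⁻¹ * f⁻¹ * w⁻¹ := by rw [h3]; group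
          _ = f * w * f⁻¹ * w⁻¹ := by rw [h1]; group
      rw [h2]
      exact Subgroup.commutator_mem_commutator hf hf₂
    | succ n ih =>
      rw [Subgroup.lowerCentralSeries_succ, Subgroup.lowerCentralSeries_succ (S := F), Subgroup.commutator_le]
      intro a ha w hw
      obtain ⟨e₂, he₂, f₂, hf₂, rfl, hcw⟩ := hdec w hw
      have ha' := ih ha
      rw [hcw a ((F.lowerCentralSeries_antitone (Nat.zero_le _)) ha')]
      exact Subgroup.commutator_mem_commutator ha' hf₂
  have hD : Group.IsNilpotent ↥((E' ⊔ F) ⊓ B) := by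
    rw [Subgroup.isNilpotent_iff_lowerCentralSeries]
    obtain ⟨n, hn⟩ := (Subgroup.isNilpotent_iff_lowerCentralSeries F).1 (hFdef ▸ Solv.fittingSubgroup_nilpotent)
    exact ⟨n + 1, le_bot_iff.1 ((hgam n).trans ((F.lowerCentralSeries_antitone (Nat.le_succ n)).trans hn.le))⟩
  have hDle : (E' ⊔ F) ⊓ B ≤ (Cfsg.generalizedFittingSubgroup ↥B).map B.subtype := by
    rw [← Subgroup.map_subgroupOf_eq_of_le (inf_le_right : (E' ⊔ F) ⊓ B ≤ B)]
    refine Subgroup.map_mono ((Solv.normal_le_fitting ?_).trans le_sup_right)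
    exact @Group.nilpotent_of_mulEquiv _ _ _ _ hD (Subgroup.subgroupOfEquivOfLe inf_le_right).symm
  intro x hx
  obtain ⟨hxF, hxB⟩ := Subgroup.mem_inf.1 hx
  have hle : Cfsg.generalizedFittingSubgroup A ≤
      (Cfsg.generalizedFittingSubgroup ↥B).map B.subtype ⊔ (E' ⊔ F) := by
    refine sup_le (sSup_le fun K hK => ?_) (hFdef ▸ le_sup_of_le_right le_sup_right)
    by_cases hKB : K ≤ B
    · exact (hcomp K hK hKB).trans le_sup_left
    · exact le_sup_of_le_right (le_sup_of_le_left (hE' ▸ le_sSup ⟨hK, hKB⟩))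
  obtain ⟨b, hb, c, hc, rfl⟩ := Subgroup.mem_sup_of_normal_right.1 (hle hxF)
  refine mul_mem hb (hDle (Subgroup.mem_inf.2 ⟨hc, ?_⟩))
  have := mul_mem (inv_mem (Subgroup.map_subtype_le _ hb)) hxB
  rwa [inv_mul_cancel_left] at this

theorem gfit_top_of_subnormal {G : Type*} [Group G] [Finite G]
    (h : Cfsg.generalizedFittingSubgroup G = ⊤) {S : Subgroup G} (hS : S.IsSubnormal) :
    Cfsg.generalizedFittingSubgroup ↥S = ⊤ := by
  induction hS with
  | top =>
    refine Subgroup.map_injective (Subgroup.subtype_injective (⊤ : Subgroup G)) ?_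
    rw [← gfit_inf_normal, h, ← MonoidHom.range_eq_map, Subgroup.range_subtype, inf_top_eq]
  | step S T hST _ hN ih =>
    haveI := hN
    have h1 := gfit_inf_normal (S.subgroupOf T)
    rw [ih, top_inf_eq] at h1
    have h2 : Cfsg.generalizedFittingSubgroup ↥(S.subgroupOf T) = ⊤ := by
      refine Subgroup.map_injective (Subgroup.subtype_injective (S.subgroupOf T)) ?_
      rw [← h1, ← MonoidHom.range_eq_map, Subgroup.range_subtype]
    have h3 : ∀ {H K : Type _} [Group H] [Group K] [Finite H] [Finite K] (e : H ≃* K),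
        Cfsg.generalizedFittingSubgroup H = ⊤ → Cfsg.generalizedFittingSubgroup K = ⊤ := by
      intro H K _ _ _ _ e he
      rw [eq_top_iff, ← Subgroup.map_top_of_surjective e.toMonoidHom e.surjective, ← he,
        Cfsg.generalizedFittingSubgroup, Subgroup.map_sup]
      refine sup_le_sup ?_ (Solv.fitting_map_equiv e)
      rw [Subgroup.map_le_iff_le_comap]
      refine sSup_le fun L hL => Subgroup.map_le_iff_le_comap.1 (Solv.component_le_layer ?_)
      exact ⟨Subgroup.IsSubnormal.map (f := e.toMonoidHom) e.surjective hL.1,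
        Local.isQuasisimple_congr (L.equivMapOfInjective _ e.injective) hL.2⟩
    exact h3 (Subgroup.subgroupOfEquivOfLe hST) h2

theorem gfit_self (X : Type*) [Group X] [Finite X] :
    Cfsg.generalizedFittingSubgroup ↥(Cfsg.generalizedFittingSubgroup X) = ⊤ := by
  haveI : (Cfsg.generalizedFittingSubgroup X).Normal := Local.gfit_normal
  refine Subgroup.map_injective (Subgroup.subtype_injective _) ?_
  rw [← gfit_inf_normal, inf_idem, ← MonoidHom.range_eq_map, Subgroup.range_subtype]

end Cfsg.Agent.Fusion
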