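import Cfsg.Agent.Lib.Fusion.FixedPointParity
import Cfsg.Agent.Lib.Small.GTwoSylow.Model
import Cfsg.Agent.Lib.Char.ZStarElement

/-!
Classes of involutions of a simple group whose Sylow two-subgroups are of type G2(odd).
-/

set_option autoImplicit false
set_option linter.unusedSectionVars false
set_option linter.style.haveILetI false

namespace Cfsg.Agent.Fusion.GTwoType

open Cfsg.Agent.Small.GTwoSylow Cfsg.Agent.Small.GTwoSylow.Mo

section Model

variable {n : ℕ}

local notation "N2" => ZMod (2 ^ n)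

/-- Bool to the group of order two. -/
def bch (b : Bool) : Multiplicative (ZMod 2) := Multiplicative.ofAdd (bif b then 1 else 0)

theorem bch_xor : ∀ a b, bch (xor a b) = bch a * bch b := by decide

theorem bch_ne {b : Bool} : bch b ≠ 1 ↔ b = true := by revert b; decide

theorem bch_eq {b : Bool} : bch b = 1 ↔ b = false := by revert b; decide

/-- First quotient. -/
def chI : Mo n →* Multiplicative (ZMod 2) where
  toFun p := bch p.i
  map_one' := rfl
  map_mul' p q := bch_xor p.i q.i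

/-- Second quotient. -/
def chJ : Mo n →* Multiplicative (ZMod 2) where
  toFun p := bch p.j
  map_one' := rfl
  map_mul' p q := bch_xor p.j q.j

/-- The third involution pair. -/
def e1 (n : ℕ) : Mo n := ⟨hf n, 0, false, false⟩

/-- The third involution pair. -/
def e2 (n : ℕ) : Mo n := ⟨0, hf n, false, false⟩

/-- The exchanging involution. -/
def w0 (n : ℕ) : Mo n := ⟨0, 0, false, true⟩

/-- The product of the two involutions. -/
def uw0 (n : ℕ) : Mo n := ⟨0, 0, true, true⟩

/-- A quarter of the modulus. -/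
def qt (n : ℕ) : ZMod (2 ^ n) := ((2 ^ (n - 2) : ℕ) : ZMod (2 ^ n))

theorem qt_add (hn : 2 ≤ n) : qt n + qt n = hf n := by
  rw [qt, hf, ← Nat.cast_add, ← two_mul, ← pow_succ']
  congr 2
  omega

theorem comm_coords (q r : Mo n) : (q * r * q⁻¹ * r⁻¹).i = false ∧ (q * r * q⁻¹ * r⁻¹).j = false := by
  obtain ⟨a, b, i, j⟩ := q
  obtain ⟨c, d, k, l⟩ := r
  cases i <;> cases j <;> cases k <;> cases l <;> simp [mul_def, inv_def]

theorem invol_ff (hn : 2 ≤ n) {a b : N2} (h : (⟨a, b, false, false⟩ : Mo n) * ⟨a, b, false, false⟩ = 1)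
    (h1 : (⟨a, b, false, false⟩ : Mo n) ≠ 1) :
    (⟨a, b, false, false⟩ : Mo n) = zz n ∨ (⟨a, b, false, false⟩ : Mo n) = e1 n ∨
      (⟨a, b, false, false⟩ : Mo n) = e2 n := by
  simp [mul_def, one_def, sg] at h
  rcases half_cases (by omega) h.1 with rfl | rfl <;> rcases half_cases (by omega) h.2 with rfl | rfl
  · exact absurd rfl h1
  · exact Or.inr (Or.inr rfl)
  · exact Or.inr (Or.inl rfl)
  · exact Or.inl rfl

theorem invol_ft {a b : N2} (h : (⟨a, b, false, true⟩ : Mo n) * ⟨a, b, false, true⟩ = 1) : b = -a := by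
  simp [mul_def, one_def, sg] at h
  exact eq_neg_of_add_eq_zero_right h.1

theorem invol_tt {a b : N2} (h : (⟨a, b, true, true⟩ : Mo n) * ⟨a, b, true, true⟩ = 1) : b = a := by
  simp [mul_def, one_def, sg] at h
  exact (sub_eq_zero.1 (by linear_combination h.1)).symm

theorem conj_w (a : N2) :
    (⟨a, -a, false, true⟩ : Mo n) = ⟨a, 0, false, false⟩ * w0 n * (⟨a, 0, false, false⟩ : Mo n)⁻¹ := by
  ext <;> simp [mul_def, inv_def, w0, sg]

theorem conj_uw (a : N2) :
    (⟨a, a, true, true⟩ : Mo n) = ⟨a, 0, false, false⟩ * uw0 n * (⟨a, 0, false, false⟩ : Mo n)⁻¹ := by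
  ext <;> simp [mul_def, inv_def, uw0, sg]

theorem conj_u (a b c d : N2) :
    (⟨a + (c + c), b + (d + d), true, false⟩ : Mo n) =
      ⟨c, d, false, false⟩ * ⟨a, b, true, false⟩ * (⟨c, d, false, false⟩ : Mo n)⁻¹ := by
  ext <;> simp [mul_def, inv_def, sg] <;> abel

theorem conj_e : e2 n = w0 n * e1 n * (w0 n)⁻¹ := by
  ext <;> simp [mul_def, inv_def, e1, e2, w0, sg]

theorem zz_central (hn : 2 ≤ n) (q : Mo n) : q * zz n = zz n * q := by
  obtain ⟨a, b, i, j⟩ := q
  have hneg := neg_hf (n := n) (by omega)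
  cases i <;> cases j <;> simp [mul_def, zz, sg, hneg, add_comm]

theorem zz_ne (hn : 2 ≤ n) : zz n ≠ 1 := fun h => hf_ne (n := n) (by omega) (congrArg Mo.a h)

theorem zz_sq (hn : 2 ≤ n) : zz n * zz n = 1 := by
  simp [mul_def, one_def, zz, sg, hf_add (n := n) (by omega)]

theorem e1_sq (hn : 2 ≤ n) : e1 n * e1 n = 1 := by
  simp [mul_def, one_def, e1, sg, hf_add (n := n) (by omega)]

theorem e2_sq (hn : 2 ≤ n) : e2 n * e2 n = 1 := by
  simp [mul_def, one_def, e2, sg, hf_add (n := n) (by omega)]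

theorem e1_mul_e2 : e1 n * e2 n = zz n := by ext <;> simp [mul_def, e1, e2, zz, sg]

theorem e_ne (hn : 2 ≤ n) : e1 n ≠ 1 ∧ e2 n ≠ 1 ∧ e1 n ≠ e2 n :=
  ⟨fun h => hf_ne (n := n) (by omega) (congrArg Mo.a h), fun h => hf_ne (n := n) (by omega) (congrArg Mo.b h),
    fun h => hf_ne (n := n) (by omega) (congrArg Mo.a h)⟩

theorem e_comm_u (hn : 2 ≤ n) (a b : N2) : Commute (e1 n) (⟨a, b, true, false⟩ : Mo n) ∧
    Commute (e2 n) (⟨a, b, true, false⟩ : Mo n) := by
  have hneg := neg_hf (n := n) (by omega)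
  constructor <;> ext <;> simp [mul_def, e1, e2, sg, hneg, add_comm]

/-- The central involution as a commutator inside most centralisers of involutions. -/
theorem exists_comm (hn : 2 ≤ n) {p : Mo n} (hp : p * p = 1) (hij : p.i = true ∨ p.j = true)
    (hev : p.i = true → p.j = false → ∃ c, p.b = p.a + (c + c)) :
    ∃ q r : Mo n, Commute q p ∧ Commute r p ∧ q * r * q⁻¹ * r⁻¹ = zz n := by
  obtain ⟨a, b, i, j⟩ := p
  have hneg := neg_hf (n := n) (by omega)
  have hq := qt_add hn
  cases i <;> cases j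
  · simp at hij
  · obtain rfl := invol_ft hp
    refine ⟨⟨qt n, qt n, false, false⟩, ⟨a + a, 0, true, false⟩, ?_, ?_, ?_⟩
    · ext <;> simp [mul_def, sg, add_comm]
    · ext <;> simp [mul_def, sg]
    · ext <;> simp [mul_def, inv_def, zz, sg, ← hq] <;> abel
  · obtain ⟨c, hc⟩ := hev rfl rfl
    simp only at hc
    refine ⟨e1 n, ⟨-c, c, false, true⟩, (e_comm_u hn a b).1, ?_, ?_⟩
    · ext <;> simp [mul_def, sg, hc] <;> abel
    · ext <;> simp [mul_def, inv_def, zz, e1, sg, hneg]
  · obtain rfl := invol_tt hp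
    refine ⟨⟨qt n, -qt n, false, false⟩, ⟨b + b, 0, true, false⟩, ?_, ?_, ?_⟩
    · ext <;> simp [mul_def, sg, add_comm]
    · ext <;> simp [mul_def, sg]
    · ext <;> simp [mul_def, inv_def, zz, sg, ← hq]
      · abel
      · have h4 : qt n + qt n + (qt n + qt n) = 0 := by rw [hq]; exact hf_add (by omega)
        linear_combination -h4

/-- The centraliser of an involution of the third u-class. -/
theorem comm_odd_u (hn : 2 ≤ n) {a b : N2} (hodd : ¬ ∃ c, b = a + (c + c)) {q : Mo n}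
    (hq : q * q = 1) (h : Commute q (⟨a, b, true, false⟩ : Mo n)) :
    q = 1 ∨ q = zz n ∨ q = e1 n ∨ q = e2 n ∨ ∃ c d, q = ⟨a + (c + c), b + (d + d), true, false⟩ := by
  obtain ⟨x, y, k, l⟩ := q
  cases k <;> cases l
  · by_cases h1 : (⟨x, y, false, false⟩ : Mo n) = 1
    · exact Or.inl h1
    · rcases invol_ff hn hq h1 with e | e | e
      · exact Or.inr (Or.inl e)
      · exact Or.inr (Or.inr (Or.inl e))
      · exact Or.inr (Or.inr (Or.inr (Or.inl e)))
  · have h' := h.eq
    simp [mul_def, sg] at h'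
    exact absurd ⟨-x, by linear_combination h'.1⟩ hodd
  · have h' := h.eq
    simp [mul_def, sg] at h'
    have hx : (x - a) + (x - a) = 0 := by linear_combination h'.1
    have hy : (y - b) + (y - b) = 0 := by linear_combination h'.2
    have key : ∀ t : N2, t + t = 0 → ∃ c, t = c + c := fun t ht => by
      rcases half_cases (by omega) ht with rfl | rfl
      · exact ⟨0, by simp⟩
      · exact ⟨qt n, (qt_add hn).symm⟩
    obtain ⟨c, hc⟩ := key _ hx
    obtain ⟨d, hd⟩ := key _ hy
    exact Or.inr (Or.inr (Or.inr (Or.inr ⟨c, d, by rw [← hc, ← hd, add_sub_cancel, add_sub_cancel]⟩)))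
  · have h' := h.eq
    simp [mul_def, sg] at h'
    refine absurd ⟨x - a, ?_⟩ hodd
    linear_combination (-1 : N2) * h'.1

/-- Two elements with equal doubles and in the same half are equal. -/
theorem double_inj (hn : 1 ≤ n) {x y : N2} (h : x + x = y + y)
    (hd : (x.val < 2 ^ (n - 1) ↔ y.val < 2 ^ (n - 1))) : x = y := by
  haveI : NeZero (2 ^ n) := ⟨pow_ne_zero _ two_ne_zero⟩
  rcases half_cases hn (x := x - y) (by linear_combination h) with e | e
  · exact sub_eq_zero.1 e
  · exfalso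
    have hx : x = y + hf n := by rw [← e]; ring
    have hv : x.val = (y.val + 2 ^ (n - 1)) % 2 ^ n := by
      rw [hx, ZMod.val_add, hf, ZMod.val_natCast, Nat.mod_eq_of_lt (Nat.pow_lt_pow_right one_lt_two (by omega))]
    have h2 : 2 ^ n = 2 * 2 ^ (n - 1) := by rw [← pow_succ']; congr 1; omega
    have hy := ZMod.val_lt y
    rcases lt_or_ge (y.val + 2 ^ (n - 1)) (2 ^ n) with hlt | hge
    · rw [Nat.mod_eq_of_lt hlt] at hv; omega
    · rw [Nat.mod_eq_sub_mod hge, Nat.mod_eq_of_lt (by omega)] at hv; omega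

/-- The centraliser of an involution outside the base is small. -/
theorem card_cent_le (hn : 2 ≤ n) {p : Mo n} (hp : p * p = 1) (hij : p.i = true ∨ p.j = true) :
    Nat.card ↥(Subgroup.centralizer ({p} : Set (Mo n))) ≤ 2 ^ (n + 2) := by
  haveI : NeZero (2 ^ n) := ⟨pow_ne_zero _ two_ne_zero⟩
  obtain ⟨a, b, i, j⟩ := p
  cases j
  · cases i
    · simp at hij
    · refine le_trans (Nat.card_le_card_of_injective (fun q => (q.1.i, q.1.j, decide (q.1.a.val < 2 ^ (n - 1)),
        decide (q.1.b.val < 2 ^ (n - 1)))) ?_) ?_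
      · rintro ⟨⟨x, y, k, l⟩, h1⟩ ⟨⟨x', y', k', l'⟩, h2⟩ he
        simp only [Prod.mk.injEq, decide_eq_decide] at he
        obtain ⟨rfl, rfl, hx, hy⟩ := he
        have e1 := Subgroup.mem_centralizer_singleton_iff.1 h1
        have e2 := Subgroup.mem_centralizer_singleton_iff.1 h2
        cases k <;> cases l <;> simp [mul_def, sg] at e1 e2 <;>
          obtain rfl : x = x' := double_inj (by omega) (by linear_combination e1.1 - e2.1) hx <;>
          obtain rfl : y = y' := double_inj (by omega) (by linear_combination e1.2 - e2.2) hy <;> rfl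
      · simp only [Nat.card_eq_fintype_card, Fintype.card_prod, Fintype.card_bool]
        calc 2 * (2 * (2 * 2)) = 2 ^ 4 := by norm_num
          _ ≤ _ := Nat.pow_le_pow_right two_pos (by omega)
  · refine le_trans (Nat.card_le_card_of_injective (fun q => (q.1.a, q.1.i, q.1.j)) ?_) ?_
    · rintro ⟨⟨x, y, k, l⟩, h1⟩ ⟨⟨x', y', k', l'⟩, h2⟩ he
      simp only [Prod.mk.injEq] at he
      obtain ⟨rfl, rfl, rfl⟩ := he
      have e1 := Subgroup.mem_centralizer_singleton_iff.1 h1
      have e2 := Subgroup.mem_centralizer_singleton_iff.1 h2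
      have hy : y = y' := by
        cases i <;> cases k <;> cases l <;> simp [mul_def, sg] at e1 e2 <;>
          first
            | linear_combination e1.1 - e2.1
            | linear_combination e2.1 - e1.1
      subst hy; rfl
    · simp only [Nat.card_prod, Nat.card_zmod, Nat.card_eq_fintype_card, Fintype.card_bool]
      rw [pow_add]; norm_num

/-- The centraliser of the exchanging involution is that large. -/
theorem card_cent_w_ge : 2 ^ (n + 2) ≤ Nat.card ↥(Subgroup.centralizer ({w0 n} : Set (Mo n))) := by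
  haveI : NeZero (2 ^ n) := ⟨pow_ne_zero _ two_ne_zero⟩
  refine le_trans (le_of_eq ?_) (Nat.card_le_card_of_injective (α := ZMod (2 ^ n) × Bool × Bool)
    (fun q => ⟨⟨q.1, q.1, q.2.1, q.2.2⟩, Subgroup.mem_centralizer_singleton_iff.2 (by
      obtain ⟨x, k, l⟩ := q
      cases k <;> cases l <;> ext <;> simp [mul_def, w0, sg])⟩) ?_)
  · simp only [Nat.card_prod, Nat.card_zmod, Nat.card_eq_fintype_card, Fintype.card_bool]
    rw [pow_add]; norm_num
  · rintro ⟨x, k, l⟩ ⟨x', k', l'⟩ h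
    simp at h
    simp [h]

/-- A set of elements of the u-coset closed under conjugation has size divisible by a large power of two. -/
theorem dvd_card_u (hn : 1 ≤ n) (P : N2 → N2 → Prop)
    (hP : ∀ a b c d, P a b → P (a + (c + c)) (b + (d + d))) :
    2 ^ (n - 1) * 2 ^ (n - 1) ∣ Nat.card {x : N2 × N2 // P x.1 x.2} := by
  haveI : NeZero (2 ^ n) := ⟨pow_ne_zero _ two_ne_zero⟩
  let d : N2 →+ N2 := { toFun := fun x => x + x, map_zero' := add_zero 0, map_add' := fun x y => by abel }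
  have hker : Nat.card d.ker = 2 := by
    refine (Nat.card_eq_of_bijective (fun b : Bool => (⟨bif b then hf n else 0, ?_⟩ : d.ker)) ⟨?_, ?_⟩).symm.trans
      (by rw [Nat.card_eq_fintype_card, Fintype.card_bool])
    · cases b
      · exact d.map_zero
      · exact hf_add hn
    · intro b c h
      have h' := congrArg Subtype.val h
      cases b <;> cases c <;> first | rfl | exact absurd h' (hf_ne hn) | exact absurd h'.symm (hf_ne hn)
    · rintro ⟨x, hx⟩
      rcases half_cases hn hx with rfl | rfl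
      exacts [⟨false, rfl⟩, ⟨true, rfl⟩]
  have hD : Nat.card d.range = 2 ^ (n - 1) := by
    have h := AddSubgroup.card_mul_index d.ker
    rw [AddSubgroup.index_ker, hker, Nat.card_zmod] at h
    have h2 : 2 ^ n = 2 * 2 ^ (n - 1) := by rw [← pow_succ']; congr 1; omega
    omega
  set H := d.range.prod d.range with hH
  have hcard : Nat.card H = 2 ^ (n - 1) * 2 ^ (n - 1) := by
    rw [hH, Nat.card_congr (AddSubgroup.prodEquiv _ _).toEquiv, Nat.card_prod, hD]
  have hset : {x : N2 × N2 | P x.1 x.2} = QuotientAddGroup.mk ⁻¹'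
      ((QuotientAddGroup.mk : N2 × N2 → (N2 × N2) ⧸ H) '' {x | P x.1 x.2}) := by
    refine Set.Subset.antisymm (Set.subset_preimage_image _ _) ?_
    rintro x ⟨y, hy, hyx⟩
    obtain ⟨⟨c, hc⟩, ⟨e, he⟩⟩ := QuotientAddGroup.eq.1 hyx
    have := hP y.1 y.2 c e hy
    change c + c = -y.1 + x.1 at hc
    change e + e = -y.2 + x.2 at he
    rw [hc, he, add_neg_cancel_left, add_neg_cancel_left] at this
    exact this
  have := Nat.card_congr ((Equiv.setCongr hset).trans (QuotientAddGroup.preimageMkEquivAddSubgroupProdSet H _))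
  rw [Nat.card_prod, hcard] at this
  exact Dvd.intro _ this.symm

/-- The marked count. -/
theorem marked_card (hn : 3 ≤ n) (K : Mo n → Prop) (hconj : ∀ q p, K p → K (q * p * q⁻¹))
    (hK : ∀ p, K p → p * p = 1) (huw : K (uw0 n)) :
    ∃ c, Nat.card {p : Mo n // K p ∧ p.i = true} = 2 ^ n * (2 * c + 1) := by
  haveI : NeZero (2 ^ n) := ⟨pow_ne_zero _ two_ne_zero⟩
  classical
  obtain ⟨c, hc⟩ := dvd_card_u (n := n) (by omega) (fun a b => K ⟨a, b, true, false⟩) (fun a b c d h => by
    rw [conj_u]; exact hconj _ _ h)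
  let f : ({x : N2 × N2 // K ⟨x.1, x.2, true, false⟩} ⊕ N2) → {p : Mo n // K p ∧ p.i = true} :=
    Sum.elim (fun x => ⟨⟨x.1.1, x.1.2, true, false⟩, x.2, rfl⟩)
      (fun a => ⟨⟨a, a, true, true⟩, by rw [conj_uw]; exact hconj _ _ huw, rfl⟩)
  have hf : Function.Bijective f := by
    refine ⟨?_, ?_⟩
    · rintro (⟨⟨a, b⟩, _⟩ | a) (⟨⟨a', b'⟩, _⟩ | a') h <;> simp [f] at h <;> simp [h]
    · rintro ⟨⟨a, b, i, j⟩, hp, hi⟩
      simp only at hi
      subst hi
      cases j
      · exact ⟨Sum.inl ⟨(a, b), hp⟩, rfl⟩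
      · obtain rfl := invol_tt (hK _ hp)
        exact ⟨Sum.inr b, rfl⟩
  refine ⟨2 ^ (n - 3) * c, ?_⟩
  rw [← Nat.card_eq_of_bijective f hf, Nat.card_sum, hc, Nat.card_zmod]
  have e : 2 ^ (n - 1) * 2 ^ (n - 1) = 2 ^ n * (2 * 2 ^ (n - 3)) := by
    rw [← pow_add, ← pow_succ', ← pow_add]; congr 1; omega
  rw [e]; ring

end Model

variable {G : Type*} [Group G] [Finite G]

/-- Conjugating a two-subgroup centralised by the central involution into the Sylow subgroup. -/
theorem conj_into (S : Sylow 2 G) {z : G} (hz : (S : Subgroup G) ≤ Subgroup.centralizer {z}) {U : Subgroup G}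
    (hU : IsPGroup 2 U) (hUz : U ≤ Subgroup.centralizer {z}) :
    ∃ c : G, c * z * c⁻¹ = z ∧ ∀ u ∈ U, c * u * c⁻¹ ∈ (S : Subgroup G) := by
  haveI : Fact (Nat.Prime 2) := ⟨Nat.prime_two⟩
  obtain ⟨Q, hQ⟩ := (hU.comap_of_injective (Subgroup.centralizer {z}).subtype Subtype.val_injective).exists_le_sylow
  obtain ⟨c, hc⟩ := MulAction.exists_smul_eq ↥(Subgroup.centralizer {z}) Q (S.subtype hz)
  refine ⟨c.1, by rw [Subgroup.mem_centralizer_singleton_iff.1 c.2, mul_inv_cancel_right], fun u hu => ?_⟩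
  have h : c * ⟨u, hUz hu⟩ * c⁻¹ ∈ (c • Q : Sylow 2 ↥(Subgroup.centralizer {z})) := by
    exact Subgroup.smul_mem_pointwise_smul (⟨u, hUz hu⟩ : ↥(Subgroup.centralizer ({z} : Set G)))
      (MulAut.conj c) _ (hQ (show (⟨u, hUz hu⟩ : ↥(Subgroup.centralizer ({z} : Set G))).1 ∈ U from hu))
  rw [hc] at h
  exact h

variable {n : ℕ}

/-- The classes of involutions. -/
theorem classes [IsSimpleGroup G] (hn : 2 ≤ n) (S : Sylow 2 G) (es : Mo n ≃* ↥(S : Subgroup G)) :
    (∀ x y : G, orderOf x = 2 → orderOf y = 2 → IsConj x y) ∨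
      (Nat.card ↥(S : Subgroup G) = 64 ∧ ∃ x y : G, orderOf x = 2 ∧ orderOf y = 2 ∧ ¬ IsConj x y ∧
        ∀ z : G, orderOf z = 2 → IsConj z x ∨ IsConj z y) := by
  classical
  haveI : Fact (Nat.Prime 2) := ⟨Nat.prime_two⟩
  obtain ⟨f, hf⟩ : ∃ f : Mo n →* G, f = (S : Subgroup G).subtype.comp es.toMonoidHom := ⟨_, rfl⟩
  have hfv : ∀ p, f p = (es p : G) := fun p => by rw [hf]; rfl
  have hinj : Function.Injective f := fun p q h => es.injective (Subtype.ext (by rwa [← hfv, ← hfv]))
  have hfS : ∀ p, f p ∈ (S : Subgroup G) := fun p => by rw [hfv]; exact (es p).2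
  have hfs : ∀ y ∈ (S : Subgroup G), ∃ p, f p = y := fun y hy => ⟨es.symm ⟨y, hy⟩, by rw [hfv, es.apply_symm_apply]⟩
  have hord : ∀ p : Mo n, p * p = 1 → p ≠ 1 → orderOf (f p) = 2 := fun p h2 h1 =>
    orderOf_eq_prime (by rw [pow_two, ← map_mul, h2, map_one]) fun h => h1 (hinj (h.trans (map_one f).symm))
  have hinv : ∀ p : Mo n, orderOf (f p) = 2 → p * p = 1 ∧ p ≠ 1 := fun p h => by
    refine ⟨hinj ?_, fun h1 => by rw [h1, map_one, orderOf_one] at h; omega⟩
    rw [map_mul, map_one, ← pow_two, ← h, pow_orderOf_eq_one]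
  -- the group is perfect with trivial centre
  have hne : f (w0 n) * f (e1 n) ≠ f (e1 n) * f (w0 n) := by
    rw [← map_mul, ← map_mul]
    intro h
    exact hf_ne (n := n) (by omega) (by simpa [mul_def, w0, e1, sg] using (congrArg Mo.a (hinj h)).symm)
  have hperf : commutator G = ⊤ := (Subgroup.Normal.eq_bot_or_eq_top inferInstance).resolve_left fun h => by
    refine hne (commutatorElement_eq_one_iff_mul_comm.1 ?_)
    rw [← Subgroup.mem_bot, ← h, commutator_def]
    exact Subgroup.commutator_mem_commutator (Subgroup.mem_top _) (Subgroup.mem_top _)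
  have hcen : Subgroup.center G = ⊥ := (Subgroup.Normal.eq_bot_or_eq_top inferInstance).resolve_right fun h =>
    hne (Subgroup.mem_center_iff.1 (h ▸ Subgroup.mem_top (f (e1 n))) (f (w0 n)))
  -- any involution is conjugate to a named element
  have hinS : ∀ x : G, orderOf x = 2 → ∃ p, IsConj x (f p) ∧ p * p = 1 ∧ p ≠ 1 := fun x hx => by
    have hp : IsPGroup 2 ↥(Subgroup.zpowers x) := IsPGroup.of_card (n := 1) (by rw [Nat.card_zpowers, hx, pow_one])
    obtain ⟨Q, hQ⟩ := hp.exists_le_sylow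
    obtain ⟨g, hg⟩ := MulAction.exists_smul_eq G Q S
    have hm : g * x * g⁻¹ ∈ (S : Subgroup G) := by
      rw [← hg, Sylow.coe_subgroup_smul]
      exact Subgroup.smul_mem_pointwise_smul x (MulAut.conj g) _ (hQ (Subgroup.mem_zpowers x))
    obtain ⟨p, hp⟩ := hfs _ hm
    refine ⟨p, isConj_iff.2 ⟨g, hp.symm⟩, hinv p ?_⟩
    rw [hp, ← hx]
    exact (MulAut.conj g).orderOf_eq x
  set z := f (zz n) with hz
  have hzo : orderOf z = 2 := hord _ (zz_sq hn) (zz_ne hn)
  have hSz : (S : Subgroup G) ≤ Subgroup.centralizer {z} := fun y hy => by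
    obtain ⟨p, rfl⟩ := hfs y hy
    rw [Subgroup.mem_centralizer_singleton_iff, hz, ← map_mul, ← map_mul, zz_central hn]
  have hcj : ∀ q p : Mo n, IsConj (f p) (f (q * p * q⁻¹)) := fun q p =>
    isConj_iff.2 ⟨f q, by rw [map_mul, map_mul, map_inv]⟩
  have he12 : IsConj (f (e1 n)) (f (e2 n)) := by rw [conj_e]; exact hcj _ _
  -- carrying the centraliser of a conjugate of z
  have hphi : ∀ p : Mo n, IsConj (f p) z → ∃ φ : ∀ q : Mo n, Commute q p → Mo n, ∃ g : G,
      g * f p * g⁻¹ = z ∧ ∀ q h, f (φ q h) = g * f q * g⁻¹ := fun p hp => by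
    obtain ⟨g0, hg0⟩ := isConj_iff.1 hp
    set U : Subgroup G := (((Subgroup.centralizer ({p} : Set (Mo n))).map f).map (MulAut.conj g0).toMonoidHom)
      with hU
    have hUp : IsPGroup 2 U := ((Mo.isPGroup.to_subgroup _).map f).map _
    have hUz : U ≤ Subgroup.centralizer {z} := by
      rintro _ ⟨_, ⟨q, hq, rfl⟩, rfl⟩
      rw [Subgroup.mem_centralizer_singleton_iff, ← hg0]
      show g0 * f q * g0⁻¹ * (g0 * f p * g0⁻¹) = g0 * f p * g0⁻¹ * (g0 * f q * g0⁻¹)
      have e := congrArg f (Subgroup.mem_centralizer_singleton_iff.1 hq)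
      rw [map_mul, map_mul] at e
      calc g0 * f q * g0⁻¹ * (g0 * f p * g0⁻¹) = g0 * (f q * f p) * g0⁻¹ := by group
        _ = g0 * (f p * f q) * g0⁻¹ := by rw [e]
        _ = _ := by group
    obtain ⟨c, hc, hcu⟩ := conj_into S hSz hUp hUz
    have hmem : ∀ q : Mo n, Commute q p → ∃ r, f r = c * g0 * f q * (c * g0)⁻¹ := fun q hq => by
      refine hfs _ ?_
      have := hcu (g0 * f q * g0⁻¹) ⟨f q, ⟨q, Subgroup.mem_centralizer_singleton_iff.2 hq.eq, rfl⟩, rfl⟩
      rwa [show c * g0 * f q * (c * g0)⁻¹ = c * (g0 * f q * g0⁻¹) * c⁻¹ by group]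
    choose φ hφ using hmem
    exact ⟨φ, c * g0, by rw [show c * g0 * f p * (c * g0)⁻¹ = c * (g0 * f p * g0⁻¹) * c⁻¹ by group, hg0, hc], hφ⟩
  -- the central involution fuses to the other involutions of the base
  have hze : IsConj (f (e1 n)) z := by
    by_contra hze
    have hze2 : ¬ IsConj (f (e2 n)) z := fun h => hze (he12.trans h)
    obtain ⟨g, hgS, hgne⟩ : ∃ g : G, g * z * g⁻¹ ∈ S ∧ g * z * g⁻¹ ≠ z := by
      by_contra hno
      push Not at hno
      have hC := Cfsg.Agent.Char.zStar (Cfsg.Agent.Char.oddInvol_of_isolated_sylow hzo (hfS _) hno)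
      have hO : Cfsg.oddCore G = ⊥ := (Subgroup.Normal.eq_bot_or_eq_top inferInstance).resolve_right fun h => by
        have hodd := Cfsg.Agent.Char.card_oddCore_odd G
        rw [h, Subgroup.card_top] at hodd
        have h2 : 2 ∣ Nat.card G := hzo ▸ orderOf_dvd_natCard z
        exact (Nat.not_even_iff_odd.2 hodd) (even_iff_two_dvd.2 h2)
      have hzc : z ∈ Subgroup.center G := Subgroup.mem_center_iff.2 fun g => by
        have h := hC g
        rw [hO, Subgroup.mem_bot, mul_inv_eq_one, mul_inv_eq_iff_eq_mul] at h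
        exact h.symm
      rw [hcen, Subgroup.mem_bot] at hzc
      rw [hzc, orderOf_one] at hzo
      omega
    obtain ⟨p, hp⟩ := hfs _ hgS
    have hpc : IsConj (f p) z := (isConj_iff.2 ⟨g, hp.symm⟩ : IsConj z (f p)).symm
    have hpz : p ≠ zz n := fun h => hgne (by rw [← hp, h])
    have hp2 : orderOf (f p) = 2 := by rw [hp, ← hzo]; exact (MulAut.conj g).orderOf_eq z
    -- every other conjugate is an odd u-element
    have hodd : ∀ p : Mo n, IsConj (f p) z → p ≠ zz n → orderOf (f p) = 2 →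
        ∃ a b, p = ⟨a, b, true, false⟩ ∧ ¬ ∃ c, b = a + (c + c) := by
      intro p hpc hpz hp2
      obtain ⟨hpp, hp1⟩ := hinv p hp2
      have hij : p.i = true ∨ p.j = true := by
        obtain ⟨a, b, i, j⟩ := p
        cases i <;> cases j <;> simp
        rcases invol_ff hn hpp hp1 with h | h | h
        · exact hpz h
        · exact hze (h ▸ hpc)
        · exact hze2 (h ▸ hpc)
      by_contra hno
      obtain ⟨q, r, hq, hr, hqr⟩ := exists_comm hn hpp hij (fun hi hj => by
        by_contra hc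
        exact hno ⟨p.a, p.b, Mo.ext rfl rfl hi hj, hc⟩)
      obtain ⟨φ, g, hg, hφ⟩ := hphi p hpc
      set s := φ q hq * φ r hr * (φ q hq)⁻¹ * (φ r hr)⁻¹ with hs
      have hfs' : f s = g * z * g⁻¹ := by
        rw [hs, map_mul, map_mul, map_mul, map_inv, map_inv, hφ, hφ, hz, ← hqr, map_mul, map_mul, map_mul,
          map_inv, map_inv]
        group
      obtain ⟨hss, hs1⟩ := hinv s (by rw [hfs', ← hzo]; exact (MulAut.conj g).orderOf_eq z)
      obtain ⟨hsi, hsj⟩ := comm_coords (φ q hq) (φ r hr)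
      have hse : s = ⟨s.a, s.b, false, false⟩ := Mo.ext rfl rfl hsi hsj
      have hconj : IsConj (f s) z := (isConj_iff.2 ⟨g, hfs'.symm⟩ : IsConj z (f s)).symm
      rcases invol_ff hn (hse ▸ hss) (hse ▸ hs1) with h | h | h
      · rw [← hse] at h
        refine hpz (hinj ?_)
        rw [h, ← hz] at hfs'
        rw [← hz]
        exact mul_left_cancel (mul_right_cancel (hg.trans hfs'))
      · rw [← hse] at h; exact hze (h ▸ hconj)
      · rw [← hse] at h; exact hze2 (h ▸ hconj)
    obtain ⟨a, b, rfl, hab⟩ := hodd p hpc hpz hp2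
    obtain ⟨hc1, hc2⟩ := e_comm_u hn a b
    obtain ⟨φ, g, hg, hφ⟩ := hphi _ hpc
    have hne3 := e_ne (n := n) hn
    have hzp : Commute (zz n) (⟨a, b, true, false⟩ : Mo n) := (zz_central hn _).symm
    obtain ⟨P, hP⟩ : ∃ P, P = φ (zz n) hzp := ⟨_, rfl⟩
    have hfP : f P = g * z * g⁻¹ := by rw [hP]; exact hφ _ hzp
    have hPc : IsConj (f P) z := (isConj_iff.2 ⟨g, hfP.symm⟩ : IsConj z (f P)).symm
    have hPz : P ≠ zz n := fun h => hpz (hinj (by
      have h' : z = g * z * g⁻¹ := by rw [← hfP, h]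
      exact mul_left_cancel (mul_right_cancel (hg.trans h'))))
    obtain ⟨a', b', hP', hab'⟩ := hodd P hPc hPz (by rw [hfP, ← hzo]; exact (MulAut.conj g).orderOf_eq z)
    have himg : ∀ q : Mo n, ∀ h : Commute q (⟨a, b, true, false⟩ : Mo n), q * q = 1 → q ≠ 1 → ¬ IsConj (f q) z →
        φ q h = e1 n ∨ φ q h = e2 n := by
      intro q h hqq hq1 hqz
      have ho : orderOf (f (φ q h)) = 2 := by rw [hφ, ← hord q hqq hq1]; exact (MulAut.conj g).orderOf_eq (f q)
      have hnz : ¬ IsConj (f (φ q h)) z := fun h' => hqz ((isConj_iff.2 ⟨g, (hφ q h).symm⟩).trans h')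
      have hcP : Commute (φ q h) P := hinj (by
        rw [map_mul, map_mul, hfP, hφ, hz]
        have e := congrArg f (zz_central hn q)
        rw [map_mul, map_mul] at e
        calc g * f q * g⁻¹ * (g * f (zz n) * g⁻¹) = g * (f q * f (zz n)) * g⁻¹ := by group
          _ = g * (f (zz n) * f q) * g⁻¹ := by rw [e]
          _ = _ := by group)
      rw [hP'] at hcP
      rcases comm_odd_u hn hab' (hinv _ ho).1 hcP with h' | h' | h' | h' | ⟨c, d, h'⟩
      · exact absurd h' (hinv _ ho).2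
      · exact absurd (h' ▸ IsConj.refl z) hnz
      · exact Or.inl h'
      · exact Or.inr h'
      · refine absurd ?_ hnz
        rw [h', conj_u]
        exact (hcj _ _).symm.trans (hP' ▸ hPc)
    have h12 : φ (e1 n) hc1 * φ (e2 n) hc2 = P := hinj (by
      rw [map_mul, hfP, hφ, hφ, hz, ← e1_mul_e2, map_mul]; group)
    have hd : φ (e1 n) hc1 ≠ φ (e2 n) hc2 := fun h => hne3.2.2 (hinj (by
      have h' := congrArg f h
      rw [hφ, hφ] at h'
      exact mul_left_cancel (mul_right_cancel h')))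
    have hPi : P.i = true := by rw [hP']
    rcases himg _ hc1 (e1_sq hn) hne3.1 hze with h1 | h1 <;>
      rcases himg _ hc2 (e2_sq hn) hne3.2.1 hze2 with h2 | h2 <;>
      first
        | exact hd (h1.trans h2.symm)
        | (rw [h1, h2] at h12; rw [← h12] at hPi; simp [mul_def, e1, e2] at hPi)
  -- classes away from z
  set K : G → Mo n → Prop := fun x p => IsConj x (f p) with hK
  have hbase : ∀ p : Mo n, p * p = 1 → p ≠ 1 → p.i = false → p.j = false → IsConj (f p) z := by
    rintro ⟨a, b, i, j⟩ hpp hp1 hi hj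
    simp only at hi hj
    subst hi hj
    rcases invol_ff hn hpp hp1 with h | h | h
    · rw [h]
    · rw [h]; exact hze
    · rw [h]; exact he12.symm.trans hze
  have hker : ∀ (χ : Mo n →* Multiplicative (ZMod 2)) (x : G), orderOf x = 2 →
      ∃ p, IsConj x (f p) ∧ p * p = 1 ∧ p ≠ 1 ∧ χ p = 1 := fun χ x hx => by
    obtain ⟨y, hy, hχ⟩ := FixedPointParity.exists_conj_ker hperf S (χ.comp es.symm.toMonoidHom) hx
    obtain ⟨p, hp⟩ := hfs y.1 y.2
    have ho : orderOf (f p) = 2 := by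
      obtain ⟨g, hg⟩ := isConj_iff.1 hy
      rw [hp, ← hg, ← hx]
      exact (MulAut.conj g).orderOf_eq x
    refine ⟨p, hp.symm ▸ hy, (hinv p ho).1, (hinv p ho).2, ?_⟩
    have : y = es p := Subtype.ext (by rw [← hfv, hp])
    simpa [this] using hχ
  have hwuw : ∀ x : G, orderOf x = 2 → ¬ IsConj x z → K x (w0 n) ∧ K x (uw0 n) := by
    intro x hx hxz
    constructor
    · obtain ⟨⟨a, b, i, j⟩, hp, hpp, hp1, hχ⟩ := hker chI x hx
      obtain rfl : i = false := bch_eq.1 hχ
      cases j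
      · exact absurd (hp.trans (hbase _ hpp hp1 rfl rfl)) hxz
      · obtain rfl := invol_ft hpp
        rw [conj_w] at hp
        exact hp.trans (hcj _ _).symm
    · obtain ⟨⟨a, b, i, j⟩, hp, hpp, hp1, hχ⟩ := hker (chI * chJ) x hx
      have hij : xor i j = false := bch_eq.1 ((bch_xor i j).trans hχ)
      cases i <;> cases j <;> simp at hij
      · exact absurd (hp.trans (hbase _ hpp hp1 rfl rfl)) hxz
      · obtain rfl := invol_tt hpp
        rw [conj_uw] at hp
        exact hp.trans (hcj _ _).symm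
  by_cases hall : ∀ x : G, orderOf x = 2 → IsConj x z
  · exact Or.inl fun x y hx hy => (hall x hx).trans (hall y hy).symm
  push Not at hall
  obtain ⟨x, hx, hxz⟩ := hall
  obtain ⟨hxw, hxuw⟩ := hwuw x hx hxz
  rcases (show n = 2 ∨ 3 ≤ n by omega) with rfl | hn3
  · refine Or.inr ⟨?_, x, z, hx, hzo, hxz, fun y hy => ?_⟩
    · rw [← Nat.card_congr es.toEquiv, card_mo]; norm_num
    by_cases hyz : IsConj y z
    · exact Or.inr hyz
    · exact Or.inl ((hwuw y hy hyz).1.trans hxw.symm)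
  -- no second class when the Sylow subgroup is larger
  exfalso
  have hKp : ∀ p, K x p → p * p = 1 ∧ p ≠ 1 := fun p hp => by
    obtain ⟨g, hg⟩ := isConj_iff.1 hp
    refine hinv p ?_
    rw [← hg, ← hx]
    exact (MulAut.conj g).orderOf_eq x
  have hKij : ∀ p, K x p → p.i = true ∨ p.j = true := fun p hp => by
    cases hi : p.i
    · cases hj : p.j
      · exact absurd (hp.trans (hbase p (hKp p hp).1 (hKp p hp).2 hi hj)) hxz
      · exact Or.inr rfl
    · exact Or.inl rfl
  -- an extremal member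
  obtain ⟨R⟩ : Nonempty (Sylow 2 ↥(Subgroup.centralizer ({x} : Set G))) := inferInstance
  set C := Subgroup.centralizer ({x} : Set G) with hC
  set R' : Subgroup G := (R : Subgroup ↥C).map C.subtype with hR'
  have hR'p : IsPGroup 2 R' := R.isPGroup'.map _
  obtain ⟨Q, hQ⟩ := (IsPGroup.of_card (p := 2) (n := 1) (G := ↥(Subgroup.zpowers x))
    (by rw [Nat.card_zpowers, hx, pow_one])).exists_le_sylow
  have hxR : x ∈ R' := by
    have hxC : x ∈ C := Subgroup.mem_centralizer_singleton_iff.2 rfl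
    haveI : (Subgroup.zpowers (⟨x, hxC⟩ : C)).Normal := ⟨fun a ha b => by
      obtain ⟨k, rfl⟩ := ha
      refine ⟨k, Subtype.ext ?_⟩
      have := Subgroup.mem_centralizer_singleton_iff.1 b.2
      show x ^ k = (b : G) * x ^ k * (b : G)⁻¹
      rw [((show Commute (b : G) x from this).zpow_right k).eq, mul_inv_cancel_right]⟩
    have hz2 : IsPGroup 2 ↥(Subgroup.zpowers (⟨x, hxC⟩ : C)) :=
      IsPGroup.of_card (n := 1) (by rw [Nat.card_zpowers, Subgroup.orderOf_mk, hx, pow_one])
    obtain ⟨R0, hR0⟩ := hz2.exists_le_sylow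
    obtain ⟨c, hc⟩ := MulAction.exists_smul_eq C R0 R
    refine ⟨⟨x, hxC⟩, ?_, rfl⟩
    rw [← hc, SetLike.mem_coe, Sylow.coe_subgroup_smul]
    have := Subgroup.smul_mem_pointwise_smul (⟨x, hxC⟩ : C) (MulAut.conj c) _ (hR0 (Subgroup.mem_zpowers _))
    convert this using 1
    refine Subtype.ext ?_
    show x = (c : G) * x * (c : G)⁻¹
    rw [Subgroup.mem_centralizer_singleton_iff.1 c.2, mul_inv_cancel_right]
  obtain ⟨Q', hQ'⟩ := hR'p.exists_le_sylow
  obtain ⟨g, hg⟩ := MulAction.exists_smul_eq G Q' S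
  have hmemS : ∀ y ∈ R', g * y * g⁻¹ ∈ (S : Subgroup G) := fun y hy => by
    rw [← hg, Sylow.coe_subgroup_smul]
    exact Subgroup.smul_mem_pointwise_smul y (MulAut.conj g) _ (hQ' hy)
  obtain ⟨p, hp⟩ := hfs _ (hmemS x hxR)
  have hpK : K x p := isConj_iff.2 ⟨g, hp.symm⟩
  obtain ⟨m, hm⟩ : ∃ m, Nat.card C = Nat.card (R : Subgroup ↥C) * m := ⟨_, ((R : Subgroup ↥C).card_mul_index).symm⟩
  have hm2 : ¬ 2 ∣ m := by
    have h := (R : Subgroup ↥C).card_mul_index
    rw [hm] at h
    rw [← Nat.eq_of_mul_eq_mul_left Nat.card_pos h]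
    exact R.not_dvd_index
  -- the order of the Sylow subgroup of the centraliser
  have hupper : Nat.card (R : Subgroup ↥C) ≤ 2 ^ (n + 2) := by
    refine le_trans (Nat.card_le_card_of_injective (fun r => (⟨es.symm ⟨g * (r.1 : G) * g⁻¹,
      hmemS _ ⟨r.1, r.2, rfl⟩⟩, ?_⟩ : ↥(Subgroup.centralizer ({p} : Set (Mo n))))) ?_)
      (card_cent_le hn (hKp p hpK).1 (hKij p hpK))
    · rw [Subgroup.mem_centralizer_singleton_iff]
      refine hinj ?_
      rw [map_mul, map_mul, hfv (es.symm _), es.apply_symm_apply, hp]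
      have e := Subgroup.mem_centralizer_singleton_iff.1 r.1.2
      calc g * (r.1 : G) * g⁻¹ * (g * x * g⁻¹) = g * ((r.1 : G) * x) * g⁻¹ := by group
        _ = g * (x * (r.1 : G)) * g⁻¹ := by rw [e]
        _ = _ := by group
    · intro r r' h
      have h' := es.symm.injective (congrArg Subtype.val h)
      exact Subtype.ext (Subtype.ext (mul_left_cancel (mul_right_cancel (congrArg Subtype.val h'))))
  obtain ⟨k, hk⟩ := IsPGroup.iff_card.1 R.isPGroup'
  have hlower : n + 2 ≤ k := by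
    obtain ⟨g1, hg1⟩ := isConj_iff.1 hxw.symm
    let θ : ↥(Subgroup.centralizer ({w0 n} : Set (Mo n))) →* C :=
      ((MulAut.conj g1).toMonoidHom.comp (f.comp (Subgroup.centralizer ({w0 n} : Set (Mo n))).subtype)).codRestrict C
        fun q => by
          rw [hC, Subgroup.mem_centralizer_singleton_iff, ← hg1]
          show g1 * f q.1 * g1⁻¹ * (g1 * f (w0 n) * g1⁻¹) = g1 * f (w0 n) * g1⁻¹ * (g1 * f q.1 * g1⁻¹)
          have e := congrArg f (Subgroup.mem_centralizer_singleton_iff.1 q.2)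
          rw [map_mul, map_mul] at e
          calc g1 * f q.1 * g1⁻¹ * (g1 * f (w0 n) * g1⁻¹) = g1 * (f q.1 * f (w0 n)) * g1⁻¹ := by group
            _ = g1 * (f (w0 n) * f q.1) * g1⁻¹ := by rw [e]
            _ = _ := by group
    have hθ : Function.Injective θ := fun q q' h =>
      Subtype.ext (hinj ((MulAut.conj g1).injective (congrArg Subtype.val h)))
    obtain ⟨j, hj⟩ := IsPGroup.iff_card.1 (Mo.isPGroup.to_subgroup (Subgroup.centralizer ({w0 n} : Set (Mo n))))
    have hd : 2 ^ j ∣ 2 ^ k * m := by rw [← hk, ← hm, ← hj]; exact Subgroup.card_dvd_of_injective θ hθ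
    have hd' := (Nat.Coprime.pow_left j ((Nat.Prime.coprime_iff_not_dvd Nat.prime_two).2 hm2)).dvd_of_dvd_mul_right hd
    have h1 := card_cent_w_ge (n := n)
    rw [hj] at h1
    exact ((Nat.pow_le_pow_iff_right one_lt_two).1 h1).trans ((Nat.pow_dvd_pow_iff_le_right one_lt_two).1 hd')
  rw [hk] at hupper
  obtain rfl : k = n + 2 := le_antisymm ((Nat.pow_le_pow_iff_right one_lt_two).1 hupper) hlower
  -- the parity
  obtain ⟨r, hr⟩ := FixedPointParity.even_count hperf S (chI.comp es.symm.toMonoidHom) hx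
  have hcount := FixedPointParity.count S (chI.comp es.symm.toMonoidHom) x
  obtain ⟨c, hc⟩ := marked_card hn3 (K x) (fun q p h => h.trans (hcj q p)) (fun p h => (hKp p h).1) hxuw
  rw [hr, ← hC, hm, hk, ← Nat.card_congr es.toEquiv, card_mo,
    show Nat.card {y : ↥(S : Subgroup G) // IsConj x (y : G) ∧ (chI.comp es.symm.toMonoidHom) y ≠ 1} =
      Nat.card {p : Mo n // K x p ∧ p.i = true} from (Nat.card_congr (Equiv.subtypeEquiv es.toEquiv fun p => by
        simp only [hK, hfv]
        refine and_congr Iff.rfl ?_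
        rw [show (chI.comp es.symm.toMonoidHom) (es.toEquiv p) = bch p.i from
          congrArg (fun q : Mo n => bch q.i) (es.symm_apply_apply p)]
        exact bch_ne.symm)).symm, hc] at hcount
  refine hm2 ((Nat.Coprime.dvd_of_dvd_mul_right (n := 2 * c + 1) (Nat.coprime_two_left.2 ⟨c, rfl⟩)) ⟨r, ?_⟩)
  refine Nat.eq_of_mul_eq_mul_left (show 0 < 2 ^ (n + 2) * 2 ^ n by positivity) ?_
  calc 2 ^ (n + 2) * 2 ^ n * (m * (2 * c + 1)) = 2 ^ (n + 2) * m * (2 ^ n * (2 * c + 1)) := by ring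
    _ = 2 ^ (2 * n + 2) * (r + r) := hcount
    _ = _ := by ring

end Cfsg.Agent.Fusion.GTwoType
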