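import Cfsg.Agent.Lib.Fusion.TransferSplit

/-!
# Counting homomorphisms and automorphisms of finite `p`-groups
-/

set_option autoImplicit false

namespace Cfsg.Agent.Fusion

variable {p : ℕ} [hp : Fact p.Prime]

theorem card_hom_le {M : Type*} [Group M] [Finite M] (hM : Nat.card M = p) :
    ∀ {V : Type*} [Group V] [Finite V], IsPGroup p V → Nat.card (V →* M) ≤ Nat.card V := by
  suffices ∀ (n : ℕ) (V : Type _) [Group V] [Finite V], Nat.card V = n → IsPGroup p V →
      Nat.card (V →* M) ≤ Nat.card V from fun {V} _ _ hV => this _ V rfl hV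
  intro n
  induction n using Nat.strong_induction_on with
  | _ n ih =>
  intro V _ _ hn hV
  by_cases hbot : (⊥ : Subgroup V) = ⊤
  · haveI : Subsingleton V := Subgroup.subsingleton_iff.1 (subsingleton_iff_bot_eq_top.1 hbot)
    haveI : Subsingleton (V →* M) := ⟨fun f g => MonoidHom.ext fun v => by
      rw [Subsingleton.elim v 1, map_one, map_one]⟩
    calc Nat.card (V →* M) ≤ 1 := Finite.card_le_one_iff_subsingleton.2 inferInstance
      _ ≤ Nat.card V := Nat.card_pos
  obtain ⟨W, -, hW⟩ := exists_normal_index_p_above hV hbot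
  have hWlt : Nat.card W < n := by
    rw [← hn, ← W.card_mul_index, hW]
    exact lt_mul_of_one_lt_right Nat.card_pos hp.out.one_lt
  obtain ⟨x, -, hx⟩ := SetLike.exists_of_lt (lt_top_iff_ne_top.2 (show W ≠ ⊤ from fun h => by
    rw [h, Subgroup.index_top] at hW; exact hp.out.ne_one hW.symm))
  have hinj : Function.Injective (fun f : V →* M => ((f.comp W.subtype, f x) : (W →* M) × M)) := by
    intro f g hfg
    obtain ⟨h1, h2⟩ := Prod.mk.inj hfg
    have hle : W ≤ f.eqLocus g := fun w hw => (DFunLike.congr_fun h1 (⟨w, hw⟩ : W) :)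
    have hxm : x ∈ f.eqLocus g := h2
    have htop : f.eqLocus g = ⊤ := by
      rcases (Nat.dvd_prime hp.out).1 (hW ▸ Subgroup.index_dvd_of_le hle) with h | h
      · exact Subgroup.index_eq_one.1 h
      · exfalso
        refine hx ((Subgroup.eq_of_le_of_card_ge hle ?_).symm ▸ hxm)
        have e1 := (f.eqLocus g).card_mul_index
        rw [← W.card_mul_index, hW, h] at e1
        exact (Nat.eq_of_mul_eq_mul_right hp.out.pos e1).le
    exact MonoidHom.ext fun v => (htop.symm ▸ Subgroup.mem_top v : v ∈ f.eqLocus g)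
  haveI : Finite (W →* M) := Finite.of_injective _ DFunLike.coe_injective
  calc Nat.card (V →* M) ≤ Nat.card ((W →* M) × M) := Nat.card_le_card_of_injective _ hinj
    _ = Nat.card (W →* M) * p := by rw [Nat.card_prod, hM]
    _ ≤ Nat.card W * p := Nat.mul_le_mul_right _ (ih _ hWlt W rfl (hV.to_subgroup W))
    _ = Nat.card V := by rw [← hW, W.card_mul_index]

private theorem tri_step (b : ℕ) : b + b * (b - 1) / 2 = (b + 1) * b / 2 := by
  rcases b with _ | c
  · rfl
  · rw [show (c + 1 + 1) * (c + 1) = (c + 1) * (c + 1 - 1) + 2 * (c + 1) by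
      rw [Nat.add_sub_cancel]; ring, Nat.add_mul_div_left _ _ two_pos, add_comm]

/-- A `p`-group of automorphisms of an abelian group of order `p ^ a` has order at most
`p ^ (a (a - 1) / 2)`. -/
theorem card_pgroup_aut_le : ∀ (a : ℕ) (A : Type*) [CommGroup A] [Finite A], Nat.card A = p ^ a →
    ∀ H : Subgroup (MulAut A), IsPGroup p H → Nat.card H ≤ p ^ (a * (a - 1) / 2) := by
  intro a
  induction a with
  | zero =>
    intro A _ _ hA H _
    rw [pow_zero] at hA
    haveI : Subsingleton A := (Nat.card_eq_one_iff_unique.1 hA).1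
    haveI : Subsingleton (MulAut A) := ⟨fun f g => MulEquiv.ext fun x => Subsingleton.elim _ _⟩
    simp
  | succ b ih =>
    intro A _ _ hA H hH
    haveI : Finite (MulAut A) := Finite.of_injective _ DFunLike.coe_injective
    obtain ⟨w, hw, hw1⟩ := hH.exists_fixed_point_of_prime_dvd_card_of_fixed_point A
      (hA ▸ dvd_pow_self p (Nat.succ_ne_zero b)) (a := (1 : A)) (fun g => map_one (g : MulAut A))
    have hAp : IsPGroup p A := IsPGroup.of_card hA
    obtain ⟨k, hk⟩ := IsPGroup.iff_orderOf.1 hAp w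
    have hk1 : k ≠ 0 := fun h => hw1 (orderOf_eq_one_iff.1 (by rw [hk, h, pow_zero])).symm
    obtain ⟨z, hz⟩ : ∃ z, z = w ^ p ^ (k - 1) := ⟨_, rfl⟩
    have hzo : orderOf z = p := by
      rw [hz, orderOf_pow_of_dvd (pow_ne_zero _ hp.out.ne_zero) (hk ▸ pow_dvd_pow p (Nat.sub_le k 1)), hk,
        Nat.pow_div (Nat.sub_le k 1) hp.out.pos, show k - (k - 1) = 1 by omega, pow_one]
    have hfix : ∀ g : H, ∀ y ∈ Subgroup.zpowers z, (g : MulAut A) y = y := by
      intro g y hy
      obtain ⟨i, rfl⟩ := Subgroup.mem_zpowers_iff.1 hy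
      have hgw : (g : MulAut A) w = w := hw g
      rw [hz, map_zpow, map_pow, hgw]
    obtain ⟨Z, hZdef⟩ : ∃ Z, Z = Subgroup.zpowers z := ⟨_, rfl⟩
    have hfix' : ∀ g : H, ∀ y ∈ Z, (g : MulAut A) y = y := fun g y hy => hfix g y (hZdef ▸ hy)
    have hZc : Nat.card Z = p := by rw [hZdef, Nat.card_zpowers, hzo]
    have hmap : ∀ g : H, Z.map (g : MulAut A).toMonoidHom = Z := fun g => by
      ext y
      refine ⟨?_, fun hy => ⟨y, hy, hfix' g y hy⟩⟩
      rintro ⟨u, hu, rfl⟩
      show (g : MulAut A) u ∈ Z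
      rw [hfix' g u hu]; exact hu
    let f : H →* MulAut (A ⧸ Z) := MonoidHom.mk' (fun g => QuotientGroup.congr Z Z (g : MulAut A) (hmap g))
      (fun g g' => MulEquiv.ext fun q => by
        obtain ⟨x, rfl⟩ := QuotientGroup.mk_surjective q
        rfl)
    have hA' : Nat.card (A ⧸ Z) = p ^ b := by
      have := Subgroup.card_eq_card_quotient_mul_card_subgroup Z
      rw [hA, hZc, pow_succ] at this
      exact (Nat.eq_of_mul_eq_mul_right hp.out.pos this).symm
    have h1 : Nat.card f.range ≤ p ^ (b * (b - 1) / 2) :=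
      ih (A ⧸ Z) hA' f.range (hH.of_surjective f.rangeRestrict f.rangeRestrict_surjective)
    have h2 : Nat.card f.ker ≤ p ^ b := by
      have hmem : ∀ (g : f.ker) (x : A), ((g : H) : MulAut A) x * x⁻¹ ∈ Z := fun g x => by
        have := DFunLike.congr_fun (MonoidHom.mem_ker.1 g.2) (QuotientGroup.mk x)
        rw [← QuotientGroup.eq_one_iff, QuotientGroup.mk_mul, QuotientGroup.mk_inv, mul_inv_eq_one]
        exact this
      let d : f.ker → (A ⧸ Z →* Z) := fun g => QuotientGroup.lift Z
        (MonoidHom.mk' (fun x => (⟨((g : H) : MulAut A) x * x⁻¹, hmem g x⟩ : Z))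
          (fun x y => Subtype.ext (by
            show ((g : H) : MulAut A) (x * y) * (x * y)⁻¹ = ((g : H) : MulAut A) x * x⁻¹ * (((g : H) : MulAut A) y * y⁻¹)
            rw [map_mul, mul_inv, mul_mul_mul_comm])))
        (fun y hy => MonoidHom.mem_ker.2 (Subtype.ext (by
          show ((g : H) : MulAut A) y * y⁻¹ = 1
          rw [hfix' _ y hy, mul_inv_cancel])))
      have hd : Function.Injective d := fun g g' hgg => by
        refine Subtype.ext (Subtype.ext (MulEquiv.ext fun x => ?_))
        have := congrArg Subtype.val (DFunLike.congr_fun hgg (QuotientGroup.mk x))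
        exact mul_right_cancel this
      haveI : Finite (A ⧸ Z →* Z) := Finite.of_injective _ DFunLike.coe_injective
      exact ((Nat.card_le_card_of_injective d hd).trans (card_hom_le hZc (hAp.to_quotient Z))).trans hA'.le
    have h3 := f.ker.card_eq_card_quotient_mul_card_subgroup
    rw [Nat.card_congr (QuotientGroup.quotientKerEquivRange f).toEquiv] at h3
    rw [h3, Nat.add_sub_cancel, ← tri_step b, pow_add, mul_comm]
    exact Nat.mul_le_mul h2 h1

end Cfsg.Agent.Fusion
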