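import Cfsg.Agent.Lib.Lead.InvariantQ

/-!
# Invariant p'-subgroups, odd primes: only fixed elements of order p matter

Variants of the lemmas of `Lib.Lead.InvariantQ` needing the hypothesis only for elements of order `p`.
-/

set_option autoImplicit false
set_option linter.style.haveILetI false

open scoped commutatorElement

namespace Cfsg.Agent.Fusion

open Cfsg.Agent Cfsg.Agent.Lead

variable {G : Type*} [Group G] [Finite G] {p : ℕ} [hp : Fact p.Prime]

/-- A p'-group normalised by a p-group, centralising the fixed points, centralises everything. -/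
theorem centralizes_of_fixed_prime {P E Q : Subgroup G} (hP : IsPGroup p P) (hE : IsPGroup p E)
    (hEc : IsMulCommutative E)
    (hQ : ¬ p ∣ Nat.card Q) (hEQ : E ≤ Subgroup.normalizer (Q : Set G))
    (hEP : E ≤ Subgroup.normalizer (P : Set G)) (hQP : Q ≤ Subgroup.normalizer (P : Set G))
    (hfix : ∀ y ∈ P, y ^ p = 1 → (∀ e ∈ E, e * y = y * e) → ∀ x ∈ Q, x * y = y * x)
    (hp2 : p ≠ 2) : P ≤ Subgroup.centralizer (Q : Set G) := by
  have key : ∀ (n : ℕ) (U : Subgroup G), Nat.card U = n → U ≤ P → E ≤ Subgroup.normalizer (U : Set G) →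
      Q ≤ Subgroup.normalizer (U : Set G) → U ≤ Subgroup.centralizer (Q : Set G) := by
    intro n
    induction n using Nat.strong_induction_on with
    | _ n ih =>
      intro U hn hUP hEU hQU
      have hUp : IsPGroup p U := hP.to_le hUP
      have hco : (Nat.card Q).Coprime (Nat.card U) := by
        obtain ⟨k, hk⟩ := IsPGroup.iff_card.1 hUp
        rw [hk]
        exact Nat.Coprime.pow_right k ((Nat.Prime.coprime_iff_not_dvd hp.out).2 hQ).symm
      haveI := hUp.isNilpotent
      have hsol : Group.IsSolvable Q ∨ Group.IsSolvable U := Or.inr inferInstance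
      obtain ⟨hDU, hUD, hQD⟩ := Solv.commutator_normal_in (K := U) (A := Q) hQU
      by_cases hD : ⁅U, Q⁆ = U
      swap
      · have hlt : ⁅U, Q⁆ < U := lt_of_le_of_ne hDU hD
        have hDC := ih _ (hn ▸ Solv.card_lt_of_lt hlt) ⁅U, Q⁆ rfl (hDU.trans hUP)
          (fun e he => commutator_inv_mem_normalizer (hEU he) (hEQ he)) hQD
        have h1 := Solv.commutator_commutator_eq (K := U) (A := Q) hQU hco hsol
        rw [Subgroup.commutator_eq_bot_iff_le_centralizer.2 hDC] at h1
        exact Subgroup.commutator_eq_bot_iff_le_centralizer.1 h1.symm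
      rcases eq_or_ne U ⊥ with rfl | hU0
      · exact bot_le
      set V := ⁅U, U⁆ with hV
      have hVU : V ≤ U := by
        rw [hV]
        exact Subgroup.commutator_le.2 fun a ha b hb => by
          rw [commutatorElement_def]
          exact mul_mem (mul_mem (mul_mem ha hb) (inv_mem ha)) (inv_mem hb)
      have hVne : V ≠ U := by
        intro h
        haveI : Nontrivial U := (Subgroup.nontrivial_iff_ne_bot U).2 hU0
        have h2 := IsSolvable.commutator_lt_top_of_nontrivial U
        refine h2.ne ?_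
        refine Subgroup.map_injective U.subtype_injective ?_
        rw [commutator_def, Subgroup.map_commutator, ← MonoidHom.range_eq_map, Subgroup.range_subtype]
        exact h
      have hVC := ih _ (hn ▸ Solv.card_lt_of_lt (lt_of_le_of_ne hVU hVne)) V rfl (hVU.trans hUP)
        (fun e he => commutator_inv_mem_normalizer (hEU he) (hEU he))
        (fun e he => commutator_inv_mem_normalizer (hQU he) (hQU he))
      have hz : ⁅V, U⁆ = ⊥ := by
        have h1 : ⁅⁅Q, V⁆, U⁆ = ⊥ := by
          rw [Subgroup.commutator_comm Q V, Subgroup.commutator_eq_bot_iff_le_centralizer.2 hVC,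
            Subgroup.commutator_bot_left]
        have h2 : ⁅⁅V, U⁆, Q⁆ = ⊥ := by
          refine Subgroup.commutator_eq_bot_iff_le_centralizer.2 (le_trans ?_ hVC)
          exact Subgroup.commutator_mono hVU le_rfl
        have h3 := Subgroup.commutator_commutator_eq_bot_of_rotate (H₁ := U) (H₂ := Q) (H₃ := V) h1 h2
        rwa [hD, Subgroup.commutator_comm] at h3
      have hclass : commutator U ≤ Subgroup.center U := by
        intro z hz'
        rw [Subgroup.mem_center_iff]
        intro g
        refine Subtype.ext ?_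
        have hzV : (z : G) ∈ V := by
          have := Subgroup.mem_map_of_mem U.subtype hz'
          rwa [commutator_def, Subgroup.map_commutator, ← MonoidHom.range_eq_map, Subgroup.range_subtype] at this
        exact Subgroup.mem_centralizer_iff.1
          (Subgroup.commutator_eq_bot_iff_le_centralizer.1 hz hzV) _ g.2
      by_contra hne
      let φ : E →* MulAut U := U.normalizerMonoidHom.comp (Subgroup.inclusion hEU)
      let ψ : Q →* MulAut U := U.normalizerMonoidHom.comp (Subgroup.inclusion hQU)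
      let σ : E → Q ≃ Q := fun e => (Q.normalizerMonoidHom (Subgroup.inclusion hEQ e)).toEquiv
      obtain ⟨d, hdo, hdE, x, hdx⟩ := Fusion.exists_fixed_order_p_not_fixed hp2 hUp hclass φ ψ hE hQ σ
        (fun e x u => Subtype.ext (by
          show (e : G) * ((x : G) * u * (x : G)⁻¹) * (e : G)⁻¹ =
            (e : G) * x * (e : G)⁻¹ * ((e : G) * u * (e : G)⁻¹) * ((e : G) * x * (e : G)⁻¹)⁻¹
          group))
        (by
          by_contra hall
          push Not at hall
          refine hne fun u hu => Subgroup.mem_centralizer_iff.2 fun x hx => ?_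
          exact mul_inv_eq_iff_eq_mul.1 (congrArg Subtype.val (hall ⟨x, hx⟩ ⟨u, hu⟩)))
      refine hdx (Subtype.ext ?_)
      show (x : G) * d * (x : G)⁻¹ = d
      rw [hfix _ (hUP d.2) (congrArg Subtype.val (hdo ▸ pow_orderOf_eq_one d : d ^ p = 1)) (fun e he => mul_inv_eq_iff_eq_mul.1 (congrArg Subtype.val (hdE ⟨e, he⟩))) _ x.2,
        mul_inv_cancel_right]
  exact key _ P rfl le_rfl hEP hQP

/-- In a p-constrained group such subgroups lie in the p'-core. -/
theorem invariant_le_pPrimeCore_prime (hc : Cfsg.IsPConstrained p G) {E Q : Subgroup G}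
    (hE : IsPGroup p E) (hEc : IsMulCommutative E)
    (hfull : ∀ x : G, (∀ e ∈ E, e * x = x * e) → x ^ p = 1 → x ∈ E)
    (hQ : ¬ p ∣ Nat.card Q) (hEQ : E ≤ Subgroup.normalizer (Q : Set G))
    (hp2 : p ≠ 2) : Q ≤ Cfsg.pPrimeCore p G := by
  set M := Cfsg.pPrimeCore p G with hM
  haveI : M.Normal := Solv.pPrimeCore_normal p
  set π := QuotientGroup.mk' M with hπ
  set P := Cfsg.pCore p (G ⧸ M) with hP
  haveI : P.Normal := by rw [hP]; exact inferInstance
  have hcM : (Nat.card M).Coprime p := Fusion.card_pPrimeCore_coprime p G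
  have hQ' : ¬ p ∣ Nat.card (Q.map π) := fun h => hQ (h.trans (Subgroup.card_map_dvd _ _))
  have hfix : ∀ y ∈ P, y ^ p = 1 → (∀ e ∈ E.map π, e * y = y * e) → ∀ x ∈ Q.map π, x * y = y * x := by
    intro y hy hyp hye
    obtain ⟨g, rfl⟩ := QuotientGroup.mk'_surjective M y
    have hg : ∀ e ∈ E, g⁻¹ * (e * g * e⁻¹) ∈ M := fun e he => by
      refine (QuotientGroup.eq_one_iff _).1 ?_
      show π (g⁻¹ * (e * g * e⁻¹)) = 1
      rw [map_mul, map_mul, map_mul, hye (π e) (Subgroup.mem_map_of_mem π he), map_inv, map_inv,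
        mul_inv_cancel_right, inv_mul_cancel]
    have hcoE : (Nat.card E).Coprime (Nat.card M) := by
      obtain ⟨k, hk⟩ := IsPGroup.iff_card.1 hE
      rw [hk]; exact hcM.symm.pow_left k
    obtain ⟨d, hd, hdn⟩ := Solv.exists_fixed_in_coset E M
      (by rw [Subgroup.normalizer_eq_top]; exact le_top) hcoE
      (Or.inl (Group.isSolvable_of_comm fun a b => hEc.is_comm.comm a b)) hg
    set g' := g * d with hg'
    have hπg : π g' = π g := by
      rw [hg', map_mul, (QuotientGroup.eq_one_iff d).2 hd |> (fun h => (h : π d = 1)), mul_one]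
    have hgc : ∀ e ∈ E, e * g' = g' * e := by
      intro e he
      have h1 : g' * e * g'⁻¹ * e⁻¹ ∈ E := mul_mem (Solv.conj_mem_of_mem_normalizer hdn he) (inv_mem he)
      have h2 : g' * e * g'⁻¹ * e⁻¹ ∈ M := by
        refine (QuotientGroup.eq_one_iff _).1 ?_
        show π (g' * e * g'⁻¹ * e⁻¹) = 1
        rw [map_mul, map_mul, map_mul, map_inv, map_inv, hπg, ← hye (π e) (Subgroup.mem_map_of_mem π he),
          mul_inv_cancel_right, mul_inv_cancel]
      have h3 : g' * e * g'⁻¹ * e⁻¹ ∈ (M ⊓ E : Subgroup G) := ⟨h2, h1⟩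
      rw [Fusion.coprime_inf_pGroup hcM hE, Subgroup.mem_bot, mul_inv_eq_one, mul_inv_eq_iff_eq_mul] at h3
      exact h3.symm
    obtain ⟨k, hk⟩ := Fusion.isPGroup_pCore p (G ⧸ M) ⟨π g, hy⟩
    have hk' : π g' ^ p ^ k = 1 := by rw [hπg]; exact congrArg Subtype.val hk
    set o := orderOf g' with ho
    have ho0 : o ≠ 0 := (orderOf_pos g').ne'
    have hcop : (p ^ (o.factorization p)).Coprime (o / p ^ (o.factorization p)) :=
      Nat.Coprime.pow_left _ (Nat.coprime_ordCompl hp.out ho0)
    obtain ⟨n, hn1, hn0⟩ := Nat.chineseRemainder hcop 1 0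
    have hn1' : π (g' ^ n) = π g' := by
      have h4 : orderOf (π g') ∣ p ^ (o.factorization p) := by
        have h5 : orderOf (π g') ∣ o := orderOf_map_dvd π g'
        obtain ⟨i, -, hi⟩ := (Nat.dvd_prime_pow hp.out).1 (orderOf_dvd_of_pow_eq_one hk')
        rw [hi] at h5 ⊢
        exact pow_dvd_pow p ((hp.out.pow_dvd_iff_le_factorization ho0).1 h5)
      rw [map_pow]
      nth_rewrite 2 [← pow_one (π g')]
      exact pow_eq_pow_iff_modEq.2 (hn1.of_dvd h4)
    have hmem : g' ^ n ∈ E := by
      refine hfull _ (fun e he => (Commute.pow_right (hgc e he) n).eq) ?_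
      have h6 : orderOf (g' ^ n) ∣ p ^ (o.factorization p) := by
        refine orderOf_dvd_of_pow_eq_one ?_
        rw [← pow_mul]
        refine orderOf_dvd_iff_pow_eq_one.1 ?_
        rw [← ho]
        nth_rewrite 1 [← Nat.ordProj_mul_ordCompl_eq_self o p]
        rw [mul_comm n]
        exact Nat.mul_dvd_mul_left _ (Nat.modEq_zero_iff_dvd.1 hn0)
      have hM' : (g' ^ n) ^ p ∈ M := by
        refine (QuotientGroup.eq_one_iff _).1 ?_
        show π ((g' ^ n) ^ p) = 1
        rw [map_pow, hn1', hπg, hyp]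
      rw [← orderOf_eq_one_iff]
      exact Nat.eq_one_of_dvd_coprimes (hcM.pow_right _) (Subgroup.orderOf_dvd_natCard _ hM')
        ((orderOf_pow_dvd p).trans h6)
    intro x hx
    have hyE : π g ∈ E.map π := ⟨g' ^ n, hmem, hn1'.trans hπg⟩
    obtain ⟨q, hq, rfl⟩ := hx
    obtain ⟨e, he, hee⟩ := hyE
    rw [← hee] at hy ⊢
    have h7 : π e * π q * (π e)⁻¹ * (π q)⁻¹ ∈ (Q.map π : Subgroup (G ⧸ M)) ⊓ P := by
      refine ⟨?_, ?_⟩
      · rw [← map_inv, ← map_inv, ← map_mul, ← map_mul, ← map_mul]
        exact Subgroup.mem_map_of_mem π (mul_mem (Solv.conj_mem_of_mem_normalizer (hEQ he) hq) (inv_mem hq))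
      · rw [mul_assoc (π e), mul_assoc (π e)]
        exact mul_mem hy (Subgroup.Normal.conj_mem inferInstance _ (inv_mem hy) _)
    rw [Fusion.coprime_inf_pGroup ((Nat.Prime.coprime_iff_not_dvd hp.out).2 hQ').symm
      (Fusion.isPGroup_pCore p _), Subgroup.mem_bot, mul_inv_eq_one, mul_inv_eq_iff_eq_mul] at h7
    exact h7.symm
  have hcent := centralizes_of_fixed_prime (E := E.map π) (Q := Q.map π) (Fusion.isPGroup_pCore p (G ⧸ M))
    (hE.map π) ⟨⟨fun a b => by
      obtain ⟨a, ha, ea⟩ := a.2
      obtain ⟨b', hb, eb⟩ := b.2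
      refine Subtype.ext ?_
      show (_ : G ⧸ M) * _ = _ * _
      rw [← ea, ← eb, ← map_mul, ← map_mul]
      exact congrArg π (congrArg Subtype.val (hEc.is_comm.comm ⟨_, ha⟩ ⟨_, hb⟩))⟩⟩ hQ'
    (fun x hx => by
      obtain ⟨e, he, rfl⟩ := hx
      exact Subgroup.le_normalizer_map π ⟨e, hEQ he, rfl⟩)
    (by rw [Subgroup.normalizer_eq_top]; exact le_top) (by rw [Subgroup.normalizer_eq_top]; exact le_top)
    hfix hp2
  have hle : Q.map π ≤ P := le_trans (Subgroup.le_centralizer_iff.1 hcent) (Fusion.isPConstrained_iff.1 hc)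
  have hbot : Q.map π = ⊥ := by
    rw [← inf_eq_left.2 hle]
    exact Fusion.coprime_inf_pGroup ((Nat.Prime.coprime_iff_not_dvd hp.out).2 hQ').symm
      (Fusion.isPGroup_pCore p _)
  rw [Subgroup.map_eq_bot_iff, hπ, QuotientGroup.ker_mk'] at hbot
  exact hbot

end Cfsg.Agent.Fusion
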