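import Mathlib
import Cfsg.Prelude.Def_LocalEven
import Cfsg.Agent.Lib.Fusion.Sections
import Cfsg.Agent.Lib.Fusion.Cores

/-!
# Normalizer p-stability under isomorphisms
-/

set_option autoImplicit false

open scoped commutatorElement

namespace Cfsg.Agent.Fusion

variable {p : ℕ} [hp : Fact p.Prime] {X : Type*} [Group X] [Finite X]

/-- Membership in the `p`-core of the automizer, without quotients. -/
theorem mem_pCore_automizer_iff (P : Subgroup X) (g : X)
    (hg : g ∈ Subgroup.normalizer (P : Set X)) :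
    (QuotientGroup.mk (s := (Subgroup.centralizer (P : Set X)).subgroupOf
        (Subgroup.normalizer (P : Set X))) (⟨g, hg⟩ : ↥(Subgroup.normalizer (P : Set X)))) ∈
      pCore p (↥(Subgroup.normalizer (P : Set X)) ⧸
        (Subgroup.centralizer (P : Set X)).subgroupOf (Subgroup.normalizer (P : Set X))) ↔
    ∃ D : Subgroup X, D ≤ Subgroup.normalizer (P : Set X) ∧
      Subgroup.normalizer (P : Set X) ≤ Subgroup.normalizer (D : Set X) ∧
      (∀ d ∈ D, ∃ k, d ^ p ^ k ∈ Subgroup.centralizer (P : Set X)) ∧ g ∈ D := by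
  set N := Subgroup.normalizer (P : Set X)
  set C := (Subgroup.centralizer (P : Set X)).subgroupOf N
  set π := QuotientGroup.mk' C
  constructor
  · intro h
    refine ⟨((pCore p (N ⧸ C)).comap π).map N.subtype, Subgroup.map_subtype_le _, fun n hn => ?_,
      ?_, ⟨⟨g, hg⟩, h, rfl⟩⟩
    · refine mem_normalizer_of_cj_le ?_
      rintro _ ⟨_, ⟨d, hd, rfl⟩, rfl⟩
      exact ⟨⟨n, hn⟩ * d * ⟨n, hn⟩⁻¹,
        (inferInstance : ((pCore p (N ⧸ C)).comap π).Normal).conj_mem d hd ⟨n, hn⟩, rfl⟩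
    · rintro _ ⟨d, hd, rfl⟩
      obtain ⟨k, hk⟩ := isPGroup_pCore p (N ⧸ C) ⟨_, hd⟩
      refine ⟨k, ?_⟩
      have h1 : π (d ^ p ^ k) = 1 := by
        rw [map_pow]; exact congrArg Subtype.val hk
      have h2 := (QuotientGroup.eq_one_iff (d ^ p ^ k)).1 h1
      exact Subgroup.mem_subgroupOf.1 h2
  · rintro ⟨D, hDN, hND, hDp, hgD⟩
    haveI : (D.subgroupOf N).Normal := (Subgroup.normal_subgroupOf_iff_le_normalizer hDN).2 hND
    haveI : ((D.subgroupOf N).map π).Normal :=
      Subgroup.Normal.map inferInstance π (QuotientGroup.mk'_surjective C)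
    refine le_pCore (N := (D.subgroupOf N).map π) ?_ ⟨⟨g, hg⟩, hgD, rfl⟩
    rintro ⟨_, d, hd, rfl⟩
    obtain ⟨k, hk⟩ := hDp _ hd
    exact ⟨k, Subtype.ext (show π d ^ p ^ k = 1 by
      rw [← map_pow]; exact (QuotientGroup.eq_one_iff _).2 hk)⟩

theorem isNormalizerPStable_of_equiv {Y : Type*} [Group Y] [Finite Y] (e : X ≃* Y)
    (h : IsNormalizerPStable p X) : IsNormalizerPStable p Y := by
  intro P hP g hg hq
  have hf : Function.Injective e.symm.toMonoidHom := e.symm.injective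
  have hnorm : ∀ Q : Subgroup Y, (Subgroup.normalizer (Q : Set Y)).map e.symm.toMonoidHom =
      Subgroup.normalizer (Q.map e.symm.toMonoidHom : Set X) := fun Q =>
    Subgroup.map_equiv_normalizer_eq Q e.symm
  have hgN : e.symm g ∈ Subgroup.normalizer (P.map e.symm.toMonoidHom : Set X) :=
    hnorm P ▸ ⟨g, hg, rfl⟩
  have hq' : ⁅⁅P.map e.symm.toMonoidHom, Subgroup.zpowers (e.symm g)⁆,
      Subgroup.zpowers (e.symm g)⁆ = ⊥ := by
    have := congrArg (Subgroup.map e.symm.toMonoidHom) hq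
    rwa [Subgroup.map_commutator, Subgroup.map_commutator, Subgroup.map_bot,
      MonoidHom.map_zpowers] at this
  obtain ⟨D, hDN, hND, hDp, hgD⟩ :=
    (mem_pCore_automizer_iff _ _ hgN).1 (h _ (hP.map _) _ hgN hq')
  have hback : ∀ Q : Subgroup Y, (Q.map e.symm.toMonoidHom).map e.toMonoidHom = Q := fun Q => by
    rw [Subgroup.map_map,
      show e.toMonoidHom.comp e.symm.toMonoidHom = MonoidHom.id Y from
        MonoidHom.ext e.apply_symm_apply, Subgroup.map_id]
  refine (mem_pCore_automizer_iff P g hg).2 ⟨D.map e.toMonoidHom, ?_, ?_, ?_, ⟨_, hgD, e.apply_symm_apply g⟩⟩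
  · rw [← hback (Subgroup.normalizer (P : Set Y)), hnorm]
    exact Subgroup.map_mono hDN
  · rw [← hback (Subgroup.normalizer (P : Set Y)), hnorm,
      ← Subgroup.map_equiv_normalizer_eq D e]
    exact Subgroup.map_mono hND
  · rintro _ ⟨d, hd, rfl⟩
    obtain ⟨k, hk⟩ := hDp d hd
    refine ⟨k, mem_centralizer_set.2 fun y hy => ?_⟩
    have h1 := congrArg e (mem_centralizer_set.1 hk (e.symm y) ⟨y, hy, rfl⟩)
    rw [map_mul, map_mul, map_inv, map_pow, e.apply_symm_apply] at h1
    exact h1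

end Cfsg.Agent.Fusion
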