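import Cfsg.Agent.Lib.Fusion.QuadraticNatural
import Cfsg.Agent.Lib.Fusion.StableSections
import Cfsg.Agent.Lib.Fusion.LinearStable
import Cfsg.Agent.Lib.Solv.PGroupPhi

/-!
# Stability passes to the quotient by a central `p`-subgroup
-/

set_option autoImplicit false

open Matrix
open scoped commutatorElement

universe u

namespace Cfsg.Agent.Fusion

variable {G : Type u} [Group G] [Finite G] {p : ℕ} [Fact p.Prime]

omit [Finite G] in
theorem eq_one_of_pow_coprime {P : Subgroup G} (hP : IsPGroup p P) {u : G} (hu : u ∈ P) {m : ℕ}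
    (hm : u ^ m = 1) (hmp : ¬ p ∣ m) : u = 1 := by
  obtain ⟨k, hk⟩ := hP ⟨u, hu⟩
  refine orderOf_eq_one_iff.1 (Nat.eq_one_of_dvd_coprimes (a := p ^ k) (b := m) ?_
    (orderOf_dvd_of_pow_eq_one (congrArg Subtype.val hk)) (orderOf_dvd_of_pow_eq_one hm))
  exact Nat.Coprime.pow_left _ ((Nat.Prime.coprime_iff_not_dvd Fact.out).2 hmp)

/-- In a group of odd order commuting with the square is commuting. -/
theorem commute_of_sq {P : Subgroup G} (hP : IsPGroup p P) (hp2 : p ≠ 2) {a b : G} (ha : a ∈ P)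
    (h : Commute (a * a) b) : Commute a b := by
  obtain ⟨k, hk⟩ := hP ⟨a, ha⟩
  have hk' : a ^ p ^ k = 1 := congrArg Subtype.val hk
  obtain ⟨i, hi⟩ := ((Fact.out : p.Prime).odd_of_ne_two hp2).pow (n := k)
  have e : a = (a * a) ^ (i + 1) := by
    rw [← pow_two, ← pow_mul, show 2 * (i + 1) = p ^ k + 1 by omega, pow_add, hk', one_mul, pow_one]
  rw [e]; exact h.pow_left _

omit [Finite G] [Fact p.Prime] in
/-- Powers of an element moving `a` by a fixed element. -/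
theorem conj_pow_of_fixed {k a u : G} (h : k * a * k⁻¹ = a * u) (hu : k * u * k⁻¹ = u) (n : ℕ) :
    k ^ n * a * (k ^ n)⁻¹ = a * u ^ n := by
  induction n with
  | zero => simp
  | succ n ih =>
    calc k ^ (n + 1) * a * (k ^ (n + 1))⁻¹ = k * (k ^ n * a * (k ^ n)⁻¹) * k⁻¹ := by rw [pow_succ']; group
      _ = (k * a * k⁻¹) * (k * u * k⁻¹) ^ n := by rw [ih, conj_pow]; group
      _ = a * u ^ (n + 1) := by rw [h, hu, mul_assoc, ← pow_succ']

/-- The image of a subgroup with a stable conjugation. -/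
theorem normalizer_le_normalizer_frattini_sup {Z : Subgroup G} (hZc : Z ≤ Subgroup.center G) (P : Subgroup G) :
    Subgroup.normalizer (P : Set G) ≤
      Subgroup.normalizer (((frattini ↥P).map P.subtype ⊔ Z : Subgroup G) : Set G) := by
  intro n hn
  refine mem_normalizer_of_cj_le ?_
  show Subgroup.map (MulAut.conj n).toMonoidHom _ ≤ _
  rw [Subgroup.map_sup]
  refine sup_le_sup ?_ ?_
  · let e : P ≃* P :=
      { toFun := fun x => ⟨n * x * n⁻¹, (Subgroup.mem_normalizer_iff.1 hn x).1 x.2⟩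
        invFun := fun x => ⟨n⁻¹ * x * n, (Subgroup.mem_normalizer_iff.1 hn _).2 (by simp [mul_assoc])⟩
        left_inv := fun x => Subtype.ext (by simp [mul_assoc])
        right_inv := fun x => Subtype.ext (by simp [mul_assoc])
        map_mul' := fun x y => Subtype.ext (by simp [mul_assoc]) }
    rintro _ ⟨_, ⟨x, hx, rfl⟩, rfl⟩
    refine ⟨e x, ?_, rfl⟩
    have h : (frattini ↥P).comap e.toMonoidHom = frattini ↥P :=
      Subgroup.Characteristic.fixed (H := frattini ↥P) inferInstance e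
    exact h.ge hx
  · rintro _ ⟨z, hz, rfl⟩
    show n * z * n⁻¹ ∈ Z
    rw [Subgroup.mem_center_iff.1 (hZc hz) n, mul_inv_cancel_right]
    exact hz

/-- An element fixing a normal subgroup pointwise and moving into it acts quadratically. -/
theorem commutator_zpowers_eq_bot {P A : Subgroup G} (hPA : P ≤ Subgroup.normalizer (A : Set G)) {k : G}
    (hk : k ∈ Subgroup.normalizer (P : Set G)) {s : Set G} (hs : P = Subgroup.closure s)
    (hfix : ∀ a ∈ A, k * a = a * k) (hmov : ∀ a ∈ s, k * a * k⁻¹ * a⁻¹ ∈ A) :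
    ⁅⁅P, Subgroup.zpowers k⁆, Subgroup.zpowers k⁆ = ⊥ := by
  have hall : ∀ a ∈ P, k * a * k⁻¹ * a⁻¹ ∈ A := by
    intro a ha
    rw [hs] at ha
    induction ha using Subgroup.closure_induction with
    | mem x hx => exact hmov x hx
    | one => simpa using one_mem A
    | mul x y hxc hyc hx hy =>
      have hxP : x ∈ P := hs ▸ hxc
      have e : k * (x * y) * k⁻¹ * (x * y)⁻¹ = (k * x * k⁻¹ * x⁻¹) * (x * (k * y * k⁻¹ * y⁻¹) * x⁻¹) := by group
      rw [e]
      exact mul_mem hx ((Subgroup.mem_normalizer_iff.1 (hPA hxP) _).1 hy)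
    | inv x hxc hx =>
      have hxP : x⁻¹ ∈ P := inv_mem (hs ▸ hxc)
      have e : k * x⁻¹ * k⁻¹ * (x⁻¹)⁻¹ = x⁻¹ * (k * x * k⁻¹ * x⁻¹)⁻¹ * (x⁻¹)⁻¹ := by group
      rw [e]
      exact (Subgroup.mem_normalizer_iff.1 (hPA hxP) _).1 (inv_mem hx)
  have hpw : ∀ n ∈ Subgroup.zpowers k, (∀ a ∈ A, n * a = a * n) ∧ ∀ a ∈ P, n * a * n⁻¹ * a⁻¹ ∈ A := by
    let S : Subgroup G :=
      { carrier := {n | n ∈ Subgroup.normalizer (P : Set G) ∧ (∀ a ∈ A, n * a = a * n) ∧
          ∀ a ∈ P, n * a * n⁻¹ * a⁻¹ ∈ A}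
        one_mem' := ⟨one_mem _, fun a _ => by simp, fun a _ => by simp⟩
        mul_mem' := fun {n m} hn hm => ⟨mul_mem hn.1 hm.1, fun a ha => by
          rw [mul_assoc, hm.2.1 a ha, ← mul_assoc, hn.2.1 a ha, mul_assoc], fun a ha => by
          have e : n * m * a * (n * m)⁻¹ * a⁻¹ =
              (n * (m * a * m⁻¹ * a⁻¹) * n⁻¹) * (n * a * n⁻¹ * a⁻¹) := by group
          rw [e, hn.2.1 _ (hm.2.2 a ha), mul_inv_cancel_right]
          exact mul_mem (hm.2.2 a ha) (hn.2.2 a ha)⟩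
        inv_mem' := fun {n} hn => ⟨inv_mem hn.1, fun a ha => by
          calc n⁻¹ * a = n⁻¹ * (a * n) * n⁻¹ := by group
            _ = n⁻¹ * (n * a) * n⁻¹ := by rw [hn.2.1 a ha]
            _ = a * n⁻¹ := by group, fun a ha => by
          have ha' : n⁻¹ * a * n ∈ P := by
            simpa using (Subgroup.mem_normalizer_iff.1 (inv_mem hn.1) a).1 ha
          have h2 := inv_mem (hn.2.2 _ ha')
          have e : (n * (n⁻¹ * a * n) * n⁻¹ * (n⁻¹ * a * n)⁻¹)⁻¹ = n⁻¹ * a * (n⁻¹)⁻¹ * a⁻¹ := by group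
          rwa [e] at h2⟩ }
    intro n hn
    have : n ∈ S := (Subgroup.zpowers_le (H := S)).2 ⟨hk, hfix, hall⟩ hn
    exact this.2
  rw [eq_bot_iff]
  refine Subgroup.commutator_le.2 fun a ha z hz => ?_
  have haA : a ∈ A := by
    have hle : ⁅P, Subgroup.zpowers k⁆ ≤ A := Subgroup.commutator_le.2 fun x hx n hn => by
      have e : ⁅x, n⁆ = (n * x * n⁻¹ * x⁻¹)⁻¹ := by rw [commutatorElement_def]; group
      rw [e]
      exact inv_mem ((hpw n hn).2 x hx)
    exact hle ha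
  exact Subgroup.mem_bot.2 (commutatorElement_eq_one_iff_mul_comm.2 ((hpw z hz).1 a haA).symm)

theorem exists_sl2_neg_one : ∃ R : Matrix.SpecialLinearGroup (Fin 2) (ZMod p), ∀ c, R.1 *ᵥ c = -c :=
  ⟨⟨-1, by simp [Matrix.det_fin_two]⟩, fun c => by simp [Matrix.neg_mulVec]⟩

set_option maxHeartbeats 1000000 in
/-- No natural module of `SL₂(p)` lies on top of a subgroup that the acting group centralizes up to `p`-elements. -/
theorem natural_layer_impossible (hp2 : p ≠ 2) (h : IsNormalizerPStable p G) {P U : Subgroup G}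
    (hP : IsPGroup p P) (hUP : U ≤ P) (hPU : P ≤ Subgroup.normalizer (U : Set G))
    (L : (Fin 2 → ZMod p) → G) (hLP : ∀ c, L c ∈ P) (hLadd : ∀ c d, (L (c + d))⁻¹ * (L c * L d) ∈ U)
    (hLinj : ∀ c, L c ∈ U → c = 0)
    (hK : ∀ R : Matrix.SpecialLinearGroup (Fin 2) (ZMod p), ∃ k : G,
      k ∈ Subgroup.normalizer (P : Set G) ∧ k ∈ Subgroup.normalizer (U : Set G) ∧
      (∃ j, k ^ p ^ j ∈ Subgroup.centralizer (U : Set G)) ∧
      ∀ c, (L (R.1 *ᵥ c))⁻¹ * (k * L c * k⁻¹) ∈ U) : False := by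
  classical
  let Over : G → (Fin 2 → ZMod p) → Prop := fun a c => a ∈ P ∧ (L c)⁻¹ * a ∈ U
  have oL : ∀ c, Over (L c) c := fun c => ⟨hLP c, by simp⟩
  have oMul : ∀ {a b c d}, Over a c → Over b d → Over (a * b) (c + d) := by
    intro a b c d ha hb
    refine ⟨mul_mem ha.1 hb.1, ?_⟩
    have e : (L (c + d))⁻¹ * (a * b) =
        (L (c + d))⁻¹ * (L c * L d) * ((L d)⁻¹ * ((L c)⁻¹ * a) * L d) * ((L d)⁻¹ * b) := by group
    rw [e]
    refine mul_mem (mul_mem (hLadd c d) ?_) hb.2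
    exact (Subgroup.mem_normalizer_iff''.1 (hPU (hLP d)) _).1 ha.2
  have oMulU : ∀ {a c u}, Over a c → u ∈ U → Over (a * u) c := fun {a c u} ha hu =>
    ⟨mul_mem ha.1 (hUP hu), by rw [← mul_assoc]; exact mul_mem ha.2 hu⟩
  have oUniq : ∀ {a b c}, Over a c → Over b c → a⁻¹ * b ∈ U := by
    intro a b c ha hb
    have := mul_mem (inv_mem ha.2) hb.2
    simpa [mul_assoc] using this
  have oZero : ∀ {u}, u ∈ U → Over u 0 := by
    intro u hu
    have h1 : (L 0)⁻¹ ∈ U := by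
      have := inv_mem (hLadd 0 0)
      rw [add_zero] at this
      simpa [mul_assoc] using this
    exact ⟨hUP hu, mul_mem h1 hu⟩
  have oInv : ∀ {a c}, Over a c → Over a⁻¹ (-c) := by
    intro a c ha
    have h1 : Over (a * L (-c)) 0 := by simpa using oMul ha (oL (-c))
    have h2 := oUniq (oZero (one_mem U)) h1
    rw [inv_one, one_mul] at h2
    refine ⟨inv_mem ha.1, ?_⟩
    have := inv_mem h2
    simpa using this
  have oMap : ∀ {k : G} {R : Matrix.SpecialLinearGroup (Fin 2) (ZMod p)}, k ∈ Subgroup.normalizer (P : Set G) →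
      k ∈ Subgroup.normalizer (U : Set G) → (∀ c, (L (R.1 *ᵥ c))⁻¹ * (k * L c * k⁻¹) ∈ U) →
      ∀ {a c}, Over a c → Over (k * a * k⁻¹) (R.1 *ᵥ c) := by
    intro k R hkP hkU hk a c ha
    refine ⟨(Subgroup.mem_normalizer_iff.1 hkP a).1 ha.1, ?_⟩
    have e : (L (R.1 *ᵥ c))⁻¹ * (k * a * k⁻¹) =
        (L (R.1 *ᵥ c))⁻¹ * (k * L c * k⁻¹) * (k * ((L c)⁻¹ * a) * k⁻¹) := by group
    rw [e]
    exact mul_mem (hk c) ((Subgroup.mem_normalizer_iff.1 hkU _).1 ha.2)
  -- the involution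
  obtain ⟨Rn, hR⟩ := exists_sl2_neg_one (p := p)
  obtain ⟨t₀, htP, htU, ⟨j, htj⟩, ht⟩ := hK Rn
  have hpodd : Odd p := (Fact.out : p.Prime).odd_of_ne_two hp2
  have hiter : ∀ n : ℕ, ∀ {a c}, Over a c → Over (t₀ ^ n * a * (t₀ ^ n)⁻¹) (if Odd n then -c else c) := by
    intro n
    induction n with
    | zero => intro a c ha; simpa using ha
    | succ n ih =>
      intro a c ha
      have h1 := oMap htP htU ht (ih ha)
      rw [hR] at h1
      have e : t₀ ^ (n + 1) * a * (t₀ ^ (n + 1))⁻¹ = t₀ * (t₀ ^ n * a * (t₀ ^ n)⁻¹) * t₀⁻¹ := by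
        rw [pow_succ']; group
      rw [e]
      rcases Nat.even_or_odd n with he | ho
      · rw [if_neg (Nat.not_odd_iff_even.2 he)] at h1
        rw [if_pos he.add_one]; exact h1
      · rw [if_pos ho, neg_neg] at h1
        rw [if_neg (Nat.not_odd_iff_even.2 ho.add_one)]; exact h1
  obtain ⟨i, m, hm, him⟩ := Nat.exists_eq_pow_mul_and_not_dvd (orderOf_pos (t₀ ^ p ^ j)).ne' p
    (Fact.out : p.Prime).ne_one
  obtain ⟨t, htU', htm, ht_over⟩ : ∃ t : G, (∀ u ∈ U, t * u = u * t) ∧ t ^ m = 1 ∧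
      ∀ {a c}, Over a c → Over (t * a * t⁻¹) (-c) := by
    refine ⟨t₀ ^ p ^ (j + i), fun u hu => ?_, ?_, fun {a c} ha => ?_⟩
    · have := pow_mem htj (p ^ i)
      rw [← pow_mul, ← pow_add] at this
      exact (Subgroup.mem_centralizer_iff.1 this u hu).symm
    · rw [← pow_mul, pow_add, mul_assoc, pow_mul, ← him, pow_orderOf_eq_one]
    · simpa [if_pos (hpodd.pow (n := j + i))] using hiter (p ^ (j + i)) ha
  have ht2 : ∀ {a c}, Over a c → Commute (t * t) a := by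
    intro a c ha
    have h1 : Over (t * (t * a * t⁻¹) * t⁻¹) c := by simpa using ht_over (ht_over ha)
    have hu := oUniq ha h1
    set u := a⁻¹ * (t * (t * a * t⁻¹) * t⁻¹) with hudef
    have hfix : t * t * u * (t * t)⁻¹ = u := by
      rw [mul_assoc t t u, htU' u hu, ← mul_assoc, htU' u hu]; group
    have hmove : t * t * a * (t * t)⁻¹ = a * u := by rw [hudef]; group
    have h2 := conj_pow_of_fixed hmove hfix m
    rw [show (t * t) ^ m = 1 by rw [(Commute.refl t).mul_pow, htm, one_mul], one_mul, inv_one, mul_one] at h2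
    have hu1 : u = 1 := eq_one_of_pow_coprime hP (hUP hu) (left_eq_mul.1 h2) hm
    rw [hu1, mul_one, mul_inv_eq_iff_eq_mul] at hmove
    exact hmove
  have hpne : (-2 : ZMod p) ≠ 0 := by
    rw [neg_ne_zero]
    intro h0
    have h2 : ((2 : ℕ) : ZMod p) = 0 := by exact_mod_cast h0
    rw [ZMod.natCast_eq_zero_iff] at h2
    exact hp2 ((Nat.prime_dvd_prime_iff_eq (Fact.out : p.Prime) Nat.prime_two).1 h2)
  -- inverted lifts
  have hsq : ∀ u ∈ U, u * u = 1 → u = 1 := fun u hu h2 =>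
    eq_one_of_pow_coprime (m := 2) hP (hUP hu) (by rw [pow_two, h2]) fun hd =>
      hp2 ((Nat.prime_dvd_prime_iff_eq (Fact.out : p.Prime) Nat.prime_two).1 hd)
  have hex : ∀ c, ∃ d, Over d c ∧ t * d * t⁻¹ = d⁻¹ ∧ ∀ u ∈ U, d * u = u * d := by
    intro c
    set c' := (-2 : ZMod p)⁻¹ • c with hc'
    set a := L c'
    have ha : Over a c' := oL c'
    refine ⟨a⁻¹ * (t * a * t⁻¹), ?_, ?_, fun u hu => ?_⟩
    · have h1 := oMul (oInv ha) (ht_over ha)
      have h2ne : (2 : ZMod p) ≠ 0 := fun h => hpne (by rw [h, neg_zero])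
      have e : -c' + -c' = c := by
        rw [hc', ← neg_smul, ← add_smul, show -(-2 : ZMod p)⁻¹ + -(-2 : ZMod p)⁻¹ = 1 by
          field_simp; ring, one_smul]
      rwa [e] at h1
    · have e := (ht2 ha).eq
      calc t * (a⁻¹ * (t * a * t⁻¹)) * t⁻¹ = t * a⁻¹ * t⁻¹ * (t * t * a * (t * t)⁻¹) := by group
        _ = t * a⁻¹ * t⁻¹ * a := by rw [e, mul_inv_cancel_right]
        _ = (a⁻¹ * (t * a * t⁻¹))⁻¹ := by group
    · set d := a⁻¹ * (t * a * t⁻¹) with hd
      have hdP : d ∈ P := mul_mem (inv_mem ha.1) (ht_over ha).1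
      have hinv : t * d * t⁻¹ = d⁻¹ := by
        calc t * d * t⁻¹ = t * a⁻¹ * t⁻¹ * (t * t * a * (t * t)⁻¹) := by rw [hd]; group
          _ = t * a⁻¹ * t⁻¹ * a := by rw [(ht2 ha).eq, mul_inv_cancel_right]
          _ = d⁻¹ := by rw [hd]; group
      have hdu : d * u * d⁻¹ ∈ U := (Subgroup.mem_normalizer_iff.1 (hPU hdP) u).1 hu
      have h1 : t * d * t⁻¹ * (t * u * t⁻¹) * (t * d * t⁻¹)⁻¹ = d * u * d⁻¹ := by
        calc t * d * t⁻¹ * (t * u * t⁻¹) * (t * d * t⁻¹)⁻¹ = t * (d * u * d⁻¹) * t⁻¹ := by group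
          _ = d * u * d⁻¹ := by rw [htU' _ hdu, mul_inv_cancel_right]
      rw [hinv, htU' u hu, mul_inv_cancel_right, inv_inv] at h1
      refine commute_of_sq hP hp2 hdP ?_
      show d * d * u = u * (d * d)
      calc d * d * u = d * (d * u * d⁻¹) * d := by group
        _ = d * (d⁻¹ * u * d) * d := by rw [h1]
        _ = u * (d * d) := by group
  choose ell hell hinv hcomm using hex
  have huniq : ∀ {d c}, Over d c → t * d * t⁻¹ = d⁻¹ → d = ell c := by
    intro d c hd hdi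
    have hu := oUniq (hell c) hd
    set u := (ell c)⁻¹ * d with hu'
    have hd' : d = ell c * u := by rw [hu']; group
    have h1 : t * d * t⁻¹ = (ell c)⁻¹ * u := by
      rw [hd']
      calc t * (ell c * u) * t⁻¹ = t * ell c * t⁻¹ * (t * u * t⁻¹) := by group
        _ = (ell c)⁻¹ * u := by rw [hinv, htU' u hu, mul_inv_cancel_right]
    rw [hdi, hd', hcomm c u hu, _root_.mul_inv_rev] at h1
    have h2 : u⁻¹ = u := mul_left_cancel (a := (ell c)⁻¹) h1
    have h3 : u * u = 1 := by nth_rewrite 1 [← h2]; exact inv_mul_cancel u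
    rw [hd', hsq u hu h3, mul_one]
  -- commutators of the lifts
  have hbe : ∀ v w, ∃ u ∈ U, ell v * ell w = ell (v + w) * u ∧ ⁅ell v, ell w⁆ = u * u := by
    intro v w
    have hu := oUniq (hell (v + w)) (oMul (hell v) (hell w))
    set u := (ell (v + w))⁻¹ * (ell v * ell w) with hudef
    refine ⟨u, hu, by rw [hudef]; group, ?_⟩
    have h0 : ell v * ell w = ell (v + w) * u := by rw [hudef]; group
    have h1 : (ell v)⁻¹ * (ell w)⁻¹ = (ell (v + w))⁻¹ * u := by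
      calc (ell v)⁻¹ * (ell w)⁻¹ = t * (ell v * ell w) * t⁻¹ := by rw [← hinv, ← hinv]; group
        _ = t * ell (v + w) * t⁻¹ * (t * u * t⁻¹) := by rw [h0]; group
        _ = _ := by rw [hinv, htU' u hu, mul_inv_cancel_right]
    calc ⁅ell v, ell w⁆ = ell v * ell w * ((ell v)⁻¹ * (ell w)⁻¹) := by rw [commutatorElement_def]; group
      _ = ell (v + w) * u * ((ell (v + w))⁻¹ * u) := by rw [h0, h1]
      _ = u * u := by rw [hcomm _ u hu]; group
  choose be hbeU hbem hbec using hbe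
  -- exact action of the acting elements
  have hexact : ∀ R : Matrix.SpecialLinearGroup (Fin 2) (ZMod p), ∃ k : G, ∀ c, k * ell c * k⁻¹ = ell (R.1 *ᵥ c) := by
    intro R
    obtain ⟨k, hkP, hkU, -, hk⟩ := hK R
    set c₀ := t⁻¹ * (k * t * k⁻¹) with hc₀
    obtain ⟨e, he⟩ := hP.exists_card_eq
    obtain ⟨i₀, hi₀⟩ := hpodd.pow (n := e)
    refine ⟨c₀ ^ (i₀ + 1) * k, fun c => ?_⟩
    have hov := oMap hkP hkU hk (hell c)
    set u := (ell (R.1 *ᵥ c))⁻¹ * (k * ell c * k⁻¹) with hudef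
    have hu : u ∈ U := oUniq (hell _) hov
    have hs : ∀ v ∈ U, k * t * k⁻¹ * v * (k * t * k⁻¹)⁻¹ = v := by
      intro v hv
      have hv' : k⁻¹ * v * k ∈ U := (Subgroup.mem_normalizer_iff''.1 hkU v).1 hv
      calc k * t * k⁻¹ * v * (k * t * k⁻¹)⁻¹ = k * (t * (k⁻¹ * v * k) * t⁻¹) * k⁻¹ := by group
        _ = v := by rw [htU' _ hv', mul_inv_cancel_right]; group
    set x := ell (R.1 *ᵥ c) with hx
    have hkx : k * ell c * k⁻¹ = x * u := by rw [hudef]; group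
    have hsx : k * t * k⁻¹ * x * (k * t * k⁻¹)⁻¹ = x⁻¹ * (u * u)⁻¹ := by
      have h1 : k * t * k⁻¹ * (x * u) * (k * t * k⁻¹)⁻¹ = (x * u)⁻¹ := by
        rw [← hkx]
        calc k * t * k⁻¹ * (k * ell c * k⁻¹) * (k * t * k⁻¹)⁻¹ = k * (t * ell c * t⁻¹) * k⁻¹ := by group
          _ = (k * ell c * k⁻¹)⁻¹ := by rw [hinv]; group
      calc k * t * k⁻¹ * x * (k * t * k⁻¹)⁻¹ =
          k * t * k⁻¹ * (x * u) * (k * t * k⁻¹)⁻¹ * (k * t * k⁻¹ * u * (k * t * k⁻¹)⁻¹)⁻¹ := by group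
        _ = (x * u)⁻¹ * u⁻¹ := by rw [h1, hs u hu]
        _ = x⁻¹ * (u * u)⁻¹ := by rw [hx, hcomm _ u hu]; group
    have hmove : c₀ * x * c₀⁻¹ = x * (u * u)⁻¹ := by
      have h2 : t⁻¹ * x⁻¹ * t = x := by
        rw [hx, ← hinv]; group
      calc c₀ * x * c₀⁻¹ = t⁻¹ * (k * t * k⁻¹ * x * (k * t * k⁻¹)⁻¹) * t := by rw [hc₀]; group
        _ = t⁻¹ * x⁻¹ * t * (t⁻¹ * (u * u)⁻¹ * t) := by rw [hsx]; group
        _ = x * (u * u)⁻¹ := by
          rw [h2, mul_assoc t⁻¹ _ t, ← htU' _ (inv_mem (mul_mem hu hu)), inv_mul_cancel_left]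
    have hfix : ∀ v ∈ U, c₀ * v * c₀⁻¹ = v := by
      intro v hv
      calc c₀ * v * c₀⁻¹ = t⁻¹ * (k * t * k⁻¹ * v * (k * t * k⁻¹)⁻¹) * t := by rw [hc₀]; group
        _ = v := by rw [hs v hv, mul_assoc, ← htU' v hv, inv_mul_cancel_left]
    have h3 := conj_pow_of_fixed hmove (hfix _ (inv_mem (mul_mem hu hu))) (i₀ + 1)
    have hfixn : c₀ ^ (i₀ + 1) * u * (c₀ ^ (i₀ + 1))⁻¹ = u := by
      have := conj_pow_of_fixed (a := u) (u := 1) (by rw [hfix u hu, mul_one]) (by simp) (i₀ + 1)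
      simpa using this
    calc c₀ ^ (i₀ + 1) * k * ell c * (c₀ ^ (i₀ + 1) * k)⁻¹ =
        c₀ ^ (i₀ + 1) * (k * ell c * k⁻¹) * (c₀ ^ (i₀ + 1))⁻¹ := by group
      _ = c₀ ^ (i₀ + 1) * x * (c₀ ^ (i₀ + 1))⁻¹ * (c₀ ^ (i₀ + 1) * u * (c₀ ^ (i₀ + 1))⁻¹) := by
        rw [hkx]; group
      _ = x * ((u * u)⁻¹) ^ (i₀ + 1) * u := by rw [h3, hfixn]
      _ = x := by
        have hu1 : u ^ (p ^ e) = 1 := by
          rw [← he]
          exact congrArg Subtype.val (pow_card_eq_one' (x := (⟨u, hUP hu⟩ : P)))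
        rw [← pow_two, inv_pow, ← pow_mul, show 2 * (i₀ + 1) = p ^ e + 1 by omega, pow_add, hu1, one_mul,
          pow_one, mul_assoc, inv_mul_cancel, mul_one]
  choose kk hkk using hexact
  set P₁ := Subgroup.closure (Set.range ell) with hP₁
  have hP₁P : P₁ ≤ P := (Subgroup.closure_le _).2 (by rintro _ ⟨c, rfl⟩; exact (hell c).1)
  have hP₁p : IsPGroup p P₁ := hP.to_le hP₁P
  have hkN : ∀ R, kk R ∈ Subgroup.normalizer (P₁ : Set G) := fun R => by
    refine mem_normalizer_of_cj_le ?_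
    show Subgroup.map (MulAut.conj (kk R)).toMonoidHom (Subgroup.closure (Set.range ell)) ≤ _
    rw [MonoidHom.map_closure]
    refine (Subgroup.closure_le _).2 ?_
    rintro _ ⟨_, ⟨c, rfl⟩, rfl⟩
    exact Subgroup.subset_closure ⟨R.1 *ᵥ c, (hkk R c).symm⟩
  -- commutators are biadditive
  have hcu : ∀ v w c, Commute ⁅ell v, ell w⁆ (ell c) := fun v w c => by
    rw [hbec]
    exact (hcomm c _ (mul_mem (hbeU v w) (hbeU v w))).symm
  have hadd : ∀ v w w', ⁅ell v, ell (w + w')⁆ = ⁅ell v, ell w⁆ * ⁅ell v, ell w'⁆ := by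
    intro v w w'
    have hu' := hbeU w w'
    have e : ell (w + w') = ell w * ell w' * (be w w')⁻¹ := by rw [hbem]; group
    calc ⁅ell v, ell (w + w')⁆ = ell v * (ell w * ell w') * (be w w')⁻¹ * (ell v)⁻¹ *
        (be w w' * (ell w * ell w')⁻¹) := by rw [commutatorElement_def, e]; group
      _ = ell v * (ell w * ell w') * ((ell v)⁻¹ * (be w w')⁻¹) * (be w w' * (ell w * ell w')⁻¹) := by
        rw [show (ell v)⁻¹ * (be w w')⁻¹ = (be w w')⁻¹ * (ell v)⁻¹ from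
          (Commute.inv_inv (hcomm v _ hu')).eq]; group
      _ = ⁅ell v, ell w⁆ * (ell w * ⁅ell v, ell w'⁆ * (ell w)⁻¹) := by
        rw [commutatorElement_def, commutatorElement_def]; group
      _ = _ := by rw [← (hcu v w' w).eq, mul_inv_cancel_right]
  have hquad : ∀ (R : Matrix.SpecialLinearGroup (Fin 2) (ZMod p)) (e : Fin 2 → ZMod p)
      (φ : (Fin 2 → ZMod p) → ZMod p), R.1 *ᵥ e = e → (∀ v, R.1 *ᵥ v = v + φ v • e) →
      ⁅⁅P₁, Subgroup.zpowers (kk R)⁆, Subgroup.zpowers (kk R)⁆ = ⊥ := by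
    intro R e φ hRe hRv
    have hline : ∀ (i : ℕ), ell ((i : ZMod p) • e) = ell e ^ i := by
      intro i
      induction i with
      | zero =>
        rw [Nat.cast_zero, zero_smul, pow_zero]
        exact (huniq (oZero (one_mem U)) (by simp)).symm
      | succ i ih =>
        have hov : Over (ell e ^ (i + 1)) (((i + 1 : ℕ) : ZMod p) • e) := by
          rw [pow_succ, ← ih, Nat.cast_succ, add_smul, one_smul]
          exact oMul (hell _) (hell e)
        refine (huniq hov ?_).symm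
        rw [← conj_pow, hinv, inv_pow]
    have hline' : ∀ a b : ZMod p, ⁅ell (a • e), ell (b • e)⁆ = 1 := fun a b => by
      rw [← ZMod.natCast_zmod_val a, ← ZMod.natCast_zmod_val b, hline, hline,
        commutatorElement_eq_one_iff_commute]
      exact (Commute.refl (ell e)).pow_pow _ _
    set s : Set G := {g | (∃ a : ZMod p, g = ell (a • e)) ∨ ∃ (a : ZMod p) (w : _), g = ⁅ell (a • e), ell w⁆}
    set A := Subgroup.closure s
    refine commutator_zpowers_eq_bot (A := A) ?_ (hkN R) hP₁ ?_ ?_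
    · refine (Subgroup.closure_le _).2 ?_
      rintro _ ⟨c, rfl⟩
      refine mem_normalizer_of_cj_le ?_
      show Subgroup.map (MulAut.conj (ell c)).toMonoidHom (Subgroup.closure s) ≤ _
      rw [MonoidHom.map_closure]
      refine (Subgroup.closure_le _).2 ?_
      rintro _ ⟨g, hg, rfl⟩
      show ell c * g * (ell c)⁻¹ ∈ A
      rcases hg with ⟨a, rfl⟩ | ⟨a, w, rfl⟩
      · have e' : ell c * ell (a • e) * (ell c)⁻¹ = ⁅ell (a • e), ell c⁆⁻¹ * ell (a • e) := by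
          rw [commutatorElement_def]; group
        rw [e']
        exact mul_mem (inv_mem (Subgroup.subset_closure (Or.inr ⟨a, c, rfl⟩)))
          (Subgroup.subset_closure (Or.inl ⟨a, rfl⟩))
      · rw [← (hcu _ w c).eq, mul_inv_cancel_right]
        exact Subgroup.subset_closure (Or.inr ⟨a, w, rfl⟩)
    · intro g hg
      have hle : A ≤ Subgroup.centralizer {kk R} := by
        refine (Subgroup.closure_le _).2 ?_
        rintro g hg
        refine Subgroup.mem_centralizer_singleton_iff.2 ?_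
        have key : kk R * g * (kk R)⁻¹ = g := by
          rcases hg with ⟨a, rfl⟩ | ⟨a, w, rfl⟩
          · rw [hkk, mulVec_smul, hRe]
          · rw [conjugate_commutatorElement, hkk, hkk, mulVec_smul, hRe, hRv, hadd, hline', mul_one]
        rw [mul_inv_eq_iff_eq_mul] at key
        exact key.symm
      exact (Subgroup.mem_centralizer_singleton_iff.1 (hle hg)).symm
    · rintro _ ⟨c, rfl⟩
      obtain ⟨a, ha⟩ : ∃ a, φ c = a := ⟨_, rfl⟩
      have hkc : kk R * ell c * (kk R)⁻¹ = ell (a • e) * ell c * (be (a • e) c)⁻¹ := by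
        rw [hkk, hRv, ha, hbem, add_comm c]; group
      rw [hkc, mul_assoc _ (be (a • e) c)⁻¹, (Commute.inv_inv (hcomm c _ (hbeU (a • e) c))).symm.eq]
      have hbA : be (a • e) c ∈ A := by
        obtain ⟨f, hf⟩ := hP.exists_card_eq
        obtain ⟨i₁, hi₁⟩ := hpodd.pow (n := f)
        have hu1 : be (a • e) c ^ (p ^ f) = 1 := by
          rw [← hf]
          exact congrArg Subtype.val (pow_card_eq_one' (x := (⟨_, hUP (hbeU (a • e) c)⟩ : P)))
        have : be (a • e) c = ⁅ell (a • e), ell c⁆ ^ (i₁ + 1) := by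
          rw [hbec, ← pow_two, ← pow_mul, show 2 * (i₁ + 1) = p ^ f + 1 by omega, pow_add, hu1, one_mul,
            pow_one]
        rw [this]
        exact pow_mem (Subgroup.subset_closure (show _ ∈ s from Or.inr ⟨a, c, rfl⟩)) _
      have e' : ell (a • e) * ell c * ((ell c)⁻¹ * (be (a • e) c)⁻¹) = ell (a • e) * (be (a • e) c)⁻¹ := by
        group
      rw [e']
      exact mul_mem (Subgroup.subset_closure (Or.inl ⟨a, rfl⟩)) (inv_mem hbA)
  -- stability on the lifted subgroup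
  set Ru : Matrix.SpecialLinearGroup (Fin 2) (ZMod p) := Dickson.upU 1
  set Rl : Matrix.SpecialLinearGroup (Fin 2) (ZMod p) := Dickson.lowL 1
  have hu1 : ∀ v, Ru.1 *ᵥ v = v + (v 1) • (Pi.single 0 1 : Fin 2 → ZMod p) := fun v => by
    ext i; fin_cases i <;> simp [Ru, Dickson.upU, mulVec, dotProduct, Fin.sum_univ_two]
  have hl1 : ∀ v, Rl.1 *ᵥ v = v + (v 0) • (Pi.single 1 1 : Fin 2 → ZMod p) := fun v => by
    ext i; fin_cases i <;> simp [Rl, Dickson.lowL, mulVec, dotProduct, Fin.sum_univ_two, add_comm]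
  obtain ⟨D₁, hD₁N, hND₁, hD₁p, hg₁⟩ := (mem_pCore_automizer_iff P₁ _ (hkN Ru)).1 (h P₁ hP₁p _ (hkN Ru)
    (hquad Ru _ (fun v => v 1) (by rw [hu1]; simp) hu1))
  obtain ⟨D₂, hD₂N, hND₂, hD₂p, hg₂⟩ := (mem_pCore_automizer_iff P₁ _ (hkN Rl)).1 (h P₁ hP₁p _ (hkN Rl)
    (hquad Rl _ (fun v => v 0) (by rw [hl1]; simp) hl1))
  set N := Subgroup.normalizer (P₁ : Set G)
  set π := QuotientGroup.mk' ((Subgroup.centralizer (P₁ : Set G)).subgroupOf N)
  set z : N := (⟨kk Ru, hkN Ru⟩ * (⟨kk Rl, hkN Rl⟩ : N)⁻¹ * ⟨kk Ru, hkN Ru⟩) ^ 2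
  have hzc : π z ∈ pCore p (N ⧸ (Subgroup.centralizer (P₁ : Set G)).subgroupOf N) := by
    have h1 : π ⟨kk Ru, hkN Ru⟩ ∈ pCore p _ :=
      (mem_pCore_automizer_iff P₁ _ (hkN Ru)).2 ⟨D₁, hD₁N, hND₁, hD₁p, hg₁⟩
    have h2 : π ⟨kk Rl, hkN Rl⟩ ∈ pCore p _ :=
      (mem_pCore_automizer_iff P₁ _ (hkN Rl)).2 ⟨D₂, hD₂N, hND₂, hD₂p, hg₂⟩
    rw [map_pow, map_mul, map_mul, map_inv]
    exact pow_mem (mul_mem (mul_mem h1 (inv_mem h2)) h1) 2
  obtain ⟨J, hJ⟩ := isPGroup_pCore p _ ⟨_, hzc⟩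
  have hJ' : π (z ^ p ^ J) = 1 := by rw [map_pow]; exact congrArg Subtype.val hJ
  have hcen : (z : G) ^ p ^ J ∈ Subgroup.centralizer (P₁ : Set G) := by
    have := Subgroup.mem_subgroupOf.1 ((QuotientGroup.eq_one_iff _).1 hJ')
    rwa [Subgroup.coe_pow] at this
  have hzact : ∀ c, (z : G) * ell c * (z : G)⁻¹ = ell (-c) := by
    intro c
    have hl' : ∀ w, (kk Rl)⁻¹ * ell w * kk Rl = ell (Rl⁻¹.1 *ᵥ w) := fun w => by
      have h1 := hkk Rl (Rl⁻¹.1 *ᵥ w)
      rw [mulVec_mulVec, ← Matrix.SpecialLinearGroup.coe_mul, mul_inv_cancel,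
        Matrix.SpecialLinearGroup.coe_one, one_mulVec] at h1
      rw [← h1]; group
    have hS : ((Ru * Rl⁻¹ * Ru) ^ 2).1 = -1 := by
      simp only [pow_two, Matrix.SpecialLinearGroup.coe_mul, Matrix.SpecialLinearGroup.coe_inv]
      ext i j
      fin_cases i <;> fin_cases j <;>
        simp [Ru, Rl, Dickson.upU, Dickson.lowL, pow_two, Matrix.SpecialLinearGroup.coe_inv, Matrix.SpecialLinearGroup.coe_mul,
          Matrix.adjugate_fin_two, Matrix.mul_apply, Fin.sum_univ_two]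
    have hstep : ∀ w, kk Ru * (kk Rl)⁻¹ * kk Ru * ell w * (kk Ru * (kk Rl)⁻¹ * kk Ru)⁻¹ =
        ell ((Ru * Rl⁻¹ * Ru).1 *ᵥ w) := fun w => by
      calc kk Ru * (kk Rl)⁻¹ * kk Ru * ell w * (kk Ru * (kk Rl)⁻¹ * kk Ru)⁻¹ =
          kk Ru * ((kk Rl)⁻¹ * (kk Ru * ell w * (kk Ru)⁻¹) * kk Rl) * (kk Ru)⁻¹ := by group
        _ = ell (Ru.1 *ᵥ (Rl⁻¹.1 *ᵥ (Ru.1 *ᵥ w))) := by rw [hkk, hl', hkk]
        _ = _ := by
          rw [Matrix.SpecialLinearGroup.coe_mul, Matrix.SpecialLinearGroup.coe_mul, ← mulVec_mulVec,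
            ← mulVec_mulVec]
    have e : (z : G) = (kk Ru * (kk Rl)⁻¹ * kk Ru) * (kk Ru * (kk Rl)⁻¹ * kk Ru) := by
      simp [z, pow_two]
    calc (z : G) * ell c * (z : G)⁻¹ = (kk Ru * (kk Rl)⁻¹ * kk Ru) *
        ((kk Ru * (kk Rl)⁻¹ * kk Ru) * ell c * (kk Ru * (kk Rl)⁻¹ * kk Ru)⁻¹) *
          (kk Ru * (kk Rl)⁻¹ * kk Ru)⁻¹ := by rw [e]; group
      _ = ell (((Ru * Rl⁻¹ * Ru) ^ 2).1 *ᵥ c) := by
        rw [hstep, hstep, mulVec_mulVec]
        simp only [pow_two, Matrix.SpecialLinearGroup.coe_mul]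
      _ = ell (-c) := by rw [hS, neg_mulVec, one_mulVec]
  have hzpow : ∀ (n : ℕ) c, (z : G) ^ n * ell c * ((z : G) ^ n)⁻¹ = ell ((-1 : ZMod p) ^ n • c) := by
    intro n
    induction n with
    | zero => intro c; simp
    | succ n ih =>
      intro c
      calc (z : G) ^ (n + 1) * ell c * ((z : G) ^ (n + 1))⁻¹ =
          (z : G) * ((z : G) ^ n * ell c * ((z : G) ^ n)⁻¹) * (z : G)⁻¹ := by rw [pow_succ']; group
        _ = _ := by rw [ih, hzact, pow_succ, mul_neg_one, neg_smul]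
  set c : Fin 2 → ZMod p := Pi.single 0 1
  have h1 := hzpow (p ^ J) c
  rw [← Subgroup.mem_centralizer_iff.1 hcen (ell c) (Subgroup.subset_closure ⟨c, rfl⟩), mul_inv_cancel_right,
    (hpodd.pow (n := J)).neg_one_pow, neg_one_smul] at h1
  have h2 : Over (ell c) (-c) := h1 ▸ hell (-c)
  have h3 : L (c + c) ∈ U := by
    have h4 := oUniq (oL (c + c)) (oMul (hell c) (hell c))
    have h5 := oUniq (oZero (one_mem U)) (show Over (ell c * ell c) 0 by simpa using oMul (hell c) h2)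
    rw [inv_one, one_mul] at h5
    have := mul_mem h5 (inv_mem h4)
    simpa [mul_assoc] using this
  have h6 := congrFun (hLinj _ h3) 0
  simp [c, Pi.add_apply] at h6
  refine hpne ?_
  linear_combination -h6

/-- A pair quadratic modulo a central `p`-subgroup generates a group acting by `p`-elements. -/
theorem pow_mem_centralizer_of_pair (hp2 : p ≠ 2) (h : IsNormalizerPStable p G) {Z : Subgroup G}
    (hZc : Z ≤ Subgroup.center G) :
    ∀ (n : ℕ) (P : Subgroup G), Nat.card P ≤ n → IsPGroup p P → Z ≤ P → ∀ x y : G,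
    x ∈ Subgroup.normalizer (P : Set G) → y ∈ Subgroup.normalizer (P : Set G) →
    (∀ a ∈ P, ⁅⁅a, x⁆, x⁆ ∈ Z) → (∀ a ∈ P, ⁅⁅a, y⁆, y⁆ ∈ Z) →
    ∀ k ∈ Subgroup.closure ({x, y} : Set G), ∃ j, k ^ p ^ j ∈ Subgroup.centralizer (P : Set G) := by
  intro n
  induction n using Nat.strong_induction_on with
  | _ n ih =>
  intro P hn hP hZP x y hx hy hqx hqy k hk
  rcases eq_or_ne P Z with rfl | hne
  · exact ⟨0, Subgroup.mem_centralizer_iff.2 fun v hv =>
      ((Subgroup.mem_center_iff.1 (hZc hv)) _).symm⟩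
  set U := (frattini ↥P).map P.subtype ⊔ Z with hU
  have hUP : U ≤ P := sup_le (Subgroup.map_subtype_le _) hZP
  have hUne : U ≠ P := by
    intro he
    refine hne (le_antisymm ?_ hZP)
    have h1 : Z.subgroupOf P ⊔ frattini ↥P = ⊤ := by
      refine Subgroup.map_injective P.subtype_injective ?_
      rw [Subgroup.map_sup, Subgroup.map_subgroupOf_eq_of_le hZP, ← MonoidHom.range_eq_map,
        Subgroup.range_subtype, sup_comm]
      exact he
    exact Subgroup.subgroupOf_eq_top.1 (frattini_nongenerating h1)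
  have hlt : Nat.card U < n := lt_of_lt_of_le (lt_of_le_of_ne (Subgroup.card_le_of_le hUP)
    fun he => hUne (Subgroup.eq_of_le_of_card_ge hUP he.ge)) hn
  have hNU := normalizer_le_normalizer_frattini_sup hZc P
  rw [← hU] at hNU
  have ihU := ih _ hlt U le_rfl (hP.to_le hUP) le_sup_right x y (hNU hx) (hNU hy)
    (fun a ha => hqx a (hUP ha)) (fun a ha => hqy a (hUP ha))
  set N := Subgroup.normalizer (P : Set G)
  have hUN : U ≤ N := hUP.trans Subgroup.le_normalizer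
  haveI : (U.subgroupOf N).Normal := (Subgroup.normal_subgroupOf_iff_le_normalizer hUN).2 hNU
  set π := QuotientGroup.mk' (U.subgroupOf N) with hπ
  set V := (P.subgroupOf N).map π with hV
  haveI hPn : (P.subgroupOf N).Normal := Subgroup.normal_in_normalizer
  haveI hVn : V.Normal := Subgroup.Normal.map hPn π (QuotientGroup.mk'_surjective _)
  have hVel : Cfsg.IsElementaryAbelian p V := by
    have hmem : ∀ w : N, (w : G) ∈ U → π w = 1 := fun w hw =>
      (QuotientGroup.eq_one_iff w).2 (Subgroup.mem_subgroupOf.2 hw)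
    refine ⟨⟨⟨?_⟩⟩, ?_⟩
    · rintro ⟨_, a, ha, rfl⟩ ⟨_, b, hb, rfl⟩
      refine Subtype.ext (commutatorElement_eq_one_iff_mul_comm.1 ?_)
      rw [← map_commutatorElement]
      exact hmem _ (Subgroup.mem_sup_left
        ⟨_, Solv.commutatorElement_mem_frattini hP ⟨a, ha⟩ ⟨b, hb⟩, rfl⟩)
    · rintro _ ⟨a, ha, rfl⟩
      rw [← map_pow]
      exact hmem _ (Subgroup.mem_sup_left ⟨_, Solv.pow_mem_frattini hP ⟨a, ha⟩, rfl⟩)
  by_cases hbad : ∃ g ∈ Subgroup.closure ({π ⟨x, hx⟩, π ⟨y, hy⟩} : Set _),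
      ∀ j : ℕ, g ^ p ^ j ∉ Subgroup.centralizer (V : Set _)
  · exfalso
    have hq : ∀ (z : G) (hz : z ∈ N), (∀ a ∈ P, ⁅⁅a, z⁆, z⁆ ∈ Z) →
        ∀ v ∈ V, ⁅⁅v, π ⟨z, hz⟩⁆, π ⟨z, hz⟩⁆ = 1 := by
      rintro z hz hqz _ ⟨a, ha, rfl⟩
      rw [← map_commutatorElement, ← map_commutatorElement]
      exact (QuotientGroup.eq_one_iff _).2 (Subgroup.mem_subgroupOf.2 (Subgroup.mem_sup_right (hqz a ha)))
    obtain ⟨W, hWi, hWadd, hWV, hWR⟩ := exists_natural_of_quadratic_pair hp2 V ⊤ hVel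
      (by rw [Subgroup.normalizer_eq_top]) (Subgroup.mem_top _) (Subgroup.mem_top _)
      (hq x hx hqx) (hq y hy hqy) hbad
    choose L hLP hLW using hWV
    have hW0 : W 0 = 1 := by
      have := hWadd 0 0
      rwa [add_zero, left_eq_mul] at this
    have hiff : ∀ w : N, π w = 1 → (w : G) ∈ U := fun w hw =>
      Subgroup.mem_subgroupOf.1 ((QuotientGroup.eq_one_iff w).1 hw)
    refine natural_layer_impossible hp2 h hP hUP ((Subgroup.le_normalizer).trans hNU)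
      (fun c => (L c : G)) hLP (fun c d => hiff ((L (c + d))⁻¹ * (L c * L d)) ?_)
      (fun c hc => hWi ?_) fun R => ?_
    · rw [map_mul, map_inv, map_mul, hLW, hLW, hLW, hWadd, inv_mul_cancel]
    · rw [hW0, ← hLW c]
      exact (QuotientGroup.eq_one_iff _).2 (Subgroup.mem_subgroupOf.2 hc)
    · obtain ⟨l, hl, hlW⟩ := hWR R
      obtain ⟨k', hk', rfl⟩ : l ∈ (Subgroup.closure ({⟨x, hx⟩, ⟨y, hy⟩} : Set N)).map π := by
        rw [MonoidHom.map_closure, Set.image_pair]; exact hl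
      have hkxy : (k' : G) ∈ Subgroup.closure ({x, y} : Set G) := by
        have : (k' : G) ∈ (Subgroup.closure ({⟨x, hx⟩, ⟨y, hy⟩} : Set N)).map N.subtype := ⟨k', hk', rfl⟩
        rwa [MonoidHom.map_closure, Set.image_pair] at this
      refine ⟨k', k'.2, hNU k'.2, ihU _ hkxy, fun c => hiff ((L (R.1 *ᵥ c))⁻¹ * (k' * L c * k'⁻¹)) ?_⟩
      rw [map_mul, map_inv, map_mul, map_mul, map_inv, hLW, hLW, hlW, inv_mul_cancel]
  · push Not at hbad
    have hxyN : Subgroup.closure ({x, y} : Set G) ≤ N :=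
      (Subgroup.closure_le _).2 (by rintro _ (rfl | rfl) <;> assumption)
    have hkmem : π ⟨k, hxyN hk⟩ ∈ Subgroup.closure ({π ⟨x, hx⟩, π ⟨y, hy⟩} : Set _) := by
      have h1 : (⟨k, hxyN hk⟩ : N) ∈ Subgroup.closure ({⟨x, hx⟩, ⟨y, hy⟩} : Set N) := by
        have h2 : k ∈ (Subgroup.closure ({⟨x, hx⟩, ⟨y, hy⟩} : Set N)).map N.subtype := by
          rw [MonoidHom.map_closure, Set.image_pair]; exact hk
        obtain ⟨k', hk', he⟩ := h2
        have : k' = ⟨k, hxyN hk⟩ := Subtype.ext he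
        exact this ▸ hk'
      have h3 : π ⟨k, hxyN hk⟩ ∈ (Subgroup.closure ({⟨x, hx⟩, ⟨y, hy⟩} : Set N)).map π :=
        Subgroup.mem_map_of_mem π h1
      rwa [MonoidHom.map_closure, Set.image_pair] at h3
    obtain ⟨j₁, hj₁⟩ := hbad _ hkmem
    obtain ⟨j₂, hj₂⟩ := ihU k hk
    obtain ⟨e, he⟩ := hP.exists_card_eq
    set m := k ^ p ^ (j₁ + j₂) with hm
    refine ⟨j₁ + j₂ + e, Subgroup.mem_centralizer_iff.2 fun a ha => ?_⟩
    have hmU : ∀ u ∈ U, m * u = u * m := fun u hu => by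
      have := pow_mem hj₂ (p ^ j₁)
      rw [← pow_mul, ← pow_add, add_comm] at this
      exact (Subgroup.mem_centralizer_iff.1 this u hu).symm
    have hmN : m ∈ N := pow_mem (hxyN hk) _
    have haN : a ∈ N := Subgroup.le_normalizer ha
    have hu : a⁻¹ * (m * a * m⁻¹) ∈ U := by
      have h1 := pow_mem hj₁ (p ^ j₂)
      rw [← pow_mul, ← pow_add, ← map_pow] at h1
      have h2 := Subgroup.mem_centralizer_iff.1 h1 (π ⟨a, haN⟩) ⟨⟨a, haN⟩, ha, rfl⟩
      have h3 : π (⟨a, haN⟩⁻¹ * (⟨m, hmN⟩ * ⟨a, haN⟩ * (⟨m, hmN⟩ : N)⁻¹)) = 1 := by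
        have e' : (⟨m, hmN⟩ : N) = ⟨k, hxyN hk⟩ ^ p ^ (j₁ + j₂) := Subtype.ext rfl
        rw [e', map_mul, map_inv, map_mul, map_mul, map_inv, ← h2, mul_inv_cancel_right, inv_mul_cancel]
      exact Subgroup.mem_subgroupOf.1 ((QuotientGroup.eq_one_iff _).1 h3)
    have hmove := conj_pow_of_fixed (k := m) (a := a) (u := a⁻¹ * (m * a * m⁻¹)) (by group)
      (by rw [hmU _ hu, mul_inv_cancel_right]) (p ^ e)
    have hu1 : (a⁻¹ * (m * a * m⁻¹)) ^ p ^ e = 1 := by
      rw [← he]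
      exact congrArg Subtype.val (pow_card_eq_one' (x := (⟨_, hUP hu⟩ : P)))
    rw [hu1, mul_one, mul_inv_eq_iff_eq_mul, hm, ← pow_mul, ← pow_add] at hmove
    exact hmove.symm

/-- The quotient by a central `p`-subgroup keeps the stability. -/
theorem isNormalizerPStable_quotient_central (hp2 : p ≠ 2) (h : IsNormalizerPStable p G) (Z : Subgroup G)
    [Z.Normal] (hZc : Z ≤ Subgroup.center G) (hZp : IsPGroup p Z) : IsNormalizerPStable p (G ⧸ Z) := by
  intro Pb hPb g hg hq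
  set q := QuotientGroup.mk' Z
  have hqs : Function.Surjective q := QuotientGroup.mk'_surjective Z
  set P := Pb.comap q
  have hZP : Z ≤ P := fun z hz => by
    show q z ∈ Pb
    rw [show q z = 1 from (QuotientGroup.eq_one_iff z).2 hz]
    exact one_mem _
  have hP : IsPGroup p P := hPb.comap_of_ker_isPGroup q (by rwa [QuotientGroup.ker_mk'])
  set N := Subgroup.normalizer (Pb : Set (G ⧸ Z))
  set π := QuotientGroup.mk' ((Subgroup.centralizer (Pb : Set (G ⧸ Z))).subgroupOf N)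
  suffices hle : Subgroup.zpowers (π ⟨g, hg⟩) ≤ pCore p _ from hle (Subgroup.mem_zpowers _)
  refine Solv.baer_suzuki _ fun hb => ?_
  induction hb using QuotientGroup.induction_on with
  | H hh =>
  intro z
  have hlift : ∀ w : G, q w ∈ N → w ∈ Subgroup.normalizer (P : Set G) := fun w hw =>
    Subgroup.mem_normalizer_iff.2 fun a => by
      show q a ∈ Pb ↔ q (w * a * w⁻¹) ∈ Pb
      rw [map_mul, map_mul, map_inv]
      exact Subgroup.mem_normalizer_iff.1 hw (q a)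
  obtain ⟨x, hx⟩ := hqs g
  obtain ⟨w, hw⟩ := hqs (hh : G ⧸ Z)
  set y := w * x * w⁻¹
  have hqg : ∀ b ∈ Pb, ⁅⁅b, g⁆, g⁆ = 1 := fun b hb => Subgroup.mem_bot.1 (hq ▸
    Subgroup.commutator_mem_commutator (Subgroup.commutator_mem_commutator hb (Subgroup.mem_zpowers g))
      (Subgroup.mem_zpowers g))
  have hqy : q y = (hh : G ⧸ Z) * g * (hh : G ⧸ Z)⁻¹ := by
    rw [map_mul, map_mul, map_inv, hx, hw]
  have hqh : ∀ b ∈ Pb, ⁅⁅b, q y⁆, q y⁆ = 1 := by
    intro b hb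
    have hb' : (hh : G ⧸ Z)⁻¹ * b * (hh : G ⧸ Z) ∈ Pb := (Subgroup.mem_normalizer_iff''.1 hh.2 b).1 hb
    have e : ⁅⁅b, q y⁆, q y⁆ = (hh : G ⧸ Z) * ⁅⁅(hh : G ⧸ Z)⁻¹ * b * (hh : G ⧸ Z), g⁆, g⁆ *
        (hh : G ⧸ Z)⁻¹ := by
      rw [hqy]; simp only [commutatorElement_def]; group
    rw [e, hqg _ hb', mul_one, mul_inv_cancel]
  have key := pow_mem_centralizer_of_pair hp2 h hZc (Nat.card P) P le_rfl hP hZP x y
    (hlift x (by rw [hx]; exact hg)) (hlift y (by rw [hqy]; exact mul_mem (mul_mem hh.2 hg) (inv_mem hh.2)))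
    (fun a ha => (QuotientGroup.eq_one_iff _).1 (by
      show q _ = 1
      rw [map_commutatorElement, map_commutatorElement, hx]; exact hqg _ ha))
    (fun a ha => (QuotientGroup.eq_one_iff _).1 (by
      show q _ = 1
      rw [map_commutatorElement, map_commutatorElement]; exact hqh _ ha))
  obtain ⟨z, hz⟩ := z
  set T : Set N := {⟨g, hg⟩, hh * ⟨g, hg⟩ * hh⁻¹} with hT
  have hzT : z ∈ (Subgroup.closure T).map π := by
    refine (sup_le ?_ ?_ : _ ≤ (Subgroup.closure T).map π) hz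
    · exact Subgroup.zpowers_le.2 ⟨_, Subgroup.subset_closure (by simp [hT]), rfl⟩
    · rintro _ ⟨v, hv, rfl⟩
      obtain ⟨i, rfl⟩ := Subgroup.mem_zpowers_iff.1 hv
      refine ⟨(hh * ⟨g, hg⟩ * hh⁻¹) ^ i, zpow_mem (Subgroup.subset_closure (by simp [hT])) i, ?_⟩
      rw [map_zpow, map_mul, map_mul, map_inv]
      exact conj_zpow
  obtain ⟨v, hv, rfl⟩ := hzT
  obtain ⟨v', hv', hvv⟩ : (v : G ⧸ Z) ∈ (Subgroup.closure ({x, y} : Set G)).map q := by
    have h1 : (v : G ⧸ Z) ∈ (Subgroup.closure T).map N.subtype := ⟨v, hv, rfl⟩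
    rw [MonoidHom.map_closure, hT, Set.image_pair] at h1
    rw [MonoidHom.map_closure, Set.image_pair, hx, hqy]
    exact h1
  obtain ⟨j, hj⟩ := key v' hv'
  refine ⟨j, Subtype.ext ?_⟩
  show π v ^ p ^ j = 1
  rw [← map_pow]
  refine (QuotientGroup.eq_one_iff _).2 (Subgroup.mem_subgroupOf.2 ?_)
  rw [Subgroup.coe_pow, ← hvv, ← map_pow]
  refine Subgroup.mem_centralizer_iff.2 fun b hb => ?_
  obtain ⟨a, rfl⟩ := hqs b
  rw [← map_mul, ← map_mul, Subgroup.mem_centralizer_iff.1 hj a hb]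

end Cfsg.Agent.Fusion
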