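import Cfsg.Agent.Lib.Local.FS.CenterSplit
import Cfsg.Agent.Lib.Local.FS.StableConstrained
import Cfsg.Agent.Lib.Local.FS.ThompsonInner
import Cfsg.Agent.Lib.Fusion.SolvableBalance

/-!
# Isolated elements form a direct factor of the centre of a Sylow subgroup
-/

set_option autoImplicit false
set_option linter.style.haveILetI false

universe u

namespace Cfsg.Agent.Fusion

open Cfsg Cfsg.FusionSystem Cfsg.Agent.Local.FS

variable {G : Type u} [Group G] [Finite G] {p : ℕ} [hp : Fact p.Prime] {S : Subgroup G}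

/-- The centre of the system of a group consists of the isolated elements. -/
theorem mem_center_group_iff (hS : SylIn p S ⊤) {x : G} :
    x ∈ (groupFusionSystem S).center ↔ x ∈ S ∧ ∀ g : G, g * x * g⁻¹ ∈ S → g * x * g⁻¹ = x := by
  constructor
  · intro hx
    have hxS := (center_spec _ hx).1
    refine ⟨hxS, fun g hg => center_fixed _ hx (f := fun y => g * y * g⁻¹) (P := Subgroup.zpowers x)
      (map_group_iff.2 ⟨Subgroup.zpowers_le.2 hxS, fun y hy => ?_, g, fun _ _ => rfl⟩) (Subgroup.mem_zpowers x)⟩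
    have h0 : Subgroup.zpowers x ≤ S.comap (MulAut.conj g).toMonoidHom := Subgroup.zpowers_le.2 hg
    exact h0 hy
  rintro ⟨hxS, hiso⟩
  have hxc : ∀ s ∈ S, s * x = x * s := fun s hs => mul_inv_eq_iff_eq_mul.1
    (hiso s (S.mul_mem (S.mul_mem hs hxS) (S.inv_mem hs)))
  refine mem_center_of_fixClass hxS fun A f hf => ?_
  obtain ⟨hA, hm, g, hg⟩ := map_group_iff.1 hf
  set C := Subgroup.centralizer (A : Set G)
  have hxC : x ∈ C := Subgroup.mem_centralizer_iff.2 fun a ha => hxc a (hA ha)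
  have hx' : g⁻¹ * x * g ∈ C := Subgroup.mem_centralizer_iff.2 fun a ha => by
    have h1 : g * a * g⁻¹ * x = x * (g * a * g⁻¹) := by
      have := hxc _ (hm a ha); rwa [hg a ha] at this
    calc a * (g⁻¹ * x * g) = g⁻¹ * (g * a * g⁻¹ * x) * g := by group
      _ = g⁻¹ * (x * (g * a * g⁻¹)) * g := by rw [h1]
      _ = g⁻¹ * x * g * a := by group
  have hxp : IsPGroup p (Subgroup.zpowers x) := hS.isPGroup.to_le (Subgroup.zpowers_le.2 hxS)
  obtain ⟨T, hT, hxT⟩ := exists_sylIn_ge hxp (Subgroup.zpowers_le.2 hxC)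
  have hxp' : IsPGroup p (Subgroup.zpowers (g⁻¹ * x * g)) := by
    have h := isPGroup_cj hxp g⁻¹
    rwa [cj, MonoidHom.map_zpowers, show (MulAut.conj g⁻¹).toMonoidHom x = g⁻¹ * x * g from by simp] at h
  obtain ⟨c, hc, hcT⟩ := hT.conj_le hxp' (Subgroup.zpowers_le.2 hx')
  obtain ⟨h, -, hle⟩ := hS.conj_le hT.isPGroup le_top
  set k := g * c⁻¹ with hk
  have hk1 : c * g⁻¹ * x * g * c⁻¹ ∈ T := hcT ⟨g⁻¹ * x * g, Subgroup.mem_zpowers _, by simp [mul_assoc]⟩
  have h2 : h * x * h⁻¹ = x := hiso h (hle ⟨x, hxT (Subgroup.mem_zpowers x), rfl⟩)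
  have h3 : (h * (c * g⁻¹)) * x * (h * (c * g⁻¹))⁻¹ = x := hiso _ (by
    have h4 := hle ⟨_, hk1, rfl⟩
    convert h4 using 1
    show _ = h * (c * g⁻¹ * x * g * c⁻¹) * h⁻¹
    group)
  have hkx : k * x * k⁻¹ = x := by
    have h5 : (c * g⁻¹) * x * (c * g⁻¹)⁻¹ = x := by
      calc (c * g⁻¹) * x * (c * g⁻¹)⁻¹ = h⁻¹ * ((h * (c * g⁻¹)) * x * (h * (c * g⁻¹))⁻¹) * h := by group
        _ = h⁻¹ * (h * x * h⁻¹) * h := by rw [h3, h2]
        _ = x := by group
    calc k * x * k⁻¹ = k * ((c * g⁻¹) * x * (c * g⁻¹)⁻¹) * k⁻¹ := by rw [h5]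
      _ = x := by rw [hk]; group
  have hka : ∀ a ∈ A, k * a * k⁻¹ = f a := fun a ha => by
    have h6 : c⁻¹ * a * c = a := by
      rw [mul_assoc, Subgroup.mem_centralizer_iff.1 hc a ha, inv_mul_cancel_left]
    rw [hg a ha, hk]
    calc g * c⁻¹ * a * (g * c⁻¹)⁻¹ = g * (c⁻¹ * a * c) * g⁻¹ := by group
      _ = _ := by rw [h6]
  have hdom : A ⊔ Subgroup.zpowers x ≤ S.comap (MulAut.conj k).toMonoidHom := sup_le
    (fun a ha => by show k * a * k⁻¹ ∈ S; rw [hka a ha]; exact hm a ha)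
    (Subgroup.zpowers_le.2 (by show k * x * k⁻¹ ∈ S; rw [hkx]; exact hxS))
  exact ⟨fun y => k * y * k⁻¹, map_group_iff.2 ⟨sup_le hA (Subgroup.zpowers_le.2 hxS), fun y hy => hdom hy,
    k, fun _ _ => rfl⟩, hka, hkx⟩

/-- For odd `p` the centre of a saturated system splits off the centre of the Sylow subgroup. -/
theorem exists_center_complement_odd {Ω : Type u} [Group Ω] {S : Subgroup Ω} [Finite S] {F : FusionSystem S}
    (hp2 : p ≠ 2) (hS : IsPGroup p S) (hF : F.IsSaturated p) :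
    ∃ K : Subgroup Ω, K ≤ S ⊓ Subgroup.centralizer (S : Set Ω) ∧ F.center ⊓ K = ⊥ ∧
      F.center ⊔ K = S ⊓ Subgroup.centralizer (S : Set Ω) := by
  have hJS : thompsonSubgroupAOf S ≤ S := Subgroup.map_subtype_le _
  have hV := normalizerIn_thompson (p := p) hS
  have hfn : F.IsFullyNormalized (thompsonSubgroupAOf S) :=
    ⟨hJS, fun R _ => by rw [hV]; exact Subgroup.card_le_of_le inf_le_left⟩
  set N := normSys F hfn.1 with hN
  have hNF : F.IsNormalizerSystem (thompsonSubgroupAOf S) N := fun _ => rfl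
  haveI : Finite ↥(normalizerIn S (thompsonSubgroupAOf S)) := finite_of_le inf_le_left
  have hc : N.center = F.center := le_antisymm
    (fun x hx => mem_center_of_glauberman hS hF hNF hx (Or.inl hp2))
    (center_le_center_normalizer hV hNF)
  obtain ⟨K, hK, h1, h2⟩ := exists_center_complement (F := N) (hS.to_le inf_le_left)
    (normSys_saturated hS hF hfn) (normal_normalizerSystem hfn.1 hNF) (by
      rw [hV]
      exact (center_le_centerThompsonAOf' hS).trans inf_le_left)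
  rw [hc] at h1 h2
  rw [hV] at hK h2
  exact ⟨K, hK, h1, h2⟩

/-- In a group with `O_{p'}` a kernel, the preimage of the `p`-core is normal in the system. -/
theorem exists_normal_of_solvable (hS : SylIn p S ⊤) (hsolv : Group.IsSolvable G) :
    ∃ Q : Subgroup G, (groupFusionSystem S).IsNormal Q ∧ S ⊓ Subgroup.centralizer (S : Set G) ≤ Q := by
  set O := pPrimeCore p G with hO
  set π := QuotientGroup.mk' O
  set M := pPrimePCore p G with hM
  set Q := S ⊓ M with hQ
  haveI : M.Normal := by rw [hM, pPrimePCore]; infer_instance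
  have hQM : SylIn p Q M := hS.inf_normal le_top (by rw [Subgroup.normalizer_eq_top])
  have hsq : Group.IsSolvable (G ⧸ O) := Group.isSolvable_of_surjective (QuotientGroup.mk'_surjective O)
  have hcore := centralizer_pCore_le_of_solvable hsq (pPrimeCore_quotient_eq_bot (p := p) (G := G))
  have hSb : SylIn p (S.map π) ⊤ := sylIn_map_mk hS
  have hOS : pCore p (G ⧸ O) ≤ S.map π := by
    obtain ⟨T, hT⟩ := hSb.exists_sylow
    rw [← hT]
    exact (isPGroup_pCore p (G ⧸ O)).le_sylow_of_normal T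
  have hmemM : ∀ x : G, x ∈ M ↔ π x ∈ pCore p (G ⧸ O) := fun x => Iff.rfl
  have hZQ : S ⊓ Subgroup.centralizer (S : Set G) ≤ Q := fun x hx => by
    refine ⟨hx.1, (hmemM x).2 (hcore (Subgroup.mem_centralizer_iff.2 fun y hy => ?_))⟩
    obtain ⟨s, hs, rfl⟩ := hOS hy
    rw [← map_mul, ← map_mul, Subgroup.mem_centralizer_iff.1 hx.2 s hs]
  have hOM : O ≤ M := fun x hx => (hmemM x).2 (by
    rw [show π x = 1 from (QuotientGroup.eq_one_iff x).2 hx]; exact one_mem _)
  have hMQ : M ≤ O ⊔ Q := by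
    intro x hx
    obtain ⟨s, hs, he⟩ := hOS ((hmemM x).1 hx)
    have hsM : s ∈ M := (hmemM s).2 (by rw [he]; exact (hmemM x).1 hx)
    have hmem : x * s⁻¹ ∈ O := (QuotientGroup.eq_one_iff _).1 (by
      show π (x * s⁻¹) = 1
      rw [map_mul, map_inv, he, mul_inv_cancel])
    have := mul_mem (Subgroup.mem_sup_left hmem : x * s⁻¹ ∈ O ⊔ Q) (Subgroup.mem_sup_right (⟨hs, hsM⟩ : s ∈ Q))
    rwa [inv_mul_cancel_right] at this
  have hSO : ∀ s ∈ S, s ∈ O → s = 1 := fun s hs hsO => by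
    have hd : orderOf s ∣ Nat.card O := by
      rw [← Subgroup.orderOf_mk s hsO]; exact orderOf_dvd_natCard _
    obtain ⟨j, hj⟩ := hS.isPGroup.exists_card_eq
    have hd' : orderOf s ∣ p ^ j := by
      rw [← hj, ← Subgroup.orderOf_mk s hs]; exact orderOf_dvd_natCard _
    exact orderOf_eq_one_iff.1 (Nat.eq_one_of_dvd_coprimes ((card_pPrimeCore_coprime p G).pow_right j) hd hd')
  have hSN : S ≤ Subgroup.normalizer (Q : Set G) := fun s hs => mem_normalizer_of_cj_le (by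
    rw [hQ, cj_inf, cj_eq_self_of_mem hs, cj_of_normal])
  refine ⟨Q, isNormal_of_conj inf_le_left fun A hA g hg => ?_, hZQ⟩
  obtain ⟨m, hm, hmg⟩ := frattini_conj hQM (H := ⊤) (by rw [Subgroup.normalizer_eq_top]) (Subgroup.mem_top g)
  obtain ⟨o, ho, q, hq, hoq⟩ : ∃ o ∈ O, ∃ q ∈ Q, o * q = m⁻¹ :=
    Subgroup.mem_sup_of_normal_left.1 (hMQ (M.inv_mem hm))
  set k := q * (m * g) with hk
  have hkN : k ∈ Subgroup.normalizer (Q : Set G) := mul_mem (Subgroup.le_normalizer hq) hmg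
  have hgk : g = o * k := by
    rw [hk]
    calc g = m⁻¹ * (m * g) := by group
      _ = o * q * (m * g) := by rw [hoq]
      _ = _ := by group
  set B := cj A k with hB
  have hBN : B ≤ Subgroup.normalizer (Q : Set G) := by
    rintro _ ⟨a, ha, rfl⟩
    exact mul_mem (mul_mem hkN (hSN (hA ha))) ((Subgroup.normalizer (Q : Set G)).inv_mem hkN)
  set D := O ⊓ Subgroup.normalizer (Q : Set G) with hD
  have hSD : S ≤ Subgroup.normalizer (D : Set G) := fun s hs => mem_normalizer_of_cj_le (by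
    rw [hD, cj_inf, cj_of_normal, cj_eq_self_of_mem (hSN hs)])
  have hBle : B ≤ S ⊔ D := by
    intro b hb
    have hbN := hBN hb
    obtain ⟨a, ha, rfl⟩ := hb
    have ha' := hg a ha
    rw [hgk] at ha'
    set a' := o * k * a * (o * k)⁻¹ with ha'e
    have he : (MulAut.conj k).toMonoidHom a = a' * (a'⁻¹ * o⁻¹ * a' * o) := by
      show k * a * k⁻¹ = _; rw [ha'e]; group
    rw [he] at hbN ⊢
    refine mul_mem (Subgroup.mem_sup_left ha') (Subgroup.mem_sup_right ⟨mul_mem ?_ ho, ?_⟩)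
    · simpa using (inferInstance : O.Normal).conj_mem o⁻¹ (O.inv_mem ho) a'⁻¹
    · simpa using mul_mem ((Subgroup.normalizer (Q : Set G)).inv_mem (hSN ha')) hbN
  obtain ⟨y, hy, hyB⟩ := (hS.mono le_sup_left le_top : SylIn p S (S ⊔ D)).conj_le
    (isPGroup_cj (hS.isPGroup.to_le hA) _) hBle
  obtain ⟨s, hs, c, hc, rfl⟩ := exists_mul_of_mem_sup hSD hy
  have hyB' : cj B c ≤ S := by
    have h := cj_mono hyB s⁻¹
    rwa [cj_cj, inv_mul_cancel_left, cj_eq_self_of_mem (S.inv_mem hs)] at h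
  refine ⟨c * k, mul_mem hc.2 hkN, fun a ha => ?_⟩
  have h1 : c * k * a * (c * k)⁻¹ ∈ S := by
    refine hyB' ⟨_, ⟨a, ha, rfl⟩, ?_⟩
    show c * (k * a * k⁻¹) * c⁻¹ = _
    group
  have ha' := hg a ha
  rw [hgk] at ha' ⊢
  set a' := o * k * a * (o * k)⁻¹ with ha'e
  have h2 : a'⁻¹ * (c * k * a * (c * k)⁻¹) ∈ O := by
    rw [show a'⁻¹ * (c * k * a * (c * k)⁻¹) = a'⁻¹ * (c * o⁻¹) * a' * (c * o⁻¹)⁻¹ by rw [ha'e]; group]
    have he := O.mul_mem hc.1 (O.inv_mem ho)
    exact O.mul_mem (by simpa using (inferInstance : O.Normal).conj_mem _ he a'⁻¹) (O.inv_mem he)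
  have h3 := hSO _ (S.mul_mem (S.inv_mem ha') h1) h2
  rw [inv_mul_eq_one] at h3
  exact h3.symm

end Cfsg.Agent.Fusion
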