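import Cfsg.Agent.Lib.Fusion.LinearStable
import Cfsg.Agent.Lib.Fusion.QdSection

/-!
# Groups without a section `Qd(p)` are stable in the normalizer form
-/

set_option autoImplicit false

open scoped commutatorElement

namespace Cfsg.Agent.Fusion

universe u

variable {G : Type u} [Group G] [Finite G] {p : ℕ} [hp : Fact p.Prime]

theorem involves_qd_of_quadratic_minimal (hp2 : p ≠ 2) {V : Subgroup G} [V.Normal]
    (hV : IsPGroup p V) (hmin : ∀ N : Subgroup G, N.Normal → N ≤ V → N = ⊥ ∨ N = V) {g : G}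
    (hq : ∀ v ∈ V, ⁅⁅v, g⁆, g⁆ = 1) (hg : g ∉ Subgroup.centralizer (V : Set G)) :
    Cfsg.Involves ↥(Cfsg.qd p) G := by
  obtain ⟨y, hy, hw⟩ := exists_pair_of_quadratic_minimal hV hmin hq hg
  exact involves_qd_of_quadratic_pair hp2 V ⊤
    (isElementaryAbelian_of_minimal hV hmin) (by rw [Subgroup.normalizer_eq_top])
    (Subgroup.mem_top g) (Subgroup.mem_top y) hq hy hw

/-- A group without a section `Qd(p)` is `p`-stable in the normalizer form. -/
theorem isNormalizerPStable_of_qd_free (hp2 : p ≠ 2) (h : ¬ Cfsg.Involves ↥(Cfsg.qd p) G) :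
    Cfsg.IsNormalizerPStable p G :=
  isNormalizerPStable_of_free (X := ↥(Cfsg.qd p)) (fun hV hmin _ hq' hg' =>
    involves_qd_of_quadratic_minimal hp2 hV hmin hq' hg')
    fun _ _ _ hinv => h (involves_trans hinv (involves_subgroup involves_refl _))

end Cfsg.Agent.Fusion
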