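import Cfsg.Agent.Lib.Fusion.Cores
import Cfsg.Agent.Lib.Local.FS.Omega

/-!
# Elements of order `p` in class two subgroups, `p` odd
-/

set_option autoImplicit false

open scoped commutatorElement

namespace Cfsg.Agent.Fusion

variable {G : Type*} [Group G] {p : ℕ} [hp : Fact p.Prime]

omit hp in
theorem commutator_pow_eq_one_of_commute {x y : G} (hc : ∀ g : G, ⁅y, x⁆ * g = g * ⁅y, x⁆)
    (hy : y ^ p * x = x * y ^ p) : ⁅y, x⁆ ^ p = 1 := by
  have h1 : (x * y * x⁻¹) ^ p = y ^ p := by rw [conj_pow, ← hy, mul_inv_cancel_right]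
  have h2 : x * y * x⁻¹ = ⁅y, x⁆⁻¹ * y := by simp [commutatorElement_def, mul_assoc]
  have h3 : Commute ⁅y, x⁆⁻¹ y := (show Commute ⁅y, x⁆ y from hc y).inv_left
  rw [h2, h3.mul_pow, mul_eq_right, inv_pow, inv_eq_one] at h1
  exact h1

theorem pow_prime_mul_of_class_two (hp2 : p ≠ 2) {x y : G}
    (hc : ∀ g : G, ⁅y, x⁆ * g = g * ⁅y, x⁆) (hy : y ^ p * x = x * y ^ p) :
    (x * y) ^ p = x ^ p * y ^ p := by
  obtain ⟨k, hk⟩ := hp.out.dvd_choose_self (k := 2) (by omega)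
    (lt_of_le_of_ne hp.out.two_le (Ne.symm hp2))
  rw [Local.FS.mul_pow_central hc, hk, pow_mul, commutator_pow_eq_one_of_commute hc hy, one_pow,
    mul_one]

/-- The elements of order dividing `p` of a subgroup of class two. -/
def torsionSub (hp2 : p ≠ 2) (B : Subgroup G) (hB : ⁅⁅B, B⁆, B⁆ = ⊥) : Subgroup G where
  carrier := {x | x ∈ B ∧ x ^ p = 1}
  one_mem' := ⟨one_mem _, one_pow _⟩
  mul_mem' := fun {a b} ha hb => by
    refine ⟨mul_mem ha.1 hb.1, ?_⟩
    have hc : ∀ g : B, ⁅(⟨b, hb.1⟩ : B), (⟨a, ha.1⟩ : B)⁆ * g = g * ⁅(⟨b, hb.1⟩ : B), (⟨a, ha.1⟩ : B)⁆ :=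
      fun g => Subtype.ext (commutatorElement_eq_one_iff_mul_comm.1 (Subgroup.mem_bot.1 (hB ▸
        Subgroup.commutator_mem_commutator (Subgroup.commutator_mem_commutator hb.1 ha.1) g.2)))
    have h := congrArg Subtype.val (pow_prime_mul_of_class_two hp2 (x := (⟨a, ha.1⟩ : B)) hc
      (Subtype.ext (show b ^ p * a = a * b ^ p by rw [hb.2, one_mul, mul_one])))
    simp only [Subgroup.coe_mul, SubmonoidClass.coe_pow] at h
    rw [h, ha.2, hb.2, one_mul]
  inv_mem' := fun {a} ha => ⟨inv_mem ha.1, by rw [inv_pow, ha.2, inv_one]⟩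

theorem mem_torsionSub {hp2 : p ≠ 2} {B : Subgroup G} {hB : ⁅⁅B, B⁆, B⁆ = ⊥} {x : G} :
    x ∈ torsionSub hp2 B hB ↔ x ∈ B ∧ x ^ p = 1 := Iff.rfl

theorem normal_torsionSub {hp2 : p ≠ 2} {B : Subgroup G} [B.Normal] {hB : ⁅⁅B, B⁆, B⁆ = ⊥} :
    (torsionSub hp2 B hB).Normal :=
  ⟨fun x hx g => ⟨(inferInstance : B.Normal).conj_mem x hx.1 g,
    by rw [conj_pow, hx.2, mul_one, mul_inv_cancel]⟩⟩

/-- An element of order prime to `p` centralizing the elements of order `p` of a normal `p`-subgroup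
of class two centralizes it. -/
theorem mem_centralizer_of_torsion (hp2 : p ≠ 2) {B : Subgroup G} [B.Normal] (hBp : IsPGroup p B)
    (hB : ⁅⁅B, B⁆, B⁆ = ⊥) {t : G} (ht : (orderOf t).Coprime p)
    (hfix : t ∈ Subgroup.centralizer (torsionSub hp2 B hB : Set G)) :
    t ∈ Subgroup.centralizer (B : Set G) := by
  rw [mem_centralizer_set]
  suffices H : ∀ (k : ℕ) (x : G), x ∈ B → x ^ p ^ k = 1 → t * x * t⁻¹ = x by
    intro x hx
    obtain ⟨k, hk⟩ := hBp ⟨x, hx⟩
    exact H k x hx (congrArg Subtype.val hk)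
  intro k
  induction k with
  | zero =>
    intro x _ hx
    rw [pow_zero, pow_one] at hx
    rw [hx, mul_one, mul_inv_cancel]
  | succ k ih =>
    intro x hxB hx
    have hxp : t * x ^ p * t⁻¹ = x ^ p :=
      ih _ (pow_mem hxB p) (by rw [← pow_mul, ← pow_succ', hx])
    set y := t * x * t⁻¹ with hy
    have hyB : y ∈ B := (inferInstance : B.Normal).conj_mem x hxB t
    have hyp : y ^ p = x ^ p := by rw [hy, conj_pow, hxp]
    set q := x⁻¹ * y with hq
    have hqB : q ∈ B := mul_mem (inv_mem hxB) hyB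
    have hc : ∀ g : B, ⁅(⟨y, hyB⟩ : B), (⟨x⁻¹, inv_mem hxB⟩ : B)⁆ * g =
        g * ⁅(⟨y, hyB⟩ : B), (⟨x⁻¹, inv_mem hxB⟩ : B)⁆ :=
      fun g => Subtype.ext (commutatorElement_eq_one_iff_mul_comm.1 (Subgroup.mem_bot.1 (hB ▸
        Subgroup.commutator_mem_commutator
          (Subgroup.commutator_mem_commutator hyB (inv_mem hxB)) g.2)))
    have hqp : q ^ p = 1 := by
      have h := congrArg Subtype.val (pow_prime_mul_of_class_two hp2 hc
        (Subtype.ext (show y ^ p * x⁻¹ = x⁻¹ * y ^ p by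
          rw [hyp]; exact ((Commute.refl x).pow_left p).inv_right.eq)))
      simp only [Subgroup.coe_mul, SubmonoidClass.coe_pow] at h
      rw [h, hyp, inv_pow, inv_mul_cancel]
    have htq : t * q * t⁻¹ = q := mem_centralizer_set.1 hfix q ⟨hqB, hqp⟩
    have hpow : ∀ j : ℕ, t ^ j * x * (t ^ j)⁻¹ = x * q ^ j := by
      intro j
      induction j with
      | zero => simp
      | succ j ih2 =>
        calc t ^ (j + 1) * x * (t ^ (j + 1))⁻¹ = t * (t ^ j * x * (t ^ j)⁻¹) * t⁻¹ := by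
              rw [pow_succ']; group
          _ = (t * x * t⁻¹) * (t * q * t⁻¹) ^ j := by rw [ih2, conj_pow]; group
          _ = x * q * q ^ j := by rw [htq, show x * q = t * x * t⁻¹ from mul_inv_cancel_left x _]
          _ = x * (q * q ^ j) := mul_assoc _ _ _
          _ = x * q ^ (j + 1) := by rw [pow_succ']
    have h5 := hpow (orderOf t)
    rw [pow_orderOf_eq_one, inv_one, mul_one, one_mul] at h5
    have h6 : q ^ orderOf t = 1 := mul_left_cancel (h5.symm.trans (mul_one x).symm)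
    have h7 := pow_gcd_eq_one.2 ⟨h6, hqp⟩
    rw [ht, pow_one] at h7
    rw [hq, inv_mul_eq_one] at h7
    exact h7.symm

end Cfsg.Agent.Fusion
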