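import Cfsg.Agent.Lib.Fusion.ZJ
import Cfsg.Agent.Lib.Fusion.OmegaClassTwo

/-!
# The centre of the Thompson subgroup generated by elementary abelian subgroups
-/

set_option autoImplicit false

open scoped commutatorElement

namespace Cfsg.Agent.Fusion

variable {G : Type*} [Group G] {p : ℕ}

/-- The join of the elementary abelian subgroups of largest order. -/
def jElem (p : ℕ) (H : Subgroup G) : Subgroup G :=
  sSup (maxIn (fun A : Subgroup G => IsElementaryAbelian p A) H)

/-- Its centre. -/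
def zElem (p : ℕ) (H : Subgroup G) : Subgroup G :=
  jElem p H ⊓ Subgroup.centralizer (jElem p H : Set G)

theorem jElem_eq (H : Subgroup G) : jElem p H = thompsonSubgroupOf p H := by
  rw [jElem, thompsonSubgroupOf, thompsonSubgroup, map_sSup_subtype, image_maxElementary]

theorem zElem_eq (H : Subgroup G) : zElem p H = centerThompsonOf p H := by
  rw [zElem, jElem_eq]; rfl

theorem jElem_le (H : Subgroup G) : jElem p H ≤ H := sSup_le fun _ h => h.1

theorem zElem_le (H : Subgroup G) : zElem p H ≤ H := inf_le_left.trans (jElem_le H)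

theorem map_jElem_le (H : Subgroup G) (e : G ≃* G) :
    (jElem p H).map e.toMonoidHom ≤ jElem p (H.map e.toMonoidHom) := by
  rw [jElem, sSup_eq_iSup, Subgroup.map_iSup]
  refine iSup_le fun A => ?_
  rw [Subgroup.map_iSup]
  exact iSup_le fun hA => le_sSup ((replFamily_elementary p).map_mem_maxIn hA e)

theorem normalizer_le_jElem [Finite G] (H : Subgroup G) :
    Subgroup.normalizer (H : Set G) ≤ Subgroup.normalizer (jElem p H : Set G) := by
  intro g hg
  refine mem_normalizer_of_cj_le ?_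
  have := map_jElem_le (p := p) H (MulAut.conj g)
  rwa [show H.map (MulAut.conj g).toMonoidHom = H from cj_eq_self hg] at this

theorem normalizer_jElem_le [Finite G] (H : Subgroup G) :
    Subgroup.normalizer (jElem p H : Set G) ≤ Subgroup.normalizer (zElem p H : Set G) := by
  intro g hg
  rw [mem_normalizer_iff_cj, zElem, cj_inf, cj_centralizer, cj_eq_self hg]

theorem normalizer_le_zElem [Finite G] (H : Subgroup G) :
    Subgroup.normalizer (H : Set G) ≤ Subgroup.normalizer (zElem p H : Set G) :=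
  (normalizer_le_jElem H).trans (normalizer_jElem_le H)

variable [Finite G] [hp : Fact p.Prime]

/-- The key step for the elementary Thompson subgroup. -/
theorem inf_zElem_normal (hp2 : p ≠ 2)
    (hst : ∀ (P : Subgroup G) [P.Normal], IsPGroup p P → IsPStableOn p P) (S : Sylow p G)
    (B : Subgroup G) [B.Normal] (hB : IsPGroup p B) :
    (B ⊓ zElem p (S : Subgroup G)).Normal := by
  suffices key : ∀ n, ∀ B : Subgroup G, B.Normal → IsPGroup p B → Nat.card B = n →
      (B ⊓ zElem p (S : Subgroup G)).Normal from key _ B inferInstance hB rfl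
  intro n
  induction n using Nat.strong_induction_on with
  | _ n ih =>
  intro B hBnormal hB hn
  haveI := hBnormal
  subst hn
  set ok := fun A : Subgroup G => IsElementaryAbelian p A
  have hok : ReplFamily ok := replFamily_elementary p
  set Z := zElem p (S : Subgroup G) with hZ
  set Y := B ⊓ Z with hY
  by_contra hYn
  have hsmall : ∀ B₀ : Subgroup G, B₀.Normal → B₀ < B → (B₀ ⊓ Z).Normal := fun B₀ h1 h2 =>
    ih _ (replacement_property.card_lt_card_of_lt h2) B₀ h1 (hB.to_le h2.le) rfl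
  have hBS : B ≤ S := hB.le_sylow_of_normal S
  have hSZ : (S : Subgroup G) ≤ Subgroup.normalizer (Z : Set G) :=
    Subgroup.le_normalizer.trans (normalizer_le_zElem (S : Subgroup G))
  have hSY : (S : Subgroup G) ≤ Subgroup.normalizer (Y : Set G) := fun s hs => by
    refine mem_normalizer_iff_cj.2 ?_
    rw [hY, cj_inf, cj_of_normal, cj_eq_self (hSZ hs)]
  have hYB : Y ≤ B := inf_le_left
  have hgen : Subgroup.normalClosure (Y : Set G) = B := by
    refine (Subgroup.normalClosure_le_normal hYB).antisymm ?_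
    by_contra hcon
    set B₁ := Subgroup.normalClosure (Y : Set G)
    have h := hsmall B₁ inferInstance
      (lt_of_le_not_ge (Subgroup.normalClosure_le_normal hYB) hcon)
    have e : B₁ ⊓ Z = Y :=
      le_antisymm (inf_le_inf_right _ (Subgroup.normalClosure_le_normal hYB))
        (le_inf Subgroup.le_normalClosure inf_le_right)
    exact hYn (e ▸ h)
  have hBne : B ≠ ⊥ := by
    rintro rfl
    exact hYn (by rw [hY, bot_inf_eq]; infer_instance)
  haveI : Nontrivial B := B.nontrivial_iff_ne_bot.2 hBne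
  have hder : ⁅B, B⁆ < B := by
    haveI := hB.isNilpotent
    refine lt_of_le_of_ne (Subgroup.commutator_le_left B B) fun h => ?_
    have hlt : commutator ↥B < ⊤ :=
      Group.IsSolvable.commutator_lt_top_of_nontrivial B
    refine hlt.ne (Subgroup.map_injective B.subtype_injective ?_)
    rw [← MonoidHom.range_eq_map, B.range_subtype, commutator_def, Subgroup.map_commutator,
      ← MonoidHom.range_eq_map, B.range_subtype]
    exact h
  set N₀ := ⁅B, B⁆ ⊓ Z with hN₀
  haveI : N₀.Normal := hsmall _ inferInstance hder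
  have hBB : ⁅B, B⁆ ≤ N₀ := by
    set M := (Subgroup.centralizer ((B.map (QuotientGroup.mk' N₀)) : Set (G ⧸ N₀))).comap
      (QuotientGroup.mk' N₀)
    haveI : (B.map (QuotientGroup.mk' N₀)).Normal :=
      Subgroup.Normal.map inferInstance _ (QuotientGroup.mk'_surjective N₀)
    have hmem : ∀ x, x ∈ M ↔ ∀ y ∈ B, ⁅x, y⁆ ∈ N₀ := fun x => by
      simp only [M, Subgroup.mem_comap, Subgroup.mem_centralizer_iff, SetLike.mem_coe,
        Subgroup.mem_map, forall_exists_index, and_imp, forall_apply_eq_imp_iff₂]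
      refine forall₂_congr fun y _ => ?_
      rw [← (QuotientGroup.eq_one_iff (N := N₀) ⁅x, y⁆), ← QuotientGroup.mk'_apply,
        map_commutatorElement, commutatorElement_eq_one_iff_mul_comm, eq_comm]
    have hYM : Y ≤ M := fun y hy => (hmem y).2 fun x hx => by
      refine ⟨Subgroup.commutator_mem_commutator hy.1 hx, ?_⟩
      rw [commutatorElement_def, mul_assoc y, mul_assoc y]
      exact mul_mem hy.2 ((Subgroup.mem_normalizer_iff.1 (hSZ (hBS hx)) _).1 (inv_mem hy.2))
    rw [Subgroup.commutator_le]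
    intro x hx y hy
    exact (hmem x).1 (Subgroup.normalClosure_le_normal hYM (hgen.ge hx)) y hy
  have hBBZ : ⁅B, B⁆ ≤ Z := hBB.trans inf_le_right
  have hZc : IsMulCommutative Z :=
    ⟨⟨fun x y => Subtype.ext (Subgroup.mem_centralizer_iff.1 y.2.2 x x.2.1)⟩⟩
  have hclass : ⁅⁅B, B⁆, B⁆ = ⊥ := by
    rw [Subgroup.commutator_eq_bot_iff_le_centralizer, Subgroup.le_centralizer_iff]
    refine hgen.ge.trans (Subgroup.normalClosure_le_normal ?_)
    intro y hy
    refine Subgroup.mem_centralizer_iff.2 fun z hz => ?_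
    exact congrArg Subtype.val (hZc.1.1 ⟨z, hBBZ hz⟩ ⟨y, hy.2⟩)
  -- the elements of order `p`
  set B₀ := torsionSub hp2 B hclass with hB₀
  haveI : B₀.Normal := normal_torsionSub
  have hB₀B : B₀ ≤ B := fun x hx => hx.1
  have hB₀p : IsPGroup p B₀ := hB.to_le hB₀B
  have hB₀S : B₀ ≤ (S : Subgroup G) := hB₀B.trans hBS
  have htorA : ∀ A ∈ maxIn ok (S : Subgroup G), ∀ x ∈ Z, x ^ p = 1 → x ∈ A := fun A hA x hx hxp =>
    mem_of_maxIn hA (zElem_le (S : Subgroup G) hx) (isElementaryAbelian_closure_insert hA.2.1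
      (fun a ha => (Subgroup.mem_centralizer_iff.1 hx.2 a (le_sSup hA ha)).symm) hxp)
  have hB₀A : ∀ A ∈ maxIn ok (S : Subgroup G), ⁅B₀, B₀⁆ ≤ A := fun A hA x hx =>
    htorA A hA x (hBBZ (Subgroup.commutator_mono hB₀B hB₀B hx))
      ((Subgroup.commutator_le_left B₀ B₀ hx : x ∈ B₀)).2
  -- the stabilised subgroup
  set C₀ := Subgroup.centralizer (B₀ : Set G)
  have hC₀ : C₀ ≤ Subgroup.normalizer (Y : Set G) := by
    set P := (S : Subgroup G) ⊓ C₀
    have hP : SylIn p P C₀ := (sylIn_top S).inf_normal le_top (by rw [Subgroup.normalizer_eq_top])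
    obtain ⟨P', hP'⟩ := hP.exists_sylow_subgroupOf
    have h := pResidual_sup_sylow (p := p) P'
    intro x hx
    have hx' : (⟨x, hx⟩ : C₀) ∈ pResidual p C₀ ⊔ (P' : Subgroup C₀) := h ▸ Subgroup.mem_top _
    refine (sup_le ?_ ?_ : pResidual p C₀ ⊔ (P' : Subgroup C₀) ≤
      (Subgroup.normalizer (Y : Set G)).comap C₀.subtype) hx'
    · refine (Subgroup.closure_le _).2 fun t ht => ?_
      have htc := mem_centralizer_of_torsion hp2 hB hclass (t := (t : G))
        (by rw [Subgroup.orderOf_coe]; exact ht) t.2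
      refine mem_normalizer_of_cj_le ?_
      rintro _ ⟨y, hy, rfl⟩
      show (t : G) * y * (t : G)⁻¹ ∈ Y
      rwa [mem_centralizer_set.1 htc y (hYB hy)]
    · intro t ht
      rw [hP'] at ht
      exact hSY ht.1
  set D₀ := (pCore p (G ⧸ C₀)).comap (QuotientGroup.mk' C₀)
  have hD₀ : D₀ ≤ Subgroup.normalizer (Y : Set G) := by
    intro x hx
    set Sb := S.mapSurjective (QuotientGroup.mk'_surjective C₀)
    have hx' : QuotientGroup.mk' C₀ x ∈ (Sb : Subgroup (G ⧸ C₀)) := pCore_le_sylow Sb hx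
    rw [Sylow.coe_mapSurjective] at hx'
    obtain ⟨s, hs, he⟩ := hx'
    rw [show x = s * (s⁻¹ * x) by group]
    exact mul_mem (hSY hs) (hC₀ (QuotientGroup.eq.1 he))
  set L := (Subgroup.normalizer (Y : Set G)).normalCore
  have hD₀L : D₀ ≤ L := Subgroup.normal_le_normalCore.2 hD₀
  have hBL : B ≤ L := Subgroup.normal_le_normalCore.2 (hBS.trans hSY)
  set T := (S : Subgroup G) ⊓ L
  have hT : SylIn p T L := (sylIn_top S).inf_normal le_top (by rw [Subgroup.normalizer_eq_top])
  have hkey : maxIn ok T = maxIn ok (S : Subgroup G) ∨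
      ∃ R ∈ maxIn ok (S : Subgroup G), R ≤ L ∧ ¬ B₀ ≤ R := by
    by_cases hall : ∀ A ∈ maxIn ok (S : Subgroup G), A ≤ L
    · left
      obtain ⟨A₀, hA₀⟩ := hok.maxIn_nonempty (S : Subgroup G)
      ext A
      constructor
      · rintro ⟨hAT, hA, hmax⟩
        refine ⟨hAT.trans inf_le_left, hA, fun C hC hC' => ?_⟩
        exact (hA₀.2.2 C hC hC').trans (hmax A₀ (le_inf hA₀.1 (hall A₀ hA₀)) hA₀.2.1)
      · intro hA
        exact ⟨le_inf hA.1 (hall A hA), hA.2.1, fun C hC hC' => hA.2.2 C (hC.trans inf_le_left) hC'⟩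
    · right
      simp only [not_forall] at hall
      obtain ⟨A₀, hA₀, hA₀L⟩ := hall
      obtain ⟨A, ⟨hA, hAL⟩, hmax⟩ := Set.exists_max_image
        {A : Subgroup G | A ∈ maxIn ok (S : Subgroup G) ∧ ¬ A ≤ L}
        (fun A => Nat.card (A ⊓ B₀ : Subgroup G)) (Set.toFinite _) ⟨A₀, hA₀, hA₀L⟩
      have hcomm := hok.comm A hA.2.1
      have hnot : ¬ B₀ ≤ Subgroup.normalizer (A : Set G) := fun h =>
        hAL fun a ha => hD₀L (mem_of_quadratic_stable (hst B₀ hB₀p) hcomm h ha)
      obtain ⟨R, hRS, -, hcard, hR, -, hlt, hltB, hexp⟩ := exists_replacement_in hp2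
        S.isPGroup' hB₀S (by rw [Subgroup.normalizer_eq_top]; exact le_top) hA.1 hcomm
        (hB₀A A hA) hnot
      have hRmem : R ∈ maxIn ok (S : Subgroup G) :=
        ⟨hRS, hok.of_exponent A R hA.2.1 hR hexp, fun C hC hC' => hcard ▸ hA.2.2 C hC hC'⟩
      refine ⟨R, hRmem, ?_, fun h => hltB.ne (inf_eq_right.2 h)⟩
      by_contra hRL
      exact absurd (hmax R ⟨hRmem, hRL⟩)
        (not_le.2 (replacement_property.card_lt_card_of_lt hlt))
  have hTmem : ∀ A ∈ maxIn ok T, A ∈ maxIn ok (S : Subgroup G) := by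
    intro A hA
    rcases hkey with h | ⟨R, hR, hRL, -⟩
    · exact h ▸ hA
    · exact ⟨hA.1.trans inf_le_left, hA.2.1, fun C hC hC' =>
        (hR.2.2 C hC hC').trans (hA.2.2 R (le_inf hR.1 hRL) hR.2.1)⟩
  set W := B ⊓ Subgroup.centralizer (jElem p T : Set G) with hW
  have hYW : Y ≤ W := le_inf hYB (inf_le_right.trans (inf_le_right.trans
    (Subgroup.centralizer_le (sSup_le fun A hA => le_sSup (hTmem A hA) :
      jElem p T ≤ jElem p (S : Subgroup G)))))
  have hNW : Subgroup.normalizer (T : Set G) ≤ Subgroup.normalizer (W : Set G) := fun g hg => by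
    refine mem_normalizer_iff_cj.2 ?_
    rw [hW, cj_inf, cj_of_normal, cj_centralizer, cj_eq_self (normalizer_le_jElem T hg)]
  have hdec : ∀ g : G, ∃ n ∈ Subgroup.normalizer (T : Set G), ∃ l ∈ L, g = n * l := by
    intro g
    obtain ⟨l, hl, he⟩ := (hT.cj' (g := g⁻¹)
      (by rw [Subgroup.normalizer_eq_top]; exact Subgroup.mem_top _)).conj_eq hT
    refine ⟨(l * g⁻¹)⁻¹, inv_mem (mem_normalizer_iff_cj.2 ?_), l, hl, by group⟩
    rw [← cj_cj]; exact he
  have hBW : B ≤ W := by
    rw [← hgen, Subgroup.normalClosure, Subgroup.closure_le]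
    intro x hx
    rw [Group.mem_conjugatesOfSet_iff] at hx
    obtain ⟨y, hy, hxy⟩ := hx
    obtain ⟨g, rfl⟩ := isConj_iff.1 hxy
    obtain ⟨m, hm, l, hl, rfl⟩ := hdec g
    have hly : l * y * l⁻¹ ∈ Y :=
      (Subgroup.mem_normalizer_iff.1 (Subgroup.normalCore_le _ hl) y).1 hy
    have := (Subgroup.mem_normalizer_iff.1 (hNW hm) _).1 (hYW hly)
    rw [show m * l * y * (m * l)⁻¹ = m * (l * y * l⁻¹) * m⁻¹ by group]
    exact this
  rcases hkey with h | ⟨R, hR, hRL, hBR⟩
  · refine hYn ?_
    have hJ : jElem p T = jElem p (S : Subgroup G) := congrArg sSup h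
    have hBZ : B ≤ Z := fun x hx => by
      have hxc : x ∈ Subgroup.centralizer (jElem p T : Set G) := (hBW hx).2
      refine ⟨?_, hJ ▸ hxc⟩
      refine (?_ : B ≤ jElem p (S : Subgroup G)) hx
      refine hgen.ge.trans ?_
      rw [Subgroup.normalClosure, Subgroup.closure_le]
      intro z hz
      rw [Group.mem_conjugatesOfSet_iff] at hz
      obtain ⟨y, hy, hzy⟩ := hz
      obtain ⟨g, rfl⟩ := isConj_iff.1 hzy
      obtain ⟨m, hm, l, hl, rfl⟩ := hdec g
      have hly : l * y * l⁻¹ ∈ Y :=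
        (Subgroup.mem_normalizer_iff.1 (Subgroup.normalCore_le _ hl) y).1 hy
      have := (Subgroup.mem_normalizer_iff.1 (normalizer_le_jElem T hm) _).1
        (hJ.symm ▸ (hly.2.1 : l * y * l⁻¹ ∈ jElem p (S : Subgroup G)))
      rw [show m * l * y * (m * l)⁻¹ = m * (l * y * l⁻¹) * m⁻¹ by group]
      exact hJ ▸ this
    rw [show Y = B from inf_eq_left.2 hBZ]
    infer_instance
  · refine hBR fun x hx => ?_
    have hRT : R ∈ maxIn ok T :=
      ⟨le_inf hR.1 hRL, hR.2.1, fun C hC hC' => hR.2.2 C (hC.trans inf_le_left) hC'⟩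
    refine mem_of_maxIn hR (hB₀S hx) (isElementaryAbelian_closure_insert hR.2.1 (fun a ha => ?_) hx.2)
    exact (Subgroup.mem_centralizer_iff.1 (hBW hx.1).2 a (le_sSup hRT ha)).symm

/-- The centre of the elementary Thompson subgroup is normal in a constrained stable group. -/
theorem zElem_normal (hp2 : p ≠ 2)
    (hc : Subgroup.centralizer (pCore p G : Set G) ≤ pCore p G)
    (hst : ∀ (P : Subgroup G) [P.Normal], IsPGroup p P → IsPStableOn p P) (S : Sylow p G) :
    (zElem p (S : Subgroup G)).Normal := by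
  have hle : zElem p (S : Subgroup G) ≤ pCore p G := by
    intro z hz
    set Q := pCore p G
    set C := Subgroup.centralizer (Q : Set G)
    have hZc : IsMulCommutative (zElem p (S : Subgroup G)) :=
      ⟨⟨fun x y => Subtype.ext (Subgroup.mem_centralizer_iff.1 y.2.2 x x.2.1)⟩⟩
    have hQn : Q ≤ Subgroup.normalizer (zElem p (S : Subgroup G) : Set G) :=
      (pCore_le_sylow S).trans (Subgroup.le_normalizer.trans (normalizer_le_zElem _))
    have hzD := mem_of_quadratic_stable (hst Q (isPGroup_pCore p G)) hZc hQn hz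
    refine le_pCore (N := (pCore p (G ⧸ C)).comap (QuotientGroup.mk' C)) ?_ hzD
    exact (isPGroup_pCore p _).comap_of_ker_isPGroup (QuotientGroup.mk' C)
      (by rw [QuotientGroup.ker_mk']; exact (isPGroup_pCore p G).to_le hc)
  have h := inf_zElem_normal hp2 hst S (pCore p G) (isPGroup_pCore p G)
  rwa [inf_eq_right.2 hle] at h

end Cfsg.Agent.Fusion
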