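import Cfsg.Prelude.Def_ConjugacyFunctors
import Cfsg.Prelude.Def_LocalEven
import Cfsg.Agent.Lib.Fusion.ZJElementary
import Cfsg.Agent.Lib.Fusion.StableSections
import Cfsg.Agent.Lib.Fusion.KInfMap
import Cfsg.Agent.Lib.Fusion.QdFree

/-!
# `ZJ` as a functor and stability of the action on normal `p`-subgroups
-/

set_option autoImplicit false

open scoped commutatorElement

universe u

namespace Cfsg.Agent.Fusion

/-- The centre of the abelian Thompson subgroup as a functor. -/
def wZA (Q : Type u) [Group Q] : Subgroup Q :=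
  thompsonSubgroupA Q ⊓ Subgroup.centralizer (thompsonSubgroupA Q : Set Q)

/-- The centre of the elementary Thompson subgroup as a functor. -/
def wZE (p : ℕ) (Q : Type u) [Group Q] : Subgroup Q :=
  thompsonSubgroup p Q ⊓ Subgroup.centralizer (thompsonSubgroup p Q : Set Q)

variable {G : Type u} [Group G] {p : ℕ}

theorem inducedFunctor_wZA (P : Subgroup G) : inducedFunctor wZA P = centerThompsonAOf P := by
  show (_ ⊓ _ : Subgroup P).map P.subtype = _
  rw [map_centralizer_inf P.subtype P.subtype_injective]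
  rfl

theorem inducedFunctor_wZE (P : Subgroup G) :
    inducedFunctor (wZE p) P = centerThompsonOf p P := by
  show (_ ⊓ _ : Subgroup P).map P.subtype = _
  rw [map_centralizer_inf P.subtype P.subtype_injective]
  rfl

theorem map_thompsonSubgroupA {Q R : Type u} [Group Q] [Group R] (φ : Q ≃* R) :
    (thompsonSubgroupA Q).map φ.toMonoidHom = thompsonSubgroupA R := by
  have key : ∀ {Q R : Type u} [Group Q] [Group R] (φ : Q ≃* R),
      (thompsonSubgroupA Q).map φ.toMonoidHom ≤ thompsonSubgroupA R := by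
    intro Q R _ _ φ
    rw [thompsonSubgroupA, sSup_eq_iSup, Subgroup.map_iSup]
    refine iSup_le fun A => ?_
    rw [Subgroup.map_iSup]
    refine iSup_le fun hA => le_sSup ⟨isMulCommutative_map _ hA.1, fun B hB => ?_⟩
    rw [Subgroup.card_map_of_injective (f := φ.toMonoidHom) φ.injective]
    have := hA.2 (B.map φ.symm.toMonoidHom) (isMulCommutative_map _ hB)
    rwa [Subgroup.card_map_of_injective (f := φ.symm.toMonoidHom) φ.symm.injective] at this
  refine le_antisymm (key φ) fun x hx => ⟨φ.symm x, key φ.symm ⟨x, hx, rfl⟩, φ.apply_symm_apply x⟩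

theorem map_thompsonSubgroup {Q R : Type u} [Group Q] [Group R] (φ : Q ≃* R) :
    (thompsonSubgroup p Q).map φ.toMonoidHom = thompsonSubgroup p R := by
  have key : ∀ {Q R : Type u} [Group Q] [Group R] (φ : Q ≃* R),
      (thompsonSubgroup p Q).map φ.toMonoidHom ≤ thompsonSubgroup p R := by
    intro Q R _ _ φ
    rw [thompsonSubgroup, sSup_eq_iSup, Subgroup.map_iSup]
    refine iSup_le fun A => ?_
    rw [Subgroup.map_iSup]
    refine iSup_le fun hA => le_sSup ⟨?_, fun B hB => ?_⟩
    · rw [isElementaryAbelian_iff_exponent, exponent_map (f := φ.toMonoidHom) φ.injective]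
      exact ⟨isMulCommutative_map _ hA.1.1, (isElementaryAbelian_iff_exponent.1 hA.1).2⟩
    rw [Subgroup.card_map_of_injective (f := φ.toMonoidHom) φ.injective]
    have hB' : IsElementaryAbelian p (B.map φ.symm.toMonoidHom) := by
      rw [isElementaryAbelian_iff_exponent, exponent_map (f := φ.symm.toMonoidHom) φ.symm.injective]
      exact ⟨isMulCommutative_map _ hB.1, (isElementaryAbelian_iff_exponent.1 hB).2⟩
    have := hA.2 _ hB'
    rwa [Subgroup.card_map_of_injective (f := φ.symm.toMonoidHom) φ.symm.injective] at this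
  refine le_antisymm (key φ) fun x hx => ⟨φ.symm x, key φ.symm ⟨x, hx, rfl⟩, φ.apply_symm_apply x⟩

variable [hp : Fact p.Prime]

theorem exists_central_order_p {Q : Type u} [Group Q] [Finite Q] (hQ : IsPGroup p Q)
    (hn : Nontrivial Q) : ∃ x ∈ Subgroup.center Q, x ≠ 1 ∧ x ^ p = 1 := by
  haveI := hn
  haveI := hQ.center_nontrivial
  obtain ⟨k, hk⟩ := IsPGroup.iff_card.1 (hQ.to_subgroup (Subgroup.center Q))
  have hdvd : p ∣ Nat.card (Subgroup.center Q) := by
    rw [hk]
    refine dvd_pow_self p fun h0 => ?_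
    rw [h0, pow_zero] at hk
    exact (Finite.one_lt_card (α := Subgroup.center Q)).ne' hk
  obtain ⟨x, hx⟩ := exists_prime_orderOf_dvd_card' (G := Subgroup.center Q) p hdvd
  refine ⟨x, x.2, fun h => hp.out.ne_one (hx.symm.trans (by
    rw [← Subgroup.orderOf_coe, h, orderOf_one])), ?_⟩
  rw [← hx, ← SubmonoidClass.coe_pow, pow_orderOf_eq_one]; rfl

theorem isCharPFunctor_wZA : IsCharPFunctor.{u} p wZA := by
  refine ⟨fun Q _ _ hQ hn h => ?_, fun Q R _ _ _ _ φ => ?_⟩
  · obtain ⟨x, hx, hne, -⟩ := exists_central_order_p hQ hn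
    refine hne (Subgroup.mem_bot.1 (h ▸ ⟨?_, Subgroup.mem_centralizer_iff.2 fun y _ =>
      (Subgroup.mem_center_iff.1 hx y)⟩))
    have hok := replFamily_comm (G := Q)
    obtain ⟨A, hA⟩ := hok.maxIn_nonempty (⊤ : Subgroup Q)
    refine le_sSup (show A ∈ maxAbelianSubgroups Q from
      ⟨hA.2.1, fun B hB => hA.2.2 B le_top hB⟩) ?_
    exact mem_of_maxIn hA (Subgroup.mem_top x) (isMulCommutative_closure_insert hA.2.1
      fun a _ => (Subgroup.mem_center_iff.1 hx a).symm)
  · rw [wZA, map_centralizer_inf _ φ.injective, map_thompsonSubgroupA]; rfl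

theorem isCharPFunctor_wZE : IsCharPFunctor.{u} p (wZE p) := by
  refine ⟨fun Q _ _ hQ hn h => ?_, fun Q R _ _ _ _ φ => ?_⟩
  · obtain ⟨x, hx, hne, hxp⟩ := exists_central_order_p hQ hn
    refine hne (Subgroup.mem_bot.1 (h ▸ ⟨?_, Subgroup.mem_centralizer_iff.2 fun y _ =>
      (Subgroup.mem_center_iff.1 hx y)⟩))
    have hok := replFamily_elementary (G := Q) p
    obtain ⟨A, hA⟩ := hok.maxIn_nonempty (⊤ : Subgroup Q)
    refine le_sSup (show A ∈ maxElementaryAbelianSubgroups p Q from
      ⟨hA.2.1, fun B hB => hA.2.2 B le_top hB⟩) ?_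
    exact mem_of_maxIn hA (Subgroup.mem_top x) (isElementaryAbelian_closure_insert hA.2.1
      (fun a _ => (Subgroup.mem_center_iff.1 hx a).symm) hxp)
  · rw [wZE, map_centralizer_inf _ φ.injective, map_thompsonSubgroup]; rfl

variable [Finite G]

theorem isPStableOn_of_normalizerPStable (h : IsNormalizerPStable p G) (P : Subgroup G) [P.Normal]
    (hP : IsPGroup p P) : IsPStableOn p P := by
  intro a ha
  have haN : a ∈ Subgroup.normalizer (P : Set G) := by
    rw [Subgroup.normalizer_eq_top]; exact Subgroup.mem_top a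
  obtain ⟨D, -, hND, hDp, haD⟩ := (mem_pCore_automizer_iff P a haN).1 (h P hP a haN ha)
  set C := Subgroup.centralizer (P : Set G)
  haveI : D.Normal := Subgroup.normalizer_eq_top_iff.1
    (top_le_iff.1 (by rw [Subgroup.normalizer_eq_top] at hND; exact hND))
  haveI : (D.map (QuotientGroup.mk' C)).Normal :=
    Subgroup.Normal.map inferInstance _ (QuotientGroup.mk'_surjective C)
  refine le_pCore (N := D.map (QuotientGroup.mk' C)) ?_ ⟨a, haD, rfl⟩
  rintro ⟨_, d, hd, rfl⟩
  obtain ⟨k, hk⟩ := hDp d hd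
  exact ⟨k, Subtype.ext (show QuotientGroup.mk' C d ^ p ^ k = 1 by
    rw [← map_pow]; exact (QuotientGroup.eq_one_iff _).2 hk)⟩

theorem isPStableOn_of_not_involves_sl2 (hp2 : p ≠ 2)
    (h : ¬ Cfsg.Involves (Matrix.SpecialLinearGroup (Fin 2) (ZMod p)) G) (P : Subgroup G)
    [P.Normal] (hP : IsPGroup p P) : IsPStableOn p P := fun a ha => by
  by_contra hcon
  exact h (involves_sl2_of_quadratic_normal hp2 hP ha hcon)

theorem isPStableOn_of_qd_free (hp2 : p ≠ 2) (h : ¬ Cfsg.Involves ↥(Cfsg.qd p) G)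
    (P : Subgroup G) [P.Normal] (hP : IsPGroup p P) : IsPStableOn p P :=
  isPStableOn_of_normalizerPStable (isNormalizerPStable_of_qd_free hp2 h) P hP

end Cfsg.Agent.Fusion
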