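import Cfsg.Agent.Lib.Fusion.TransferInduction
import Cfsg.Agent.Lib.Fusion.ZJApply
import Cfsg.Agent.Lib.PushUp.Fam.Choose

/-!
# `Ω₁(Z(Q))` and the characteristic subgroups of `C_Q(Z(J(Q)))`
-/

set_option autoImplicit false

universe u

namespace Cfsg.Agent.Fusion

open Cfsg

variable {p : ℕ} [hp : Fact p.Prime]

/-- `C_Q(Z(J(Q)))`. -/
def wJT (Q : Type u) [Group Q] : Subgroup Q := Subgroup.centralizer (wZA Q : Set Q)

/-- `Ω₁(Z(Q))`. -/
def wOZ (p : ℕ) (Q : Type u) [Group Q] : Subgroup Q := omegaOne p (Subgroup.center Q)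

theorem isCharPFunctor_wJT : IsCharPFunctor.{u} p wJT := by
  refine ⟨fun Q _ _ hQ hn h => ?_, fun Q R _ _ _ hQ φ => ?_⟩
  · obtain ⟨x, hx, hne, -⟩ := exists_central_order_p hQ hn
    exact hne (Subgroup.mem_bot.1 (h ▸ Subgroup.center_le_centralizer _ hx))
  · have e : wZA R = (wZA Q).map φ.toMonoidHom := ((isCharPFunctor_wZA (p := p)).2 Q R hQ φ).symm
    rw [wJT, wJT, PushUp.map_centralizer_range φ.toMonoidHom φ.injective, ← e,
      MonoidHom.range_eq_top.2 φ.surjective, top_inf_eq]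

theorem isCharPFunctor_wOZ : IsCharPFunctor.{u} p (wOZ p) := by
  refine ⟨fun Q _ _ hQ hn h => ?_, fun Q R _ _ _ _ φ => ?_⟩
  · obtain ⟨x, hx, hne, hxp⟩ := exists_central_order_p hQ hn
    exact hne (Subgroup.mem_bot.1 (h ▸ Subgroup.subset_closure ⟨hx, hxp⟩))
  · rw [wOZ, wOZ, omegaOne, omegaOne, MonoidHom.map_closure]
    congr 1
    ext y
    constructor
    · rintro ⟨x, ⟨hx, hxp⟩, rfl⟩
      refine ⟨Subgroup.mem_center_iff.2 fun r => ?_, by rw [← map_pow, hxp, map_one]⟩
      obtain ⟨q, rfl⟩ := φ.surjective r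
      exact (map_mul φ q x).symm.trans ((congrArg φ (Subgroup.mem_center_iff.1 hx q)).trans (map_mul φ x q))
    · rintro ⟨hy, hyp⟩
      refine ⟨φ.symm y, ⟨Subgroup.mem_center_iff.2 fun q => φ.injective ?_, φ.injective ?_⟩, φ.apply_symm_apply y⟩
      · rw [map_mul, map_mul, φ.apply_symm_apply]
        exact Subgroup.mem_center_iff.1 hy _
      · rw [map_pow, φ.apply_symm_apply, hyp, map_one]

/-- A functor applied to `C_Q(Z(J(Q)))`. -/
def compJ (V : ∀ (Q : Type u) [Group Q], Subgroup Q) (Q : Type u) [Group Q] : Subgroup Q :=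
  (V ↥(wJT Q)).map (wJT Q).subtype

theorem isCharPFunctor_compJ {V : ∀ (Q : Type u) [Group Q], Subgroup Q} (hV : IsCharPFunctor.{u} p V) :
    IsCharPFunctor.{u} p (compJ V) := by
  refine ⟨fun Q _ _ hQ hn h => ?_, fun Q R _ _ _ hQ φ => ?_⟩
  · haveI : Nontrivial ↥(wJT Q) := (Subgroup.nontrivial_iff_ne_bot _).2 (isCharPFunctor_wJT.1 Q hQ hn)
    exact hV.1 ↥(wJT Q) (hQ.to_subgroup _) inferInstance
      ((Subgroup.map_eq_bot_iff_of_injective _ (wJT Q).subtype_injective).1 h)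
  · haveI : Finite R := Finite.of_equiv Q φ.toEquiv
    have e : (wJT Q).map φ.toMonoidHom = wJT R := (isCharPFunctor_wJT (p := p)).2 Q R hQ φ
    show (inducedFunctor V (wJT Q)).map φ.toMonoidHom = inducedFunctor V (wJT R)
    rw [← inducedFunctor_map_of_injOn hV φ.toMonoidHom φ.injective.injOn (hQ.to_subgroup _), e]

/-- A characteristic subgroup carried to the isomorphic groups. -/
noncomputable def transF (A₀ : Type u) [Group A₀] (K₀ : Subgroup A₀) (Q : Type u) [Group Q] : Subgroup Q :=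
  haveI := _root_.Classical.propDecidable (Nonempty (A₀ ≃* Q))
  if h : Nonempty (A₀ ≃* Q) then K₀.map h.some.toMonoidHom else ⊤

theorem transF_eq {A₀ : Type u} [Group A₀] {K₀ : Subgroup A₀} [K₀.Characteristic] {Q : Type u} [Group Q]
    (e : A₀ ≃* Q) : transF A₀ K₀ Q = K₀.map e.toMonoidHom := by
  rw [transF, dif_pos ⟨e⟩]
  generalize (⟨e⟩ : Nonempty (A₀ ≃* Q)).some = e'
  conv_rhs => rw [← Subgroup.characteristic_iff_map_eq.1 (inferInstance : K₀.Characteristic) (e'.trans e.symm)]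
  rw [Subgroup.map_map]
  congr 1
  ext a
  simp

theorem isCharPFunctor_transF {A₀ : Type u} [Group A₀] {K₀ : Subgroup A₀} [K₀.Characteristic] (hK : K₀ ≠ ⊥) :
    IsCharPFunctor.{u} p (transF A₀ K₀) := by
  refine ⟨fun Q _ _ _ hn h => ?_, fun Q R _ _ _ _ φ => ?_⟩
  · by_cases he : Nonempty (A₀ ≃* Q)
    · rw [transF_eq he.some, Subgroup.map_eq_bot_iff_of_injective _ he.some.injective] at h
      exact hK h
    · rw [transF, dif_neg he] at h
      exact top_ne_bot h
  · by_cases he : Nonempty (A₀ ≃* Q)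
    · rw [transF_eq he.some, transF_eq (he.some.trans φ), Subgroup.map_map]
      rfl
    · have he' : ¬ Nonempty (A₀ ≃* R) := fun ⟨e⟩ => he ⟨e.trans φ.symm⟩
      rw [transF, dif_neg he, transF, dif_neg he', Subgroup.map_top_of_surjective _ φ.surjective]

/-- The family. -/
def jtFam (p : ℕ) : Set (∀ (Q : Type u) [Group Q], Subgroup Q) :=
  insert (wOZ p) {W | ∃ V : ∀ (Q : Type u) [Group Q], Subgroup Q, IsCharPFunctor.{u} p V ∧ W = compJ V}

theorem isCharPFunctor_jtFam : ∀ W ∈ (jtFam p : Set (∀ (Q : Type u) [Group Q], Subgroup Q)),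
    IsCharPFunctor.{u} p W := by
  rintro W (rfl | ⟨V, hV, rfl⟩)
  · exact isCharPFunctor_wOZ
  · exact isCharPFunctor_compJ hV

variable {G : Type u} [Group G] [Finite G]

omit hp in
theorem inducedFunctor_wJT (P : Subgroup G) : inducedFunctor wJT P = PushUp.cZJ P := by
  show (Subgroup.centralizer (wZA ↥P : Set ↥P)).map P.subtype = _
  rw [PushUp.map_centralizer_range P.subtype P.subtype_injective, Subgroup.range_subtype, wZA,
    ← PushUp.centerThompsonAOf_range P.subtype P.subtype_injective, Subgroup.range_subtype]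

theorem inducedFunctor_compJ {V : ∀ (Q : Type u) [Group Q], Subgroup Q} (hV : IsCharPFunctor.{u} p V)
    {P : Subgroup G} (hP : IsPGroup p P) :
    inducedFunctor (compJ V) P = inducedFunctor V (PushUp.cZJ P) := by
  show (inducedFunctor V (wJT ↥P)).map P.subtype = _
  rw [← inducedFunctor_map_of_injOn hV P.subtype P.subtype_injective.injOn (hP.to_subgroup _)]
  exact congrArg _ (inducedFunctor_wJT P)

omit hp in
/-- A subgroup containing the abelian subgroups of largest order has the same `Z(J)`. -/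
theorem centerThompsonAOf_eq {S₁ S : Subgroup G} (h : S₁ ≤ S) (hJ : ∀ A ∈ PushUp.maxAb S, A ≤ S₁) :
    PushUp.maxAb S₁ = PushUp.maxAb S ∧ centerThompsonAOf S₁ = centerThompsonAOf S := by
  obtain ⟨A₀, hA₀⟩ := (replFamily_comm (G := G)).maxIn_nonempty S
  have e : PushUp.maxAb S₁ = PushUp.maxAb S := by
    ext A
    refine ⟨fun hA => ⟨hA.1.trans h, hA.2.1, fun B hB hB' => ?_⟩, fun hA => ⟨hJ A hA, hA.2.1,
      fun B hB hB' => hA.2.2 B (hB.trans h) hB'⟩⟩
    exact (hA₀.2.2 B hB hB').trans (hA.2.2 A₀ (hJ A₀ hA₀) hA₀.2.1)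
  refine ⟨e, ?_⟩
  rw [centerThompsonAOf, centerThompsonAOf, thompsonSubgroupAOf, thompsonSubgroupAOf, thompsonSubgroupA,
    thompsonSubgroupA, map_sSup_subtype, map_sSup_subtype, image_maxAbelian, image_maxAbelian]
  rw [show maxIn (fun A : Subgroup G => IsMulCommutative A) S₁ = _ from e]

end Cfsg.Agent.Fusion
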