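import Cfsg.Agent.Lib.Fusion.JTildeFunctors
import Cfsg.Agent.Lib.PushUp.OffProd.Product
import Cfsg.Agent.Lib.PushUp.RankOneStructure
import Cfsg.Agent.Lib.Fusion.ChiefCommutator

/-!
# For odd `p` transfer is controlled by `Ω₁(Z)` and the characteristic subgroups of `C(Z(J))`
-/

set_option autoImplicit false

open scoped commutatorElement
open Cfsg

universe u

namespace Cfsg.Agent.Fusion

open Cfsg.Agent.PushUp (maxAb cZJ zS)

variable {p : ℕ} [hp : Fact p.Prime]

/-- A unipotent element of `SL₂` acts quadratically. -/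
theorem sq_zero_of_pow_eq_one {F : Type*} [Field F] [CharP F p] (A : Matrix (Fin 2) (Fin 2) F) {k : ℕ}
    (hA : A ^ p ^ k = 1) : (A - 1) * (A - 1) = 0 := by
  have hnil : IsNilpotent (A - 1) := ⟨p ^ k, by
    rw [sub_pow_char_pow_of_commute (p := p) (n := k) (Commute.one_right A), one_pow, hA, sub_self]⟩
  have htr : (A - 1).trace = 0 := (Matrix.isNilpotent_trace_of_isNilpotent hnil).eq_zero
  have hdet : (A - 1).det = 0 := by
    obtain ⟨m, hm⟩ := hnil
    have h1 := congrArg Matrix.det hm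
    rw [Matrix.det_pow, Matrix.det_zero] at h1
    exact eq_zero_of_pow_eq_zero h1
  generalize A - 1 = N at htr hdet
  rw [Matrix.trace_fin_two] at htr
  rw [Matrix.det_fin_two] at hdet
  ext i j
  fin_cases i <;> fin_cases j <;> simp [Matrix.mul_apply, Fin.sum_univ_two]
  · linear_combination N 0 0 * htr - hdet
  · linear_combination N 0 1 * htr
  · linear_combination N 1 0 * htr
  · linear_combination N 1 1 * htr - hdet

variable {G : Type u} [Group G] [Finite G]

/-- An element of a Sylow subgroup is quadratic on a natural chief factor. -/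
theorem iter_two_of_natural {U W : Subgroup G} [hW : W.Normal] {F : Type} [Field F] [CharP F p]
    (hnat : IsNaturalSL2Module F (U.map (QuotientGroup.mk' W)) (⊤ : Subgroup (G ⧸ W))) {g : G}
    (hg : ∃ k : ℕ, g ^ p ^ k = 1) (hUn : U.Normal) :
    iterCommutator U (Subgroup.zpowers g) 2 ≤ W := by
  classical
  set π := QuotientGroup.mk' W
  set Ub := U.map π
  obtain ⟨-, ρ, ψ, -, -, hact⟩ := hnat
  haveI : Ub.Normal := hUn.map π (QuotientGroup.mk'_surjective W)
  have hN : ∀ x ∈ Subgroup.zpowers g, ((ρ ⟨π x, trivial⟩ : Matrix (Fin 2) (Fin 2) F) - 1) *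
      ((ρ ⟨π x, trivial⟩ : Matrix (Fin 2) (Fin 2) F) - 1) = 0 := by
    intro x hx
    obtain ⟨k, hk⟩ := hg
    refine sq_zero_of_pow_eq_one (p := p) (k := k) _ ?_
    have hxk : x ^ p ^ k = 1 := by
      obtain ⟨n, rfl⟩ := hx
      show (g ^ n) ^ p ^ k = 1
      rw [← zpow_natCast, zpow_comm, zpow_natCast, hk, one_zpow]
    rw [← Matrix.SpecialLinearGroup.coe_pow, ← map_pow, show (⟨π x, trivial⟩ : (⊤ : Subgroup (G ⧸ W))) ^ p ^ k = 1
      from Subtype.ext (by rw [SubmonoidClass.coe_pow]; show π x ^ p ^ k = 1; rw [← map_pow, hxk, map_one]),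
      map_one, Matrix.SpecialLinearGroup.coe_one]
  have hg1 : ((ρ ⟨π g, trivial⟩ : Matrix (Fin 2) (Fin 2) F) - 1) *
      ((ρ ⟨π g, trivial⟩ : Matrix (Fin 2) (Fin 2) F) - 1) = 0 := hN g (Subgroup.mem_zpowers g)
  set N := (ρ ⟨π g, trivial⟩ : Matrix (Fin 2) (Fin 2) F) - 1 with hNdef
  -- powers of `g` act as `1 + n N`
  have hpow : ∀ x ∈ Subgroup.zpowers g, ((ρ ⟨π x, trivial⟩ : Matrix (Fin 2) (Fin 2) F) - 1) * N = 0 ∧
      N * ((ρ ⟨π x, trivial⟩ : Matrix (Fin 2) (Fin 2) F) - 1) = 0 := by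
    intro x hx
    obtain ⟨n, rfl⟩ := Submonoid.mem_powers_iff _ _ |>.1 (mem_powers_iff_mem_zpowers.2 hx)
    induction n with
    | zero =>
      have : (⟨π (g ^ 0), trivial⟩ : (⊤ : Subgroup (G ⧸ W))) = 1 := Subtype.ext (by simp)
      rw [this, map_one, Matrix.SpecialLinearGroup.coe_one, sub_self, zero_mul, mul_zero]
      exact ⟨rfl, rfl⟩
    | succ n ih =>
      have e : (⟨π (g ^ (n + 1)), trivial⟩ : (⊤ : Subgroup (G ⧸ W))) = ⟨π (g ^ n), trivial⟩ * ⟨π g, trivial⟩ :=
        Subtype.ext (by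
          show π (g ^ (n + 1)) = π (g ^ n) * π g
          rw [pow_succ, map_mul])
      obtain ⟨i1, i2⟩ := ih (Subgroup.pow_mem _ (Subgroup.mem_zpowers g) n)
      set An := ((ρ ⟨π (g ^ n), trivial⟩ : Matrix.SpecialLinearGroup (Fin 2) F) : Matrix (Fin 2) (Fin 2) F) with hAn
      have e2 : ((ρ ⟨π (g ^ (n + 1)), trivial⟩ : Matrix.SpecialLinearGroup (Fin 2) F) : Matrix (Fin 2) (Fin 2) F) - 1
          = (An - 1) + An * N := by
        rw [e, map_mul, Matrix.SpecialLinearGroup.coe_mul, hNdef]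
        noncomm_ring
      have e3 : An * N = N := by
        rw [← sub_eq_zero, ← i1]; noncomm_ring
      rw [e2, e3]
      exact ⟨by rw [add_mul, i1, hg1, add_zero], by rw [mul_add, i2, hg1, add_zero]⟩
  -- commutators in coordinates
  have hcomm : ∀ v ∈ Ub, ∀ x : G, ∃ w : Ub, (w : G ⧸ W) = ⁅v, π x⁆ ∧ ∀ hv : v ∈ Ub,
      ψ (Additive.ofMul w) = ψ (Additive.ofMul (⟨v, hv⟩ : Ub)) -
        ((ρ ⟨π x, trivial⟩ : Matrix (Fin 2) (Fin 2) F)).mulVec (ψ (Additive.ofMul (⟨v, hv⟩ : Ub))) := by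
    intro v hv x
    obtain ⟨w, hw, hψ⟩ := hact ⟨π x, trivial⟩ ⟨v, hv⟩
    refine ⟨(⟨v, hv⟩ : Ub) * w⁻¹, ?_, fun _ => ?_⟩
    · rw [Subgroup.coe_mul, Subgroup.coe_inv, hw, commutatorElement_def]
      group
    · rw [ofMul_mul, ofMul_inv, map_add, map_neg, hψ, sub_eq_add_neg]
  set P₁ : Subgroup (G ⧸ W) :=
    { carrier := {v | ∃ h : v ∈ Ub, N.mulVec (ψ (Additive.ofMul (⟨v, h⟩ : Ub))) = 0}
      one_mem' := ⟨one_mem _, by
        show N.mulVec (ψ (Additive.ofMul (1 : Ub))) = 0
        rw [ofMul_one, map_zero, Matrix.mulVec_zero]⟩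
      mul_mem' := fun {a b} ⟨ha, ha'⟩ ⟨hb, hb'⟩ => ⟨mul_mem ha hb, by
        show N.mulVec (ψ (Additive.ofMul ((⟨a, ha⟩ : Ub) * ⟨b, hb⟩))) = 0
        rw [ofMul_mul, map_add, Matrix.mulVec_add, ha', hb', add_zero]⟩
      inv_mem' := fun {a} ⟨ha, ha'⟩ => ⟨inv_mem ha, by
        show N.mulVec (ψ (Additive.ofMul ((⟨a, ha⟩ : Ub)⁻¹))) = 0
        rw [ofMul_inv, map_neg, Matrix.mulVec_neg, ha', neg_zero]⟩ }
  have h1 : (iterCommutator U (Subgroup.zpowers g) 1).map π ≤ P₁ := by
    show (⁅U, Subgroup.zpowers g⁆).map π ≤ P₁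
    rw [Subgroup.map_commutator, Subgroup.commutator_le]
    rintro v hv _ ⟨x, hx, rfl⟩
    obtain ⟨w, hw, hψ⟩ := hcomm v hv x
    refine ⟨hw ▸ w.2, ?_⟩
    have : (⟨⁅v, π x⁆, hw ▸ w.2⟩ : Ub) = w := Subtype.ext hw.symm
    rw [this, hψ hv, ← Matrix.one_mulVec (ψ (Additive.ofMul (⟨v, hv⟩ : Ub))), Matrix.mulVec_mulVec,
      ← Matrix.sub_mulVec, Matrix.mulVec_mulVec, mul_one, ← neg_sub, mul_neg, (hpow x hx).2, neg_zero,
      Matrix.zero_mulVec]
  refine fun y hy => (QuotientGroup.eq_one_iff y).1 ?_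
  have h2 : (iterCommutator U (Subgroup.zpowers g) 2).map π ≤ ⊥ := by
    show (⁅iterCommutator U (Subgroup.zpowers g) 1, Subgroup.zpowers g⁆).map π ≤ ⊥
    rw [Subgroup.map_commutator, Subgroup.commutator_le]
    rintro v hv _ ⟨x, hx, rfl⟩
    obtain ⟨hvU, hv0⟩ := h1 hv
    obtain ⟨w, hw, hψ⟩ := hcomm v hvU x
    rw [Subgroup.mem_bot, ← hw]
    suffices w = 1 by rw [this]; rfl
    refine Additive.ofMul.injective (ψ.injective ?_)
    rw [hψ hvU, ofMul_one, map_zero, ← Matrix.one_mulVec (ψ (Additive.ofMul (⟨v, hvU⟩ : Ub))),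
      Matrix.mulVec_mulVec, ← Matrix.sub_mulVec, mul_one, ← neg_sub, Matrix.neg_mulVec, neg_eq_zero]
    -- the fixed line of `g` is fixed by its powers
    obtain ⟨n, rfl⟩ := Submonoid.mem_powers_iff _ _ |>.1 (mem_powers_iff_mem_zpowers.2 hx)
    clear hw hψ hx w
    induction n with
    | zero =>
      rw [show (⟨π (g ^ 0), trivial⟩ : (⊤ : Subgroup (G ⧸ W))) = 1 from Subtype.ext (by simp), map_one,
        Matrix.SpecialLinearGroup.coe_one, sub_self, Matrix.zero_mulVec]
    | succ n ih =>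
      rw [show (⟨π (g ^ (n + 1)), trivial⟩ : (⊤ : Subgroup (G ⧸ W))) = ⟨π (g ^ n), trivial⟩ * ⟨π g, trivial⟩ from
        Subtype.ext (by show π (g ^ (n + 1)) = π (g ^ n) * π g; rw [pow_succ, map_mul]),
        map_mul, Matrix.SpecialLinearGroup.coe_mul]
      have e : ∀ a b : Matrix (Fin 2) (Fin 2) F, a * b - 1 = a * (b - 1) + (a - 1) := fun a b => by noncomm_ring
      rw [e, Matrix.add_mulVec, ← Matrix.mulVec_mulVec, hv0, Matrix.mulVec_zero, ih, add_zero]
  exact Subgroup.mem_bot.1 (h2 ⟨y, hy, rfl⟩)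

/-- Conjugation on a normal abelian subgroup modulo its centralizer. -/
theorem exists_quotient_action {V : Subgroup G} [V.Normal] (hV : IsMulCommutative V)
    (C : Subgroup G) [C.Normal] (hC : C = Subgroup.centralizer (V : Set G)) :
    letI : CommGroup V := { (inferInstance : Group V) with mul_comm := hV.1.1 }
    ∃ φ : (G ⧸ C) →* AddMonoid.End (Additive V),
      (∀ (g : G) (v : V), ((Additive.toMul (φ (g : G ⧸ C) (Additive.ofMul v)) : V) : G) = g * v * g⁻¹) ∧
      ∀ x, (∀ v, φ x v = v) → x = 1 := by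
  letI : CommGroup V := { (inferInstance : Group V) with mul_comm := hV.1.1 }
  let f : G →* AddMonoid.End (Additive V) :=
    { toFun := fun g => MonoidHom.toAdditive ((MulAut.conjNormal g : MulAut V).toMonoidHom)
      map_one' := AddMonoidHom.ext fun v => by
        show Additive.ofMul ((MulAut.conjNormal (1 : G) : MulAut V) (Additive.toMul v)) = v
        rw [map_one]; rfl
      map_mul' := fun g h => AddMonoidHom.ext fun v => by
        show Additive.ofMul ((MulAut.conjNormal (g * h) : MulAut V) (Additive.toMul v)) = _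
        rw [map_mul]; rfl }
  have hf : ∀ (g : G) (v : V), ((Additive.toMul (f g (Additive.ofMul v)) : V) : G) = g * v * g⁻¹ :=
    fun g v => MulAut.conjNormal_apply g v
  have hker : C ≤ f.ker := fun g hg => AddMonoidHom.ext fun v => by
    refine Additive.toMul.injective (Subtype.ext ?_)
    rw [hC, mem_centralizer_set] at hg
    exact (hf g (Additive.toMul v)).trans (hg _ (Additive.toMul v).2)
  refine ⟨QuotientGroup.lift C f hker, hf, fun x hx => ?_⟩
  obtain ⟨g, rfl⟩ := QuotientGroup.mk'_surjective C x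
  refine (QuotientGroup.eq_one_iff g).2 ?_
  rw [hC, mem_centralizer_set]
  intro v hv
  have := hf g ⟨v, hv⟩
  rw [show f g (Additive.ofMul ⟨v, hv⟩) = Additive.ofMul ⟨v, hv⟩ from hx _] at this
  exact this.symm

/-- No group is minimal with respect to failing control of transfer by the family. -/
theorem jtFam_step (hp2 : p ≠ 2) {S : Subgroup G} (hS : SylIn p S ⊤)
    (hsub : ∀ H : Subgroup G, H ≠ ⊤ →
      FamilyControlsTransferIn p ((fun W => inducedFunctor (G := H) W) '' jtFam p) ⊤)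
    (hquot : ∀ (N : Subgroup G) [N.Normal], N ≠ ⊥ →
      FamilyControlsTransferIn p ((fun W => inducedFunctor (G := G ⧸ N) W) '' jtFam p) ⊤) :
    FamilyControlsTransferIn p ((fun W => inducedFunctor (G := G) W) '' jtFam p) ⊤ := by
  classical
  by_contra hG
  set 𝓕 : Set (∀ (Q : Type u) [Group Q], Subgroup Q) := jtFam p
  have h𝓕 : ∀ W ∈ 𝓕, IsCharPFunctor.{u} p W := isCharPFunctor_jtFam
  set Q := pCore p G with hQ
  set Tp := famTransPart ((fun W => inducedFunctor (G := G) W) '' 𝓕) S with hTp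
  set M := Subgroup.normalizer ((Tp ⊓ Q : Subgroup G) : Set G) with hM
  obtain ⟨hC, ⟨hMne, hHM⟩, -, hu⟩ :=
    transfer_minimal h𝓕 ⟨_, Set.mem_insert _ _⟩ hS hsub hquot hG hTp hM
  have hQS : Q ≤ S := pCore_le_sylIn hS
  -- values of the family are not normal
  have hval : ∀ W ∈ 𝓕, ∀ N, inducedFunctor (G := G) W S = N → Subgroup.normalizer (N : Set G) ≠ ⊤ := by
    intro W hW N e htop
    subst e
    refine hG ((familyTransfer_iff _).2 ⟨S, hS, (famTransAt_iff_le _ _).2 ?_⟩)
    have h2 := le_famTransPart (𝓥 := (fun W => inducedFunctor (G := G) W) '' 𝓕) S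
      (W := inducedFunctor (G := G) W) ⟨W, hW, rfl⟩
    rw [htop, top_inf_eq] at h2
    exact h2
  obtain ⟨P, hP⟩ := hS.exists_sylow
  have hZmem' : ∀ {z}, z ∈ centerThompsonAOf S ↔ z ∈ S ∧ ∀ A ∈ maxAb S, z ∈ A := by
    intro z; rw [← hP]; exact Cfsg.Agent.PushUp.Setting.Z_mem_iff
  have hCJ : ∀ A ∈ maxAb S, A ≤ cZJ S := by
    rw [← hP]; exact fun A hA => Cfsg.Agent.PushUp.Setting.maxAb_le_C hA
  set J' := cZJ S with hJ'
  have hJtop : Subgroup.normalizer (J' : Set G) ≠ ⊤ :=
    hval _ (Or.inr ⟨wJT, isCharPFunctor_wJT, rfl⟩ : compJ wJT ∈ 𝓕) _ (by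
      rw [inducedFunctor_compJ isCharPFunctor_wJT hS.isPGroup, inducedFunctor_wJT]
      -- `C(Z(J))` is its own `C(Z(J))`
      obtain ⟨-, e⟩ := centerThompsonAOf_eq (G := G) (inf_le_left : cZJ S ≤ S)
        hCJ
      show cZJ S ⊓ Subgroup.centralizer (centerThompsonAOf (cZJ S) : Set G) = cZJ S
      rw [e]
      exact inf_eq_left.2 inf_le_right)
  have hNS : Subgroup.normalizer (S : Set G) ≤ Subgroup.normalizer (J' : Set G) := by
    rw [hJ', ← inducedFunctor_wJT]
    exact conjFunctor_normalizer_le (isConjugacyFunctor_induced isCharPFunctor_wJT) hS.isPGroup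
  have hSJ : S ≤ Subgroup.normalizer (J' : Set G) := Subgroup.le_normalizer.trans hNS
  have hJM : Subgroup.normalizer (J' : Set G) ≤ M := hHM _ hSJ hJtop
  have hSM : S ≤ M := hSJ.trans hJM
  have hSn : Subgroup.normalizer (S : Set G) ≠ ⊤ := fun h => hJtop (top_le_iff.1 (h ▸ hNS))
  -- `Ω₁(Z(S))` and its normal closure
  set Z := inducedFunctor (G := G) (wOZ p) S with hZ
  have hZtop : Subgroup.normalizer (Z : Set G) ≠ ⊤ := hval _ (Set.mem_insert _ _) _ rfl
  have hZmem : ∀ z ∈ Z, z ∈ zS S ∧ z ^ p = 1 := by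
    rintro _ ⟨z, hz, rfl⟩
    have h1 := Cfsg.Agent.PushUp.omegaOne_pow (Y := Subgroup.center S) inferInstance hz
    refine ⟨⟨z.2, Subgroup.mem_centralizer_iff.2 fun s hs => ?_⟩, congrArg Subtype.val h1.2⟩
    exact congrArg Subtype.val (Subgroup.mem_center_iff.1 h1.1 ⟨s, hs⟩)
  have hZQ : Z ≤ Subgroup.centralizer (Q : Set G) := fun z hz => Subgroup.centralizer_le hQS (hZmem z hz).1.2
  set V := Subgroup.normalClosure (Z : Set G) with hV
  haveI hQn : Q.Normal := inferInstance
  haveI : (Subgroup.centralizer (Q : Set G)).Normal := Subgroup.normal_centralizer (H := Q)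
  have hVcQ : V ≤ Subgroup.centralizer (Q : Set G) := Subgroup.normalClosure_le_normal hZQ
  have hVQ : V ≤ Q := hVcQ.trans hC
  have hVc : IsMulCommutative V := ⟨⟨fun a b => Subtype.ext
    (Subgroup.mem_centralizer_iff.1 (hVcQ b.2) a (hVQ a.2))⟩⟩
  have hVexp : ∀ v : V, v ^ p = 1 := by
    have : V ≤ omegaOne p V := by
      haveI := Cfsg.Agent.PushUp.omegaOne_normal' (p := p) hVc
      exact Subgroup.normalClosure_le_normal fun z hz =>
        Subgroup.subset_closure ⟨Subgroup.subset_normalClosure hz, (hZmem z hz).2⟩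
    exact fun v => Subtype.ext (Cfsg.Agent.PushUp.omegaOne_pow hVc (this v.2)).2
  set C := Subgroup.centralizer (V : Set G) with hCdef
  haveI hCn : C.Normal := Subgroup.normal_centralizer (H := V)
  have hQC : Q ≤ C := Subgroup.le_centralizer_iff.1 hVcQ
  have hCZ : C ≤ Subgroup.centralizer (Z : Set G) := Subgroup.centralizer_le Subgroup.subset_normalClosure
  have hSCZ : S ≤ Subgroup.centralizer (Z : Set G) := Subgroup.le_centralizer_iff.1 fun z hz => (hZmem z hz).1.2
  have hCZM : Subgroup.centralizer (Z : Set G) ≤ M := hHM _ hSCZ fun h =>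
    hZtop (top_le_iff.1 (h ▸ Subgroup.centralizer_le_normalizer _))
  have hCM : C ≤ M := hCZ.trans hCZM
  -- normal subgroups inside `M` meet `S` in `Q`
  have hnorm : ∀ N : Subgroup G, N.Normal → N ≤ M → S ⊓ N ≤ Q := by
    intro N hN hNM
    have hsyl : SylIn p (S ⊓ N) N := hS.inf_normal le_top (Subgroup.normalizer_eq_top (H := N)).ge
    have htop : Subgroup.normalizer ((S ⊓ N : Subgroup G) : Set G) = ⊤ := by
      by_contra hne
      have hle : S ≤ Subgroup.normalizer ((S ⊓ N : Subgroup G) : Set G) := fun s hs =>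
        mem_normalizer_iff_cj.2 (by rw [cj_inf, cj_eq_self_of_mem hs, cj_of_normal])
      refine hMne (top_le_iff.1 fun g _ => ?_)
      obtain ⟨n, hn, hng⟩ := frattini_conj hsyl (H := ⊤) (Subgroup.normalizer_eq_top (H := N)).ge (Subgroup.mem_top g)
      simpa using mul_mem (inv_mem (hNM hn)) (hHM _ hle hne hng)
    haveI := Subgroup.normalizer_eq_top_iff.1 htop
    exact le_pCore hS.isPGroup.to_inf_left
  have hSC : S ⊓ C = Q := le_antisymm (hnorm C hCn hCM) (le_inf hQS hQC)
  -- a normal subgroup containing `C_S(Z(J(S)))` is everything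
  have hG1 : ∀ G₁ : Subgroup G, G₁.Normal → J' ≤ G₁ → G₁ = ⊤ := by
    intro G₁ hG₁ hJG
    by_contra hne
    set S₁ := S ⊓ G₁
    have hJS₁ : J' ≤ S₁ := le_inf inf_le_left hJG
    obtain ⟨-, eZJ⟩ := centerThompsonAOf_eq (G := G) (inf_le_left : S₁ ≤ S)
      fun A hA => (hCJ A hA).trans hJS₁
    have eJ : cZJ S₁ = J' := by
      show S₁ ⊓ Subgroup.centralizer (centerThompsonAOf S₁ : Set G) = J'
      rw [eZJ]
      exact le_antisymm (inf_le_inf_right _ inf_le_left) (le_inf hJS₁ inf_le_right)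
    have hS₁p : IsPGroup p S₁ := hS.isPGroup.to_inf_left
    have hNS₁ : Subgroup.normalizer (S₁ : Set G) ≤ M := by
      refine le_trans ?_ hJM
      rw [← eJ, ← inducedFunctor_wJT]
      exact conjFunctor_normalizer_le (isConjugacyFunctor_induced isCharPFunctor_wJT) hS₁p
    have hsyl : SylIn p S₁ G₁ := hS.inf_normal le_top (Subgroup.normalizer_eq_top (H := G₁)).ge
    -- the normalizers of the values
    have hWM : ∀ W ∈ 𝓕, G₁ ⊓ Subgroup.normalizer (inducedFunctor (G := G) W S₁ : Set G) ≤ M := by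
      rintro W (rfl | ⟨W', hW', rfl⟩)
      · set Z₁ := inducedFunctor (G := G) (wOZ p) S₁
        have hJc : Z ≤ J' := fun z hz => ⟨(hZmem z hz).1.1, Subgroup.mem_centralizer_iff.2 fun a ha =>
          Subgroup.mem_centralizer_iff.1 (hZmem z hz).1.2 a (hZmem'.1 ha).1⟩
        have hZZ₁ : Z ≤ Z₁ := by
          intro z hz
          refine ⟨⟨z, hJS₁ (hJc hz)⟩, Subgroup.subset_closure ⟨Subgroup.mem_center_iff.2 fun s => ?_, ?_⟩, rfl⟩
          · exact Subtype.ext (Subgroup.mem_centralizer_iff.1 (hZmem z hz).1.2 s s.2.1)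
          · exact Subtype.ext (hZmem z hz).2
        set C₁ := G₁ ⊓ Subgroup.centralizer (Z₁ : Set G)
        have hSC₁ : S₁ ≤ C₁ := by
          refine le_inf inf_le_right fun s hs => Subgroup.mem_centralizer_iff.2 ?_
          rintro _ ⟨z, hz, rfl⟩
          have h1 := (Cfsg.Agent.PushUp.omegaOne_pow (Y := Subgroup.center S₁) inferInstance hz).1
          exact (congrArg Subtype.val (Subgroup.mem_center_iff.1 h1 ⟨s, hs⟩)).symm
        intro g hg
        have hN : G₁ ⊓ Subgroup.normalizer (Z₁ : Set G) ≤ Subgroup.normalizer (C₁ : Set G) := fun x hx =>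
          mem_normalizer_iff_cj.2 (by
            rw [cj_inf, cj_eq_self_of_mem hx.1, cj_centralizer, cj_eq_self hx.2])
        obtain ⟨n, hn, hng⟩ := frattini_conj (hsyl.mono hSC₁ inf_le_left) hN hg
        simpa using mul_mem (inv_mem ((Subgroup.centralizer_le hZZ₁).trans hCZM hn.2)) (hNS₁ hng)
      · have e : inducedFunctor (G := G) (compJ W') S₁ = inducedFunctor (G := G) (compJ W') S := by
          rw [inducedFunctor_compJ hW' hS₁p, inducedFunctor_compJ hW' hS.isPGroup, eJ]
        rw [e]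
        refine inf_le_right.trans (hHM _ (sylow_le_normalizer_functor
          (isConjugacyFunctor_induced (isCharPFunctor_compJ hW')) hS.isPGroup) ?_)
        exact hval _ (Or.inr ⟨W', hW', rfl⟩) _ rfl
    -- so the derived group lies in `M`
    have hG₁T : S₁ ⊓ ⁅G₁, G₁⁆ ≤ Tp := by
      obtain ⟨U, hU, hf⟩ := (familyTransfer_iff _).1 (familyTransfer_subgroup h𝓕 G₁ (hsub G₁ hne))
      rw [hf.sylow (isConjugacyFunctor_image h𝓕) hU hsyl]
      refine iSup₂_le ?_
      rintro _ ⟨W, hW, rfl⟩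
      exact le_trans (inf_le_inf inf_le_left (Subgroup.commutator_mono (hWM W hW) (hWM W hW)))
        (hTp ▸ proper_le_famTransPart h𝓕 hS hsub hSM hMne)
    have hder : ⁅G₁, G₁⁆ ≤ M := by
      haveI := hG₁
      rw [hM, Subgroup.le_normalizer_iff_commutator_le_left]
      have hle : ⁅Tp ⊓ Q, ⁅G₁, G₁⁆⁆ ≤ ⁅G₁, G₁⁆ := Subgroup.commutator_le_right _ _
      have hle' : ⁅Tp ⊓ Q, ⁅G₁, G₁⁆⁆ ≤ Q :=
        (Subgroup.commutator_mono inf_le_right le_rfl).trans (Subgroup.commutator_le_left _ _)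
      exact le_inf (fun x hx => hG₁T ⟨⟨hQS (hle' hx), Subgroup.commutator_le_left G₁ G₁ (hle hx)⟩, hle hx⟩) hle'
    -- `G₁' S₁` is normal
    set L := ⁅G₁, G₁⁆ ⊔ S₁
    haveI := hG₁
    have hLG : L ≤ G₁ := sup_le (Subgroup.commutator_le_left G₁ G₁) inf_le_right
    have hLn : Subgroup.normalizer (L : Set G) = ⊤ := by
      by_contra hne'
      have hG₁L : G₁ ≤ Subgroup.normalizer (L : Set G) := by
        rw [Subgroup.le_normalizer_iff_commutator_le_left]
        exact (Subgroup.commutator_mono hLG le_rfl).trans le_sup_left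
      have hSL : S ≤ Subgroup.normalizer (L : Set G) := fun s hs => mem_normalizer_iff_cj.2 (by
        rw [cj_sup, cj_commutator, cj_inf, cj_eq_self_of_mem hs, cj_of_normal])
      have hG₁M : G₁ ≤ M := hG₁L.trans (hHM _ hSL hne')
      refine hMne (top_le_iff.1 fun g _ => ?_)
      obtain ⟨n, hn, hng⟩ := frattini_conj hsyl (H := ⊤) (Subgroup.normalizer_eq_top (H := G₁)).ge (Subgroup.mem_top g)
      simpa using mul_mem (inv_mem (hG₁M hn)) (hNS₁ hng)
    refine hMne (top_le_iff.1 fun g _ => ?_)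
    have hLM : L ≤ M := sup_le hder (inf_le_left.trans hSM)
    obtain ⟨n, hn, hng⟩ := frattini_conj (hsyl.mono le_sup_right hLG) (H := ⊤) hLn.ge (Subgroup.mem_top g)
    simpa using mul_mem (inv_mem (hLM hn)) (hNS₁ hng)
  -- the module
  letI : CommGroup V := { (inferInstance : Group V) with mul_comm := hVc.1.1 }
  obtain ⟨φ, hφ, hfaith⟩ := exists_quotient_action hVc C hCdef
  set π := QuotientGroup.mk' C with hπ
  have hπs : Function.Surjective π := QuotientGroup.mk'_surjective C
  have hkerM : ∀ {g : G}, π g ∈ M.map π ↔ g ∈ M := by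
    intro g
    refine ⟨fun h => ?_, fun h => ⟨g, h, rfl⟩⟩
    have : g ∈ (M.map π).comap π := h
    rwa [hπ, QuotientGroup.comap_map_mk', sup_eq_right.2 hCM] at this
  have hSπ : SylIn p (S.map π) ⊤ := sylIn_map_mk hS
  have hSπM : S.map π ≤ M.map π := Subgroup.map_mono hSM
  have hSQ : ¬ S ≤ Q := fun h => hSn (by
    rw [le_antisymm h hQS]
    exact Subgroup.normalizer_eq_top (H := Q))
  have K : OffProd.Ctx φ p (M.map π) :=
    { exp := fun v => by
        show p • Additive.ofMul (Additive.toMul v) = 0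
        rw [← ofMul_pow, hVexp]; rfl
      faithful := hfaith
      two := hp2
      M_ne := fun h => hMne (top_le_iff.1 fun g _ => hkerM.1 (h ▸ Subgroup.mem_top _))
      exT := ⟨S.map π, hSπ, hSπM, fun h => hSQ (by
        rw [← hSC]
        exact le_inf le_rfl (((Subgroup.map_eq_bot_iff _).1 h).trans (QuotientGroup.ker_mk' C).le))⟩
      core := by
        set L := (pCore p (G ⧸ C)).comap π
        haveI : L.Normal := Subgroup.Normal.comap inferInstance π
        have hLS : L ≤ S ⊔ C := by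
          intro x hx
          obtain ⟨s, hs, e⟩ := pCore_le_sylIn hSπ hx
          have : s⁻¹ * x ∈ C := QuotientGroup.eq.1 e
          simpa using Subgroup.mul_mem_sup hs this
        have h2 : L ≤ C := fun x hx => by
          obtain ⟨s, hs, c, hc, rfl⟩ := Subgroup.mem_sup_of_normal_right.1 (hLS hx)
          have hsL : s ∈ L := by
            have hcL : c ∈ L := by
              show π c ∈ pCore p (G ⧸ C)
              rw [show π c = 1 from (QuotientGroup.eq_one_iff c).2 hc]
              exact one_mem _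
            simpa using mul_mem hx (inv_mem hcL)
          exact mul_mem (hQC (hnorm L inferInstance (hLS.trans (sup_le hSM hCM)) ⟨hs, hsL⟩)) hc
        rw [eq_bot_iff]
        intro y hy
        obtain ⟨x, rfl⟩ := hπs y
        exact (QuotientGroup.eq_one_iff x).2 (h2 hy)
      uniq := fun T hT hTM H hTH hH => by
        obtain ⟨x, hx, hxT⟩ := (hSπ.mono hSπM le_top).conj_eq (hT.mono hTM le_top)
        obtain ⟨m, hm, rfl⟩ := hx
        have hH' : cj H (π m)⁻¹ ≤ M.map π := by
          have hle : S.map π ≤ cj H (π m)⁻¹ := by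
            have := cj_mono (hxT ▸ hTH : cj (S.map π) (π m) ≤ H) (π m)⁻¹
            rwa [cj_cj_inv] at this
          rw [← Subgroup.map_comap_eq_self_of_surjective hπs (cj H (π m)⁻¹)]
          refine Subgroup.map_mono (hHM _ (Subgroup.map_le_iff_le_comap.1 hle) fun h => hH ?_)
          have h2 : cj H (π m)⁻¹ = ⊤ := Subgroup.comap_injective hπs (h.trans (Subgroup.comap_top π).symm)
          rw [← cj_inv_cj H (π m), h2]
          exact cj_of_normal _ _
        have := cj_mono hH' (π m)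
        rwa [cj_inv_cj, cj_eq_self_of_mem (show π m ∈ M.map π from ⟨m, hm, rfl⟩)] at this
      moved := fun T hT hTM g hg => by
        obtain ⟨x, hx, hxT⟩ := (hSπ.mono hSπM le_top).conj_eq (hT.mono hTM le_top)
        obtain ⟨m, hm, rfl⟩ := hx
        obtain ⟨g, rfl⟩ := hπs g
        have hgM : m⁻¹ * g * m ∉ Subgroup.centralizer (Z : Set G) := fun h => hg (hkerM.2 (by
          simpa [mul_assoc] using mul_mem (mul_mem hm (hCZM h)) (inv_mem hm)))
        rw [mem_centralizer_set] at hgM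
        simp only [not_forall] at hgM
        obtain ⟨z, hz, hzm⟩ := hgM
        refine ⟨Additive.ofMul (⟨m * z * m⁻¹, Subgroup.Normal.conj_mem inferInstance z
          (Subgroup.subset_normalClosure hz) m⟩ : V), ?_, ?_⟩
        · rw [← hxT]
          rintro _ ⟨_, ⟨s, hs, rfl⟩, rfl⟩
          refine Additive.toMul.injective (Subtype.ext ?_)
          show ((Additive.toMul (φ ((m * s * m⁻¹ : G) : G ⧸ C) _) : V) : G) = _
          rw [hφ]
          show m * s * m⁻¹ * (m * z * m⁻¹) * (m * s * m⁻¹)⁻¹ = m * z * m⁻¹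
          rw [show m * s * m⁻¹ * (m * z * m⁻¹) * (m * s * m⁻¹)⁻¹ = m * (s * z * s⁻¹) * m⁻¹ by group,
            mem_centralizer_set.1 (hSCZ hs) z hz]
        · intro e
          refine hzm ?_
          have := hφ g ⟨m * z * m⁻¹, Subgroup.Normal.conj_mem inferInstance z (Subgroup.subset_normalClosure hz) m⟩
          rw [show φ (g : G ⧸ C) _ = _ from e] at this
          have e2 : m * z * m⁻¹ = g * (m * z * m⁻¹) * g⁻¹ := this
          calc m⁻¹ * g * m * z * (m⁻¹ * g * m)⁻¹ = m⁻¹ * (g * (m * z * m⁻¹) * g⁻¹) * m := by group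
            _ = z := by rw [← e2]; group }
  -- abelian subgroups of largest order give offenders
  have hoff : ∀ A ∈ maxAb S, Nat.card (Additive V) ≤ OffProd.off φ (A.map π) := by
    intro A hA
    have hcA : ∀ a ∈ A, ∀ b ∈ A, a * b = b * a := fun a ha b hb =>
      congrArg Subtype.val (hA.2.1.1.1 ⟨a, ha⟩ ⟨b, hb⟩)
    set U := V ⊓ Subgroup.centralizer (A : Set G)
    have hU : Nat.card U ≤ Nat.card (BestOff.fixed φ (A.map π)) := by
      refine Nat.card_le_card_of_injective (fun v : U => (⟨Additive.ofMul (⟨v, v.2.1⟩ : V), ?_⟩ :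
        BestOff.fixed φ (A.map π))) fun a b e => Subtype.ext ?_
      · rintro _ ⟨a, ha, rfl⟩
        refine Additive.toMul.injective (Subtype.ext ?_)
        show ((Additive.toMul (φ ((a : G) : G ⧸ C) _) : V) : G) = _
        rw [hφ]
        show a * (v : G) * a⁻¹ = v
        rw [Subgroup.mem_centralizer_iff.1 v.2.2 a ha, mul_inv_cancel_right]
      · exact congrArg (fun x : BestOff.fixed φ (A.map π) => ((Additive.toMul (x : Additive V) : V) : G)) e
    have hUA : U ≤ A := fun v hv => mem_of_maxIn hA (hQS (hVQ hv.1))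
      (isMulCommutative_closure_insert hA.2.1 fun a ha => (Subgroup.mem_centralizer_iff.1 hv.2 a ha).symm)
    have h1 : Nat.card (V ⊔ (A ⊓ C) : Subgroup G) ≤ Nat.card A := by
      refine hA.2.2 _ (sup_le (hVQ.trans hQS) (inf_le_left.trans hA.1)) ?_
      exact Cfsg.Agent.PushUp.comm_sup hVc (isMulCommutative_of_le hA.2.1 inf_le_left) inf_le_right
    rw [Cfsg.Agent.PushUp.card_sup_normal] at h1
    have h2 : V.relIndex (A ⊓ C) * Nat.card (V ⊓ (A ⊓ C) : Subgroup G) = Nat.card (A ⊓ C : Subgroup G) := by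
      rw [← Subgroup.inf_relIndex_right, mul_comm, ← Subgroup.relIndex_bot_left, ← Subgroup.relIndex_bot_left]
      exact Subgroup.relIndex_mul_relIndex _ _ _ bot_le inf_le_right
    have h3 : Nat.card (V ⊓ (A ⊓ C) : Subgroup G) ≤ Nat.card U := by
      refine Subgroup.card_le_of_le fun v hv => ⟨hv.1, Subgroup.mem_centralizer_iff.2 fun a ha => ?_⟩
      exact hcA a ha v hv.2.1
    have h4 : Nat.card (A.map π) * Nat.card (A ⊓ C : Subgroup G) = Nat.card A := by
      have e1 : π.ker.relIndex A = Nat.card (A.map π) := Subgroup.relIndex_ker A π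
      rw [← e1, hπ, QuotientGroup.ker_mk', ← Subgroup.inf_relIndex_left A C, mul_comm,
        ← Subgroup.relIndex_bot_left, ← Subgroup.relIndex_bot_left]
      exact Subgroup.relIndex_mul_relIndex _ _ _ bot_le inf_le_left
    have h5 : Nat.card V ≤ Nat.card (A.map π) * Nat.card U := by
      refine Nat.le_of_mul_le_mul_right ?_ (Nat.card_pos (α := (A ⊓ C : Subgroup G)))
      calc Nat.card V * Nat.card (A ⊓ C : Subgroup G)
          = V.relIndex (A ⊓ C) * Nat.card V * Nat.card (V ⊓ (A ⊓ C) : Subgroup G) := by rw [← h2]; ring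
        _ ≤ Nat.card A * Nat.card U := Nat.mul_le_mul h1 h3
        _ = _ := by rw [← h4]; ring
    exact h5.trans (Nat.mul_le_mul_left _ hU)
  -- some abelian subgroup of largest order leaves `C`
  have hexA : ∃ A ∈ maxAb S, A.map π ≠ ⊥ := by
    by_contra hcon
    simp only [not_exists, not_and, not_not] at hcon
    have hAQ : ∀ A ∈ maxAb S, A ≤ Q := fun A hA => (le_inf hA.1
      (((Subgroup.map_eq_bot_iff _).1 (hcon A hA)).trans (QuotientGroup.ker_mk' C).le)).trans hSC.le
    obtain ⟨-, eZ⟩ := centerThompsonAOf_eq (G := G) hQS hAQ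
    have hZn : (centerThompsonAOf S).Normal := by
      rw [← eZ, ← zFam_comm_eq]
      refine Subgroup.normalizer_eq_top_iff.1 (top_le_iff.1 ?_)
      exact (Subgroup.normalizer_eq_top (H := Q)).ge.trans (replFamily_comm.normalizer_le_zFam Q)
    haveI := hZn
    have htop := hG1 _ (Subgroup.normal_centralizer (H := centerThompsonAOf S)) inf_le_right
    refine hZtop (top_le_iff.1 fun g _ => Subgroup.centralizer_le_normalizer _ (Subgroup.mem_centralizer_iff.2
      fun z hz => ?_))
    refine Subgroup.mem_centralizer_iff.1 (htop.ge (Subgroup.mem_top g) : g ∈ Subgroup.centralizer _) z ?_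
    exact hZmem'.2 ⟨(hZmem z hz).1.1, fun A hA => mem_of_maxIn hA (hZmem z hz).1.1
      (isMulCommutative_closure_insert hA.2.1 fun a ha =>
        (Subgroup.mem_centralizer_iff.1 (hZmem z hz).1.2 a (hA.1 ha)).symm)⟩
  set E := sSup (OffProd.mems φ p (S.map π))
  have hAE : ∀ A ∈ maxAb S, A.map π ≤ E := fun A hA =>
    OffProd.off_le_sSup K hSπ hSπM (Subgroup.map_mono hA.1)
      (by
        rintro _ ⟨a, ha, rfl⟩ _ ⟨b, hb, rfl⟩
        exact (show Commute a b from congrArg Subtype.val (hA.2.1.1.1 ⟨a, ha⟩ ⟨b, hb⟩)).map π) (hoff A hA)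
  have hJE : J'.map π ≤ E := by
    rintro _ ⟨x, hx, rfl⟩
    refine OffProd.fix_le_sSup K hSπ hSπM ⟨x, hx.1, rfl⟩ fun v hv => ?_
    have hvZ : ((Additive.toMul v : V) : G) ∈ centerThompsonAOf S := by
      refine hZmem'.2 ⟨hQS (hVQ (Additive.toMul v).2), fun A hA => mem_of_maxIn hA (hQS (hVQ (Additive.toMul v).2))
        (isMulCommutative_closure_insert hA.2.1 fun a ha => ?_)⟩
      have := hφ a (Additive.toMul v)
      rw [show φ (a : G ⧸ C) (Additive.ofMul (Additive.toMul v)) = v from hv _ (hAE A hA ⟨a, ha, rfl⟩)] at this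
      exact (eq_mul_inv_iff_mul_eq.1 this)
    refine Additive.toMul.injective (Subtype.ext ?_)
    show ((Additive.toMul (φ ((x : G) : G ⧸ C) (Additive.ofMul (Additive.toMul v))) : V) : G) = _
    rw [hφ, ← Subgroup.mem_centralizer_iff.1 hx.2 _ hvZ, mul_inv_cancel_right]
  obtain ⟨D, hD⟩ : ∃ D, D ∈ OffProd.mems φ p (S.map π) := by
    obtain ⟨A, hA, hne⟩ := hexA
    by_contra hcon
    simp only [not_exists] at hcon
    refine hne (le_bot_iff.1 ((hAE A hA).trans (sSup_le fun D hD => absurd hD (hcon D))))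
  obtain ⟨F₀, _, _, n, hn, hF₀, ⟨iso⟩⟩ := OffProd.iso_of_closure K hSπ hSπM hD fun N hN hle => by
    haveI := hN
    have := hG1 (N.comap π) (Subgroup.Normal.comap inferInstance π)
      (Subgroup.map_le_iff_le_comap.1 (hJE.trans hle))
    exact Subgroup.comap_injective hπs (this.trans (Subgroup.comap_top π).symm)
  -- the quotient `L₂(q)`
  letI : Fintype (GaloisField p n) := Fintype.ofFinite _
  have hFn : Fintype.card (GaloisField p n) = p ^ n := by
    rw [← Nat.card_eq_fintype_card, GaloisField.card p n (by omega)]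
  let e : F₀ ≃+* GaloisField p n := FiniteField.ringEquivOfCardEq (by rw [hF₀, hFn])
  let eSL := Matrix.SpecialLinearGroup.map (n := Fin 2) (e : F₀ →+* GaloisField p n)
  have heSL : Function.Surjective eSL := fun y => ⟨Matrix.SpecialLinearGroup.map (n := Fin 2)
    (e.symm : GaloisField p n →+* F₀) y, by ext i j; exact e.apply_symm_apply _⟩
  set θ : G →* Matrix.ProjectiveSpecialLinearGroup (Fin 2) (GaloisField p n) :=
    (QuotientGroup.mk' _).comp (eSL.comp (iso.toMonoidHom.comp π)) with hθ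
  have hθs : Function.Surjective θ :=
    (QuotientGroup.mk'_surjective _).comp (heSL.comp (iso.surjective.comp hπs))
  have hSP : (S : Subgroup G) ≤ M := hSM
  have huniq : ∃! M' : Subgroup G, IsCoatom M' ∧ (P : Subgroup G) ≤ M' := by
    rw [hP]
    refine ⟨M, ⟨⟨hMne, fun H hH => ?_⟩, hSM⟩, fun M' ⟨hM', hSM'⟩ => ?_⟩
    · by_contra hne
      exact hH.not_ge (hHM H (hSM.trans hH.le) hne)
    · rcases eq_or_lt_of_le (hHM M' hSM' hM'.1) with h | h
      · exact h
      · exact absurd (hM'.2 M h) hMne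
  have R : PushUp.Setting p n P (GaloisField p n) θ := ⟨hC, huniq, hn, hFn, hθs⟩
  -- `S = C_S(Z(J(S)))`
  have hSJ' : J' = S := by
    rcases R.cases with h | h | h
    · refine absurd (Subgroup.normalizer_eq_top_iff.2 ⟨fun z hz g => ?_⟩) hZtop
      have hzc : z ∈ Subgroup.center G := h (by rw [hP]; exact (hZmem z hz).1)
      rwa [Subgroup.mem_center_iff.1 hzc g, mul_inv_cancel_right]
    · rw [hP] at h
      exact absurd (Subgroup.normalizer_eq_top_iff.2 h) hJtop
    · have h1 := h.inf_normalClosure_le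
      rw [hP, hG1 _ Subgroup.normalClosure_normal Subgroup.le_normalClosure, inf_top_eq] at h1
      exact le_antisymm inf_le_left h1
  have hd : ∀ T : Subgroup ↥(P : Subgroup G), T ≠ ⊥ → T.Characteristic →
      ¬ (T.map (P : Subgroup G).subtype).Normal := by
    intro T hT hTc hTn
    haveI := hTc
    have hWc : IsCharPFunctor.{u} p (transF ↥(P : Subgroup G) T) := isCharPFunctor_transF hT
    refine hval _ (Or.inr ⟨_, hWc, rfl⟩ : compJ (transF ↥(P : Subgroup G) T) ∈ 𝓕) _ ?_
      (Subgroup.normalizer_eq_top_iff.2 hTn)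
    rw [inducedFunctor_compJ hWc hS.isPGroup]
    show inducedFunctor _ J' = _
    rw [hSJ', ← hP]
    show (transF ↥(P : Subgroup G) T ↥(P : Subgroup G)).map _ = _
    rw [transF_eq (MulEquiv.refl _)]
    simp
  -- quadratic action contradicts minimality
  obtain ⟨-, hnat⟩ := R.rank_one_structure hd
  obtain ⟨u, huS, huQ⟩ := SetLike.not_le_iff_exists.1 hSQ
  obtain ⟨U, W, hUW, hUQ, hne⟩ := hu u huS huQ
  haveI := hUW.2.1
  haveI := hUW.2.2.1
  have hp3 : 2 ≤ p - 1 := by
    have := hp.out.two_le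
    omega
  refine hne ((iter_antitone (le_top.trans (Subgroup.normalizer_eq_top (H := U)).ge) hp3).trans ?_)
  by_cases hcen : ⁅U, (⊤ : Subgroup G)⁆ ≤ W
  · refine le_trans (iter_antitone (le_top.trans (Subgroup.normalizer_eq_top (H := U)).ge) one_le_two) ?_
    exact (Subgroup.commutator_mono le_rfl le_top).trans hcen
  haveI : CharP (GaloisField p n) p := inferInstance
  obtain ⟨k, hk⟩ := hS.isPGroup ⟨u, huS⟩
  exact iter_two_of_natural (hnat U W hUQ hUW hcen) ⟨k, congrArg Subtype.val hk⟩ hUW.2.1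

/-- For odd `p` the family controls transfer. -/
theorem jtFam_transfer (hp2 : p ≠ 2) (X : Type u) [Group X] [Finite X] :
    FamilyControlsTransferIn p ((fun W => inducedFunctor (G := X) W) '' jtFam p) ⊤ :=
  familyTransfer_sections_ind isCharPFunctor_jtFam (G := X)
    (fun K R _ _ hsub hquot => by
      obtain ⟨T⟩ : Nonempty (Sylow p (↥K ⧸ R.subgroupOf K)) := inferInstance
      exact jtFam_step hp2 (sylIn_top T) hsub hquot)
    X involves_refl

end Cfsg.Agent.Fusion
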