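import Cfsg.Prelude.Def_Local
import Cfsg.Agent.Lib.Solv.Generation
import Cfsg.Agent.Lib.Solv.Coprime
import Cfsg.Agent.Lib.Solv.CoprimeHall
import Cfsg.Agent.Lib.Fusion.CoprimeAbelian
import Cfsg.Agent.Lib.Fusion.Signalizer

/-!
Solvable groups acted on coprimely by an elementary abelian group `A` of rank at least `k + 2`
and generated, for each `E ≤ A` of rank `k + 1`, by a balanced family of subgroups attached to
the rank `k` subgroups of `E`: every member of the family is the full fixed point subgroup.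
-/

set_option autoImplicit false
set_option linter.style.haveILetI false

open Cfsg Cfsg.Agent Cfsg.Agent.Fusion
open scoped commutatorElement

namespace Cfsg.Agent.KBal

universe u

/-- The standing hypotheses on a family `θ`. -/
structure Data (p k : ℕ) {G : Type u} [Group G] (A H : Subgroup G) (θ : Subgroup G → Subgroup G) :
    Prop where
  hA : Cfsg.IsElementaryAbelian p A
  hAk : p ^ (k + 2) ≤ Nat.card A
  nrm : A ≤ Subgroup.normalizer (H : Set G)
  cop : ¬ p ∣ Nat.card H
  sol : Group.IsSolvable H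
  le : ∀ F ≤ A, Nat.card F = p ^ k → θ F ≤ H ⊓ Subgroup.centralizer (F : Set G)
  inv : ∀ F ≤ A, Nat.card F = p ^ k → A ≤ Subgroup.normalizer (θ F : Set G)
  norm : ∀ F ≤ A, Nat.card F = p ^ k →
    H ⊓ Subgroup.centralizer (F : Set G) ≤ Subgroup.normalizer (θ F : Set G)
  bal : ∀ F ≤ A, Nat.card F = p ^ k → ∀ F' ≤ A, Nat.card F' = p ^ k →
    θ F ⊓ Subgroup.centralizer (F' : Set G) ≤ θ F'
  gen : ∀ E ≤ A, Nat.card E = p ^ (k + 1) →
    H ≤ ⨆ F : {F : Subgroup G // F ≤ E ∧ Nat.card F = p ^ k}, θ F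

variable {p k : ℕ} [hp : Fact p.Prime] {G : Type u} [Group G] [Finite G]

omit hp [Finite G] in
theorem elab_le {A B : Subgroup G} (hA : Cfsg.IsElementaryAbelian p A) (h : B ≤ A) :
    Cfsg.IsElementaryAbelian p B :=
  ⟨⟨⟨fun x y => Subtype.ext (elab_comm hA (h x.2) (h y.2))⟩⟩, fun x hx => hA.2 x (h hx)⟩

omit hp [Finite G] in
theorem elab_le_centralizer {A B C : Subgroup G} (hA : Cfsg.IsElementaryAbelian p A) (hB : B ≤ A) (hC : C ≤ A) :
    B ≤ Subgroup.centralizer (C : Set G) := fun _ hb =>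
  Subgroup.mem_centralizer_iff.2 fun _ hc => elab_comm hA (hC hc) (hB hb)

omit hp [Finite G] in
theorem le_normalizer_inf_cent {A K F : Subgroup G} (hA : Cfsg.IsElementaryAbelian p A) (hF : F ≤ A)
    (hK : A ≤ Subgroup.normalizer (K : Set G)) :
    A ≤ Subgroup.normalizer ((K ⊓ Subgroup.centralizer (F : Set G) : Subgroup G) : Set G) :=
  fun a ha => Solv.normalizer_smul_inf (A := A) hK
    ((elab_le_centralizer hA le_rfl hF).trans
      (Subgroup.le_normalizer)) ha

omit hp [Finite G] in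
theorem eq_bot_of_perfect {S : Subgroup G} (hS : Group.IsSolvable S) (h : ⁅S, S⁆ = S) : S = ⊥ := by
  by_contra hne
  haveI := hS
  haveI : Nontrivial S := S.nontrivial_iff_ne_bot.2 hne
  have h1 := Group.IsSolvable.commutator_lt_top_of_nontrivial S
  refine h1.ne ((Subgroup.map_injective S.subtype_injective) ?_)
  rw [Subgroup.map_subtype_commutator, ← MonoidHom.range_eq_map, Subgroup.range_subtype, h]

/-- A subgroup of order `p ^ m` between `F` and `B`. -/
theorem exists_card_between {A B F : Subgroup G} (hA : Cfsg.IsElementaryAbelian p A) (hBA : B ≤ A)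
    (hFB : F ≤ B) {n m : ℕ} (hF : Nat.card F = p ^ n) (hnm : n ≤ m) (hB : p ^ m ≤ Nat.card B) :
    ∃ E, F ≤ E ∧ E ≤ B ∧ Nat.card E = p ^ m := by
  obtain ⟨j, hj⟩ := IsPGroup.iff_card.1 (elab_isPGroup (elab_le hA hBA))
  have hmj : m ≤ j := (Nat.pow_le_pow_iff_right hp.out.one_lt).1 (hj ▸ hB)
  obtain ⟨E, hE, hFE⟩ := Sylow.exists_subgroup_card_pow_prime_le (G := B) p
    (hj ▸ pow_dvd_pow p hmj) (F.subgroupOf B) (by rw [Solv.card_subgroupOf hFB, hF]) hnm
  refine ⟨E.map B.subtype, ?_, Subgroup.map_subtype_le _, by rw [Solv.card_map_subtype, hE]⟩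
  rw [← Subgroup.map_subgroupOf_eq_of_le hFB]
  exact Subgroup.map_mono hFE

omit hp in
theorem lift_fixed {K M F : Subgroup G} [M.Normal] (hF : F ≤ Subgroup.normalizer (K : Set G))
    (hco : (Nat.card F).Coprime (Nat.card K)) (hFc : Group.IsSolvable F) {x : G} (hx : x ∈ K)
    (hxM : ∀ f ∈ F, ⁅x⁻¹, f⁆ ∈ M) :
    ∃ c ∈ K ⊓ Subgroup.centralizer (F : Set G), x⁻¹ * c ∈ M := by
  obtain ⟨c, hc, hcd⟩ := Solv.exists_fixed_in_coset' F K (K ⊓ M) hF hco (Or.inl hFc) inf_le_left
    (fun f hf => Solv.normalizer_smul_inf (A := F) hF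
      (fun _ _ => by rw [Subgroup.normalizer_eq_top]; exact Subgroup.mem_top _) hf) hx
    (fun f hf => by
      refine Subgroup.mem_inf.2 ⟨mul_mem (inv_mem hx) ((Subgroup.mem_normalizer_iff.1 (hF hf) x).1 hx), ?_⟩
      have := hxM f hf
      rw [commutatorElement_def, inv_inv] at this
      have h2 := inv_mem ((inferInstance : M.Normal).conj_mem _ this x)
      have h3 := inv_mem this
      rw [show (x⁻¹ * f * x * f⁻¹)⁻¹ = f * x⁻¹ * f⁻¹ * x by group] at h3
      have h4 := (inferInstance : M.Normal).conj_mem _ (inv_mem h3) x⁻¹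
      rw [show x⁻¹ * (f * x⁻¹ * f⁻¹ * x)⁻¹ * x⁻¹⁻¹ = x⁻¹ * (x⁻¹ * f * x * f⁻¹) * x by group] at h4
      have h5 := inv_mem (hxM f⁻¹ (inv_mem hf))
      rw [commutatorElement_def, inv_inv, inv_inv,
        show (x⁻¹ * f⁻¹ * x * f)⁻¹ = f⁻¹ * x⁻¹ * f * x by group] at h5
      have h6 := (inferInstance : M.Normal).conj_mem _ h5 f
      rwa [show f * (f⁻¹ * x⁻¹ * f * x) * f⁻¹ = x⁻¹ * (f * x * f⁻¹) by group] at h6)
  exact ⟨c, hc, hcd.2⟩

/-- Induction step: the conclusion modulo a nontrivial normal subgroup inside `H`. -/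
theorem step {n : ℕ}
    (ih : ∀ (G : Type u) [Group G] [Finite G] (A H : Subgroup G) (θ : Subgroup G → Subgroup G),
      Nat.card H < n → H.Normal → H ⊔ A = ⊤ → Data p k A H θ →
      ∀ F ≤ A, Nat.card F = p ^ k → H ⊓ Subgroup.centralizer (F : Set G) ≤ θ F)
    {A H : Subgroup G} {θ : Subgroup G → Subgroup G} (hn : Nat.card H ≤ n) [H.Normal]
    (htop : H ⊔ A = ⊤) (D : Data p k A H θ) (M : Subgroup G) [M.Normal] (hMH : M ≤ H) (hM : M ≠ ⊥)
    {F : Subgroup G} (hF : F ≤ A) (hFc : Nat.card F = p ^ k) {x : G} (hxH : x ∈ H)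
    (hxF : x ∈ Subgroup.centralizer (F : Set G)) : ∃ y ∈ θ F, y⁻¹ * x ∈ M := by
  obtain ⟨π, hπ⟩ : ∃ π : G →* G ⧸ M, π = QuotientGroup.mk' M := ⟨_, rfl⟩
  have hsurj : Function.Surjective π := hπ ▸ QuotientGroup.mk'_surjective M
  have hker : π.ker = M := hπ ▸ QuotientGroup.ker_mk' M
  have hmem : ∀ g, π g = 1 ↔ g ∈ M := fun g => by rw [← MonoidHom.mem_ker, hker]
  have hdis : M ⊓ A = ⊥ := Solv.coprime_inf
    ((elab_coprime D.hA D.cop).symm.coprime_dvd_left (Subgroup.card_dvd_of_le hMH))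
  have hinjA : ∀ B ≤ A, (B.map π).comap π ⊓ A = B := fun B hB => by
    refine le_antisymm ?_ (le_inf (Subgroup.le_comap_map _ _) hB)
    rintro y hy
    obtain ⟨⟨b, hb, hby⟩, hyA⟩ := Subgroup.mem_inf.1 hy
    have h1 : b⁻¹ * y ∈ M ⊓ A := Subgroup.mem_inf.2
      ⟨(hmem _).1 (by rw [map_mul, map_inv, hby, inv_mul_cancel]), mul_mem (inv_mem (hB hb)) hyA⟩
    rw [hdis, Subgroup.mem_bot, inv_mul_eq_one] at h1
    exact h1 ▸ hb
  have hcard : ∀ B ≤ A, Nat.card (B.map π) = Nat.card B := fun B hB => by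
    refine (Nat.card_congr (Equiv.ofBijective (fun b : B => (⟨π b, b, b.2, rfl⟩ : B.map π)) ⟨?_, ?_⟩)).symm
    · intro b c e
      have e1 : π b = π c := congrArg Subtype.val e
      have h1 : (b : G)⁻¹ * c ∈ M ⊓ A := Subgroup.mem_inf.2
        ⟨(hmem _).1 (by rw [map_mul, map_inv, e1, inv_mul_cancel]), mul_mem (inv_mem (hB b.2)) (hB c.2)⟩
      rw [hdis, Subgroup.mem_bot, inv_mul_eq_one] at h1
      exact Subtype.ext h1
    · rintro ⟨_, b, hb, rfl⟩; exact ⟨⟨b, hb⟩, rfl⟩
  have hpull : ∀ B' ≤ A.map π, ∃ B ≤ A, B.map π = B' := fun B' hB' =>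
    ⟨B'.comap π ⊓ A, inf_le_right, le_antisymm
      ((Subgroup.map_mono inf_le_left).trans (Subgroup.map_comap_le _ _)) fun y hy => by
      obtain ⟨a, ha, rfl⟩ := hB' hy
      exact ⟨a, ⟨hy, ha⟩, rfl⟩⟩
  let θ' : Subgroup (G ⧸ M) → Subgroup (G ⧸ M) := fun B' => (θ (B'.comap π ⊓ A)).map π
  have hθ : ∀ B ≤ A, θ' (B.map π) = (θ B).map π := fun B hB => by
    show (θ _).map π = _
    rw [hinjA B hB]
  -- fixed points in the quotient lift
  have hlift : ∀ B ≤ A, ∀ K : Subgroup G, K ≤ H → A ≤ Subgroup.normalizer (K : Set G) →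
      K.map π ⊓ Subgroup.centralizer ((B.map π : Subgroup (G ⧸ M)) : Set (G ⧸ M)) ≤
        (K ⊓ Subgroup.centralizer (B : Set G)).map π := by
    intro B hB K hKH hKA y hy
    obtain ⟨⟨x, hx, rfl⟩, hyc⟩ := Subgroup.mem_inf.1 hy
    obtain ⟨c, hc, hcM⟩ := lift_fixed (M := M) (hB.trans hKA)
      ((elab_coprime D.hA D.cop).coprime_dvd_left (Subgroup.card_dvd_of_le hB) |>.coprime_dvd_right
        (Subgroup.card_dvd_of_le hKH))
      (Group.isSolvable_of_comm fun s t => Subtype.ext (elab_comm D.hA (hB s.2) (hB t.2))) hx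
      fun f hf => (hmem _).1 (by
        rw [map_commutatorElement, map_inv, commutatorElement_eq_one_iff_commute]
        exact (show Commute (π x) (π f) from
          (Subgroup.mem_centralizer_iff.1 hyc _ ⟨f, hf, rfl⟩).symm).inv_left)
    have h := (hmem _).2 hcM
    rw [map_mul, map_inv, inv_mul_eq_one] at h
    exact ⟨c, hc, h.symm⟩
  have hmapC : ∀ (B K : Subgroup G), (K ⊓ Subgroup.centralizer (B : Set G)).map π ≤
      Subgroup.centralizer ((B.map π : Subgroup (G ⧸ M)) : Set (G ⧸ M)) := fun B K => by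
    rintro _ ⟨x, hx, rfl⟩
    refine Subgroup.mem_centralizer_iff.2 ?_
    rintro _ ⟨b, hb, rfl⟩
    rw [← map_mul, ← map_mul, Subgroup.mem_centralizer_iff.1 hx.2 b hb]
  have hlt : Nat.card (H.map π) < n := by
    refine lt_of_lt_of_le ?_ hn
    refine lt_of_le_of_ne (Nat.le_of_dvd Nat.card_pos (Subgroup.card_map_dvd H π)) fun e => hM ?_
    have h1 := Solv.card_map_mul_card_inf_ker π H
    rw [hker, inf_eq_left.2 hMH, e] at h1
    exact Subgroup.eq_bot_of_card_eq M (by
      have := Nat.card_pos (α := H)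
      exact Nat.eq_of_mul_eq_mul_left this (h1.trans (mul_one _).symm))
  have hnA : (A.map π) ≤ Subgroup.normalizer ((H.map π : Subgroup (G ⧸ M)) : Set (G ⧸ M)) :=
    (Subgroup.map_mono D.nrm).trans (Subgroup.le_normalizer_map π)
  have D' : Data p k (A.map π) (H.map π) θ' := by
    refine ⟨?_, (hcard A le_rfl).symm ▸ D.hAk, hnA,
      fun h => D.cop (h.trans (Subgroup.card_map_dvd H π)), ?_, ?_, ?_, ?_, ?_, ?_⟩
    · refine ⟨⟨⟨?_⟩⟩, ?_⟩
      · rintro ⟨_, a, ha, rfl⟩ ⟨_, b, hb, rfl⟩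
        exact Subtype.ext (by
          show π a * π b = π b * π a
          rw [← map_mul, ← map_mul, elab_comm D.hA ha hb])
      · rintro _ ⟨a, ha, rfl⟩
        rw [← map_pow, D.hA.2 a ha, map_one]
    · haveI := D.sol
      exact Solv.isSolvable_map π D.sol
    · intro F' hF' hc
      obtain ⟨F, hF, rfl⟩ := hpull F' hF'
      rw [hcard F hF] at hc
      rw [hθ F hF]
      have h := D.le F hF hc
      exact le_inf (Subgroup.map_mono (h.trans inf_le_left))
        ((Subgroup.map_mono h).trans (hmapC F H))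
    · intro F' hF' hc
      obtain ⟨F, hF, rfl⟩ := hpull F' hF'
      rw [hcard F hF] at hc
      rw [hθ F hF]
      exact (Subgroup.map_mono (D.inv F hF hc)).trans (Subgroup.le_normalizer_map π)
    · intro F' hF' hc
      obtain ⟨F, hF, rfl⟩ := hpull F' hF'
      rw [hcard F hF] at hc
      rw [hθ F hF]
      exact (hlift F hF H le_rfl D.nrm).trans
        ((Subgroup.map_mono (D.norm F hF hc)).trans (Subgroup.le_normalizer_map π))
    · intro F' hF' hc F'' hF'' hc'
      obtain ⟨F, hF, rfl⟩ := hpull F' hF'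
      obtain ⟨B, hB, rfl⟩ := hpull F'' hF''
      rw [hcard F hF] at hc
      rw [hcard B hB] at hc'
      rw [hθ F hF, hθ B hB]
      exact (hlift B hB _ ((D.le F hF hc).trans inf_le_left) (D.inv F hF hc)).trans
        (Subgroup.map_mono (D.bal F hF hc B hB hc'))
    · intro E' hE' hc
      obtain ⟨E, hE, rfl⟩ := hpull E' hE'
      rw [hcard E hE] at hc
      refine (Subgroup.map_mono (D.gen E hE hc)).trans ?_
      rw [Subgroup.map_iSup]
      refine iSup_le fun B => ?_
      rw [← hθ B (B.2.1.trans hE)]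
      exact le_iSup (fun B : {F : Subgroup (G ⧸ M) // F ≤ E.map π ∧ Nat.card F = p ^ k} => θ' B)
        ⟨_, Subgroup.map_mono B.2.1, by rw [hcard _ (B.2.1.trans hE), B.2.2]⟩
  haveI : (H.map π).Normal := (inferInstance : H.Normal).map π hsurj
  have hres := ih (G ⧸ M) (A.map π) (H.map π) θ' hlt inferInstance
    (by rw [← Subgroup.map_sup, htop, Subgroup.map_top_of_surjective π hsurj]) D'
    (F.map π) (Subgroup.map_mono hF) (by rw [hcard F hF, hFc])
    (show π x ∈ _ from Subgroup.mem_inf.2 ⟨⟨x, hxH, rfl⟩, hmapC F H ⟨x, ⟨hxH, hxF⟩, rfl⟩⟩)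
  rw [hθ F hF] at hres
  obtain ⟨y, hy, hyx⟩ := hres
  exact ⟨y, hy, (hmem _).1 (by rw [map_mul, map_inv, hyx, inv_mul_cancel])⟩

theorem main : ∀ (n : ℕ) (G : Type u) [Group G] [Finite G] (A H : Subgroup G)
    (θ : Subgroup G → Subgroup G), Nat.card H < n → H.Normal → H ⊔ A = ⊤ → Data p k A H θ →
    ∀ F ≤ A, Nat.card F = p ^ k → H ⊓ Subgroup.centralizer (F : Set G) ≤ θ F := by
  intro n
  induction n with
  | zero => intro G _ _ A H θ h; exact absurd h (Nat.not_lt_zero _)
  | succ n ih =>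
    intro G _ _ A H θ hn hHn htop D F₀ hF₀ hF₀c
    haveI := hHn
    haveI := D.sol
    by_cases hH : H = ⊥
    · exact fun x hx => by
        have := Subgroup.mem_inf.1 hx |>.1
        rw [hH, Subgroup.mem_bot] at this
        rw [this]; exact one_mem _
    have hAc : IsMulCommutative A := D.hA.1
    -- a minimal normal subgroup inside H
    obtain ⟨M, -, ⟨hMn, hMH, hMb⟩, hMmin⟩ := Finite.exists_le_minimal
      (p := fun M : Subgroup G => M.Normal ∧ M ≤ H ∧ M ≠ ⊥) (a := H) ⟨hHn, le_rfl, hH⟩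
    haveI := hMn
    have hMsol : Group.IsSolvable M := Solv.isSolvable_of_le hMH D.sol
    have hsmall : ∀ L : Subgroup G, L.Normal → L ≤ M → L ≠ M → L = ⊥ := fun L hL hLM hne => by
      by_contra hLb
      exact hne (le_antisymm hLM (hMmin ⟨hL, hLM.trans hMH, hLb⟩ hLM))
    have hMM : ⁅M, M⁆ = ⊥ := hsmall _ inferInstance (Subgroup.commutator_le_right M M) fun e => hMb
      (eq_bot_of_perfect hMsol e)
    have hMc : ∀ a ∈ M, ∀ b ∈ M, a * b = b * a := fun a ha b hb =>
      commutatorElement_eq_one_iff_mul_comm.1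
        (Subgroup.mem_bot.1 (hMM ▸ Subgroup.commutator_mem_commutator ha hb))
    have hMcomm : IsMulCommutative M := ⟨⟨fun a b => Subtype.ext (hMc a a.2 b b.2)⟩⟩
    have hmn : ∀ (L : Subgroup G) [L.Normal] (S : Subgroup G), S ≤ Subgroup.normalizer (L : Set G) :=
      fun L _ S x _ => by rw [Subgroup.normalizer_eq_top]; exact Subgroup.mem_top x
    have hcoK : ∀ (B K : Subgroup G), B ≤ A → K ≤ H → (Nat.card B).Coprime (Nat.card K) :=
      fun B K hB hK => ((elab_coprime D.hA D.cop).coprime_dvd_left (Subgroup.card_dvd_of_le hB))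
        |>.coprime_dvd_right (Subgroup.card_dvd_of_le hK)
    have hsolB : ∀ B : Subgroup G, B ≤ A → Group.IsSolvable B := fun B hB =>
      Group.isSolvable_of_comm fun s t => Subtype.ext (elab_comm D.hA (hB s.2) (hB t.2))
    -- the key claim
    have key : ∀ E ≤ A, Nat.card E = p ^ (k + 1) → ∀ F ≤ E, Nat.card F = p ^ k →
        M ⊓ Subgroup.centralizer (E : Set G) ≤ θ F := by
      intro E hE hEc F hFE hFc
      have hFA : F ≤ A := hFE.trans hE
      obtain ⟨N, hN⟩ : ∃ N, N = M ⊓ Subgroup.centralizer (E : Set G) ⊓ θ F := ⟨_, rfl⟩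
      have hEC : ∀ B ≤ E, Subgroup.centralizer (E : Set G) ≤ Subgroup.centralizer (B : Set G) :=
        fun B hB => Subgroup.centralizer_le hB
      have hNG : ∀ B ≤ E, Nat.card B = p ^ k → ∀ w ∈ θ B, w ∈ M →
          w ∈ Subgroup.centralizer (E : Set G) → w ∈ N := fun B hB hBc w hw hwM hwE => by
        rw [hN]
        exact ⟨⟨hwM, hwE⟩, D.bal B (hB.trans hE) hBc F hFA hFc ⟨hw, hEC F hFE hwE⟩⟩
      obtain ⟨P, hP⟩ : ∃ P, P = N ⊔ ⁅M, E⁆ := ⟨_, rfl⟩
      have hPM : P ≤ M := hP ▸ sup_le (hN ▸ inf_le_left.trans inf_le_left)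
        (Subgroup.commutator_le_left M E)
      have hAP : A ≤ Subgroup.normalizer (P : Set G) := by
        rw [hP]
        refine Solv.normalizer_smul_sup ?_ ?_
        · rw [hN]
          exact Solv.normalizer_smul_inf (le_normalizer_inf_cent D.hA hE (hmn M A)) (D.inv F hFA hFc)
        · intro a ha
          refine Solv.mem_normalizer_of_conj_smul ?_
          rw [Solv.conj_smul_eq_map, Subgroup.map_commutator, ← Solv.conj_smul_eq_map,
            ← Solv.conj_smul_eq_map, Solv.conj_smul_of_mem_normalizer (hmn M A ha),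
            Solv.conj_smul_of_mem_normalizer
              (((elab_le_centralizer D.hA le_rfl hE).trans (Subgroup.centralizer_le_normalizer _)) ha)]
      have hcommP : ∀ B ≤ E, Nat.card B = p ^ k → ∀ h ∈ θ B, ∀ m ∈ M, ⁅m, h⁆ ∈ P := by
        intro B hB hBc h hh m hm
        have hBA : B ≤ A := hB.trans hE
        obtain ⟨n', hn', c, hc, rfl⟩ := Solv.exists_commutator_mul_fixed (A := B) (K := M)
          (hmn M B) (hcoK B M hBA hMH) (Or.inl (hsolB B hBA)) hm
        obtain ⟨hhH, hhC⟩ := Subgroup.mem_inf.1 (D.le B hBA hBc hh)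
        have h1 : ⁅c, h⁆ ∈ θ B := by
          rw [commutatorElement_def]
          exact mul_mem ((Subgroup.mem_normalizer_iff.1
            (D.norm B hBA hBc ⟨hMH hc.1, hc.2⟩) h).1 hh) (inv_mem hh)
        have h1M : ⁅c, h⁆ ∈ M := Subgroup.commutator_le_left M ⊤
          (Subgroup.commutator_mem_commutator hc.1 (Subgroup.mem_top h))
        have hW : ⁅c, h⁆ ∈ θ B ⊓ M := ⟨h1, h1M⟩
        obtain ⟨n2, hn2, c2, hc2, he⟩ := Solv.exists_commutator_mul_fixed (A := E) (K := θ B ⊓ M)
          (Solv.normalizer_smul_inf (hE.trans (D.inv B hBA hBc)) (hmn M E))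
          (hcoK E _ hE (inf_le_right.trans hMH)) (Or.inl (hsolB E hE)) hW
        have h2 : ⁅c, h⁆ ∈ P := by
          rw [he, hP]
          exact mul_mem (Subgroup.mem_sup_right (Subgroup.commutator_mono inf_le_right le_rfl hn2))
            (Subgroup.mem_sup_left (hNG B hB hBc c2 hc2.1.1 hc2.1.2 hc2.2))
        have hn'M : n' ∈ M := Subgroup.commutator_le_left M B hn'
        have h3 : ⁅n', h⁆ ∈ P := by
          have hnorm : h ∈ Subgroup.normalizer ((⁅M, B⁆ : Subgroup G) : Set G) := by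
            refine Solv.mem_normalizer_of_conj_smul ?_
            rw [Solv.conj_smul_eq_map, Subgroup.map_commutator, ← Solv.conj_smul_eq_map,
              ← Solv.conj_smul_eq_map, Solv.conj_smul_of_mem_normalizer (hmn M ⊤ (Subgroup.mem_top h)),
              Solv.conj_smul_of_mem_normalizer (Subgroup.centralizer_le_normalizer _ hhC)]
          have h4 : ⁅n', h⁆ ∈ ⁅M, B⁆ := by
            rw [commutatorElement_def, mul_assoc n', mul_assoc n']
            exact mul_mem hn' ((Subgroup.mem_normalizer_iff.1 hnorm _).1 (inv_mem hn'))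
          rw [hP]
          exact Subgroup.mem_sup_right (Subgroup.commutator_mono le_rfl hB h4)
        have h5 : ⁅n' * c, h⁆ = n' * ⁅c, h⁆ * n'⁻¹ * ⁅n', h⁆ := by
          rw [commutatorElement_def, commutatorElement_def, commutatorElement_def]; group
        rw [h5, hMc n' hn'M _ h1M, mul_inv_cancel_right]
        exact mul_mem h2 h3
      have hθP : ∀ B ≤ E, Nat.card B = p ^ k → θ B ≤ Subgroup.normalizer (P : Set G) := by
        intro B hB hBc h hh
        refine Solv.mem_normalizer_of_conj_smul ?_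
        refine Subgroup.eq_of_le_of_card_ge ?_ (by rw [Solv.card_conj_smul])
        rw [Solv.conj_smul_eq_map]
        rintro _ ⟨q, hq, rfl⟩
        have h6 := mul_mem (inv_mem (hcommP B hB hBc h hh q (hPM hq))) hq
        rw [commutatorElement_def] at h6
        show h * q * h⁻¹ ∈ P
        rwa [show (q * h * q⁻¹ * h⁻¹)⁻¹ * q = h * q * h⁻¹ by group] at h6
      haveI hPn : P.Normal := by
        rw [← Subgroup.normalizer_eq_top_iff, eq_top_iff, ← htop]
        exact sup_le ((D.gen E hE hEc).trans (iSup_le fun B => hθP B B.2.1 B.2.2)) hAP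
      by_cases hPe : P = M
      · intro x hx
        obtain ⟨hxM, hxE⟩ := Subgroup.mem_inf.1 hx
        haveI : ((⊥ : Subgroup G).subgroupOf E).Normal := by rw [Subgroup.bot_subgroupOf]; infer_instance
        have hxP : x ∈ N ⊔ ⁅M, E⁆ := hP ▸ hPe.symm ▸ hxM
        have hDN : ⁅M, E⁆ ≤ Subgroup.normalizer (N : Set G) := fun d hd => by
          refine (Subgroup.centralizer_le_normalizer _) (Subgroup.mem_centralizer_iff.2 fun y hy => ?_)
          rw [hN] at hy
          exact hMc y hy.1.1 d (Subgroup.commutator_le_left M E hd)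
        rw [← SetLike.mem_coe, Subgroup.coe_mul_of_right_le_normalizer_left N _ hDN] at hxP
        obtain ⟨y, hy, d, hd, rfl⟩ := hxP
        rw [SetLike.mem_coe, hN] at hy
        have hdE : d ∈ Subgroup.centralizer (E : Set G) := by
          have := mul_mem (inv_mem (Subgroup.mem_inf.1 (Subgroup.mem_inf.1 hy).1).2) hxE
          rwa [inv_mul_cancel_left] at this
        have hd1 : d = 1 := Fusion.eq_one_of_fixed_commutator (A := M) (N := E) (N₀ := ⊥) hMcomm
          (fun n hn a _ => by rw [Subgroup.mem_bot.1 hn]; group)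
          (by rw [Subgroup.relIndex_bot_left]; exact (hcoK E M hE hMH).symm) hd
          (fun n hn => by rw [Subgroup.mem_centralizer_iff.1 hdE n hn]; group)
        show y * d ∈ θ F
        rw [hd1, mul_one]
        exact hy.2
      -- otherwise M is central and meets no member
      have hPb : P = ⊥ := hsmall P hPn hPM hPe
      exfalso
      have hME : M ≤ Subgroup.centralizer (E : Set G) := by
        rw [← Subgroup.commutator_eq_bot_iff_le_centralizer, ← le_bot_iff, ← hPb, hP]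
        exact le_sup_right
      have hNb : N = ⊥ := le_bot_iff.1 (hPb ▸ hP ▸ le_sup_left)
      have hθM : ∀ B ≤ E, Nat.card B = p ^ k → ∀ w ∈ θ B, w ∈ M → w = 1 := fun B hB hBc w hw hwM =>
        Subgroup.mem_bot.1 (hNb ▸ hNG B hB hBc w hw hwM (hME hwM))
      have hMH' : ∀ h ∈ H, ∀ m ∈ M, m * h = h * m := by
        have hle : H ≤ Subgroup.centralizer (M : Set G) := (D.gen E hE hEc).trans (iSup_le fun B h hh =>
          Subgroup.mem_centralizer_iff.2 fun m hm => commutatorElement_eq_one_iff_mul_comm.1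
            (Subgroup.mem_bot.1 (hPb ▸ hcommP B B.2.1 B.2.2 h hh m hm)))
        exact fun h hh m hm => Subgroup.mem_centralizer_iff.1 (hle hh) m hm
      by_cases hHM : H = M
      · refine hH (le_bot_iff.1 ((D.gen E hE hEc).trans (iSup_le fun B w hw => ?_)))
        exact Subgroup.mem_bot.2 (hθM B B.2.1 B.2.2 w hw
          (hHM ▸ (D.le B (B.2.1.trans hE) B.2.2 hw).1))
      obtain ⟨R, -, ⟨hRn, hMR, hRH⟩, hRmin⟩ := Finite.exists_le_minimal
        (p := fun R : Subgroup G => R.Normal ∧ M < R ∧ R ≤ H) (a := H)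
        ⟨hHn, lt_of_le_of_ne hMH (Ne.symm hHM), le_rfl⟩
      haveI := hRn
      have hRR : ⁅R, R⁆ ≤ M := by
        by_contra hno
        have hlt : M < ⁅R, R⁆ ⊔ M := lt_of_le_of_ne le_sup_right fun e => hno (e ▸ le_sup_left)
        have hle : ⁅R, R⁆ ⊔ M ≤ R := sup_le (Subgroup.commutator_le_right R R) hMR.le
        have he : ⁅R, R⁆ ⊔ M = R := le_antisymm hle (hRmin ⟨inferInstance, hlt, hle.trans hRH⟩ hle)
        obtain ⟨R', hR'⟩ : ∃ R', R' = R.map (QuotientGroup.mk' M) := ⟨_, rfl⟩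
        have h1 : ⁅R', R'⁆ = R' := by
          rw [hR', ← Subgroup.map_commutator]
          conv_rhs => rw [← he, Subgroup.map_sup, QuotientGroup.map_mk'_self, sup_bot_eq]
        have h2 : Group.IsSolvable R' := hR' ▸ Solv.isSolvable_map _ (Solv.isSolvable_of_le hRH D.sol)
        have h3 := eq_bot_of_perfect h2 h1
        rw [hR', Subgroup.map_eq_bot_iff, QuotientGroup.ker_mk'] at h3
        exact hMR.not_ge h3
      have hsplit : ∀ B ≤ E, Nat.card B = p ^ k → ∀ x ∈ R, x ∈ Subgroup.centralizer (B : Set G) →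
          ∃ r ∈ R ⊓ θ B, r⁻¹ * x ∈ M := by
        intro B hB hBc x hx hxB
        obtain ⟨r, hr, hrx⟩ := step (fun G' _ _ A' H' θ' hlt' => ih G' A' H' θ' hlt')
          (Nat.lt_succ_iff.1 hn) htop D M hMH hMb (hB.trans hE) hBc (hRH hx) hxB
        refine ⟨r, ⟨?_, hr⟩, hrx⟩
        have := mul_mem hx (inv_mem (hMR.le hrx))
        rwa [show x * (r⁻¹ * x)⁻¹ = r by group] at this
      obtain ⟨R₀, hR₀⟩ : ∃ R₀, R₀ = ⨆ B : {B : Subgroup G // B ≤ E ∧ Nat.card B = p ^ k}, R ⊓ θ B :=
        ⟨_, rfl⟩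
      have hle0 : ∀ B ≤ E, Nat.card B = p ^ k → R ⊓ θ B ≤ R₀ := fun B hB hBc =>
        hR₀ ▸ le_iSup (fun B : {B : Subgroup G // B ≤ E ∧ Nat.card B = p ^ k} => R ⊓ θ B) ⟨B, hB, hBc⟩
      have hR₀R : R₀ ≤ R := hR₀ ▸ iSup_le fun B => inf_le_left
      have hcm : ∀ a ∈ R, ∀ b ∈ R, ∀ y ∈ R, ⁅a * b, y⁆ = ⁅a, y⁆ * ⁅b, y⁆ := by
        intro a ha b hb y hy
        have h1 : ⁅a * b, y⁆ = a * ⁅b, y⁆ * a⁻¹ * ⁅a, y⁆ := by
          rw [commutatorElement_def, commutatorElement_def, commutatorElement_def]; group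
        have hm1 := hRR (Subgroup.commutator_mem_commutator hb hy)
        have hm2 := hRR (Subgroup.commutator_mem_commutator ha hy)
        rw [h1, ← hMH' a (hRH ha) _ hm1, mul_inv_cancel_right, hMc _ hm1 _ hm2]
      have hcomm2 : ∀ B ≤ E, Nat.card B = p ^ k → ∀ B' ≤ E, Nat.card B' = p ^ k →
          ∀ x ∈ R ⊓ θ B, ∀ y ∈ R ⊓ θ B', x * y = y * x := by
        have hsame : ∀ B ≤ E, Nat.card B = p ^ k → ∀ x ∈ R ⊓ θ B, ∀ y ∈ R ⊓ θ B, x * y = y * x := by
          intro B hB hBc x hx y hy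
          refine commutatorElement_eq_one_iff_mul_comm.1 (hθM B hB hBc _ ?_
            (hRR (Subgroup.commutator_mem_commutator hx.1 hy.1)))
          rw [commutatorElement_def]
          exact mul_mem (mul_mem (mul_mem hx.2 hy.2) (inv_mem hx.2)) (inv_mem hy.2)
        intro B hB hBc B' hB' hBc' x hx y hy
        by_cases he : B = B'
        · subst he; exact hsame B hB hBc x hx y hy
        have hBB' : B ⊔ B' = E := by
          obtain ⟨j, hj⟩ := IsPGroup.iff_card.1
            (elab_isPGroup (elab_le D.hA ((sup_le hB hB').trans hE)))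
          refine Subgroup.eq_of_le_of_card_ge (sup_le hB hB') ?_
          rw [hEc, hj]
          refine Nat.pow_le_pow_right hp.out.pos ?_
          by_contra hlt
          have h1 : B = B ⊔ B' := Subgroup.eq_of_le_of_card_ge le_sup_left (by
            rw [hBc, hj]; exact Nat.pow_le_pow_right hp.out.pos (by omega))
          exact he (Subgroup.eq_of_le_of_card_ge (h1.symm ▸ le_sup_right) (by rw [hBc, hBc'])).symm
        have hnB : B' ≤ Subgroup.normalizer ((R ⊓ θ B : Subgroup G) : Set G) :=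
          Solv.normalizer_smul_inf (hmn R B') ((hB'.trans hE).trans (D.inv B (hB.trans hE) hBc))
        obtain ⟨n', hn', c, hc, rfl⟩ := Solv.exists_commutator_mul_fixed (A := B') (K := R ⊓ θ B)
          hnB (hcoK B' _ (hB'.trans hE) (inf_le_left.trans hRH)) (Or.inl (hsolB B' (hB'.trans hE))) hx
        have hc' : c ∈ R ⊓ θ B' :=
          ⟨hc.1.1, D.bal B (hB.trans hE) hBc B' (hB'.trans hE) hBc' ⟨hc.1.2, hc.2⟩⟩
        have hcy := hsame B' hB' hBc' c hc' y hy
        have hny : ⁅R ⊓ θ B, B'⁆ ≤ Subgroup.centralizer ({y} : Set G) := by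
          refine Subgroup.commutator_le.2 fun a ha g hg => ?_
          rw [Subgroup.mem_centralizer_singleton_iff]
          refine commutatorElement_eq_one_iff_mul_comm.1 ?_
          have hga : g * a * g⁻¹ ∈ R := (inferInstance : R.Normal).conj_mem _ ha.1 g
          have hd : ⁅a, g⁆ ∈ R := by
            rw [commutatorElement_def, mul_assoc a, mul_assoc a]
            exact mul_mem ha.1 ((inferInstance : R.Normal).conj_mem _ (inv_mem ha.1) g)
          have hgy : g * y = y * g :=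
            Subgroup.mem_centralizer_iff.1 (D.le B' (hB'.trans hE) hBc' hy.2).2 g hg
          have hm := hRR (Subgroup.commutator_mem_commutator ha.1 hy.1)
          have hgm : g * ⁅a, y⁆ = ⁅a, y⁆ * g := Subgroup.mem_centralizer_iff.1 (hME hm) g (hB' hg)
          have h1 : ⁅g * a * g⁻¹, y⁆ = ⁅a, y⁆ := by
            calc ⁅g * a * g⁻¹, y⁆ = g * ⁅a, g⁻¹ * y * g⁆ * g⁻¹ := by
                  rw [commutatorElement_def, commutatorElement_def]; group
              _ = g * ⁅a, y⁆ * g⁻¹ := by rw [mul_assoc g⁻¹ y g, ← hgy, inv_mul_cancel_left]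
              _ = ⁅a, y⁆ := by rw [hgm, mul_inv_cancel_right]
          have h2 := hcm _ hd _ hga y hy.1
          rw [show ⁅a, g⁆ * (g * a * g⁻¹) = a by rw [commutatorElement_def]; group, h1] at h2
          exact mul_eq_right.1 h2.symm
        have hn'y : n' * y = y * n' := Subgroup.mem_centralizer_singleton_iff.1 (hny hn')
        rw [mul_assoc, hcy, ← mul_assoc, hn'y, mul_assoc]
      have hR₀c : R₀ ≤ Subgroup.centralizer (R₀ : Set G) := by
        conv_lhs => rw [hR₀]
        refine iSup_le fun B x hx => ?_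
        have : R₀ ≤ Subgroup.centralizer ({x} : Set G) := hR₀ ▸ iSup_le fun B' y hy =>
          Subgroup.mem_centralizer_singleton_iff.2 (hcomm2 B' B'.2.1 B'.2.2 B B.2.1 B.2.2 y hy x hx)
        exact Subgroup.mem_centralizer_iff.2 fun y hy => Subgroup.mem_centralizer_singleton_iff.1 (this hy)
      have hRE : E ≤ Subgroup.normalizer (R : Set G) := hmn R E
      have hRgen : R ≤ M ⊔ R₀ := by
        conv_lhs => rw [← Solv.gen_eq E R (elab_le D.hA hE).1 hRE (hcoK E R hE hRH)]
        refine iSup₂_le fun B hB x hx => ?_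
        have hBcard : p ^ k ≤ Nat.card B := by
          have h1 := card_le_mul_of_cycQuot (p := p) (elab_le D.hA hE) hB
          rw [hEc, pow_succ'] at h1
          exact Nat.le_of_mul_le_mul_left h1 hp.out.pos
        obtain ⟨B₁, -, hB₁, hB₁c⟩ := exists_card_between (p := p) D.hA (hB.1.trans hE)
          (bot_le : (⊥ : Subgroup G) ≤ B) (n := 0) (by rw [Subgroup.card_bot, pow_zero]) (Nat.zero_le k) hBcard
        obtain ⟨r, hr, hrx⟩ := hsplit B₁ (hB₁.trans hB.1) hB₁c x hx.1
          (Subgroup.centralizer_le (show (B₁ : Set G) ⊆ B from hB₁) hx.2)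
        have := mul_mem (Subgroup.mem_sup_right (hle0 _ (hB₁.trans hB.1) hB₁c hr) : r ∈ M ⊔ R₀)
          (Subgroup.mem_sup_left hrx)
        rwa [mul_inv_cancel_left] at this
      have hRc : IsMulCommutative R := by
        have hle : M ⊔ R₀ ≤ Subgroup.centralizer ((M ⊔ R₀ : Subgroup G) : Set G) := by
          refine Subgroup.le_centralizer_iff.1 (sup_le ?_ ?_)
          · refine Subgroup.le_centralizer_iff.1 (sup_le (fun m hm => ?_) (fun r hr => ?_))
            · exact Subgroup.mem_centralizer_iff.2 fun a ha => hMc a ha m hm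
            · exact Subgroup.mem_centralizer_iff.2 fun a ha => hMH' r (hRH (hR₀R hr)) a ha
          · refine Subgroup.le_centralizer_iff.1 (sup_le (fun m hm => ?_) hR₀c)
            exact Subgroup.mem_centralizer_iff.2 fun a ha => (hMH' a (hRH (hR₀R ha)) m hm).symm
        exact ⟨⟨fun a b => Subtype.ext
          (Subgroup.mem_centralizer_iff.1 (hle (hRgen b.2)) a (hRgen a.2))⟩⟩
      -- R₀ meets M trivially
      have hR₀M : ∀ x ∈ R₀, x ∈ M → x = 1 := by
        obtain ⟨K₁, hK₁⟩ : ∃ K₁, K₁ = R ⊓ θ F ⊓ Subgroup.centralizer (E : Set G) := ⟨_, rfl⟩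
        have hKle : R₀ ≤ K₁ ⊔ ⁅R, E⁆ := by
          rw [hR₀]
          refine iSup_le fun B x hx => ?_
          obtain ⟨n', hn', c, hc, rfl⟩ := Solv.exists_commutator_mul_fixed (A := E) (K := R ⊓ θ B)
            (Solv.normalizer_smul_inf hRE (hE.trans (D.inv B (B.2.1.trans hE) B.2.2)))
            (hcoK E _ hE (inf_le_left.trans hRH)) (Or.inl (hsolB E hE)) hx
          refine mul_mem (Subgroup.mem_sup_right (Subgroup.commutator_mono inf_le_left le_rfl hn'))
            (Subgroup.mem_sup_left ?_)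
          rw [hK₁]
          exact ⟨⟨hc.1.1, D.bal B (B.2.1.trans hE) B.2.2 F hFA hFc ⟨hc.1.2, hEC F hFE hc.2⟩⟩, hc.2⟩
        intro x hx hxM
        have hDK : ⁅R, E⁆ ≤ Subgroup.normalizer (K₁ : Set G) := fun d hd => by
          refine (Subgroup.centralizer_le_normalizer _) (Subgroup.mem_centralizer_iff.2 fun y hy => ?_)
          rw [hK₁] at hy
          exact congrArg Subtype.val
            (hRc.1.1 ⟨y, hy.1.1⟩ ⟨d, Subgroup.commutator_le_left R E hd⟩)
        have hxK := hKle hx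
        rw [← SetLike.mem_coe, Subgroup.coe_mul_of_right_le_normalizer_left K₁ _ hDK] at hxK
        obtain ⟨y, hy, d, hd, rfl⟩ := hxK
        rw [SetLike.mem_coe, hK₁] at hy
        have hdE : d ∈ Subgroup.centralizer (E : Set G) := by
          have := mul_mem (inv_mem (Subgroup.mem_inf.1 hy).2) (hME hxM)
          rwa [inv_mul_cancel_left] at this
        haveI : ((⊥ : Subgroup G).subgroupOf E).Normal := by rw [Subgroup.bot_subgroupOf]; infer_instance
        have hd1 : d = 1 := Fusion.eq_one_of_fixed_commutator (A := R) (N := E) (N₀ := ⊥) hRc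
          (fun n hn a _ => by rw [Subgroup.mem_bot.1 hn]; group)
          (by rw [Subgroup.relIndex_bot_left]; exact (hcoK E R hE hRH).symm) hd
          (fun n hn => by rw [Subgroup.mem_centralizer_iff.1 hdE n hn]; group)
        show y * d = 1
        have hxM' : y * d ∈ M := hxM
        rw [hd1, mul_one] at hxM' ⊢
        exact hθM F hFE hFc y hy.1.2 hxM'
      have hAR₀ : A ≤ Subgroup.normalizer (R₀ : Set G) := by
        rw [hR₀]
        intro a ha
        refine Solv.mem_normalizer_of_conj_smul ?_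
        rw [Solv.conj_smul_eq_map, Subgroup.map_iSup]
        refine iSup_congr fun B => ?_
        rw [← Solv.conj_smul_eq_map]
        exact Solv.conj_smul_of_mem_normalizer
          (Solv.normalizer_smul_inf (hmn R A) (D.inv B (B.2.1.trans hE) B.2.2) ha)
      have hMR₀n : R₀ ≤ Subgroup.normalizer (M : Set G) := hmn M R₀
      have hdecR : ∀ y ∈ R, ∃ m ∈ M, ∃ r ∈ R₀, y = m * r := fun y hy => by
        have := hRgen hy
        rw [← SetLike.mem_coe, Subgroup.coe_mul_of_right_le_normalizer_left M _ hMR₀n] at this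
        obtain ⟨m, hm, r, hr, rfl⟩ := this
        exact ⟨m, hm, r, hr, rfl⟩
      have hθR₀ : ∀ B ≤ E, Nat.card B = p ^ k → θ B ≤ Subgroup.normalizer (R₀ : Set G) := by
        intro B hB hBc h hh
        have hBA : B ≤ A := hB.trans hE
        have hRB : ⁅R, B⁆ ≤ R₀ := Subgroup.commutator_le.2 fun y hy g hg => by
          obtain ⟨m, hm, r, hr, rfl⟩ := hdecR y hy
          have hgm : g * m = m * g := Subgroup.mem_centralizer_iff.1 (hME hm) g (hB hg)
          have hgr : g * r⁻¹ * g⁻¹ ∈ R₀ :=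
            (Subgroup.mem_normalizer_iff.1 (hAR₀ (hBA hg)) r⁻¹).1 (inv_mem hr)
          have h1 : ⁅m * r, g⁆ = m * (r * (g * r⁻¹ * g⁻¹)) * (g * m⁻¹ * g⁻¹) := by
            rw [commutatorElement_def]; group
          have h2 : g * m⁻¹ * g⁻¹ = m⁻¹ := by
            rw [(show Commute g m from hgm).inv_right.eq, mul_inv_cancel_right]
          rw [h1, h2, hMH' _ (hRH (hR₀R (mul_mem hr hgr))) m hm, mul_inv_cancel_right]
          exact mul_mem hr hgr
        obtain ⟨hhH, hhC⟩ := Subgroup.mem_inf.1 (D.le B hBA hBc hh)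
        have hn1 : h ∈ Subgroup.normalizer ((⁅R, B⁆ : Subgroup G) : Set G) := by
          refine Solv.mem_normalizer_of_conj_smul ?_
          rw [Solv.conj_smul_eq_map, Subgroup.map_commutator, ← Solv.conj_smul_eq_map,
            ← Solv.conj_smul_eq_map, Solv.conj_smul_of_mem_normalizer (hmn R ⊤ (Subgroup.mem_top h)),
            Solv.conj_smul_of_mem_normalizer (Subgroup.centralizer_le_normalizer _ hhC)]
        have hn2 : h ∈ Subgroup.normalizer ((R ⊓ θ B : Subgroup G) : Set G) :=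
          Solv.normalizer_smul_inf (A := Subgroup.zpowers h) (hmn R _)
            (Subgroup.zpowers_le.2 (D.norm B hBA hBc ⟨hhH, hhC⟩)) (Subgroup.mem_zpowers h)
        refine Solv.mem_normalizer_of_conj_smul ?_
        refine Subgroup.eq_of_le_of_card_ge ?_ (by rw [Solv.card_conj_smul])
        rw [Solv.conj_smul_eq_map]
        rintro _ ⟨q, hq, rfl⟩
        obtain ⟨n', hn', c, hc, rfl⟩ := Solv.exists_commutator_mul_fixed (A := B) (K := R)
          (hmn R B) (hcoK B R hBA hRH) (Or.inl (hsolB B hBA)) (hR₀R hq)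
        obtain ⟨r, hr, hrc⟩ := hsplit B hB hBc c hc.1 hc.2
        have hrc1 : r⁻¹ * c = 1 := hR₀M _ (mul_mem (inv_mem (hle0 B hB hBc hr))
          (by have := mul_mem (inv_mem (hRB hn')) hq; rwa [inv_mul_cancel_left] at this)) hrc
        obtain rfl := inv_mul_eq_one.1 hrc1
        show h * (n' * r) * h⁻¹ ∈ R₀
        rw [show h * (n' * r) * h⁻¹ = (h * n' * h⁻¹) * (h * r * h⁻¹) by group]
        exact mul_mem (hRB ((Subgroup.mem_normalizer_iff.1 hn1 _).1 hn'))
          (hle0 B hB hBc ((Subgroup.mem_normalizer_iff.1 hn2 _).1 hr))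
      haveI : R₀.Normal := by
        rw [← Subgroup.normalizer_eq_top_iff, eq_top_iff, ← htop]
        exact sup_le ((D.gen E hE hEc).trans (iSup_le fun B => hθR₀ B B.2.1 B.2.2)) hAR₀
      have hR₀b : R₀ ≠ ⊥ := fun e => hMR.not_ge (hRgen.trans (by rw [e, sup_bot_eq]))
      obtain ⟨m, hm, hm1⟩ := (M.ne_bot_iff_exists_ne_one.1 hMb) |> fun ⟨⟨m, hm⟩, h1⟩ =>
        (⟨m, hm, fun e => h1 (Subtype.ext e)⟩ : ∃ m ∈ M, m ≠ 1)
      have hmF : m ∈ Subgroup.centralizer (F : Set G) := hEC F hFE (hME hm)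
      obtain ⟨y, hy, hym⟩ := step (fun G' _ _ A' H' θ' hlt' => ih G' A' H' θ' hlt')
        (Nat.lt_succ_iff.1 hn) htop D R₀ (hR₀R.trans hRH) hR₀b hFA hFc (hMH hm) hmF
      have hyR : y ∈ R := by
        have := mul_mem (hMR.le hm) (inv_mem (hR₀R hym))
        rwa [show m * (y⁻¹ * m)⁻¹ = y by group] at this
      have := mul_mem (hle0 F hFE hFc ⟨hyR, hy⟩) hym
      rw [mul_inv_cancel_left] at this
      exact hm1 (hR₀M m this hm)
    intro x hx
    obtain ⟨hxH, hxF⟩ := Subgroup.mem_inf.1 hx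
    obtain ⟨y, hy, hym⟩ := step (fun G' _ _ A' H' θ' hlt' => ih G' A' H' θ' hlt')
      (Nat.lt_succ_iff.1 hn) htop D M hMH hMb hF₀ hF₀c hxH hxF
    have hymF : y⁻¹ * x ∈ M ⊓ Subgroup.centralizer (F₀ : Set G) :=
      Subgroup.mem_inf.2 ⟨hym, mul_mem (inv_mem (Subgroup.mem_inf.1 (D.le F₀ hF₀ hF₀c hy)).2) hxF⟩
    suffices hle : M ⊓ Subgroup.centralizer (F₀ : Set G) ≤ θ F₀ by
      have := mul_mem hy (hle hymF)
      rwa [mul_inv_cancel_left] at this
    conv_lhs => rw [← Solv.gen_eq A _ hAc (le_normalizer_inf_cent D.hA hF₀ (hmn M A))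
      (hcoK A _ le_rfl (inf_le_left.trans hMH))]
    refine iSup₂_le fun B hB z hz => ?_
    have hBcard : p ^ (k + 1) ≤ Nat.card (F₀ ⊔ B : Subgroup G) := by
      have h1 := card_le_mul_of_cycQuot (p := p) D.hA hB
      have h2 : p * p ^ (k + 1) ≤ p * Nat.card B := by
        rw [← pow_succ']; exact D.hAk.trans h1
      exact (Nat.le_of_mul_le_mul_left h2 hp.out.pos).trans
        (Nat.le_of_dvd Nat.card_pos (Subgroup.card_dvd_of_le le_sup_right))
    obtain ⟨E, hFE, hEle, hEc⟩ := exists_card_between (p := p) D.hA (sup_le hF₀ hB.1)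
      (le_sup_left : F₀ ≤ F₀ ⊔ B) hF₀c (Nat.le_succ k) hBcard
    refine key E (hEle.trans (sup_le hF₀ hB.1)) hEc F₀ hFE hF₀c ⟨hz.1.1, ?_⟩
    have hzc : Subgroup.zpowers z ≤ Subgroup.centralizer ((F₀ ⊔ B : Subgroup G) : Set G) := by
      refine Subgroup.le_centralizer_iff.1 (sup_le ?_ ?_) <;> refine Subgroup.le_centralizer_iff.1 ?_
      · exact Subgroup.zpowers_le.2 hz.1.2
      · exact Subgroup.zpowers_le.2 hz.2
    exact Subgroup.centralizer_le (show (E : Set G) ⊆ (F₀ ⊔ B : Subgroup G) from hEle)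
      (hzc (Subgroup.mem_zpowers z))

/-- The conclusion without normality. -/
theorem fixed_le {A H : Subgroup G} {θ : Subgroup G → Subgroup G} (D : Data p k A H θ)
    {F : Subgroup G} (hF : F ≤ A) (hFc : Nat.card F = p ^ k) :
    H ⊓ Subgroup.centralizer (F : Set G) ≤ θ F := by
  obtain ⟨X, hX⟩ : ∃ X, X = H ⊔ A := ⟨_, rfl⟩
  have hHX : H ≤ X := hX ▸ le_sup_left
  have hAX : A ≤ X := hX ▸ le_sup_right
  haveI : (H.subgroupOf X).Normal := (Subgroup.normal_subgroupOf_iff_le_normalizer hHX).2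
    (hX ▸ sup_le Subgroup.le_normalizer D.nrm)
  let θ' : Subgroup X → Subgroup X := fun B => (θ (B.map X.subtype)).subgroupOf X
  have hmap : ∀ B : Subgroup X, B ≤ A.subgroupOf X → B.map X.subtype ≤ A := fun B hB => by
    rintro _ ⟨b, hb, rfl⟩; exact hB hb
  have hcard : ∀ B : Subgroup X, Nat.card (B.map X.subtype) = Nat.card B := fun B =>
    Solv.card_map_subtype B
  have hsub : ∀ (K : Subgroup G) (B : Subgroup X),
      (K.subgroupOf X) ⊓ Subgroup.centralizer (B : Set X) =
        (K ⊓ Subgroup.centralizer ((B.map X.subtype : Subgroup G) : Set G)).subgroupOf X := fun K B => by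
    ext y
    simp only [Subgroup.mem_inf, Subgroup.mem_subgroupOf, Subgroup.mem_centralizer_iff]
    refine and_congr_right fun _ => ⟨?_, fun h b hb => Subtype.ext (h _ ⟨b, hb, rfl⟩)⟩
    rintro h _ ⟨b, hb, rfl⟩
    exact congrArg Subtype.val (h b hb)
  have hnorm : ∀ {K L : Subgroup G}, K ≤ Subgroup.normalizer (L : Set G) →
      K.subgroupOf X ≤ Subgroup.normalizer ((L.subgroupOf X : Subgroup X) : Set X) := by
    intro K L h x hx
    rw [Subgroup.mem_normalizer_iff]
    exact fun y => Subgroup.mem_normalizer_iff.1 (h hx) (y : G)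
  have hle : ∀ B : Subgroup X, B ≤ A.subgroupOf X → Nat.card B = p ^ k →
      θ (B.map X.subtype) ≤ X := fun B hB hBc =>
    ((D.le _ (hmap B hB) ((hcard B).trans hBc)).trans inf_le_left).trans hHX
  have D' : Data p k (A.subgroupOf X) (H.subgroupOf X) θ' := by
    refine ⟨⟨⟨⟨fun a b => Subtype.ext (Subtype.ext (elab_comm D.hA a.2 b.2))⟩⟩,
      fun a ha => Subtype.ext (by simpa using D.hA.2 _ ha)⟩,
      by rw [Solv.card_subgroupOf hAX]; exact D.hAk, hnorm D.nrm,
      by rw [Solv.card_subgroupOf hHX]; exact D.cop,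
      Solv.isSolvable_subgroupOf hHX D.sol, ?_, ?_, ?_, ?_, ?_⟩
    · intro B hB hBc
      rw [hsub]
      exact fun x hx => D.le _ (hmap B hB) ((hcard B).trans hBc) hx
    · exact fun B hB hBc => hnorm (D.inv _ (hmap B hB) ((hcard B).trans hBc))
    · intro B hB hBc
      rw [hsub]
      exact hnorm (D.norm _ (hmap B hB) ((hcard B).trans hBc))
    · intro B hB hBc B' hB' hBc'
      rw [hsub]
      exact fun x hx => D.bal _ (hmap B hB) ((hcard B).trans hBc) _ (hmap B' hB')
        ((hcard B').trans hBc') hx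
    · intro E hE hEc
      have h := D.gen _ (hmap E hE) ((hcard E).trans hEc)
      rw [← Subgroup.map_le_map_iff_of_injective X.subtype_injective,
        Subgroup.map_subgroupOf_eq_of_le hHX]
      refine h.trans (iSup_le fun B => ?_)
      have hBX : (B : Subgroup G) ≤ X := B.2.1.trans ((hmap E hE).trans hAX)
      have hBE : (B : Subgroup G).subgroupOf X ≤ E := fun b hb => by
        obtain ⟨e, he, hbe⟩ := B.2.1 hb
        exact (Subtype.ext hbe : e = b) ▸ he
      refine le_trans ?_ (Subgroup.map_mono (le_iSup (fun B : {F : Subgroup X // F ≤ E ∧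
        Nat.card F = p ^ k} => θ' B) ⟨_, hBE, by rw [Solv.card_subgroupOf hBX]; exact B.2.2⟩))
      show θ B ≤ ((θ _).subgroupOf X).map X.subtype
      rw [Subgroup.map_subgroupOf_eq_of_le hBX, Subgroup.map_subgroupOf_eq_of_le
        (((D.le _ (B.2.1.trans (hmap E hE)) B.2.2).trans inf_le_left).trans hHX)]
  have htop : H.subgroupOf X ⊔ A.subgroupOf X = ⊤ := by
    rw [← Subgroup.subgroupOf_sup hHX hAX, Subgroup.subgroupOf_eq_top, hX]
  intro x hx
  have hres := main (p := p) (k := k) _ X _ _ θ' (Nat.lt_succ_self _) inferInstance htop D'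
    (F.subgroupOf X) (fun y hy => hF hy) (by rw [Solv.card_subgroupOf (hF.trans hAX)]; exact hFc)
    (x := ⟨x, hHX hx.1⟩) (by
      rw [hsub, Subgroup.map_subgroupOf_eq_of_le (hF.trans hAX)]
      exact hx)
  rwa [show θ' (F.subgroupOf X) = (θ F).subgroupOf X by
    show (θ _).subgroupOf X = _
    rw [Subgroup.map_subgroupOf_eq_of_le (hF.trans hAX)]] at hres

end Cfsg.Agent.KBal
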