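import Mathlib
import Cfsg.Prelude.Def_Amalgam
import Cfsg.Agent.Lib.Fusion.NotStable
import Cfsg.Agent.Lib.Fusion.WeakClosureFunctor
import Cfsg.Agent.Lib.Fusion.Sections
import Cfsg.Agent.Lib.Fusion.SubgroupMap

/-!
# K-infinity subgroups as conjugacy functors on subgroups
-/

set_option autoImplicit false

open scoped commutatorElement

universe u

namespace Cfsg.Agent.Fusion

variable {G : Type u} [Group G] [Finite G] {p : ℕ}

theorem zOf_le_inducedFunctor_kInfLower [Fact p.Prime] (P : Subgroup G) (hP : IsPGroup p P) :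
    P ⊓ Subgroup.centralizer (P : Set G) ≤ inducedFunctor kInfLower P := by
  have : Group.IsNilpotent P := hP.isNilpotent
  intro x hx
  exact ⟨⟨x, hx.1⟩, center_le_kInfLower (Subgroup.mem_center_iff.2 fun y =>
    Subtype.ext (Subgroup.mem_centralizer_iff.1 hx.2 y y.2)), rfl⟩

variable [hp : Fact p.Prime]

/-- The element given by a non-normal lower K-infinity subgroup, relative to a subgroup. -/
theorem kInfLower_element_in {H T : Subgroup G} (hT : SylIn p T H)
    (hn : ¬ H ≤ Subgroup.normalizer (inducedFunctor kInfLower T : Set G)) :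
    ∃ g, g ∈ T ∧ g ∉ pCoreOf p H ∧
      (∀ U V : Subgroup H, IsChiefFactor U V → U.map H.subtype ≤ pCoreOf p H →
        iterCommutator (U.map H.subtype) (Subgroup.zpowers g) 4 ≤ V.map H.subtype) ∧
      ⁅⁅pCoreOf p H ⊓ Subgroup.centralizer (pCoreOf p H : Set G), Subgroup.zpowers g⁆,
        Subgroup.zpowers g⁆ = ⊥ := by
  set T' := T.subgroupOf H
  have hT' : SylIn p T' (⊤ : Subgroup H) :=
    ⟨le_top, hT.isPGroup.comap_subtype, by rw [Subgroup.relIndex_top_right]; exact hT.not_dvd⟩
  have hmap : (inducedFunctor kInfLower T').map H.subtype = inducedFunctor kInfLower T := by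
    rw [← inducedFunctor_map_of_injOn (isCharPFunctor_kInfLower p) H.subtype
      H.subtype_injective.injOn hT'.isPGroup, Subgroup.map_subgroupOf_eq_of_le hT.le]
  have hK : ¬ (inducedFunctor kInfLower T').Normal := fun hN => hn fun h hh => by
    rw [mem_normalizer_iff_cj, ← hmap]
    have h1 := congrArg (Subgroup.map H.subtype) (cj_of_normal (inducedFunctor kInfLower T') ⟨h, hh⟩)
    rw [cj, Subgroup.map_map] at h1
    rw [cj, Subgroup.map_map]
    exact h1
  obtain ⟨g, hg, hgO, hch, hq, -⟩ := exists_kInf_element hT' (Or.inl hK)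
  refine ⟨g, hg, fun h => hgO ?_, fun U V hc hU => ?_, ?_⟩
  · obtain ⟨y, hy, hyg⟩ := h
    exact Subtype.ext hyg ▸ hy
  · have h1 := hch U V hc (fun x hx => by
      obtain ⟨y, hy, hyx⟩ := hU ⟨x, hx, rfl⟩
      exact Subtype.ext hyx ▸ hy)
    have h2 := Subgroup.map_mono (f := H.subtype) h1
    rwa [iterCommutator_map, MonoidHom.map_zpowers] at h2
  · have h2 := congrArg (Subgroup.map H.subtype) hq
    rwa [Subgroup.map_commutator, Subgroup.map_commutator, Subgroup.map_bot,
      map_subtype_inf_centralizer, MonoidHom.map_zpowers] at h2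

end Cfsg.Agent.Fusion
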