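import Cfsg.Agent.Lib.Fusion.LBalanceTwoApply
import Cfsg.Agent.Lib.Fusion.CoreBalanceTwo
import Cfsg.Agent.Lib.Fusion.BpBalanceTools

/-!
# Balance of the extended 2-layer
-/

set_option autoImplicit false
set_option linter.style.haveILetI false

open Cfsg Cfsg.Agent Cfsg.Agent.Fusion

namespace Cfsg.Agent.LBal

universe u v

variable {X : Type u} [Group X] [Finite X]

/-- The core of a subgroup of `C(R)` normalized by `C(R)` lies in the extended 2-layer. -/
theorem core_le_extended {R S : Subgroup X} (hR : IsPGroup 2 R)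
    (hS : S ≤ Subgroup.centralizer (R : Set X))
    (hn : Subgroup.centralizer (R : Set X) ≤ Subgroup.normalizer (S : Set X)) :
    (Cfsg.pPrimeCore 2 S).map S.subtype ≤ Cfsg.extendedTwoLayer X := by
  haveI : Fact (Nat.Prime 2) := ⟨Nat.prime_two⟩
  refine le_trans ?_ (core_balance hR)
  have hle : (Cfsg.pPrimeCore 2 S).map S.subtype ≤ Subgroup.centralizer (R : Set X) :=
    (Subgroup.map_subtype_le _).trans hS
  haveI := (Subgroup.normal_subgroupOf_iff_le_normalizer hle).2 (hn.trans (LocBal.normalizer_le_map_core S))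
  rw [← Subgroup.map_subgroupOf_eq_of_le hle]
  refine Subgroup.map_mono (le_pPrimeCore ?_)
  rw [Nat.card_congr (Subgroup.subgroupOfEquivOfLe hle).toEquiv,
    Subgroup.card_map_of_injective S.subtype_injective]
  exact card_pPrimeCore_coprime 2 S

/-- The extended 2-layer of a normal subgroup of the centralizer of a 2-group lies in the extended 2-layer. -/
theorem extended_balance {W : Type v} [Group W] [Finite W] (f : W →* X) (hf : Function.Injective f)
    {R : Subgroup X} (hR : IsPGroup 2 R) (hW : f.range ≤ Subgroup.centralizer (R : Set X))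
    (hn : Subgroup.centralizer (R : Set X) ≤ Subgroup.normalizer (f.range : Set X)) :
    (Cfsg.extendedTwoLayer W).map f ≤ Cfsg.extendedTwoLayer X := by
  haveI : Fact (Nat.Prime 2) := ⟨Nat.prime_two⟩
  have hcore : ∀ A : Subgroup W, ((Cfsg.pPrimeCore 2 A).map A.subtype).map f =
      (Cfsg.pPrimeCore 2 (A.map f)).map (A.map f).subtype := fun A => by
    rw [← map_pPrimeCore_equiv (p := 2) (A.equivMapOfInjective f hf), Subgroup.map_map, Subgroup.map_map]
    rfl
  have hsn : ∀ {A B : Subgroup X}, A ≤ B → B ≤ Subgroup.normalizer (A : Set X) →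
      (A.subgroupOf B).IsSubnormal := fun hAB hB =>
    haveI := (Subgroup.normal_subgroupOf_iff_le_normalizer hAB).2 hB
    Subgroup.Normal.isSubnormal inferInstance
  rw [extendedTwoLayer_eq, Subgroup.map_sup, Subgroup.map_sup, Subgroup.map_iSup]
  refine sup_le (sup_le ?_ ?_) (iSup_le fun T => ?_)
  · refine le_trans ?_ (le_sup_of_le_left le_sup_left : Cfsg.pLayer 2 X ≤ Cfsg.extendedTwoLayer X)
    refine le_trans ?_ (pLayer_balance_two hR)
    refine le_trans ?_ (show sSup {L | Cfsg.IsPComponentOf 2 L (Subgroup.normalizer (R : Set X))} ≤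
      Cfsg.pLayerOf 2 (Subgroup.normalizer (R : Set X)) from (BpBal.pLayerOf_eq _).ge)
    rw [Cfsg.pLayer, Subgroup.map_le_iff_le_comap]
    refine sSup_le fun K hK => ?_
    rw [← Subgroup.map_le_iff_le_comap]
    obtain ⟨hKsn, hq⟩ := PComp.isPComponent_iff.1 hK
    have hKf : Cfsg.IsPComponentOf 2 (K.map f) f.range := by
      refine PComp.pcompOf_iff.2 ⟨fun z ⟨k, _, he⟩ => ⟨k, he⟩, ?_, hq.congr (K.equivMapOfInjective f hf)⟩
      have h1 := hKsn.map (f := f.rangeRestrict) f.rangeRestrict_surjective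
      convert h1 using 1
      ext z
      constructor
      · rintro ⟨k, hk, he⟩
        exact ⟨k, hk, Subtype.ext he⟩
      · rintro ⟨k, hk, rfl⟩
        exact ⟨k, hk, rfl⟩
    refine le_sSup (PComp.pcompOf_trans (PComp.pcompOf_trans hKf hW (hsn hW hn))
      (Subgroup.centralizer_le_normalizer _) (hsn (Subgroup.centralizer_le_normalizer _) fun s hs => ?_))
    exact mem_normalizer_of_cj_le (by rw [cj_centralizer, cj_eq_self hs])
  · have h1 : Cfsg.oddCore W = (Cfsg.pPrimeCore 2 (⊤ : Subgroup W)).map (⊤ : Subgroup W).subtype := by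
      rw [← map_pPrimeCore_equiv (p := 2) (Subgroup.topEquiv (G := W)).symm, Subgroup.map_map]
      ext z; simp
    rw [h1, hcore, ← MonoidHom.range_eq_map]
    exact core_le_extended hR hW hn
  · obtain ⟨T, hT⟩ := T
    have hR' : IsPGroup 2 (R ⊔ T.map f : Subgroup X) := hR.to_sup_of_normal_right' (hT.isPGroup.map f) (by
      refine fun r hr => Subgroup.centralizer_le_normalizer _ (Subgroup.mem_centralizer_iff.2 ?_)
      rintro _ ⟨t, _, rfl⟩
      exact (mem_cent (hW ⟨t, rfl⟩) hr).symm.eq)
    show ((Cfsg.pPrimeCore 2 _).map _).map f ≤ _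
    rw [hcore]
    refine core_le_extended hR' ?_ ?_
    · rintro _ ⟨w, hw, rfl⟩
      rw [Subgroup.mem_centralizer_iff]
      have h2 : R ⊔ T.map f ≤ Subgroup.centralizer ({f w} : Set X) := sup_le
        (fun r hr => Subgroup.mem_centralizer_singleton_iff.2 (mem_cent (hW ⟨w, rfl⟩) hr).eq)
        (by
          rintro _ ⟨t, ht, rfl⟩
          rw [Subgroup.mem_centralizer_singleton_iff, ← map_mul, ← map_mul, (mem_cent hw ht).eq])
      exact fun r hr => Subgroup.mem_centralizer_singleton_iff.1 (h2 hr)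
    · intro s hs
      have hsR : s ∈ Subgroup.centralizer (R : Set X) := Subgroup.centralizer_le (le_sup_left : R ≤ R ⊔ T.map f) hs
      have hsT : s ∈ Subgroup.centralizer ((T.map f : Subgroup X) : Set X) :=
        Subgroup.centralizer_le (le_sup_right : T.map f ≤ R ⊔ T.map f) hs
      refine mem_normalizer_of_cj_le ?_
      rintro _ ⟨_, ⟨w, hw, rfl⟩, rfl⟩
      obtain ⟨w', hw'⟩ := (Subgroup.mem_normalizer_iff.1 (hn hsR) (f w)).1 ⟨w, rfl⟩
      refine ⟨w', Subgroup.mem_centralizer_iff.2 fun t ht => hf ?_, hw'⟩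
      rw [map_mul, map_mul, hw']
      have c1 : Commute (f t) s := mem_cent hsT (Subgroup.mem_map_of_mem f ht)
      have c2 : Commute (f t) (f w) := (mem_cent hw ht).map f
      exact ((c1.mul_right c2).mul_right c1.inv_right).eq

end Cfsg.Agent.LBal
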