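import Cfsg.Agent.Lib.Fusion.PComponentUnique
import Cfsg.Agent.Lib.Fusion.LocalLayer
import Cfsg.Agent.Lib.Fusion.AB
import Cfsg.Agent.Lib.Fusion.KInf
import Cfsg.Agent.Lib.Fusion.NPC
import Cfsg.Prelude.Def_KGroupFacts

/-!
# Balance for the `p`-layer when the components have solvable outer automorphism groups
-/

set_option autoImplicit false
set_option linter.style.haveILetI false

open scoped commutatorElement

universe u

namespace Cfsg.Agent.Fusion

variable {X : Type u} [Group X] [Finite X] {p : ℕ} [hp : Fact p.Prime]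

omit [Finite X] hp in
theorem component_sSup_centralizes {s : Set (Subgroup X)} (hs : ∀ J ∈ s, Cfsg.IsComponent J) {J : Subgroup X}
    (hJ : Cfsg.IsComponent J) (hJs : J ∉ s) : sSup s ≤ Subgroup.centralizer (J : Set X) :=
  sSup_le fun K hK => Subgroup.commutator_eq_bot_iff_le_centralizer.1
    (Solv.components_commute (hs K hK) hJ fun h => hJs (h ▸ hK))

omit [Finite X] hp in
theorem layer_le_normalizer_component {J : Subgroup X} (hJ : Cfsg.IsComponent J) :
    Cfsg.layer X ≤ Subgroup.normalizer (J : Set X) := by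
  refine sSup_le fun K hK => ?_
  rcases eq_or_ne K J with rfl | hne
  · exact Subgroup.le_normalizer
  · exact (Subgroup.commutator_eq_bot_iff_le_centralizer.1 (Solv.components_commute hK hJ hne)).trans
      (Subgroup.centralizer_le_normalizer _)

omit hp in
theorem layer_center_le_pCore [Fact p.Prime] (h0 : Cfsg.pPrimeCore p X = ⊥) :
    Cfsg.layer X ⊓ Subgroup.centralizer (Cfsg.layer X : Set X) ≤ Cfsg.pCore p X := by
  haveI : (Cfsg.layer X).Normal := Local.layer_normal
  haveI : (Subgroup.centralizer (Cfsg.layer X : Set X)).Normal := Solv.centralizer_normal_of_normal _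
  set Z := Cfsg.layer X ⊓ Subgroup.centralizer (Cfsg.layer X : Set X) with hZ
  haveI : Z.Normal := Subgroup.normal_inf_normal _ _
  haveI : IsMulCommutative Z := ⟨⟨fun a b => Subtype.ext (Subgroup.mem_centralizer_iff.1 b.2.2 a a.2.1)⟩⟩
  letI : CommGroup Z := { (inferInstance : Group Z) with mul_comm := fun a b => mul_comm' a b }
  rw [← fitting_eq_pCore h0]
  exact Solv.subnormal_nilpotent_le_fitting (inferInstance : Z.Normal).isSubnormal inferInstance

/-- An element of order prime to `p` of a `p`-local subgroup: when it centralizes the fixed points on `O_p`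
and the fixed points on the layer modulo a `p'`-subgroup, it centralizes `O_p` and fixes every component. -/
theorem local_element_fixes (h0 : Cfsg.pPrimeCore p X = ⊥) {R O : Subgroup X} (hR : IsPGroup p R)
    (hO : O ≤ Subgroup.normalizer (R : Set X))
    (hON : Subgroup.normalizer (R : Set X) ≤ Subgroup.normalizer (O : Set X))
    (hOc : (Nat.card O).Coprime p) {g : X} (hgN : g ∈ Subgroup.normalizer (R : Set X))
    (hgR : ∀ r ∈ R, g * r = r * g) (hgp : (orderOf g).Coprime p)
    (hQ : ∀ q ∈ Cfsg.pCore p X, (∀ r ∈ R, q * r = r * q) → g * q = q * g)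
    (hW : ∀ w ∈ Cfsg.layer X, (∀ r ∈ R, w * r = r * w) → ⁅g, w⁆ ∈ O) :
    g ∈ Subgroup.centralizer (Cfsg.pCore p X : Set X) ∧
      ∀ J : Subgroup X, Cfsg.IsComponent J → g ∈ Subgroup.normalizer (J : Set X) := by
  have hcQ : g ∈ Subgroup.centralizer (Cfsg.pCore p X : Set X) :=
    mem_centralizer_of_AB (isPGroup_pCore p X) hR (by rw [Subgroup.normalizer_eq_top]; exact le_top)
      (by rw [Subgroup.normalizer_eq_top]; trivial) hgR hgp hQ
  refine ⟨hcQ, fun J hJ => ?_⟩
  set E := Cfsg.layer X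
  haveI hEn : E.Normal := Local.layer_normal
  -- the orbit of `J` under `R`
  set Δ : Set (Subgroup X) := {J' | ∃ r ∈ R, cj J r = J'} with hΔ
  have hΔc : ∀ J' ∈ Δ, Cfsg.IsComponent J' := by
    rintro _ ⟨r, -, rfl⟩
    exact Solv.component_conj hJ r
  by_cases hgJ : cj J g ∈ Δ
  · obtain ⟨r, hr, he⟩ := hgJ
    have hpow : ∀ n : ℕ, cj J (g ^ n) = cj J (r ^ n) := by
      intro n
      induction n with
      | zero => simp [cj_one]
      | succ n ih =>
        have hc : Commute (r ^ n) g := ((show Commute g r from hgR r hr).symm).pow_left n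
        rw [pow_succ' g, ← cj_cj, ih, cj_cj, ← hc.eq, ← cj_cj, ← he, cj_cj, ← pow_succ]
    obtain ⟨k, hk⟩ := hR ⟨r, hr⟩
    have h1 : g ^ p ^ k ∈ Subgroup.normalizer (J : Set X) := mem_normalizer_iff_cj.2 (by
      rw [hpow, show r ^ p ^ k = 1 from congrArg Subtype.val hk, cj_one])
    obtain ⟨m, hm⟩ := exists_pow_eq_self_of_coprime (x := g) (n := p ^ k)
      (Nat.Coprime.symm (hgp.pow_right k))
    exact hm ▸ pow_mem h1 m
  exfalso
  -- a `p`-element of the orbit product, fixed by `R` modulo the centre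
  set Z := E ⊓ Subgroup.centralizer (E : Set X) with hZ
  have hZQ : Z ≤ Cfsg.pCore p X := layer_center_le_pCore h0
  set EΔ := sSup Δ with hEΔ
  have hEΔE : EΔ ≤ E := sSup_le fun J' hJ' => Solv.component_le_layer (hΔc J' hJ')
  have hJEΔ : J ≤ EΔ := le_sSup (show J ∈ Δ from ⟨1, one_mem R, cj_one J⟩)
  have hREΔ : R ≤ Subgroup.normalizer (EΔ : Set X) := fun s hs => mem_normalizer_of_cj_le
    (Subgroup.map_le_iff_le_comap.2 (sSup_le fun J' hJ' => Subgroup.map_le_iff_le_comap.1 (le_sSup (by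
      obtain ⟨r, hr, rfl⟩ := hJ'
      exact ⟨s * r, R.mul_mem hs hr, (cj_cj J r s).symm⟩))))
  obtain ⟨S, hS, hRS⟩ := exists_sylIn_ge hR (le_sup_right : R ≤ EΔ ⊔ R)
  have hT := hS.inf_normal (le_sup_left : EΔ ≤ EΔ ⊔ R) (sup_le Subgroup.le_normalizer hREΔ)
  set T := S ⊓ EΔ with hTdef
  have hRT : R ≤ Subgroup.normalizer (T : Set X) := fun s hs => mem_normalizer_of_cj_le (by
    rw [hTdef, cj_inf, cj_eq_self_of_mem (hRS hs), cj_eq_self (hREΔ hs)])
  have hTZ : ¬ T ≤ Z := by
    intro hle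
    have hJn : EΔ ≤ Subgroup.normalizer (J : Set X) := hEΔE.trans (layer_le_normalizer_component hJ)
    obtain ⟨T₀, hT₀⟩ := (hT.inf_normal hJEΔ hJn).exists_sylow_subgroupOf
    obtain ⟨S₁, W, hWn, hWc⟩ := hnpc_of_normalizer_le_centralizer T₀ (fun c _ => by
      refine Subgroup.mem_centralizer_iff.2 fun z hz => Subtype.ext ?_
      have hz' : (z : X) ∈ Z :=
        hle (Subgroup.mem_subgroupOf.1 (hT₀ ▸ hz : z ∈ (T ⊓ J).subgroupOf J)).1
      exact (Subgroup.mem_centralizer_iff.1 hz'.2 c (Solv.component_le_layer hJ c.2)).symm)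
    haveI := hWn
    have hWcard : (Nat.card W).Coprime p := by
      refine ((Nat.Prime.coprime_iff_not_dvd hp.out).2 ?_).symm
      rw [← hWc.index_eq_card]
      exact S₁.not_dvd_index
    haveI := Solv.qs_nontrivial hJ.2
    have hJW : J ≤ W.map J.subtype := by
      refine le_of_pPrime_elements (p := p) hJ.2.1 fun x hx hxp => ⟨⟨x, hx⟩, ?_, rfl⟩
      refine (QuotientGroup.eq_one_iff _).1 (orderOf_eq_one_iff.1 ?_)
      obtain ⟨j, hj⟩ := S₁.isPGroup'.exists_card_eq
      refine Nat.eq_one_of_dvd_coprimes (hxp.pow_right j) ?_ (b := p ^ j) ?_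
      · rw [← Subgroup.orderOf_mk x hx]; exact orderOf_map_dvd (QuotientGroup.mk' W) _
      · rw [← hj, ← hWc.symm.index_eq_card, Subgroup.index_eq_card]; exact orderOf_dvd_natCard _
    have hJc : (Nat.card J).Coprime p := hWcard.coprime_dvd_left (by
      rw [← Subgroup.card_map_of_injective J.subtype_injective (K := W)]
      exact Subgroup.card_dvd_of_le hJW)
    exact Solv.qs_ne_bot hJ.2 (le_bot_iff.1 ((piPrime_of_subnormal hJ.1 hJc).trans h0.le))
  set P := R ⊔ T
  have hPp : IsPGroup p P := hR.to_sup_of_normal_right' hT.isPGroup hRT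
  haveI : Group.IsNilpotent P := hPp.isNilpotent
  obtain ⟨⟨x, hxP⟩, hxT, hxZ, hxc⟩ := exists_fixed_mod (N := Z.subgroupOf P) (C := T.subgroupOf P) (Q := ⊤)
    (fun q _ => by
      have hq : (q : X) ∈ Subgroup.normalizer (T : Set X) := sup_le hRT Subgroup.le_normalizer q.2
      exact Subgroup.mem_normalizer_iff.2 fun t => Subgroup.mem_normalizer_iff.1 hq (t : X))
    (fun h => hTZ fun t ht => h (show (⟨t, Subgroup.mem_sup_right ht⟩ : P) ∈ T.subgroupOf P from ht))
  replace hxT : x ∈ T := hxT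
  replace hxZ : x ∉ Z := hxZ
  replace hxc : ∀ r ∈ R, ⁅x, r⁆ ∈ Z := fun r hr => hxc ⟨r, Subgroup.mem_sup_left hr⟩ trivial
  have hxE : x ∈ EΔ := hxT.2
  set y := g * x * g⁻¹ with hy
  set Δ' : Set (Subgroup X) := (fun J' => cj J' g) '' Δ
  have hΔ'c : ∀ J' ∈ Δ', Cfsg.IsComponent J' := by
    rintro _ ⟨J', hJ', rfl⟩
    exact Solv.component_conj (hΔc J' hJ') g
  have hdisj : ∀ J' ∈ Δ', J' ∉ Δ := by
    rintro _ ⟨_, ⟨r, hr, rfl⟩, rfl⟩ ⟨s, hs, he⟩
    refine hgJ ⟨r⁻¹ * s, R.mul_mem (R.inv_mem hr) hs, ?_⟩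
    rw [← cj_cj, he, cj_cj, cj_cj, mul_assoc, hgR r hr, inv_mul_cancel_left]
  have hyE : y ∈ sSup Δ' := by
    have h1 : cj EΔ g ≤ sSup Δ' := Subgroup.map_le_iff_le_comap.2 (sSup_le fun J' hJ' =>
      Subgroup.map_le_iff_le_comap.1 (le_sSup (show cj J' g ∈ Δ' from ⟨J', hJ', rfl⟩)))
    exact h1 ⟨x, hxE, rfl⟩
  have hxy : Commute y x := by
    have h1 : sSup Δ' ≤ Subgroup.centralizer (EΔ : Set X) := by
      refine sSup_le fun J' hJ' => ?_
      rw [Subgroup.le_centralizer_iff]
      exact component_sSup_centralizes hΔc (hΔ'c J' hJ') (hdisj J' hJ')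
    exact (Subgroup.mem_centralizer_iff.1 (h1 hyE) x hxE).symm
  -- `w` is a fixed point of `R`
  set w := y * x⁻¹ with hw
  have hgZ : ∀ z ∈ Z, g * z = z * g := fun z hz => (Subgroup.mem_centralizer_iff.1 hcQ z (hZQ hz)).symm
  have hwR : ∀ r ∈ R, w * r = r * w := by
    intro r hr
    have hgr : Commute g r := hgR r hr
    set z := ⁅x, r⁆ with hz
    have hzZ : z ∈ Z := hxc r hr
    have hgz : Commute g z := hgZ z hzZ
    have hxr : r * x * r⁻¹ = z⁻¹ * x := by rw [hz, commutatorElement_def]; group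
    have h1 : r * y * r⁻¹ = z⁻¹ * y := by
      calc r * y * r⁻¹ = (r * g) * x * (g⁻¹ * r⁻¹) := by rw [hy]; group
        _ = (g * r) * x * (r⁻¹ * g⁻¹) := by rw [hgr.symm.eq, hgr.inv_inv.eq]
        _ = g * (r * x * r⁻¹) * g⁻¹ := by group
        _ = (g * z⁻¹) * x * g⁻¹ := by rw [hxr]; group
        _ = _ := by rw [hgz.inv_right.eq, hy]; group
    have h2 : r * w * r⁻¹ = w := by
      have hzy : Commute z⁻¹ (y * x⁻¹) := by
        have hc : Commute (y * x⁻¹) z :=
          Subgroup.mem_centralizer_iff.1 hzZ.2 _ (E.mul_mem (hEn.conj_mem x (hEΔE hxE) g) (E.inv_mem (hEΔE hxE)))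
        exact hc.symm.inv_left
      calc r * w * r⁻¹ = (r * y * r⁻¹) * (r * x * r⁻¹)⁻¹ := by rw [hw]; group
        _ = z⁻¹ * (y * x⁻¹) * z := by rw [h1, hxr]; group
        _ = _ := by rw [hzy.eq, hw]; group
    calc w * r = (r * w * r⁻¹) * r := by rw [h2]
      _ = r * w := by group
  have hwE : w ∈ E := E.mul_mem (hEn.conj_mem x (hEΔE hxE) g) (E.inv_mem (hEΔE hxE))
  have hwN : w ∈ Subgroup.normalizer (R : Set X) :=
    Subgroup.centralizer_le_normalizer _ (Subgroup.mem_centralizer_iff.2 fun r hr => (hwR r hr).symm)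
  set O' := O ⊓ (E ⊓ Subgroup.centralizer (R : Set X)) with hO'
  have hO'n : ∀ v ∈ Subgroup.normalizer (R : Set X), v ∈ Subgroup.normalizer (O' : Set X) := fun v hv =>
    mem_normalizer_of_cj_le (by
      rw [hO', cj_inf, cj_inf, cj_eq_self (hON hv), cj_of_normal, cj_centralizer, cj_eq_self hv])
  set o := ⁅g, w⁆ with ho
  have hoO : o ∈ O' := by
    refine ⟨hW w hwE hwR, ?_, ?_⟩
    · rw [ho, commutatorElement_def]
      exact E.mul_mem (hEn.conj_mem w hwE g) (E.inv_mem hwE)
    · have hwC : w ∈ Subgroup.centralizer (R : Set X) :=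
        Subgroup.mem_centralizer_iff.2 fun r hr => (hwR r hr).symm
      have hgC : g ∈ Subgroup.centralizer (R : Set X) :=
        Subgroup.mem_centralizer_iff.2 fun r hr => (hgR r hr).symm
      rw [ho, commutatorElement_def]
      exact mul_mem (mul_mem (mul_mem hgC hwC) ((Subgroup.centralizer (R : Set X)).inv_mem hgC))
        ((Subgroup.centralizer (R : Set X)).inv_mem hwC)
  have key : ∀ n : ℕ, ∃ c ∈ O', g ^ n * x * (g ^ n)⁻¹ = c * w ^ n * x := by
    intro n
    induction n with
    | zero => exact ⟨1, one_mem _, by simp⟩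
    | succ n ih =>
      obtain ⟨c, hc, he⟩ := ih
      have hpw : ∀ n : ℕ, ∃ d ∈ O', (o * w) ^ n = d * w ^ n := by
        intro n
        induction n with
        | zero => exact ⟨1, one_mem _, by simp⟩
        | succ n ihn =>
          obtain ⟨d, hd, hdn⟩ := ihn
          refine ⟨d * (w ^ n * o * (w ^ n)⁻¹), mul_mem hd
            ((Subgroup.mem_normalizer_iff.1 (hO'n _ (pow_mem hwN n)) o).1 hoO), ?_⟩
          rw [pow_succ, hdn, pow_succ]; group
      obtain ⟨d, hd, hdn⟩ := hpw n
      refine ⟨(g * c * g⁻¹) * d, mul_mem ((Subgroup.mem_normalizer_iff.1 (hO'n g hgN) c).1 hc) hd, ?_⟩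
      calc g ^ (n + 1) * x * (g ^ (n + 1))⁻¹ = g * (g ^ n * x * (g ^ n)⁻¹) * g⁻¹ := by rw [pow_succ']; group
        _ = (g * c * g⁻¹) * (g * w * g⁻¹) ^ n * (g * x * g⁻¹) := by rw [he, conj_pow]; group
        _ = (g * c * g⁻¹) * (o * w) ^ n * (w * x) := by
          rw [show g * w * g⁻¹ = o * w by rw [ho, commutatorElement_def]; group,
            show g * x * g⁻¹ = w * x by rw [hw, hy]; group]
        _ = _ := by rw [hdn, pow_succ w]; group
  obtain ⟨c, hc, he⟩ := key (orderOf g)
  rw [pow_orderOf_eq_one, inv_one, one_mul, mul_one, eq_comm, mul_eq_right] at he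
  have hwn : w ^ orderOf g ∈ O := by
    rw [eq_inv_of_mul_eq_one_right he]
    exact O.inv_mem hc.1
  obtain ⟨a, ha⟩ := hT.isPGroup ⟨x, hxT⟩
  have hxa : x ^ p ^ a = 1 := congrArg Subtype.val ha
  have hwa : w ^ p ^ a = 1 := by
    rw [hw, hxy.inv_right.mul_pow, inv_pow, hxa, inv_one, mul_one, hy, conj_pow, hxa, mul_one, mul_inv_cancel]
  obtain ⟨m, hm⟩ := exists_pow_eq_self_of_coprime (x := w) (n := orderOf g)
    ((hgp.pow_right a).coprime_dvd_right (orderOf_dvd_of_pow_eq_one hwa))
  have hwO : w ∈ O := hm ▸ pow_mem hwn m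
  have hw1 : w = 1 := orderOf_eq_one_iff.1 (Nat.eq_one_of_dvd_coprimes (hOc.pow_right a)
    (by rw [← Subgroup.orderOf_mk w hwO]; exact orderOf_dvd_natCard _) (orderOf_dvd_of_pow_eq_one hwa))
  have hyx : y = x := mul_inv_eq_one.1 hw1
  refine hxZ ⟨hEΔE hxE, Subgroup.le_centralizer_iff.1 (sSup_le fun K hK => ?_) (Subgroup.mem_zpowers x)⟩
  rw [Subgroup.le_centralizer_iff, Subgroup.zpowers_le]
  by_cases hKΔ : K ∈ Δ
  · rw [← hyx]
    exact component_sSup_centralizes hΔ'c hK (fun h => hdisj K h hKΔ) hyE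
  · exact component_sSup_centralizes hΔc hK hKΔ hxE

omit hp in
/-- A group with solvable outer automorphism groups on the components, acting on them, is inner on the layer. -/
theorem exists_inner_of_perfect
    (hS : ∀ J : Subgroup X, Cfsg.IsComponent J → Group.IsSolvable (Cfsg.Out (↥J ⧸ Subgroup.center ↥J)))
    {K : Subgroup X} (hK : Group.IsPerfect ↥K)
    (hn : ∀ J : Subgroup X, Cfsg.IsComponent J → K ≤ Subgroup.normalizer (J : Set X)) {l : X} (hl : l ∈ K) :
    ∃ e ∈ Cfsg.layer X, e⁻¹ * l ∈ Subgroup.centralizer (Cfsg.layer X : Set X) := by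
  classical
  -- on a single component
  have one : ∀ J : Subgroup X, Cfsg.IsComponent J → ∃ j ∈ J, j⁻¹ * l ∈ Subgroup.centralizer (J : Set X) := by
    intro J hJ
    haveI := hS J hJ
    let φ : MulAut J →* MulAut (J ⧸ Subgroup.center J) :=
      MonoidHom.mk' (fun e => QuotientGroup.congr _ _ e
          (Subgroup.characteristic_iff_map_eq.1 inferInstance e)) fun a b => by
        ext v
        induction v using QuotientGroup.induction_on with
        | _ v => rfl
    let ψ : K →* Cfsg.Out (J ⧸ Subgroup.center J) :=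
      (QuotientGroup.mk' _).comp ((φ.comp J.normalizerMonoidHom).comp (Subgroup.inclusion (hn J hJ)))
    haveI := hK
    have hψ : ∀ k : K, ψ k = 1 := by
      intro k
      by_contra hne
      haveI : Nontrivial ψ.range := ⟨⟨1, ⟨ψ k, k, rfl⟩, fun h => hne (congrArg Subtype.val h).symm⟩⟩
      haveI : Group.IsPerfect ψ.range := Group.IsPerfect.ofSurjective (f := ψ.rangeRestrict) ψ.rangeRestrict_surjective
      exact Group.IsPerfect.not_isSolvable (G := ψ.range)
        (Group.isSolvable_of_isSolvable_injective (f := ψ.range.subtype) ψ.range.subtype_injective)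
    obtain ⟨jb, hjb⟩ := (QuotientGroup.eq_one_iff _).1 (hψ ⟨l, hl⟩)
    obtain ⟨j, rfl⟩ := QuotientGroup.mk_surjective jb
    set m : Subgroup.normalizer (J : Set X) :=
      ⟨(j : X), Subgroup.le_normalizer j.2⟩⁻¹ * Subgroup.inclusion (hn J hJ) ⟨l, hl⟩ with hm
    set α := J.normalizerMonoidHom m with hα
    have hαv : ∀ a : J, (α a : X) = ((j : X)⁻¹ * l) * a * ((j : X)⁻¹ * l)⁻¹ := fun a => rfl
    have hαtriv : ∀ a : J, a⁻¹ * α a ∈ Subgroup.center J := by
      intro a
      refine QuotientGroup.eq.1 ?_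
      have h1 := congrArg (fun f => f (QuotientGroup.mk a : J ⧸ Subgroup.center J)) hjb
      simp only [MulAut.conj_apply] at h1
      have h2 : α a = j⁻¹ * (J.normalizerMonoidHom (Subgroup.inclusion (hn J hJ) ⟨l, hl⟩) a) * j := by
        refine Subtype.ext ?_
        rw [hαv]
        show _ = (j : X)⁻¹ * (l * a * l⁻¹) * j
        group
      have h3 : (QuotientGroup.mk (J.normalizerMonoidHom (Subgroup.inclusion (hn J hJ) ⟨l, hl⟩) a) :
          J ⧸ Subgroup.center J) = (QuotientGroup.mk j) * QuotientGroup.mk a * (QuotientGroup.mk j)⁻¹ := h1.symm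
      rw [h2, QuotientGroup.mk_mul, QuotientGroup.mk_mul, QuotientGroup.mk_inv, h3]
      group
    have hfix : ∀ a : J, α a = a := by
      let F : Subgroup J := MonoidHom.eqLocus α.toMonoidHom (MonoidHom.id J)
      have hc : commutator J ≤ F := by
        rw [commutator_def, Subgroup.commutator_le]
        intro a _ b _
        show α ⁅a, b⁆ = ⁅a, b⁆
        obtain ⟨za, hza, hea⟩ : ∃ z ∈ Subgroup.center J, α a = a * z := ⟨_, hαtriv a, by group⟩
        obtain ⟨zb, hzb, heb⟩ : ∃ z ∈ Subgroup.center J, α b = b * z := ⟨_, hαtriv b, by group⟩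
        rw [map_commutatorElement, hea, heb]
        have ca : ∀ v, v * za = za * v := Subgroup.mem_center_iff.1 hza
        have cb : ∀ v, v * zb = zb * v := Subgroup.mem_center_iff.1 hzb
        rw [commutatorElement_def, commutatorElement_def, mul_inv_rev, mul_inv_rev]
        calc a * za * (b * zb) * (za⁻¹ * a⁻¹) * (zb⁻¹ * b⁻¹)
            = a * za * (b * (zb * (za⁻¹ * a⁻¹))) * (zb⁻¹ * b⁻¹) := by group
          _ = a * za * (b * ((za⁻¹ * a⁻¹) * zb)) * (zb⁻¹ * b⁻¹) := by rw [cb]
          _ = a * (za * b) * za⁻¹ * a⁻¹ * b⁻¹ := by group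
          _ = a * (b * za) * za⁻¹ * a⁻¹ * b⁻¹ := by rw [ca]
          _ = _ := by group
      intro a
      haveI := hJ.2.1
      exact hc (by rw [Group.IsPerfect.commutator_eq_top]; trivial)
    refine ⟨j, j.2, Subgroup.mem_centralizer_iff.2 fun a ha => ?_⟩
    have h4 := congrArg Subtype.val (hfix ⟨a, ha⟩)
    rw [hαv] at h4
    exact (mul_inv_eq_iff_eq_mul.1 h4).symm
  -- all components
  have many : ∀ s : Finset (Subgroup X), (∀ J ∈ s, Cfsg.IsComponent J) →
      ∃ e ∈ sSup (s : Set (Subgroup X)), ∀ J ∈ s, e⁻¹ * l ∈ Subgroup.centralizer (J : Set X) := by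
    intro s
    induction s using Finset.induction with
    | empty => exact fun _ => ⟨1, one_mem _, fun J hJ => absurd hJ (Finset.notMem_empty J)⟩
    | @insert J s hJs ih =>
      intro hs
      have hJc : Cfsg.IsComponent J := hs J (Finset.mem_insert_self J s)
      have hsc : ∀ K ∈ (s : Set (Subgroup X)), Cfsg.IsComponent K := fun K hK =>
        hs K (Finset.mem_insert_of_mem (Finset.mem_coe.1 hK))
      obtain ⟨e, he, hes⟩ := ih fun K hK => hs K (Finset.mem_insert_of_mem hK)
      obtain ⟨j, hj, hjl⟩ := one J hJc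
      have heJ : e ∈ Subgroup.centralizer (J : Set X) := component_sSup_centralizes hsc hJc hJs he
      refine ⟨e * j, mul_mem (sSup_le_sSup (Finset.coe_subset.2 (Finset.subset_insert J s)) he)
        (le_sSup (Finset.mem_coe.2 (Finset.mem_insert_self J s)) hj), fun K hK => ?_⟩
      have hej : Commute j e := Subgroup.mem_centralizer_iff.1 heJ j hj
      rcases Finset.mem_insert.1 hK with rfl | hK
      · rw [← hej.eq, mul_inv_rev, mul_assoc]
        exact mul_mem ((Subgroup.centralizer _).inv_mem heJ) hjl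
      · rw [mul_inv_rev, mul_assoc]
        refine mul_mem ((Subgroup.centralizer _).inv_mem ?_) (hes K hK)
        exact Subgroup.commutator_eq_bot_iff_le_centralizer.1
          (Solv.components_commute hJc (hs K (Finset.mem_insert_of_mem hK)) fun h => hJs (h ▸ hK)) hj
  set C : Set (Subgroup X) := {K | Cfsg.IsComponent K} with hC
  haveI : Fintype C := Fintype.ofFinite _
  obtain ⟨e, he, hes⟩ := many C.toFinset fun J hJ => (Set.mem_toFinset.1 hJ : J ∈ C)
  rw [Set.coe_toFinset] at he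
  refine ⟨e, he, Subgroup.le_centralizer_iff.1 (sSup_le fun J hJ => ?_) (Subgroup.mem_zpowers _)⟩
  rw [Subgroup.le_centralizer_iff, Subgroup.zpowers_le]
  exact hes J (Set.mem_toFinset.2 hJ)

/-- The core of the balance theorem: a perfect subgroup behaving as a layer of a `p`-local subgroup. -/
theorem le_layer_of_local (h0 : Cfsg.pPrimeCore p X = ⊥)
    (hS : ∀ J : Subgroup X, Cfsg.IsComponent J → Group.IsSolvable (Cfsg.Out (↥J ⧸ Subgroup.center ↥J)))
    {R O K : Subgroup X} (hR : IsPGroup p R) (hO : O ≤ Subgroup.normalizer (R : Set X))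
    (hON : Subgroup.normalizer (R : Set X) ≤ Subgroup.normalizer (O : Set X))
    (hOc : (Nat.card O).Coprime p) (hKN : K ≤ Subgroup.normalizer (R : Set X)) (hK : Group.IsPerfect ↥K)
    (hdich : ∀ W : Subgroup X, W ≤ Subgroup.normalizer (R : Set X) →
      Subgroup.normalizer (R : Set X) ≤ Subgroup.normalizer (W : Set X) → K ≤ W ∨ ∀ k ∈ K, ∀ w ∈ W, ⁅k, w⁆ ∈ O) :
    K ≤ Cfsg.layer X := by
  set E := Cfsg.layer X
  haveI : E.Normal := Local.layer_normal
  set Q := Cfsg.pCore p X
  haveI := hK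
  rcases eq_or_ne K ⊥ with hKb | hKb
  · rw [hKb]; exact bot_le
  haveI : Nontrivial K := (Subgroup.nontrivial_iff_ne_bot K).2 hKb
  have hnotle : ∀ W : Subgroup X, IsPGroup p W → ¬ K ≤ W := fun W hW hle => by
    haveI := (hW.to_le hle).isNilpotent
    exact Group.IsPerfect.not_isSolvable (G := K) inferInstance
  have hpc : ∀ W : Subgroup X, IsPGroup p W → W ≤ Subgroup.normalizer (R : Set X) →
      Subgroup.normalizer (R : Set X) ≤ Subgroup.normalizer (W : Set X) → ∀ k ∈ K, ∀ w ∈ W, k * w = w * k := by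
    intro W hW hWN hNW k hk w hw
    have hm : ⁅k, w⁆ ∈ O ⊓ W := ⟨(hdich W hWN hNW).resolve_left (hnotle W hW) k hk w hw, by
      rw [commutatorElement_def]
      exact W.mul_mem ((Subgroup.mem_normalizer_iff.1 (hNW (hKN hk)) w).1 hw) (W.inv_mem hw)⟩
    rw [coprime_inf_pGroup hOc hW, Subgroup.mem_bot, commutatorElement_eq_one_iff_mul_comm] at hm
    exact hm
  have hCR : Subgroup.centralizer (R : Set X) ≤ Subgroup.normalizer (R : Set X) :=
    Subgroup.centralizer_le_normalizer _
  have hRc : ∀ k ∈ K, ∀ r ∈ R, k * r = r * k := hpc R hR Subgroup.le_normalizer le_rfl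
  rcases hdich (E ⊓ Subgroup.centralizer (R : Set X)) (inf_le_right.trans hCR) (fun v hv =>
      mem_normalizer_of_cj_le (by rw [cj_inf, cj_of_normal, cj_centralizer, cj_eq_self hv])) with h | hKW
  · exact h.trans inf_le_left
  have hQC : ∀ k ∈ K, ∀ q ∈ Q, (∀ r ∈ R, q * r = r * q) → k * q = q * k := fun k hk q hq hqr =>
    hpc (Q ⊓ Subgroup.centralizer (R : Set X)) ((isPGroup_pCore p X).to_le inf_le_left) (inf_le_right.trans hCR)
      (fun v hv => mem_normalizer_of_cj_le (by rw [cj_inf, cj_of_normal, cj_centralizer, cj_eq_self hv])) k hk q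
      ⟨hq, Subgroup.mem_centralizer_iff.2 fun r hr => (hqr r hr).symm⟩
  have hfix := fun k (hk : k ∈ K) (hkp : (orderOf k).Coprime p) => local_element_fixes h0 hR hO hON hOc (hKN hk)
    (hRc k hk) hkp (hQC k hk) (fun w hw hwr => hKW k hk w
      ⟨hw, Subgroup.mem_centralizer_iff.2 fun r hr => (hwr r hr).symm⟩)
  have hKQ : K ≤ Subgroup.centralizer (Q : Set X) := le_of_pPrime_elements (p := p) hK fun k hk hkp => (hfix k hk hkp).1
  have hKJ : ∀ J : Subgroup X, Cfsg.IsComponent J → K ≤ Subgroup.normalizer (J : Set X) := fun J hJ =>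
    le_of_pPrime_elements (p := p) hK fun k hk hkp => (hfix k hk hkp).2 J hJ
  have hEQ : ∀ e ∈ E, e ∈ Subgroup.centralizer (Q : Set X) := by
    have h1 : E ≤ Subgroup.centralizer (Q : Set X) := by
      rw [← Subgroup.commutator_eq_bot_iff_le_centralizer, show Q = Cfsg.fittingSubgroup X from (fitting_eq_pCore h0).symm]
      exact Solv.layer_commutator_fitting
    exact fun e he => h1 he
  have hKF : K ≤ Cfsg.generalizedFittingSubgroup X := by
    intro l hl
    obtain ⟨e, he, hel⟩ := exists_inner_of_perfect hS hK hKJ hl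
    rw [show l = e * (e⁻¹ * l) by group]
    refine mul_mem (Subgroup.mem_sup_left he) (Solv.centralizer_gfit_le ?_)
    refine Subgroup.le_centralizer_iff.1 (sup_le ?_ ?_) (Subgroup.mem_zpowers _)
    · rw [Subgroup.le_centralizer_iff, Subgroup.zpowers_le]; exact hel
    · rw [Subgroup.le_centralizer_iff, Subgroup.zpowers_le, fitting_eq_pCore h0]
      exact mul_mem ((Subgroup.centralizer _).inv_mem (hEQ e he)) (hKQ hl)
  intro l hl
  by_contra hne
  set π := QuotientGroup.mk' E
  have hQp : IsPGroup p ((Cfsg.pCore p X).map π) := (isPGroup_pCore p X).map π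
  have hKimg : K.map π ≤ (Cfsg.pCore p X).map π := by
    rw [← fitting_eq_pCore h0]
    refine le_trans (Subgroup.map_mono hKF) ?_
    rw [Cfsg.generalizedFittingSubgroup, Subgroup.map_sup, QuotientGroup.map_mk'_self, bot_sup_eq]
  haveI : Nontrivial (K.map π) := (Subgroup.nontrivial_iff_ne_bot _).2 fun h =>
    hne ((QuotientGroup.eq_one_iff l).1 ((Subgroup.eq_bot_iff_forall _).1 h _ ⟨l, hl, rfl⟩))
  haveI : Group.IsPerfect (K.map π) := Group.IsPerfect.ofSurjective (f := π.subgroupMap K) (π.subgroupMap_surjective K)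
  haveI := (hQp.to_le hKimg).isNilpotent
  exact Group.IsPerfect.not_isSolvable (G := K.map π) inferInstance

end Cfsg.Agent.Fusion
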