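import Cfsg.Prelude.Def_Balance
import Cfsg.Agent.Lib.Fusion.SchreierBalance
import Cfsg.Agent.Lib.Fusion.KBalancedGen

/-!
Local `k`-balance of the components of a group with trivial `p'`-core kills `Δ`.
-/

set_option autoImplicit false
set_option linter.style.haveILetI false

open Cfsg Cfsg.Agent Cfsg.Agent.Fusion
open scoped commutatorElement

namespace Cfsg.Agent.LocBal

universe u v

variable {X : Type u} [Group X] [Finite X] {p : ℕ} [hp : Fact p.Prime]

omit [Finite X] hp in
theorem core_le_centralizer (x : X) : Cfsg.centralizerPPrimeCore p x ≤ Subgroup.centralizer {x} :=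
  Subgroup.map_subtype_le _

omit hp in
/-- The normaliser of a subgroup normalises its `p'`-core. -/
theorem normalizer_le_map_core (L : Subgroup X) :
    Subgroup.normalizer (L : Set X) ≤
      Subgroup.normalizer (((Cfsg.pPrimeCore p L).map L.subtype : Subgroup X) : Set X) := by
  intro n hn
  refine mem_normalizer_of_cj_le ?_
  rintro _ ⟨_, ⟨y, hy, rfl⟩, rfl⟩
  let φ : L →* L :=
    { toFun := fun l => ⟨n * l * n⁻¹, (Subgroup.mem_normalizer_iff.1 hn _).1 l.2⟩
      map_one' := Subtype.ext (by simp)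
      map_mul' := fun a b => Subtype.ext (by
        show n * ((a : X) * b) * n⁻¹ = n * a * n⁻¹ * (n * b * n⁻¹)
        group) }
  have hφ : Function.Surjective φ := fun l => by
    have hl := (Subgroup.mem_normalizer_iff.1 hn (n⁻¹ * l * n)).2 (by
      rw [show n * (n⁻¹ * (l : X) * n) * n⁻¹ = l by group]; exact l.2)
    exact ⟨⟨_, hl⟩, Subtype.ext (show n * (n⁻¹ * (l : X) * n) * n⁻¹ = l by group)⟩
  have hinj : Function.Injective φ := fun a b h =>
    Subtype.ext (mul_left_cancel (mul_right_cancel (congrArg Subtype.val h)))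
  have hle : (Cfsg.pPrimeCore p L).map φ ≤ Cfsg.pPrimeCore p L := by
    rw [Cfsg.pPrimeCore, sSup_eq_iSup, Subgroup.map_iSup]
    refine iSup_le fun N => ?_
    rw [Subgroup.map_iSup]
    refine iSup_le fun hN => ?_
    refine le_iSup₂_of_le (N.map φ) ⟨hN.1.map φ hφ, ?_⟩ le_rfl
    rw [Subgroup.card_map_of_injective hinj]
    exact hN.2
  exact ⟨φ y, hle ⟨y, hy, rfl⟩, rfl⟩

/-- A component is not a `p'`-group when the `p'`-core is trivial, and its Sylow `p`-subgroups are
not central in it. -/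
theorem exists_pelement_not_central (h0 : Cfsg.pPrimeCore p X = ⊥) {J : Subgroup X}
    (hJ : Cfsg.IsComponent J) : ∃ x : J, x ∉ Subgroup.center J ∧ ∃ j : ℕ, x ^ p ^ j = 1 := by
  by_contra hno
  push Not at hno
  obtain ⟨P⟩ : Nonempty (Sylow p J) := inferInstance
  have hPZ : (P : Subgroup J) ≤ Subgroup.center J := fun x hx => by
    by_contra hxc
    obtain ⟨j, hj⟩ := P.isPGroup' ⟨x, hx⟩
    exact hno x hxc j (by simpa using congrArg Subtype.val hj)
  have hP : Subgroup.normalizer ((P : Subgroup J) : Set J) ≤ Subgroup.centralizer ((P : Subgroup J) : Set J) :=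
    fun g _ => Subgroup.mem_centralizer_iff.2 fun z hz => (Subgroup.mem_center_iff.1 (hPZ hz) g).symm
  have hC := MonoidHom.ker_transferSylow_isComplement' P hP
  haveI := hJ.2.1
  have htop : (MonoidHom.transferSylow P hP).ker = ⊤ := by
    rw [eq_top_iff, ← Group.IsPerfect.commutator_eq_top (G := J), commutator_def, Subgroup.commutator_le]
    intro a _ b _
    rw [MonoidHom.mem_ker, map_commutatorElement, commutatorElement_eq_one_iff_mul_comm]
    exact Subtype.ext (Subgroup.mem_center_iff.1 (hPZ (MonoidHom.transferSylow P hP b).2) _)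
  have hPbot : (P : Subgroup J) = ⊥ := by
    have := hC.disjoint.eq_bot
    rwa [htop, top_inf_eq] at this
  have hco : (Nat.card J).Coprime p := by
    refine ((Nat.Prime.coprime_iff_not_dvd hp.out).2 fun hd => ?_).symm
    have h1 := P.not_dvd_index
    rw [hPbot, Subgroup.index_bot] at h1
    exact h1 hd
  exact Solv.qs_ne_bot hJ.2 (le_bot_iff.1 ((piPrime_of_subnormal hJ.1 hco).trans h0.le))

/-- A component and a normal `p'`-subgroup of a subgroup containing it commute. -/
theorem component_centralized (h0 : Cfsg.pPrimeCore p X = ⊥) {J C W : Subgroup X}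
    (hJ : Cfsg.IsComponent J) (hJC : J ≤ C) (hWC : W ≤ C) (hn : C ≤ Subgroup.normalizer (W : Set X))
    (hW : (Nat.card W).Coprime p) : W ≤ Subgroup.centralizer (J : Set X) := by
  haveI : (W.subgroupOf C).Normal := (Subgroup.normal_subgroupOf_iff_le_normalizer hWC).2 hn
  rcases Solv.component_normal_dichotomy (Solv.component_subgroupOf hJ hJC) (W.subgroupOf C) with h | h
  · exfalso
    have hJW : J ≤ W := fun x hx => h (show (⟨x, hJC hx⟩ : C) ∈ J.subgroupOf C from hx)
    exact Solv.qs_ne_bot hJ.2 (le_bot_iff.1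
      ((piPrime_of_subnormal hJ.1 (hW.coprime_dvd_left (Subgroup.card_dvd_of_le hJW))).trans h0.le))
  · rw [← Subgroup.commutator_eq_bot_iff_le_centralizer, Subgroup.commutator_comm]
    have h2 := congrArg (Subgroup.map C.subtype) h
    rwa [Subgroup.map_commutator, Subgroup.map_subgroupOf_eq_of_le hJC,
      Subgroup.map_subgroupOf_eq_of_le hWC, Subgroup.map_bot] at h2

omit hp in
theorem centralizer_le_normalizer_core (a : X) :
    Subgroup.centralizer {a} ≤
      Subgroup.normalizer ((Cfsg.centralizerPPrimeCore p a : Subgroup X) : Set X) :=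
  Subgroup.le_normalizer.trans (normalizer_le_map_core _)

omit hp in
theorem core_coprime (a : X) : (Nat.card (Cfsg.centralizerPPrimeCore p a)).Coprime p := by
  rw [Cfsg.centralizerPPrimeCore, Solv.card_map_subtype]
  exact card_pPrimeCore_coprime p _

omit hp in
theorem normalizer_zpowers_le_centralizer_normalizer (a : X) :
    Subgroup.normalizer (Subgroup.zpowers a : Set X) ≤
      Subgroup.normalizer ((Subgroup.centralizer {a} : Subgroup X) : Set X) := by
  rw [show Subgroup.centralizer ({a} : Set X) = Subgroup.centralizer (Subgroup.zpowers a : Set X) by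
    rw [Subgroup.zpowers_eq_closure, Subgroup.centralizer_closure]]
  exact fun n hn => mem_normalizer_of_cj_le (by rw [cj_centralizer, cj_eq_self hn])

/-- Elements of the core of the centralizer of a `p`-element centralise `O_p` and fix the components. -/
theorem core_fixes (h0 : Cfsg.pPrimeCore p X = ⊥) {a : X} (ha : a ^ p = 1) {g : X}
    (hg : g ∈ Cfsg.centralizerPPrimeCore p a) :
    g ∈ Subgroup.centralizer (Cfsg.pCore p X : Set X) ∧
      ∀ J : Subgroup X, Cfsg.IsComponent J → g ∈ Subgroup.normalizer (J : Set X) := by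
  have hR : IsPGroup p (Subgroup.zpowers a) := by
    rintro ⟨_, i, rfl⟩
    exact ⟨1, Subtype.ext (by
      show (a ^ i) ^ p ^ 1 = 1
      rw [pow_one, ← zpow_natCast, ← zpow_mul, mul_comm, zpow_mul, zpow_natCast, ha, one_zpow])⟩
  have hga : g * a = a * g := Subgroup.mem_centralizer_singleton_iff.1 (core_le_centralizer a hg)
  have hgR : ∀ r ∈ Subgroup.zpowers a, g * r = r * g := by
    rintro _ ⟨i, rfl⟩
    exact ((show Commute g a from hga).zpow_right i).eq
  have hcent : ∀ w : X, (∀ r ∈ Subgroup.zpowers a, w * r = r * w) →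
      w ∈ Subgroup.normalizer ((Cfsg.centralizerPPrimeCore p a : Subgroup X) : Set X) := fun w hw =>
    centralizer_le_normalizer_core a
      (Subgroup.mem_centralizer_singleton_iff.2 (hw a (Subgroup.mem_zpowers a)))
  have hcomm : ∀ w : X, (∀ r ∈ Subgroup.zpowers a, w * r = r * w) →
      ⁅g, w⁆ ∈ Cfsg.centralizerPPrimeCore p a := fun w hw => by
    rw [commutatorElement_def, mul_assoc g, mul_assoc g]
    exact mul_mem hg ((Subgroup.mem_normalizer_iff.1 (hcent w hw) _).1 (inv_mem hg))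
  have hgp : (orderOf g).Coprime p := (core_coprime a).coprime_dvd_left
    (by rw [← Subgroup.orderOf_mk g hg]; exact orderOf_dvd_natCard _)
  have hCN : Subgroup.centralizer ({a} : Set X) ≤ Subgroup.normalizer (Subgroup.zpowers a : Set X) := by
    refine le_trans ?_ (Subgroup.centralizer_le_normalizer _)
    rw [Subgroup.zpowers_eq_closure, Subgroup.centralizer_closure]
  refine local_element_fixes h0 hR ((core_le_centralizer a).trans hCN)
    ((normalizer_zpowers_le_centralizer_normalizer a).trans (normalizer_le_map_core _))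
    (core_coprime a) (hCN (core_le_centralizer a hg)) hgR hgp (fun q hq hqa => ?_) (fun w _ hwa => hcomm w hwa)
  · refine commutatorElement_eq_one_iff_mul_comm.1 (Subgroup.mem_bot.1 ?_)
    rw [← coprime_inf_pGroup (core_coprime a) (isPGroup_pCore p X)]
    refine Subgroup.mem_inf.2 ⟨hcomm q hqa, ?_⟩
    rw [commutatorElement_def]
    exact mul_mem ((inferInstance : (Cfsg.pCore p X).Normal).conj_mem q hq g) (inv_mem hq)

/-- A component moved by `a` is centralised by the core of the centralizer of `a`. -/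
theorem moved_component_centralized (h0 : Cfsg.pPrimeCore p X = ⊥) {a : X} (ha : a ^ p = 1)
    {J : Subgroup X} (hJ : Cfsg.IsComponent J) (hmove : a ∉ Subgroup.normalizer (J : Set X)) :
    Cfsg.centralizerPPrimeCore p a ≤ Subgroup.centralizer (J : Set X) := by
  classical
  intro g hg
  have hgc : g * a = a * g := Subgroup.mem_centralizer_singleton_iff.1 (core_le_centralizer a hg)
  obtain ⟨Jf, hJf⟩ : ∃ Jf : ℕ → Subgroup X, ∀ i, Jf i = cj J (a ^ i) := ⟨_, fun _ => rfl⟩
  have hJfc : ∀ i, Cfsg.IsComponent (Jf i) := fun i => by rw [hJf]; exact Solv.component_conj hJ _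
  have hgn : ∀ i, g ∈ Subgroup.normalizer (Jf i : Set X) := fun i => (core_fixes h0 ha hg).2 _ (hJfc i)
  -- distinct exponents below `p` give distinct components
  have hdist : ∀ i < p, ∀ j < p, i ≠ j → Jf i ≠ Jf j := by
    have key : ∀ i j, i < j → j < p → Jf i ≠ Jf j := by
      intro i j hij hj he
      rw [hJf, hJf, show j = i + (j - i) by omega, pow_add, ← cj_cj] at he
      have h1 : cj J (a ^ (j - i)) = J := (Subgroup.map_injective (MulAut.conj (a ^ i)).injective he).symm
      have h2 : a ^ (j - i) ∈ Subgroup.normalizer (J : Set X) := mem_normalizer_iff_cj.2 h1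
      obtain ⟨m, hm⟩ := exists_pow_eq_self_of_coprime (x := a) (n := j - i) (by
        have ho : orderOf a = p := orderOf_eq_prime ha fun h => hmove (h ▸ one_mem _)
        rw [ho]
        refine ((Nat.Prime.coprime_iff_not_dvd hp.out).2 fun hd => ?_).symm
        have := Nat.le_of_dvd (by omega) hd
        omega)
      exact hmove (hm ▸ pow_mem h2 m)
    intro i hi j hj hne
    rcases Nat.lt_or_gt_of_ne hne with h | h
    · exact key i j h hj
    · exact (key j i h hi).symm
  have hcjmem : ∀ (i : ℕ) (x : J), a ^ i * (x : X) * (a ^ i)⁻¹ ∈ Jf i := fun i x => by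
    rw [hJf]; exact ⟨x, x.2, rfl⟩
  have hcom : ∀ i < p, ∀ j < p, i ≠ j → ∀ x ∈ Jf i, ∀ y ∈ Jf j, Commute x y := by
    intro i hi j hj hne x hx y hy
    exact (Subgroup.mem_centralizer_iff.1 ((Subgroup.commutator_eq_bot_iff_le_centralizer.1
      (Solv.components_commute (hJfc i) (hJfc j) (hdist i hi j hj hne))) hx) y hy).symm
  -- the diagonal homomorphism
  let t : ℕ → J →* X := fun i => (MulAut.conj (a ^ i)).toMonoidHom.comp J.subtype
  let δ : ℕ → J → X := fun n x => ((List.range n).map fun i => t i x).prod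
  have hδs : ∀ n x, δ (n + 1) x = δ n x * t n x := fun n x => by simp [δ, List.range_succ]
  have hδcomm : ∀ n ≤ p, ∀ x : J, ∀ j < p, n ≤ j → ∀ y ∈ Jf j, Commute (δ n x) y := by
    intro n
    induction n with
    | zero => intro _ x j _ _ y _; simp [δ]
    | succ n ih =>
      intro hn x j hj hnj y hy
      rw [hδs]
      exact (ih (by omega) x j hj (by omega) y hy).mul_left
        (hcom n (by omega) j hj (by omega) _ (hcjmem n x) y hy)
  have hδmul : ∀ n ≤ p, ∀ x y : J, δ n (x * y) = δ n x * δ n y := by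
    intro n
    induction n with
    | zero => intro _ x y; simp [δ]
    | succ n ih =>
      intro hn x y
      have hc := hδcomm n (by omega) y n (by omega) le_rfl _ (hcjmem n x)
      rw [hδs, hδs, hδs, ih (by omega), map_mul]
      calc δ n x * δ n y * (t n x * t n y) = δ n x * (δ n y * t n x) * t n y := by simp only [mul_assoc]
        _ = δ n x * (t n x * δ n y) * t n y := by rw [show δ n y * t n x = t n x * δ n y from hc.eq]
        _ = _ := by simp only [mul_assoc]
  have hap : ∀ x : J, t p x = t 0 x := fun x => by simp [t, ← map_pow, ha]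
  -- the product is fixed by `a`
  have hrot : ∀ (x : J) (n : ℕ), t 0 x * (a * δ n x * a⁻¹) = δ n x * t n x ∨ n = 0 ∨ p < n + 0 := by
    intro x n
    induction n with
    | zero => exact Or.inr (Or.inl rfl)
    | succ n ih =>
      by_cases hn : p < n + 1
      · exact Or.inr (Or.inr (by omega))
      left
      have hat : a * t n x * a⁻¹ = t (n + 1) x := by
        show a * (a ^ n * (x : X) * (a ^ n)⁻¹) * a⁻¹ = a ^ (n + 1) * (x : X) * (a ^ (n + 1))⁻¹
        rw [pow_succ']; group
      rw [hδs, show a * (δ n x * t n x) * a⁻¹ = a * δ n x * a⁻¹ * (a * t n x * a⁻¹) by group, hat,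
        ← mul_assoc]
      rcases ih with h | h | h
      · rw [h]
      · subst h; simp [δ, t]
      · omega
  have hδfix : ∀ x : J, δ p x ∈ Subgroup.centralizer ({a} : Set X) := by
    intro x
    have h1 : t 0 x * (a * δ p x * a⁻¹) = δ p x * t 0 x := by
      rcases hrot x p with h | h | h
      · rwa [hap] at h
      · exact absurd h hp.out.ne_zero
      · omega
    have h2 : Commute (δ p x) (t 0 x) := by
      have hsplit : ∀ n, 1 ≤ n → n ≤ p → Commute (δ n x) (t 0 x) := by
        intro n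
        induction n with
        | zero => intro h; omega
        | succ n ih =>
          intro _ hn
          rcases Nat.eq_zero_or_pos n with rfl | hn0
          · simp [δ]
          · rw [hδs]
            exact (ih hn0 (by omega)).mul_left
              (hcom n (by omega) 0 hp.out.pos (by omega) _ (hcjmem n x) _ (hcjmem 0 x))
      exact hsplit p hp.out.one_le le_rfl
    rw [h2.eq] at h1
    have h3 := mul_left_cancel h1
    rw [Subgroup.mem_centralizer_singleton_iff]
    calc δ p x * a = a * δ p x * a⁻¹ * a := by rw [h3]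
      _ = a * δ p x := by group
  let Δhom : J →* X := MonoidHom.mk' (δ p) (hδmul p le_rfl)
  have hδin : ∀ x : J, δ p x = 1 → x ∈ Subgroup.center J := by
    intro x hx
    -- everything but the first factor centralises J
    have hrest : ∀ n, 1 ≤ n → n ≤ p → ∃ r : X, δ n x = (x : X) * r ∧ ∀ y ∈ Jf 0, Commute r y := by
      intro n
      induction n with
      | zero => intro h; omega
      | succ n ih =>
        intro _ hn
        rcases Nat.eq_zero_or_pos n with rfl | hn0
        · exact ⟨1, by simp [δ, t], fun y _ => Commute.one_left y⟩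
        · obtain ⟨r, hr, hrc⟩ := ih hn0 (by omega)
          refine ⟨r * t n x, by rw [hδs, hr, mul_assoc], fun y hy => ?_⟩
          exact (hrc y hy).mul_left (hcom n (by omega) 0 hp.out.pos (by omega) _ (hcjmem n x) y hy)
    obtain ⟨r, hr, hrc⟩ := hrest p hp.out.one_le le_rfl
    rw [hx] at hr
    have hxr : (x : X) = r⁻¹ := eq_inv_of_mul_eq_one_left hr.symm
    refine Subgroup.mem_center_iff.2 fun y => Subtype.ext ?_
    have := (hrc y (by rw [hJf]; simp [cj_one])).inv_left
    rw [← hxr] at this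
    exact this.eq.symm
  -- the preimage of the core
  obtain ⟨N, hN⟩ : ∃ N, N = (Cfsg.centralizerPPrimeCore p a).comap Δhom := ⟨_, rfl⟩
  haveI : N.Normal := ⟨fun n hn x => by
    rw [hN, Subgroup.mem_comap] at hn ⊢
    rw [map_mul, map_mul, map_inv]
    exact (Subgroup.mem_normalizer_iff.1 (centralizer_le_normalizer_core a (hδfix x)) _).1 hn⟩
  have hgJ : g ∈ Subgroup.normalizer (J : Set X) := by
    have := hgn 0
    rwa [hJf, pow_zero, cj_one] at this
  have hga : ∀ i : ℕ, Commute g (a ^ i) := fun i => (show Commute g a from hgc).pow_right i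
  have hcommN : ∀ x : J, (x⁻¹ * ⟨g * x * g⁻¹, (Subgroup.mem_normalizer_iff.1 hgJ _).1 x.2⟩ : J) ∈ N := by
    intro x
    rw [hN, Subgroup.mem_comap, map_mul, map_inv]
    have hgd : ∀ n, δ n ⟨g * x * g⁻¹, (Subgroup.mem_normalizer_iff.1 hgJ _).1 x.2⟩ = g * δ n x * g⁻¹ := by
      intro n
      induction n with
      | zero => simp [δ]
      | succ n ih =>
        rw [hδs, hδs, ih]
        show g * δ n x * g⁻¹ * (a ^ n * (g * (x : X) * g⁻¹) * (a ^ n)⁻¹) =
          g * (δ n x * (a ^ n * (x : X) * (a ^ n)⁻¹)) * g⁻¹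
        calc _ = g * δ n x * g⁻¹ * ((a ^ n * g) * (x : X) * (a ^ n * g)⁻¹) := by group
          _ = g * δ n x * g⁻¹ * ((g * a ^ n) * (x : X) * (g * a ^ n)⁻¹) := by rw [(hga n).eq]
          _ = _ := by group
    show (δ p x)⁻¹ * δ p _ ∈ _
    rw [hgd, ← mul_assoc, ← mul_assoc]
    refine mul_mem ?_ (inv_mem hg)
    have h4 := (Subgroup.mem_normalizer_iff.1 (centralizer_le_normalizer_core a (hδfix x⁻¹)) _).1 hg
    rw [show δ p x⁻¹ = (δ p x)⁻¹ from map_inv Δhom x, inv_inv] at h4
    exact h4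
  rcases Solv.qs_normal_le_center_or_top hJ.2 N with htop | hle
  · exfalso
    obtain ⟨x, hxc, j, hxj⟩ := exists_pelement_not_central h0 hJ
    refine hxc (hδin x (orderOf_eq_one_iff.1 (Nat.eq_one_of_dvd_coprimes ((core_coprime (p := p) a).pow_right j)
      ?_ ?_)))
    · have hx : δ p x ∈ Cfsg.centralizerPPrimeCore p a := by
        have : x ∈ N := htop ▸ Subgroup.mem_top x
        rw [hN] at this
        exact this
      rw [← Subgroup.orderOf_mk _ hx]; exact orderOf_dvd_natCard _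
    · refine orderOf_dvd_of_pow_eq_one ?_
      have := congrArg Δhom hxj
      rwa [map_pow, map_one] at this
  · refine Subgroup.mem_centralizer_iff.2 ?_
    suffices h : J ≤ Subgroup.centralizer {g} from fun x hx =>
      Subgroup.mem_centralizer_singleton_iff.1 (h hx)
    rw [← Solv.qs_self_commutator hJ.2, Subgroup.commutator_le]
    intro x hx y hy
    rw [Subgroup.mem_centralizer_singleton_iff]
    have hc : ∀ x ∈ J, ∀ z ∈ J, (x⁻¹ * (g * x * g⁻¹)) * z = z * (x⁻¹ * (g * x * g⁻¹)) := fun x hx z hz =>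
      congrArg Subtype.val (Subgroup.mem_center_iff.1 (hle (hcommN ⟨x, hx⟩)) ⟨z, hz⟩).symm
    obtain ⟨c, hc1⟩ : ∃ c, c = x⁻¹ * (g * x * g⁻¹) := ⟨_, rfl⟩
    obtain ⟨d, hd1⟩ : ∃ d, d = y⁻¹ * (g * y * g⁻¹) := ⟨_, rfl⟩
    have hxy : ⁅g * x * g⁻¹, g * y * g⁻¹⁆ = ⁅x, y⁆ := by
      have hx' : g * x * g⁻¹ = x * c := by rw [hc1]; group
      have hy' : g * y * g⁻¹ = y * d := by rw [hd1]; group
      have hyd : y * d ∈ J := hy' ▸ (Subgroup.mem_normalizer_iff.1 hgJ _).1 hy
      have e1 : c * (y * d) = (y * d) * c := hc1 ▸ hc x hx _ hyd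
      have e2 : d * x⁻¹ = x⁻¹ * d := hd1 ▸ hc y hy _ (inv_mem hx)
      rw [hx', hy', commutatorElement_def, commutatorElement_def, mul_assoc x c, e1]
      calc x * (y * d * c) * (x * c)⁻¹ * (y * d)⁻¹ = x * y * (d * x⁻¹) * d⁻¹ * y⁻¹ := by group
        _ = _ := by rw [e2]; group
    calc ⁅x, y⁆ * g = ⁅g * x * g⁻¹, g * y * g⁻¹⁆ * g := by rw [hxy]
      _ = g * ⁅x, y⁆ := by rw [commutatorElement_def, commutatorElement_def]; group

/-- A component normalised by `A` and with locally `k`-balanced quotient is centralised by `Δ(A)`. -/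
theorem fixed_component_centralized (h0 : Cfsg.pPrimeCore p X = ⊥) {k : ℕ} (hk : 1 ≤ k) {A : Subgroup X}
    (hA : Cfsg.IsElementaryAbelian p A) (hAk : Nat.card A = p ^ k) {J : Subgroup X} (hJ : Cfsg.IsComponent J)
    (hAJ : A ≤ Subgroup.normalizer (J : Set X)) (C : Subgroup J) [C.Normal] (hCle : C ≤ Subgroup.center J)
    (hCinv : ∀ n ∈ Subgroup.normalizer (J : Set X), ∀ x y : J, (y : X) = n * x * n⁻¹ → x ∈ C → y ∈ C)
    {Q : Type v} [Group Q] (e : J ⧸ C ≃* Q) (hloc : Cfsg.IsLocallyKBalanced p k Q) :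
    Cfsg.signalizerDelta p A ≤ Subgroup.centralizer (J : Set X) := by
  classical
  obtain ⟨D, hD⟩ : ∃ D, D = Cfsg.signalizerDelta p A := ⟨_, rfl⟩
  rw [← hD]
  have hcore : ∀ a ∈ A, a ≠ 1 → D ≤ Cfsg.centralizerPPrimeCore p a := fun a ha ha1 =>
    hD ▸ iInf_le_of_le (⟨a, ha, ha1⟩ : {a : X // a ∈ A ∧ a ≠ 1}) le_rfl
  obtain ⟨a₀, ha₀, ha₀1⟩ : ∃ a ∈ A, a ≠ 1 := by
    by_contra hno
    push Not at hno
    rw [(Subgroup.eq_bot_iff_forall A).2 hno, Subgroup.card_bot] at hAk
    exact (Nat.one_lt_pow (by omega) hp.out.one_lt).ne hAk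
  have hDA : ∀ a ∈ A, ∀ d ∈ D, Commute d a := fun a ha d hd => by
    rcases eq_or_ne a 1 with rfl | ha1
    · exact Commute.one_right d
    · exact Subgroup.mem_centralizer_singleton_iff.1 (core_le_centralizer a (hcore a ha ha1 hd))
  have hDJ : D ≤ Subgroup.normalizer (J : Set X) := fun d hd =>
    (core_fixes h0 (hA.2 a₀ ha₀) (hcore a₀ ha₀ ha₀1 hd)).2 J hJ
  have hDQ : D ≤ Subgroup.centralizer (Cfsg.pCore p X : Set X) := fun d hd =>
    (core_fixes h0 (hA.2 a₀ ha₀) (hcore a₀ ha₀ ha₀1 hd)).1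
  by_cases hfaith : ∃ a ∈ A, a ≠ 1 ∧ a ∈ Subgroup.centralizer (J : Set X)
  · obtain ⟨a, ha, ha1, haJ⟩ := hfaith
    exact (hcore a ha ha1).trans (component_centralized h0 hJ
      (fun x hx => Subgroup.mem_centralizer_singleton_iff.2 (Subgroup.mem_centralizer_iff.1 haJ x hx))
      (core_le_centralizer a) (centralizer_le_normalizer_core a) (core_coprime a))
  push Not at hfaith
  -- the action on `J ⧸ C`
  obtain ⟨N, hN⟩ : ∃ N, N = Subgroup.normalizer (J : Set X) := ⟨_, rfl⟩
  let conjJ : N → J → J := fun n x =>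
    ⟨(n : X) * x * (n : X)⁻¹, (Subgroup.mem_normalizer_iff.1 (hN.le n.2) _).1 x.2⟩
  let act₀ : N → (J →* J ⧸ C) := fun n => (QuotientGroup.mk' C).comp
    (MonoidHom.mk' (conjJ n) fun x y => Subtype.ext (by
      show (n : X) * ((x : X) * y) * (n : X)⁻¹ = (n : X) * x * (n : X)⁻¹ * ((n : X) * y * (n : X)⁻¹)
      group))
  have hker : ∀ n, C ≤ (act₀ n).ker := fun n x hx =>
    (QuotientGroup.eq_one_iff _).2 (hCinv n (hN.le n.2) x (conjJ n x) rfl hx)
  let act : N → (J ⧸ C →* J ⧸ C) := fun n => QuotientGroup.lift C (act₀ n) (hker n)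
  have hact : ∀ n x, act n (QuotientGroup.mk x) = QuotientGroup.mk (conjJ n x) := fun n x => rfl
  have hact1 : ∀ q, act 1 q = q := fun q => by
    induction q using QuotientGroup.induction_on with
    | _ x => rw [hact]; exact congrArg _ (Subtype.ext (by simp [conjJ]))
  have hactm : ∀ n m q, act (n * m) q = act n (act m q) := fun n m q => by
    induction q using QuotientGroup.induction_on with
    | _ x => rw [hact, hact, hact]; exact congrArg _ (Subtype.ext (by simp [conjJ, mul_assoc]))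
  let Φ : N →* MulAut (J ⧸ C) := MonoidHom.mk'
    (fun n => { toFun := act n, invFun := act n⁻¹,
                left_inv := fun q => by rw [← hactm, inv_mul_cancel, hact1],
                right_inv := fun q => by rw [← hactm, mul_inv_cancel, hact1],
                map_mul' := map_mul (act n) })
    fun n m => MulEquiv.ext (hactm n m)
  have hΦker : ∀ n : N, Φ n = 1 → (n : X) ∈ Subgroup.centralizer (J : Set X) := by
    intro n hn
    have hc : ∀ x : J, (x⁻¹ * conjJ n x) ∈ Subgroup.center J := fun x => hCle ((QuotientGroup.eq).1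
      ((congrFun (congrArg DFunLike.coe hn) (QuotientGroup.mk x)).symm.trans (hact n x)))
    refine Subgroup.mem_centralizer_iff.2 fun z hz => Subgroup.mem_centralizer_singleton_iff.1 ?_
    revert z
    show J ≤ Subgroup.centralizer {(n : X)}
    rw [← Solv.qs_self_commutator hJ.2, Subgroup.commutator_le]
    intro x hx y hy
    have e : ∀ x' y' c d : J, c ∈ Subgroup.center J → d ∈ Subgroup.center J →
        ⁅x' * c, y' * d⁆ = ⁅x', y'⁆ := fun x' y' c d hc hd => by
      have e1 : c * (y' * d) = (y' * d) * c := (Subgroup.mem_center_iff.1 hc _).symm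
      have e2 : d * x'⁻¹ = x'⁻¹ * d := (Subgroup.mem_center_iff.1 hd _).symm
      rw [commutatorElement_def, commutatorElement_def, mul_assoc x' c, e1]
      calc x' * (y' * d * c) * (x' * c)⁻¹ * (y' * d)⁻¹ = x' * y' * (d * x'⁻¹) * d⁻¹ * y'⁻¹ := by group
        _ = _ := by rw [e2]; group
    have h1 := e ⟨x, hx⟩ ⟨y, hy⟩ _ _ (hc ⟨x, hx⟩) (hc ⟨y, hy⟩)
    rw [mul_inv_cancel_left, mul_inv_cancel_left] at h1
    have h2 : ⁅(n : X) * x * (n : X)⁻¹, (n : X) * y * (n : X)⁻¹⁆ = ⁅x, y⁆ := congrArg Subtype.val h1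
    rw [Subgroup.mem_centralizer_singleton_iff]
    calc ⁅x, y⁆ * n = ⁅(n : X) * x * (n : X)⁻¹, (n : X) * y * (n : X)⁻¹⁆ * n := by rw [h2]
      _ = n * ⁅x, y⁆ := by rw [commutatorElement_def, commutatorElement_def]; group
  -- the group generated by `J`, `Δ` and `A`
  obtain ⟨S, hS⟩ : ∃ S, S = J ⊔ D ⊔ A := ⟨_, rfl⟩
  have hSN : S ≤ N := by rw [hS, hN]; exact sup_le (sup_le Subgroup.le_normalizer hDJ) hAJ
  let f : S →* MulAut Q := ((MulAut.congr e).toMonoidHom.comp Φ).comp (Subgroup.inclusion hSN)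
  have hAS : A ≤ S := hS ▸ le_sup_right
  have hinn : (MulAut.conj : Q →* MulAut Q).range ≤ f.range := by
    rintro _ ⟨q, rfl⟩
    obtain ⟨q, rfl⟩ := e.surjective q
    induction q using QuotientGroup.induction_on with
    | _ x =>
      refine ⟨⟨x, hS ▸ Subgroup.mem_sup_left (Subgroup.mem_sup_left x.2)⟩, MulEquiv.ext fun r => ?_⟩
      obtain ⟨r, rfl⟩ := e.surjective r
      induction r using QuotientGroup.induction_on with
      | _ y =>
        show e (act _ (e.symm (e (QuotientGroup.mk y)))) = _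
        rw [MulEquiv.symm_apply_apply, hact, MulAut.conj_apply, ← map_inv, ← map_mul, ← map_mul]
        rfl
  obtain ⟨π, hπ⟩ : ∃ π : S →* f.range, π = f.rangeRestrict := ⟨_, rfl⟩
  have hπk : ∀ n : S, π n = 1 → (n : X) ∈ Subgroup.centralizer (J : Set X) := fun n hn =>
    hΦker ⟨n, hSN n.2⟩ ((MulAut.congr e).injective (by
      rw [hπ] at hn; rw [map_one]; exact congrArg Subtype.val hn))
  have hπs : Function.Surjective π := hπ.symm ▸ f.rangeRestrict_surjective
  obtain ⟨A', hA'⟩ : ∃ A', A' = (A.subgroupOf S).map π := ⟨_, rfl⟩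
  have hA'card : Nat.card A' = p ^ k := by
    have h1 := Solv.card_map_mul_card_inf_ker π (A.subgroupOf S)
    have h2 : π.ker ⊓ A.subgroupOf S = ⊥ := (Subgroup.eq_bot_iff_forall _).2 fun n hn => by
      by_contra hne
      exact hfaith n hn.2 (fun e => hne (Subtype.ext e)) (hπk n hn.1)
    rw [h2, Subgroup.card_bot, mul_one, Solv.card_subgroupOf hAS, hAk] at h1
    rw [hA']; exact h1
  have hA'e : Cfsg.IsElementaryAbelian p A' := by
    subst hA'
    refine ⟨⟨⟨?_⟩⟩, ?_⟩
    · rintro ⟨_, a, ha, rfl⟩ ⟨_, b, hb, rfl⟩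
      exact Subtype.ext (by
        show π a * π b = π b * π a
        rw [← map_mul, ← map_mul, show a * b = b * a from Subtype.ext (elab_comm hA ha hb)])
    · rintro _ ⟨a, ha, rfl⟩
      rw [← map_pow, show a ^ p = 1 from Subtype.ext (hA.2 _ ha), map_one]
  have hbot := hloc f.range hinn A' hA'e hA'card
  intro d hd
  have hdS : d ∈ S := hS ▸ Subgroup.mem_sup_left (Subgroup.mem_sup_right hd)
  refine hπk ⟨d, hdS⟩ (Subgroup.mem_bot.1 (hbot ▸ Subgroup.mem_iInf.2 ?_))
  rintro ⟨a', ha', ha'1⟩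
  rw [hA'] at ha'
  obtain ⟨⟨a, haS⟩, ha, rfl⟩ := ha'
  replace ha : a ∈ A := ha
  have ha1 : a ≠ 1 := fun e => ha'1 (by
    show π ⟨a, haS⟩ = 1
    rw [show (⟨a, haS⟩ : S) = 1 from Subtype.ext e, map_one])
  obtain ⟨U, hU⟩ : ∃ U, U = (J ⊔ D) ⊓ Subgroup.centralizer ({a} : Set X) := ⟨_, rfl⟩
  obtain ⟨W, hW⟩ : ∃ W, W = (Cfsg.pPrimeCore p U).map U.subtype := ⟨_, rfl⟩
  have hdW : d ∈ W := by
    have hdU : d ∈ U := hU ▸ Subgroup.mem_inf.2 ⟨Subgroup.mem_sup_right hd,
      Subgroup.mem_centralizer_singleton_iff.2 (hDA a ha d hd).eq⟩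
    rw [hW]
    refine ⟨⟨d, hdU⟩, ?_, rfl⟩
    have hUC : U ≤ Subgroup.centralizer ({a} : Set X) := hU ▸ inf_le_right
    haveI : ((Cfsg.centralizerPPrimeCore p a).subgroupOf U).Normal := ⟨fun x hx g =>
      (Subgroup.mem_normalizer_iff.1 (centralizer_le_normalizer_core a (hUC g.2)) _).1 hx⟩
    refine le_pPrimeCore (N := (Cfsg.centralizerPPrimeCore p a).subgroupOf U) ?_ (hcore a ha ha1 hd)
    refine (core_coprime (p := p) a).coprime_dvd_left ?_
    rw [← Solv.card_map_subtype, Subgroup.subgroupOf_map_subtype]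
    exact Subgroup.card_dvd_of_le inf_le_left
  have hJDA : A ≤ Subgroup.normalizer ((J ⊔ D : Subgroup X) : Set X) :=
    Solv.normalizer_smul_sup hAJ fun b hb => Subgroup.centralizer_le_normalizer _
      (Subgroup.mem_centralizer_iff.2 fun e he => (hDA b hb e he).eq)
  have hWn : ∀ n : S, π n * π ⟨a, haS⟩ = π ⟨a, haS⟩ * π n → (n : X) ∈ Subgroup.normalizer (W : Set X) := by
    rintro ⟨n, hn⟩ hcomm
    rw [hS, ← SetLike.mem_coe, Subgroup.coe_mul_of_right_le_normalizer_left (J ⊔ D) A hJDA] at hn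
    obtain ⟨v, hv, b, hb, rfl⟩ := hn
    have hvb : v * b ∈ Subgroup.normalizer (W : Set X) := by
      have hbU : b ∈ Subgroup.normalizer (U : Set X) := mem_normalizer_of_cj_le (by
        rw [hU, cj_inf, cj_eq_self (hJDA hb)]
        refine inf_le_inf le_rfl ?_
        rintro _ ⟨y, hy, rfl⟩
        rw [Subgroup.mem_centralizer_singleton_iff]
        show b * y * b⁻¹ * a = a * (b * y * b⁻¹)
        have h1 : Commute b a := elab_comm hA hb ha
        exact ((h1.mul_left (Subgroup.mem_centralizer_singleton_iff.1 hy : Commute y a)).mul_left h1.inv_left).eq)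
      have hvU : v ∈ Subgroup.normalizer (U : Set X) := by
        -- `v a v⁻¹ a⁻¹` is central in `J`
        have hvS : v ∈ S := hS ▸ Subgroup.mem_sup_left hv
        have hbS : b ∈ S := hAS hb
        have hz : v * a * v⁻¹ * a⁻¹ ∈ Subgroup.centralizer (J : Set X) := by
          have := hπk (⟨v, hvS⟩ * ⟨b, hbS⟩ * ⟨a, haS⟩ * (⟨v, hvS⟩ * ⟨b, hbS⟩)⁻¹ * ⟨a, haS⟩⁻¹) (by
            have e : π (⟨v, hvS⟩ * ⟨b, hbS⟩) * π ⟨a, haS⟩ = π ⟨a, haS⟩ * π (⟨v, hvS⟩ * ⟨b, hbS⟩) := hcomm
            rw [map_mul, map_mul, map_inv, map_mul π _ ⟨a, haS⟩, e, map_inv]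
            group)
          have e1 : v * b * a * (v * b)⁻¹ * a⁻¹ = v * a * v⁻¹ * a⁻¹ := by
            rw [mul_assoc v b a, elab_comm hA hb ha]; group
          rw [← e1]
          exact this
        rw [Subgroup.coe_mul_of_right_le_normalizer_left J D hDJ] at hv
        obtain ⟨j, hj, e, he, rfl⟩ := hv
        have hje : j * e * a * (j * e)⁻¹ * a⁻¹ = j * a * j⁻¹ * a⁻¹ := by
          rw [show j * e * a = j * (e * a) by group, (hDA a ha e he).eq]; group
        obtain ⟨z, hzdef⟩ : ∃ z, z = j * a * j⁻¹ * a⁻¹ := ⟨_, rfl⟩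
        have hzJ : z ∈ J := by
          rw [hzdef, show j * a * j⁻¹ * a⁻¹ = j * (a * j⁻¹ * a⁻¹) by group]
          exact mul_mem hj ((Subgroup.mem_normalizer_iff.1 (hAJ ha) _).1 (inv_mem hj))
        have hzC : z ∈ Subgroup.centralizer (J : Set X) := by rw [hzdef, ← hje]; exact hz
        have hzQ : z ∈ Cfsg.pCore p X := by
          rw [← fitting_eq_pCore h0]
          refine Solv.center_component_le_fitting hJ ⟨⟨z, hzJ⟩, ?_, rfl⟩
          exact Subgroup.mem_center_iff.2 fun y => Subtype.ext (Subgroup.mem_centralizer_iff.1 hzC y y.2)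
        have hzJD : J ⊔ D ≤ Subgroup.centralizer ({z} : Set X) := sup_le
          (fun y hy => Subgroup.mem_centralizer_singleton_iff.2 (Subgroup.mem_centralizer_iff.1 hzC y hy))
          (fun y hy => Subgroup.mem_centralizer_singleton_iff.2
            (Subgroup.mem_centralizer_iff.1 (hDQ hy) z hzQ).symm)
        have hconj : j * e * a * (j * e)⁻¹ = z * a := by
          rw [hzdef, ← hje]; group
        have hvJD : j * e ∈ J ⊔ D := mul_mem (Subgroup.mem_sup_left hj) (Subgroup.mem_sup_right he)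
        show j * e ∈ Subgroup.normalizer (U : Set X)
        refine mem_normalizer_of_cj_le ?_
        rw [hU]
        rintro _ ⟨y, hy, rfl⟩
        obtain ⟨hy1, hy2⟩ := Subgroup.mem_inf.1 hy
        refine Subgroup.mem_inf.2 ⟨mul_mem (mul_mem hvJD hy1) (inv_mem hvJD),
          Subgroup.mem_centralizer_singleton_iff.2 ?_⟩
        obtain ⟨w, hw⟩ : ∃ w, w = j * e * y * (j * e)⁻¹ := ⟨_, rfl⟩
        have hwz : w * z = z * w := Subgroup.mem_centralizer_singleton_iff.1
          (hzJD (hw ▸ mul_mem (mul_mem hvJD hy1) (inv_mem hvJD)))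
        have hwza : w * (z * a) = z * a * w := by
          rw [hw, ← hconj]
          calc _ = j * e * (y * a) * (j * e)⁻¹ := by group
            _ = _ := by rw [Subgroup.mem_centralizer_singleton_iff.1 hy2]; group
        show j * e * y * (j * e)⁻¹ * a = a * (j * e * y * (j * e)⁻¹)
        rw [← hw]
        rw [← mul_assoc, hwz, mul_assoc, mul_assoc] at hwza
        exact mul_left_cancel hwza
      exact hW ▸ normalizer_le_map_core U (mul_mem hvU hbU)
    exact hvb
  obtain ⟨W', hW'⟩ : ∃ W', W' = (W.subgroupOf S).map π := ⟨_, rfl⟩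
  have hW'C : W' ≤ Subgroup.centralizer {π ⟨a, haS⟩} := by
    rw [hW']
    rintro _ ⟨⟨w, hwS⟩, hw, rfl⟩
    replace hw : w ∈ W := hw
    rw [hW] at hw
    obtain ⟨⟨u, hu⟩, -, rfl⟩ := hw
    rw [hU] at hu
    rw [Subgroup.mem_centralizer_singleton_iff, ← map_mul, ← map_mul]
    exact congrArg π (Subtype.ext (Subgroup.mem_centralizer_singleton_iff.1 (Subgroup.mem_inf.1 hu).2))
  haveI : (W'.subgroupOf (Subgroup.centralizer {π ⟨a, haS⟩})).Normal := ⟨by
    intro x hx g
    obtain ⟨n, hn⟩ := hπs g.1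
    have hx' : (x : f.range) ∈ W' := hx
    rw [hW'] at hx'
    obtain ⟨w, hw, hwx⟩ := hx'
    have hnW := hWn n (by rw [hn]; exact Subgroup.mem_centralizer_singleton_iff.1 g.2)
    rw [Subgroup.mem_subgroupOf, Subgroup.coe_mul, Subgroup.coe_mul, Subgroup.coe_inv, hW']
    exact ⟨n * w * n⁻¹, (Subgroup.mem_normalizer_iff.1 hnW _).1 hw,
      by rw [map_mul, map_mul, map_inv, hn, hwx]⟩⟩
  have hdW' : π ⟨d, hdS⟩ ∈ W' := by rw [hW']; exact ⟨⟨d, hdS⟩, hdW, rfl⟩
  refine ⟨⟨π ⟨d, hdS⟩, hW'C hdW'⟩, le_pPrimeCore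
    (N := W'.subgroupOf (Subgroup.centralizer {π ⟨a, haS⟩})) ?_ ?_, rfl⟩
  · rw [Solv.card_subgroupOf hW'C, hW']
    refine (card_pPrimeCore_coprime p U).coprime_dvd_left ((Subgroup.card_map_dvd _ π).trans ?_)
    rw [← Solv.card_map_subtype, Subgroup.subgroupOf_map_subtype]
    exact (Subgroup.card_dvd_of_le inf_le_left).trans (dvd_of_eq (hW ▸ Solv.card_map_subtype _))
  · exact Subgroup.mem_subgroupOf.2 hdW'

/-- With trivial `p'`-core and locally `k`-balanced components, `Δ(A)` is trivial. -/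
theorem delta_eq_bot (h0 : Cfsg.pPrimeCore p X = ⊥) {k : ℕ} (hk : 1 ≤ k) {A : Subgroup X}
    (hA : Cfsg.IsElementaryAbelian p A) (hAk : Nat.card A = p ^ k)
    (hJ : ∀ J : Subgroup X, Cfsg.IsComponent J → A ≤ Subgroup.normalizer (J : Set X) →
      Cfsg.signalizerDelta p A ≤ Subgroup.centralizer (J : Set X)) :
    Cfsg.signalizerDelta p A = ⊥ := by
  obtain ⟨a, ha, ha1⟩ : ∃ a ∈ A, a ≠ 1 := by
    by_contra hno
    push Not at hno
    rw [(Subgroup.eq_bot_iff_forall A).2 hno, Subgroup.card_bot] at hAk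
    exact (Nat.one_lt_pow (by omega) hp.out.one_lt).ne hAk
  have hle : ∀ b ∈ A, b ≠ 1 → Cfsg.signalizerDelta p A ≤ Cfsg.centralizerPPrimeCore p b := fun b hb hb1 =>
    iInf_le_of_le (⟨b, hb, hb1⟩ : {b : X // b ∈ A ∧ b ≠ 1}) le_rfl
  have hcF : Cfsg.signalizerDelta p A ≤
      Subgroup.centralizer (Cfsg.generalizedFittingSubgroup X : Set X) := by
    rw [Cfsg.generalizedFittingSubgroup]
    refine Subgroup.le_centralizer_iff.1 (sup_le (Subgroup.le_centralizer_iff.1 ?_)
      (Subgroup.le_centralizer_iff.1 ?_))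
    · rw [Cfsg.layer]
      refine Subgroup.le_centralizer_iff.1 (sSup_le fun J hJc => Subgroup.le_centralizer_iff.1 ?_)
      by_cases hn : A ≤ Subgroup.normalizer (J : Set X)
      · exact hJ J hJc hn
      · obtain ⟨b, hb, hbn⟩ := SetLike.not_le_iff_exists.1 hn
        exact (hle b hb fun e => hbn (e ▸ one_mem _)).trans
          (moved_component_centralized h0 (hA.2 b hb) hJc hbn)
    · rw [fitting_eq_pCore h0]
      exact fun d hd => (core_fixes h0 (hA.2 a ha) (hle a ha ha1 hd)).1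
  obtain ⟨Z, hZ⟩ : ∃ Z, Z = Subgroup.centralizer (Cfsg.generalizedFittingSubgroup X : Set X) := ⟨_, rfl⟩
  haveI := Local.gfit_normal (H := X)
  haveI hZn : Z.Normal := hZ ▸ Solv.centralizer_normal_of_normal _
  have hZc : ∀ u v : Z, u * v = v * u := fun u v => Subtype.ext
    (Subgroup.mem_centralizer_iff.1 (hZ.le v.2) u (Solv.centralizer_gfit_le (hZ.le u.2)))
  haveI : IsMulCommutative Z := ⟨⟨hZc⟩⟩
  have hZQ : Z ≤ Cfsg.pCore p X := by
    rw [← fitting_eq_pCore h0]
    letI : CommGroup Z := { (inferInstance : Group Z) with mul_comm := hZc }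
    exact Solv.subnormal_nilpotent_le_fitting hZn.isSubnormal inferInstance
  rw [eq_bot_iff, ← coprime_inf_pGroup (core_coprime (p := p) a) (isPGroup_pCore p X)]
  exact le_inf (hle a ha ha1) ((hcF.trans hZ.ge).trans hZQ)

/-- Passing from `G` to the centralizer of `b` modulo its `p'`-core. -/
theorem delta_inf_le {k : ℕ} (hk : 1 ≤ k) {A : Subgroup X} (hA : Cfsg.IsElementaryAbelian p A)
    (hAk : Nat.card A = p ^ k) {b : X} (hAb : A ≤ Subgroup.centralizer {b})
    (hloc : ∀ J : Subgroup (↥(Subgroup.centralizer ({b} : Set X)) ⧸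
        Cfsg.pPrimeCore p ↥(Subgroup.centralizer ({b} : Set X))), Cfsg.IsComponent J →
      Cfsg.IsLocallyKBalanced p k (↥J ⧸ Subgroup.center ↥J) ∨ Cfsg.IsLocallyKBalanced p k ↥J) :
    Cfsg.signalizerDelta p A ⊓ Subgroup.centralizer {b} ≤ Cfsg.centralizerPPrimeCore p b := by
  obtain ⟨C, hC⟩ : ∃ C, C = Subgroup.centralizer ({b} : Set X) := ⟨_, rfl⟩
  rw [Cfsg.centralizerPPrimeCore]
  rw [← hC] at hloc hAb ⊢
  obtain ⟨π, hπ⟩ : ∃ π : C →* C ⧸ Cfsg.pPrimeCore p C, π = QuotientGroup.mk' _ := ⟨_, rfl⟩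
  have hsurj : Function.Surjective π := hπ ▸ QuotientGroup.mk'_surjective _
  have hker : π.ker = Cfsg.pPrimeCore p C := hπ ▸ QuotientGroup.ker_mk' _
  obtain ⟨A', hA'⟩ : ∃ A', A' = (A.subgroupOf C).map π := ⟨_, rfl⟩
  have hsubA : IsPGroup p (A.subgroupOf C) := (elab_isPGroup hA).of_equiv (Subgroup.subgroupOfEquivOfLe hAb).symm
  have hA'card : Nat.card A' = p ^ k := by
    have h1 := Solv.card_map_mul_card_inf_ker π (A.subgroupOf C)
    rw [hker, coprime_inf_pGroup (card_pPrimeCore_coprime p C) hsubA, Subgroup.card_bot, mul_one,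
      Solv.card_subgroupOf hAb, hAk] at h1
    rw [hA']; exact h1
  have hA'e : Cfsg.IsElementaryAbelian p A' := by
    subst hA'
    refine ⟨⟨⟨?_⟩⟩, ?_⟩
    · rintro ⟨_, u, hu, rfl⟩ ⟨_, v, hv, rfl⟩
      exact Subtype.ext (by
        show π u * π v = π v * π u
        rw [← map_mul, ← map_mul, show u * v = v * u from Subtype.ext (elab_comm hA hu hv)])
    · rintro _ ⟨u, hu, rfl⟩
      rw [← map_pow, show u ^ p = 1 from Subtype.ext (hA.2 _ hu), map_one]
  have hbot : Cfsg.signalizerDelta p A' = ⊥ := by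
    refine delta_eq_bot pPrimeCore_quotient_eq_bot hk hA'e hA'card fun J hJ hAJ => ?_
    rcases hloc J hJ with h | h
    · refine fixed_component_centralized pPrimeCore_quotient_eq_bot hk hA'e hA'card hJ hAJ
        (Subgroup.center J) le_rfl (fun n hn x y hxy hx => ?_) (MulEquiv.refl _) h
      refine Subgroup.mem_center_iff.2 fun z => Subtype.ext ?_
      simp only [Subgroup.coe_mul]
      have h1 := congrArg Subtype.val (Subgroup.mem_center_iff.1 hx
        ⟨n⁻¹ * (z : ↥C ⧸ Cfsg.pPrimeCore p ↥C) * n, (Subgroup.mem_normalizer_iff.1 hn _).2 (by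
          rw [show n * (n⁻¹ * (z : ↥C ⧸ Cfsg.pPrimeCore p ↥C) * n) * n⁻¹ = z by group]; exact z.2)⟩)
      simp only [Subgroup.coe_mul] at h1
      rw [hxy]
      calc (z : ↥C ⧸ Cfsg.pPrimeCore p ↥C) * (n * x * n⁻¹)
          = n * (n⁻¹ * (z : ↥C ⧸ Cfsg.pPrimeCore p ↥C) * n * x) * n⁻¹ := by group
        _ = n * (x * (n⁻¹ * (z : ↥C ⧸ Cfsg.pPrimeCore p ↥C) * n)) * n⁻¹ := by rw [h1]
        _ = _ := by group
    · exact fixed_component_centralized pPrimeCore_quotient_eq_bot hk hA'e hA'card hJ hAJ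
        ⊥ bot_le (fun n _ x y hxy hx => by
          rw [Subgroup.mem_bot] at hx ⊢
          exact Subtype.ext (by rw [hxy, hx]; simp)) QuotientGroup.quotientBot h
  intro d hd
  obtain ⟨hd1, hd2⟩ := Subgroup.mem_inf.1 hd
  have hdC : d ∈ C := hd2
  refine ⟨⟨d, hdC⟩, ?_, rfl⟩
  rw [SetLike.mem_coe, ← hker, MonoidHom.mem_ker, ← Subgroup.mem_bot, ← hbot]
  refine Subgroup.mem_iInf.2 ?_
  rintro ⟨a', ha', ha'1⟩
  rw [hA'] at ha'
  obtain ⟨⟨a, haC⟩, ha, rfl⟩ := ha'
  replace ha : a ∈ A := ha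
  have ha1 : a ≠ 1 := fun e => ha'1 (by
    show π ⟨a, haC⟩ = 1
    rw [show (⟨a, haC⟩ : C) = 1 from Subtype.ext e, map_one])
  have hda : d ∈ Cfsg.centralizerPPrimeCore p a := Subgroup.mem_iInf.1 hd1 ⟨a, ha, ha1⟩
  obtain ⟨W, hW⟩ : ∃ W, W = (Cfsg.centralizerPPrimeCore p a).subgroupOf C := ⟨_, rfl⟩
  have hWC : W ≤ Subgroup.centralizer {(⟨a, haC⟩ : C)} := fun w hw => by
    rw [hW] at hw
    exact Subgroup.mem_centralizer_singleton_iff.2 (Subtype.ext
      (Subgroup.mem_centralizer_singleton_iff.1 (core_le_centralizer a hw)))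
  have hWN : Subgroup.centralizer {(⟨a, haC⟩ : C)} ≤ Subgroup.normalizer (W : Set C) := fun w hw => by
    rw [hW]
    refine Subgroup.mem_normalizer_iff.2 fun z => ?_
    exact Subgroup.mem_normalizer_iff.1 (centralizer_le_normalizer_core a
      (Subgroup.mem_centralizer_singleton_iff.2
        (congrArg Subtype.val (Subgroup.mem_centralizer_singleton_iff.1 hw)))) (z : X)
  obtain ⟨W', hW'⟩ : ∃ W', W' = W.map π := ⟨_, rfl⟩
  have hW'C : W' ≤ Subgroup.centralizer {π ⟨a, haC⟩} := by
    rw [hW']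
    rintro _ ⟨w, hw, rfl⟩
    rw [Subgroup.mem_centralizer_singleton_iff, ← map_mul, ← map_mul,
      Subgroup.mem_centralizer_singleton_iff.1 (hWC hw)]
  haveI : (W'.subgroupOf (Subgroup.centralizer {π ⟨a, haC⟩})).Normal := ⟨by
    intro x hx g
    -- lift `g` to the centralizer of `a`
    obtain ⟨g₀, hg₀⟩ := hsurj g.1
    haveI : π.ker.Normal := inferInstance
    obtain ⟨F, hFdef⟩ : ∃ F, F = Subgroup.zpowers (⟨a, haC⟩ : C) := ⟨_, rfl⟩
    have hF : F ≤ A.subgroupOf C := hFdef ▸ Subgroup.zpowers_le.2 ha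
    have hFp : IsPGroup p F := hsubA.to_le hF
    have hga : π g₀ * π ⟨a, haC⟩ = π ⟨a, haC⟩ * π g₀ := by
      rw [hg₀]; exact Subgroup.mem_centralizer_singleton_iff.1 g.2
    obtain ⟨e, he, hn⟩ := Solv.exists_fixed_in_coset F π.ker
      (fun _ _ => by rw [Subgroup.normalizer_eq_top]; exact Subgroup.mem_top _) (by
        obtain ⟨j, hj⟩ := IsPGroup.iff_card.1 hFp
        rw [hj, hker]
        exact (card_pPrimeCore_coprime p C).symm.pow_left j)
      (Or.inl (haveI := hFp.isNilpotent; inferInstance)) (x := g₀) (fun f hf => by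
        rw [hFdef] at hf
        obtain ⟨i, rfl⟩ := hf
        rw [MonoidHom.mem_ker, map_mul, map_mul, map_mul, map_inv, map_inv, map_zpow,
          ← ((show Commute (π g₀) (π ⟨a, haC⟩) from hga).zpow_right i).eq]
        group)
    have hπc : π (g₀ * e) = g.1 := by rw [map_mul, MonoidHom.mem_ker.1 he, mul_one, hg₀]
    have haF : (⟨a, haC⟩ : C) ∈ F := hFdef ▸ Subgroup.mem_zpowers _
    have hfix : (g₀ * e) * ⟨a, haC⟩ * (g₀ * e)⁻¹ * (⟨a, haC⟩ : C)⁻¹ ∈ π.ker ⊓ F := by
      refine Subgroup.mem_inf.2 ⟨?_, mul_mem ((Subgroup.mem_normalizer_iff.1 hn _).1 haF) (inv_mem haF)⟩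
      rw [MonoidHom.mem_ker, map_mul, map_mul, map_mul, map_inv, map_inv, hπc, ← hg₀, hga]
      group
    rw [hker, coprime_inf_pGroup (card_pPrimeCore_coprime p C) hFp, Subgroup.mem_bot,
      mul_inv_eq_one, mul_inv_eq_iff_eq_mul] at hfix
    obtain ⟨c, hcdef⟩ : ∃ c, c = g₀ * e := ⟨_, rfl⟩
    rw [← hcdef] at hπc hfix
    have hcW : c ∈ Subgroup.normalizer (W : Set C) :=
      hWN (Subgroup.mem_centralizer_singleton_iff.2 hfix)
    have hx' : (x : ↥C ⧸ _) ∈ W' := hx
    rw [hW'] at hx'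
    obtain ⟨w, hw, hwx⟩ := hx'
    rw [Subgroup.mem_subgroupOf, Subgroup.coe_mul, Subgroup.coe_mul, Subgroup.coe_inv, hW']
    exact ⟨c * w * c⁻¹, (Subgroup.mem_normalizer_iff.1 hcW _).1 hw,
      by rw [map_mul, map_mul, map_inv, hπc, hwx]⟩⟩
  have hdW' : π ⟨d, hdC⟩ ∈ W' := by
    rw [hW', hW]; exact Subgroup.mem_map_of_mem π (Subgroup.mem_subgroupOf.2 hda)
  refine ⟨⟨π ⟨d, hdC⟩, hW'C hdW'⟩, le_pPrimeCore
    (N := W'.subgroupOf (Subgroup.centralizer {π ⟨a, haC⟩})) ?_ ?_, rfl⟩
  · rw [Solv.card_subgroupOf hW'C, hW']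
    refine (core_coprime (p := p) a).coprime_dvd_left ((Subgroup.card_map_dvd _ π).trans ?_)
    rw [← Solv.card_map_subtype, hW, Subgroup.subgroupOf_map_subtype]
    exact Subgroup.card_dvd_of_le inf_le_left
  · exact Subgroup.mem_subgroupOf.2 hdW'

end Cfsg.Agent.LocBal
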