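import Cfsg.Agent.Lib.Fusion.PLayerBasics
import Cfsg.Agent.Lib.Fusion.AB
import Cfsg.Agent.Lib.Fusion.Reduction

/-!
Inheritance of `C(O_p) ≤ O_p` by p-local subgroups.
-/

set_option autoImplicit false
set_option linter.style.haveILetI false

open scoped commutatorElement

namespace Cfsg.Agent.Fusion

variable {G : Type*} [Group G] [Finite G] {p : ℕ} [hp : Fact p.Prime]

omit [Finite G] in
theorem isPGroup_of_pPrime_elements {H : Subgroup G} [Finite H]
    (h : ∀ x ∈ H, (orderOf x).Coprime p → x = 1) : IsPGroup p ↥H := by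
  intro x
  refine ⟨(orderOf x).factorization p, Subtype.ext ?_⟩
  refine h _ (H.pow_mem x.2 _) ?_
  rw [Subgroup.orderOf_coe, orderOf_pow' _ (pow_ne_zero _ hp.out.ne_zero),
    Nat.gcd_eq_right (Nat.ordProj_dvd _ _), Nat.coprime_comm]
  exact Nat.coprime_ordCompl hp.out (orderOf_pos x).ne'

/-- The basic inheritance lemma. -/
theorem local_constrained {Q T K : Subgroup G} (hQ : IsPGroup p Q) (hT : IsPGroup p T)
    (hTQ : T ≤ Subgroup.normalizer (Q : Set G)) (hKQ : K ≤ Subgroup.normalizer (Q : Set G))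
    (hfix : Q ⊓ Subgroup.centralizer (T : Set G) ≤ K)
    (hKT : ∀ x : ↥K, x ∈ Subgroup.centralizer (Cfsg.pCore p ↥K : Set ↥K) →
      ∀ t ∈ T, (x : G) * t = t * x)
    (hQ1 : ∀ x ∈ K, (orderOf x).Coprime p → x ∈ Subgroup.centralizer (Q : Set G) → x = 1) :
    Cfsg.pPrimeCore p ↥K = ⊥ ∧
      Subgroup.centralizer (Cfsg.pCore p ↥K : Set ↥K) ≤ Cfsg.pCore p ↥K := by
  obtain ⟨O, hO⟩ : ∃ O, O = Cfsg.pCore p ↥K := ⟨_, rfl⟩
  haveI : O.Normal := hO ▸ inferInstance
  rw [← hO]
  haveI : (Subgroup.centralizer (O : Set ↥K)).Normal := Subgroup.normal_centralizer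
  have hQK : (Q ⊓ K).subgroupOf K ≤ O := by
    haveI : ((Q ⊓ K).subgroupOf K).Normal := by
      rw [Subgroup.normal_subgroupOf_iff_le_normalizer inf_le_right]
      exact fun k hk => mem_normalizer_of_cj_le (by rw [cj_inf, cj_eq_self (hKQ hk), cj_eq_self_of_mem hk])
    rw [hO]
    exact le_pCore ((hQ.to_inf_left (K := K)).comap_subtype)
  have hC : IsPGroup p ↥(Subgroup.centralizer (O : Set ↥K)) := by
    refine isPGroup_of_pPrime_elements fun x hx hxp => Subtype.ext ?_
    have hxp' : (orderOf (x : G)).Coprime p := by rwa [Subgroup.orderOf_coe]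
    have hxT := hKT x (hO ▸ hx)
    refine hQ1 x x.2 hxp' (mem_centralizer_of_AB hQ hT hTQ (hKQ x.2) hxT hxp' fun q hq hqT => ?_)
    have hqK : q ∈ K := hfix (Subgroup.mem_inf.2 ⟨hq, Subgroup.mem_centralizer_iff.2 fun t ht => (hqT t ht).symm⟩)
    exact (congrArg Subtype.val (Subgroup.mem_centralizer_iff.1 hx ⟨q, hqK⟩
      (hQK (Subgroup.mem_inf.2 ⟨hq, hqK⟩)))).symm
  refine ⟨?_, hO ▸ le_pCore (hO ▸ hC)⟩
  have h1 : Cfsg.pPrimeCore p ↥K ≤ Subgroup.centralizer (O : Set ↥K) := hO ▸ pPrimeCore_commutes_pCore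
  have h2 := coprime_inf_pGroup (card_pPrimeCore_coprime p ↥K) hC
  rwa [inf_eq_left.2 h1] at h2

theorem pPrimeCore_eq_bot_of_centralizer (h : Subgroup.centralizer (Cfsg.pCore p G : Set G) ≤ Cfsg.pCore p G) :
    Cfsg.pPrimeCore p G = ⊥ := by
  have h1 : Cfsg.pPrimeCore p G ≤ Cfsg.pCore p G := pPrimeCore_commutes_pCore.trans h
  have h2 := coprime_inf_pGroup (card_pPrimeCore_coprime p G) (isPGroup_pCore p G)
  rwa [inf_eq_left.2 h1] at h2

/-- `F*` is `O_p` iff `C(O_p) ≤ O_p`. -/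
theorem gfit_eq_pCore_iff : Cfsg.generalizedFittingSubgroup G = Cfsg.pCore p G ↔
    Subgroup.centralizer (Cfsg.pCore p G : Set G) ≤ Cfsg.pCore p G := by
  constructor
  · intro h
    have := Solv.centralizer_gfit_le (G := G)
    rwa [h] at this
  · intro h
    have h0 := pPrimeCore_eq_bot_of_centralizer h
    rw [Cfsg.generalizedFittingSubgroup, (centralizer_pCore_le_iff_layer h0).1 h, bot_sup_eq,
      fitting_eq_pCore h0]

theorem isPGroup_gfit_iff : IsPGroup p ↥(Cfsg.generalizedFittingSubgroup G) ↔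
    Subgroup.centralizer (Cfsg.pCore p G : Set G) ≤ Cfsg.pCore p G := by
  constructor
  · intro h
    refine gfit_eq_pCore_iff.1 (le_antisymm ?_ ?_)
    · haveI : (Cfsg.generalizedFittingSubgroup G).Normal := Local.gfit_normal
      exact le_pCore h
    · exact (Solv.pCore_le_fitting p).trans le_sup_right
  · intro h
    rw [gfit_eq_pCore_iff.2 h]
    exact isPGroup_pCore p G

/-- p-local subgroups inherit `C(O_p) ≤ O_p`. -/
theorem normalizer_constrained (h : Subgroup.centralizer (Cfsg.pCore p G : Set G) ≤ Cfsg.pCore p G)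
    {P : Subgroup G} (hP : IsPGroup p P) :
    Cfsg.pPrimeCore p ↥(Subgroup.normalizer (P : Set G)) = ⊥ ∧
      Subgroup.centralizer (Cfsg.pCore p ↥(Subgroup.normalizer (P : Set G)) : Set ↥(Subgroup.normalizer (P : Set G)))
        ≤ Cfsg.pCore p ↥(Subgroup.normalizer (P : Set G)) := by
  have hnorm : ∀ H : Subgroup G, H ≤ Subgroup.normalizer (Cfsg.pCore p G : Set G) := fun H => by
    rw [Subgroup.normalizer_eq_top]; exact le_top
  refine local_constrained (isPGroup_pCore p G) hP (hnorm P) (hnorm _)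
    (inf_le_right.trans (Subgroup.centralizer_le_normalizer _)) (fun x hx t ht => ?_) (fun x _ hxp hx => ?_)
  · haveI : (P.subgroupOf (Subgroup.normalizer (P : Set G))).Normal :=
      (Subgroup.normal_subgroupOf_iff_le_normalizer Subgroup.le_normalizer).2 le_rfl
    have htO : (⟨t, Subgroup.le_normalizer ht⟩ : ↥(Subgroup.normalizer (P : Set G))) ∈
        Cfsg.pCore p ↥(Subgroup.normalizer (P : Set G)) :=
      le_pCore (N := P.subgroupOf (Subgroup.normalizer (P : Set G))) hP.comap_subtype ht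
    exact (congrArg Subtype.val (Subgroup.mem_centralizer_iff.1 hx _ htO)).symm
  · obtain ⟨j, hj⟩ := isPGroup_pCore p G ⟨x, h hx⟩
    exact orderOf_eq_one_iff.1 (Nat.eq_one_of_dvd_coprimes (hxp.pow_right j) dvd_rfl
      (orderOf_dvd_of_pow_eq_one (congrArg Subtype.val hj)))

/-- `p`-locals of a p-constrained group are p-constrained, with small p'-core. -/
theorem normalizer_pConstrained (hG : Cfsg.IsPConstrained p G) {P : Subgroup G} (hP : IsPGroup p P) :
    Cfsg.IsPConstrained p ↥(Subgroup.normalizer (P : Set G)) ∧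
      (Cfsg.pPrimeCore p ↥(Subgroup.normalizer (P : Set G))).map (Subgroup.normalizer (P : Set G)).subtype
        ≤ Cfsg.pPrimeCore p G := by
  obtain ⟨R, hR⟩ : ∃ R, R = Cfsg.pPrimeCore p G := ⟨_, rfl⟩
  haveI : R.Normal := hR ▸ inferInstance
  have hRc : (Nat.card R).Coprime p := hR ▸ card_pPrimeCore_coprime p G
  have hQ : Subgroup.centralizer (Cfsg.pCore p (G ⧸ R) : Set (G ⧸ R)) ≤ Cfsg.pCore p (G ⧸ R) := by
    subst hR; exact isPConstrained_iff.1 hG
  set π := QuotientGroup.mk' R with hπ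
  obtain ⟨N, hN⟩ : ∃ N, N = Subgroup.normalizer (P : Set G) := ⟨_, rfl⟩
  rw [← hN, ← hR]
  obtain ⟨h0, hcN⟩ := normalizer_constrained hQ (hP.map π)
  obtain ⟨M, hM⟩ : ∃ M, M = Subgroup.normalizer (P.map π : Set (G ⧸ R)) := ⟨_, rfl⟩
  rw [← hM] at h0 hcN
  have hmem : ∀ x ∈ N, π x ∈ M := fun x hx =>
    hM ▸ Subgroup.le_normalizer_map π (Subgroup.mem_map_of_mem π (hN ▸ hx))
  let φ : ↥N →* ↥M := (π.comp N.subtype).codRestrict M fun x => hmem x x.2
  have hφ : Function.Surjective φ := by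
    rintro ⟨y, hy⟩
    obtain ⟨x, hx, hxy⟩ := exists_lift_normalizer hRc hP (hM ▸ hy)
    exact ⟨⟨x, hN ▸ hx⟩, Subtype.ext hxy⟩
  have hk : φ.ker = R.subgroupOf N := by
    ext x
    rw [MonoidHom.mem_ker, Subgroup.mem_subgroupOf, Subtype.ext_iff]
    exact QuotientGroup.eq_one_iff (x : G)
  have hcore : Cfsg.pPrimeCore p ↥N = R.subgroupOf N := by
    refine le_antisymm ?_ (le_pPrimeCore ?_)
    · rw [← hk, ← Subgroup.map_eq_bot_iff]
      haveI : ((Cfsg.pPrimeCore p ↥N).map φ).Normal := Subgroup.Normal.map inferInstance φ hφ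
      refine le_bot_iff.1 (h0 ▸ le_pPrimeCore ?_)
      exact (card_pPrimeCore_coprime p ↥N).coprime_dvd_left (Subgroup.card_map_dvd _ φ)
    · rw [← Subgroup.card_map_of_injective N.subtype_injective, Subgroup.subgroupOf_map_subtype]
      exact hRc.coprime_dvd_left (Subgroup.card_dvd_of_le inf_le_left)
  refine ⟨isPConstrained_iff.2 (centralizer_pCore_equiv
    ((QuotientGroup.quotientMulEquivOfEq (hcore.trans hk.symm)).trans
      (QuotientGroup.quotientKerEquivOfSurjective φ hφ)) hcN), ?_⟩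
  rw [hcore, Subgroup.subgroupOf_map_subtype]
  exact inf_le_left

/-- centralizers of `p`-subgroups of a p-constrained group are p-constrained. -/
theorem centralizer_pConstrained (hG : Cfsg.IsPConstrained p G) {P : Subgroup G} (hP : IsPGroup p P) :
    Cfsg.IsPConstrained p ↥(Subgroup.centralizer (P : Set G)) := by
  obtain ⟨R, hR⟩ : ∃ R, R = Cfsg.pPrimeCore p G := ⟨_, rfl⟩
  haveI : R.Normal := hR ▸ inferInstance
  have hRc : (Nat.card R).Coprime p := hR ▸ card_pPrimeCore_coprime p G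
  have hQ : Subgroup.centralizer (Cfsg.pCore p (G ⧸ R) : Set (G ⧸ R)) ≤ Cfsg.pCore p (G ⧸ R) := by
    subst hR; exact isPConstrained_iff.1 hG
  set π := QuotientGroup.mk' R with hπ
  obtain ⟨N, hN⟩ : ∃ N, N = Subgroup.centralizer (P : Set G) := ⟨_, rfl⟩
  rw [← hN]
  have hnorm : ∀ H : Subgroup (G ⧸ R), H ≤ Subgroup.normalizer (Cfsg.pCore p (G ⧸ R) : Set (G ⧸ R)) := fun H => by
    rw [Subgroup.normalizer_eq_top]; exact le_top
  obtain ⟨h0, hcN⟩ := local_constrained (K := Subgroup.centralizer (P.map π : Set (G ⧸ R)))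
    (isPGroup_pCore p (G ⧸ R)) (hP.map π) (hnorm _) (hnorm _) inf_le_right
    (fun x _ t ht => (Subgroup.mem_centralizer_iff.1 x.2 t ht).symm) (fun x _ hxp hx => by
      obtain ⟨j, hj⟩ := isPGroup_pCore p (G ⧸ R) ⟨x, hQ hx⟩
      exact orderOf_eq_one_iff.1 (Nat.eq_one_of_dvd_coprimes (hxp.pow_right j) dvd_rfl
        (orderOf_dvd_of_pow_eq_one (congrArg Subtype.val hj))))
  obtain ⟨M, hM⟩ : ∃ M, M = Subgroup.centralizer (P.map π : Set (G ⧸ R)) := ⟨_, rfl⟩
  rw [← hM] at h0 hcN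
  have hmem : ∀ x ∈ N, π x ∈ M := fun x hx =>
    hM ▸ Subgroup.mem_centralizer_iff.2 (by rintro _ ⟨t, ht, rfl⟩; rw [← map_mul, ← map_mul, Subgroup.mem_centralizer_iff.1 (hN ▸ hx) t ht])
  let φ : ↥N →* ↥M := (π.comp N.subtype).codRestrict M fun x => hmem x x.2
  have hφ : Function.Surjective φ := by
    rintro ⟨y, hy⟩
    obtain ⟨x, hx, hxy⟩ := exists_lift_normalizer hRc hP (Subgroup.centralizer_le_normalizer _ (hM ▸ hy))
    refine ⟨⟨x, hN ▸ Subgroup.mem_centralizer_iff.2 fun t ht => ?_⟩, Subtype.ext hxy⟩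
    have e : π (x * t * x⁻¹) = π t := by
      rw [map_mul, map_mul, map_inv, show π x = y from hxy,
        ← Subgroup.mem_centralizer_iff.1 (hM ▸ hy : y ∈ Subgroup.centralizer (P.map π : Set (G ⧸ R))) (π t)
          (Subgroup.mem_map_of_mem π ht), mul_inv_cancel_right]
    have h1 := injOn_mk_of_coprime hRc hP ((Subgroup.mem_normalizer_iff.1 hx t).1 ht) ht e
    exact (mul_inv_eq_iff_eq_mul.1 h1).symm
  have hk : φ.ker = R.subgroupOf N := by
    ext x
    rw [MonoidHom.mem_ker, Subgroup.mem_subgroupOf, Subtype.ext_iff]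
    exact QuotientGroup.eq_one_iff (x : G)
  have hcore : Cfsg.pPrimeCore p ↥N = R.subgroupOf N := by
    refine le_antisymm ?_ (le_pPrimeCore ?_)
    · rw [← hk, ← Subgroup.map_eq_bot_iff]
      haveI : ((Cfsg.pPrimeCore p ↥N).map φ).Normal := Subgroup.Normal.map inferInstance φ hφ
      refine le_bot_iff.1 (h0 ▸ le_pPrimeCore ?_)
      exact (card_pPrimeCore_coprime p ↥N).coprime_dvd_left (Subgroup.card_map_dvd _ φ)
    · rw [← Subgroup.card_map_of_injective N.subtype_injective, Subgroup.subgroupOf_map_subtype]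
      exact hRc.coprime_dvd_left (Subgroup.card_dvd_of_le inf_le_left)
  exact isPConstrained_iff.2 (centralizer_pCore_equiv
    ((QuotientGroup.quotientMulEquivOfEq (hcore.trans hk.symm)).trans
      (QuotientGroup.quotientKerEquivOfSurjective φ hφ)) hcN)

end Cfsg.Agent.Fusion
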