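import Cfsg.Agent.Lib.Solv.UniqueSub
import Cfsg.Agent.Lib.Perm.Huppert
import Cfsg.Agent.Lib.Local.ElemAb

/-!
# Normal four groups in 2-groups of rank at least three
-/

set_option autoImplicit false
set_option linter.style.haveILetI false

namespace Cfsg.Agent.Fusion

variable {X : Type*} [Group X] [Finite X]

theorem normal_four_le (hX : IsPGroup 2 X) (W : Subgroup X) [W.Normal]
    (hW : Cfsg.IsElementaryAbelian 2 W) (h4 : 4 ≤ Nat.card W) :
    ∃ V : Subgroup X, V ≤ W ∧ V.Normal ∧ Cfsg.IsElementaryAbelian 2 V ∧ Nat.card V = 4 := by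
  haveI : Fact (Nat.Prime 2) := ⟨Nat.prime_two⟩
  haveI : Nontrivial W := Finite.one_lt_card_iff_nontrivial.1 (by omega)
  obtain ⟨z, hzW, hzc, hz1⟩ := Perm.exists_ne_one_center hX W
  have hz2 : orderOf z = 2 := orderOf_eq_prime (hW.2 z hzW) hz1
  haveI hZn : (Subgroup.zpowers z).Normal := ⟨fun x hx g => by
    have : x ∈ Subgroup.center X := (Subgroup.zpowers_le.2 hzc) hx
    rw [Subgroup.mem_center_iff.1 this g, mul_inv_cancel_right]; exact hx⟩
  set f := QuotientGroup.mk' (Subgroup.zpowers z) with hf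
  haveI : (W.map f).Normal := Subgroup.Normal.map inferInstance f (QuotientGroup.mk'_surjective _)
  haveI : Nontrivial ↥(W.map f) := by
    rw [Subgroup.nontrivial_iff_ne_bot, Ne, Subgroup.map_eq_bot_iff, hf, QuotientGroup.ker_mk']
    intro h
    have := Subgroup.card_le_of_le h
    rw [Nat.card_zpowers, hz2] at this; omega
  obtain ⟨wb, hwbW, hwbc, hwb1⟩ := Perm.exists_ne_one_center (hX.to_quotient (Subgroup.zpowers z)) (W.map f)
  obtain ⟨w, hw, rfl⟩ := hwbW
  have hV : Cfsg.IsElementaryAbelian 2 (Subgroup.zpowers z ⊔ Subgroup.zpowers w) :=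
    Local.elemAb_mono hW (sup_le (Subgroup.zpowers_le.2 hzW) (Subgroup.zpowers_le.2 hw))
  have heq : Subgroup.zpowers z ⊔ Subgroup.zpowers w = (Subgroup.zpowers (f w)).comap f := by
    rw [← MonoidHom.map_zpowers, Subgroup.comap_map_eq, hf, QuotientGroup.ker_mk', sup_comm]
  refine ⟨_, sup_le (Subgroup.zpowers_le.2 hzW) (Subgroup.zpowers_le.2 hw), ?_, hV, ?_⟩
  · rw [heq]
    refine Subgroup.Normal.comap ⟨fun x hx g => ?_⟩ f
    have : x ∈ Subgroup.center (X ⧸ Subgroup.zpowers z) := (Subgroup.zpowers_le.2 hwbc) hx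
    rw [Subgroup.mem_center_iff.1 this g, mul_inv_cancel_right]; exact hx
  · have ho : orderOf (f w) = 2 := orderOf_eq_prime (by rw [← map_pow, hW.2 w hw, map_one]) hwb1
    have h := (Subgroup.zpowers z ⊔ Subgroup.zpowers w).card_mul_index
    rw [show (Subgroup.zpowers z ⊔ Subgroup.zpowers w).index = (Subgroup.zpowers (f w)).index by
      rw [heq]; exact Subgroup.index_comap_of_surjective _ (QuotientGroup.mk'_surjective _)] at h
    have h1 := (Subgroup.zpowers (f w)).card_mul_index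
    rw [Nat.card_zpowers, ho] at h1
    have h2 := Subgroup.card_eq_card_quotient_mul_card_subgroup (Subgroup.zpowers z)
    rw [← h1, Nat.card_zpowers, hz2] at h2
    rw [h2] at h
    have h0 := (Subgroup.zpowers (f w)).index_ne_zero_of_finite
    nlinarith [Nat.eq_of_mul_eq_mul_right (Nat.pos_of_ne_zero h0)
      (show Nat.card ↥(Subgroup.zpowers z ⊔ Subgroup.zpowers w) * (Subgroup.zpowers (f w)).index =
        4 * (Subgroup.zpowers (f w)).index by rw [h]; ring)]

theorem card_sq_roots_small (k : ℕ) (hk : k < 3) : Nat.card {x : ZMod (2 ^ k) // x * x = 1} < 4 := by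
  interval_cases k <;> rw [Nat.card_eq_fintype_card] <;> decide

theorem sq_root_cases (k : ℕ) (hk : 1 ≤ k) (r : ZMod (2 ^ k)) (hr : r * r = 1) :
    r = 1 ∨ r = -1 ∨ r = 1 + ((2 ^ (k - 1) : ℕ) : ZMod (2 ^ k)) ∨
      r = -1 + ((2 ^ (k - 1) : ℕ) : ZMod (2 ^ k)) := by
  obtain ⟨j, rfl⟩ := Nat.exists_eq_add_of_le' hk
  obtain ⟨s, rfl⟩ := ZMod.intCast_surjective r
  have hd : ((2 ^ (j + 1) : ℕ) : ℤ) ∣ (s - 1) * (s + 1) := by
    rw [← ZMod.intCast_zmod_eq_zero_iff_dvd]
    push_cast
    linear_combination hr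
  push_cast at hd
  have hodd : Odd s := by
    by_contra h
    rw [Int.not_odd_iff_even] at h
    obtain ⟨t, rfl⟩ := h
    obtain ⟨c, hc⟩ := (dvd_trans (Dvd.intro_left _ (pow_succ (2 : ℤ) j).symm) hd)
    ring_nf at hc; omega
  obtain ⟨t, rfl⟩ := hodd
  have hd2 : (2 : ℤ) ^ (j + 1) ∣ 4 * (t * (t + 1)) := by
    rw [show 4 * (t * (t + 1)) = (2 * t + 1 - 1) * (2 * t + 1 + 1) by ring]; exact hd
  -- one of `t`, `t + 1` is odd
  have key : ∀ u v : ℤ, Odd v → (2 : ℤ) ^ (j + 1) ∣ 4 * (u * v) →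
      ((2 * u : ℤ) : ZMod (2 ^ (j + 1))) = 0 ∨ ((2 * u : ℤ) : ZMod (2 ^ (j + 1))) = ((2 ^ j : ℕ) : ZMod (2 ^ (j + 1))) := by
    intro u v hv h
    have hcop : IsCoprime ((2 : ℤ) ^ (j + 1)) v := by
      refine IsCoprime.pow_left ?_
      obtain ⟨q, rfl⟩ := hv
      exact ⟨-q, 1, by ring⟩
    have h4 : (2 : ℤ) ^ (j + 1) ∣ 4 * u := hcop.dvd_of_dvd_mul_right (by rwa [mul_assoc])
    rw [pow_succ', show (4 : ℤ) * u = 2 * (2 * u) by ring, mul_dvd_mul_iff_left (by norm_num)] at h4
    obtain ⟨c, hc⟩ := h4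
    have hz : ((2 ^ j : ℕ) : ZMod (2 ^ (j + 1))) + ((2 ^ j : ℕ) : ZMod (2 ^ (j + 1))) = 0 := by
      rw [← Nat.cast_add, ← two_mul, ← pow_succ', ZMod.natCast_self]
    rw [hc]
    push_cast at hz ⊢
    rcases Int.even_or_odd c with ⟨d, rfl⟩ | ⟨d, rfl⟩
    · left; push_cast; linear_combination (d : ZMod (2 ^ (j + 1))) * hz
    · right; push_cast; linear_combination (d : ZMod (2 ^ (j + 1))) * hz
  simp only [Nat.add_sub_cancel]
  rcases Int.even_or_odd t with ht | ht
  · rcases key t (t + 1) ht.add_one hd2 with h | h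
    · left; push_cast at h ⊢; linear_combination h
    · right; right; left; push_cast at h ⊢; linear_combination h
  · rcases key (t + 1) t ht (by rwa [mul_comm t] at hd2) with h | h
    · right; left; push_cast at h ⊢; linear_combination h
    · right; right; right; push_cast at h ⊢; linear_combination h

/-- A 2-group with an elementary abelian subgroup of order 8 has a normal four group. -/
theorem exists_normal_four (hX : IsPGroup 2 X) (E : Subgroup X) (hE : Cfsg.IsElementaryAbelian 2 E)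
    (h8 : 8 ≤ Nat.card E) :
    ∃ V : Subgroup X, V.Normal ∧ Cfsg.IsElementaryAbelian 2 V ∧ Nat.card V = 4 := by
  classical
  haveI : Fact (Nat.Prime 2) := ⟨Nat.prime_two⟩
  by_contra hno
  obtain ⟨A, hAn, hAab, hAc⟩ := Solv.exists_maximal_abelian_normal hX
  -- at most two square roots of one in `A`
  have hom : ∀ x ∈ A, ∀ y ∈ A, x ^ 2 = 1 → y ^ 2 = 1 → y ≠ 1 → x ≠ 1 → x = y := by
    intro x hx y hy hx2 hy2 hy1 hx1
    by_contra hne
    let W : Subgroup X :=
      { carrier := {a | a ∈ A ∧ a ^ 2 = 1}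
        one_mem' := ⟨one_mem A, one_pow 2⟩
        mul_mem' := fun {a b} ha hb => ⟨mul_mem ha.1 hb.1, by
          rw [Commute.mul_pow (hAab a ha.1 b hb.1), ha.2, hb.2, one_mul]⟩
        inv_mem' := fun {a} ha => ⟨inv_mem ha.1, by rw [inv_pow, ha.2, inv_one]⟩ }
    haveI : W.Normal := ⟨fun a ha g => ⟨hAn.conj_mem a ha.1 g, by rw [conj_pow, ha.2]; group⟩⟩
    have hW : Cfsg.IsElementaryAbelian 2 W :=
      ⟨⟨⟨fun a b => Subtype.ext (hAab a a.2.1 b b.2.1)⟩⟩, fun a ha => ha.2⟩
    have h4 : 4 ≤ Nat.card W := by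
      have hxy1 : x * y ≠ 1 := fun h => hne (by
        rw [← inv_eq_of_mul_eq_one_right h]; rw [sq] at hx2
        exact (inv_eq_of_mul_eq_one_right hx2).symm)
      let g : Fin 4 → W := ![1, ⟨x, hx, hx2⟩, ⟨y, hy, hy2⟩, ⟨x * y, mul_mem hx hy, by
        rw [Commute.mul_pow (hAab x hx y hy), hx2, hy2, one_mul]⟩]
      have hg : Function.Injective g := by
        intro i k hik
        have h' := congrArg Subtype.val hik
        fin_cases i <;> fin_cases k <;> simp [g] at h' ⊢ <;>
          first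
            | exact absurd h' hx1 | exact absurd h'.symm hx1 | exact absurd h' hy1 | exact absurd h'.symm hy1
            | exact absurd h' hne | exact absurd h'.symm hne | exact absurd h' hxy1 | exact absurd h'.symm hxy1
      have := Nat.card_le_card_of_injective g hg
      rwa [Nat.card_fin] at this
    obtain ⟨V, -, h1, h2, h3⟩ := normal_four_le hX W hW h4
    exact hno ⟨V, h1, h2, h3⟩
  obtain ⟨⟨a, haA⟩, -, hgen⟩ := Solv.abelian_cyclic_of_unique (hX.to_subgroup A)
    (fun x y hx hy hy1 => by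
      by_cases hx1 : x = 1
      · rw [hx1]; exact one_mem _
      · rw [show x = y from Subtype.ext (hom x x.2 y y.2 (congrArg Subtype.val hx) (congrArg Subtype.val hy)
          (fun h => hy1 (Subtype.ext h)) (fun h => hx1 (Subtype.ext h)))]
        exact Subgroup.mem_zpowers y) ⊤ (fun x _ y _ => Subtype.ext (hAab x x.2 y y.2))
  have hA : A = Subgroup.zpowers a := by
    refine le_antisymm (fun x hx => ?_) (Subgroup.zpowers_le.2 haA)
    obtain ⟨i, hi⟩ := Subgroup.mem_zpowers_iff.1 (hgen.le (Subgroup.mem_top (⟨x, hx⟩ : A)))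
    exact ⟨i, congrArg Subtype.val hi⟩
  obtain ⟨k, hk⟩ := IsPGroup.iff_orderOf.1 hX a
  have hpow : ∀ i j : ℤ, ((i : ZMod (2 ^ k)) = j ↔ a ^ i = a ^ j) := fun i j => by
    rw [ZMod.intCast_eq_intCast_iff, zpow_eq_zpow_iff_modEq, hk]
  have hact : ∀ g : X, ∃ r : ℤ, g * a * g⁻¹ = a ^ r := fun g => by
    obtain ⟨r, hr⟩ := Subgroup.mem_zpowers_iff.1 (hA ▸ hAn.conj_mem a haA g)
    exact ⟨r, hr.symm⟩
  choose r hr using hact
  have hcent : ∀ g : X, g * a * g⁻¹ = a → g ∈ A := fun g hg => by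
    rw [← hAc, hA, Subgroup.mem_centralizer_iff]
    intro b hb
    obtain ⟨i, rfl⟩ := Subgroup.mem_zpowers_iff.1 hb
    exact (Commute.zpow_right (show Commute g a from mul_inv_eq_iff_eq_mul.1 hg) i).eq.symm
  let φ : E → ZMod (2 ^ k) := fun e => (r e : ℤ)
  have hsq : ∀ e : E, φ e * φ e = 1 := by
    intro e
    have he : (e : X) * e = 1 := by rw [← sq]; exact hE.2 e e.2
    show ((r e : ℤ) : ZMod (2 ^ k)) * (r e : ℤ) = 1
    rw [← Int.cast_mul, ← Int.cast_one, hpow, zpow_one, zpow_mul]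
    calc (a ^ r e) ^ r e = ((e : X) * a * (e : X)⁻¹) ^ r e := by rw [hr e]
      _ = (e : X) * a ^ r e * (e : X)⁻¹ := by rw [conj_zpow]
      _ = (e : X) * ((e : X) * a * (e : X)⁻¹) * (e : X)⁻¹ := by rw [hr e]
      _ = (e * e : X) * a * (e * e : X)⁻¹ := by group
      _ = a := by rw [he]; group
  have hfib : ∀ e f : E, φ e = φ f → ((e : X)⁻¹ * f) ∈ A := fun e f h => by
    refine hcent _ ?_
    have h1 : (e : X) * a * (e : X)⁻¹ = (f : X) * a * (f : X)⁻¹ := by
      rw [hr, hr]; exact (hpow _ _).1 h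
    calc _ = (e : X)⁻¹ * ((f : X) * a * (f : X)⁻¹) * e := by group
      _ = (e : X)⁻¹ * ((e : X) * a * (e : X)⁻¹) * e := by rw [h1]
      _ = a := by group
  haveI : Fintype E := Fintype.ofFinite E
  have hfib2 : ∀ v ∈ Finset.univ.image φ, (Finset.univ.filter fun e => φ e = v).card ≤ 2 := by
    intro v _
    by_contra hgt
    rw [not_le, Finset.two_lt_card_iff] at hgt
    obtain ⟨e, f, g, he, hf, hg, hef, heg, hfg⟩ := hgt
    simp only [Finset.mem_filter, Finset.mem_univ, true_and] at he hf hg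
    refine hfg (mul_left_cancel (a := e⁻¹) (Subtype.ext ?_))
    exact hom _ (hfib e f (he.trans hf.symm)) _ (hfib e g (he.trans hg.symm)) (hE.2 _ (e⁻¹ * f).2)
      (hE.2 _ (e⁻¹ * g).2) (fun h => heg (inv_mul_eq_one.1 (Subtype.ext h)))
      (fun h => hef (inv_mul_eq_one.1 (Subtype.ext h)))
  have h4 : 4 ≤ (Finset.univ.image φ).card := by
    have := Finset.card_le_mul_card_image (s := (Finset.univ : Finset E)) 2 hfib2
    rw [Finset.card_univ, ← Nat.card_eq_fintype_card] at this
    omega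
  have hk3 : 3 ≤ k := by
    by_contra h
    haveI : NeZero (2 ^ k) := ⟨pow_ne_zero _ two_ne_zero⟩
    have h1 : (Finset.univ.image φ).card ≤ Nat.card {x : ZMod (2 ^ k) // x * x = 1} := by
      rw [Nat.card_eq_fintype_card (α := {x : ZMod (2 ^ k) // x * x = 1}), Fintype.card_subtype]
      refine Finset.card_le_card fun x hx => ?_
      obtain ⟨e, -, rfl⟩ := Finset.mem_image.1 hx
      exact Finset.mem_filter.2 ⟨Finset.mem_univ _, hsq e⟩
    have h2 := card_sq_roots_small k (by omega)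
    omega
  obtain ⟨e, he⟩ : ∃ e : E, φ e = 1 + ((2 ^ (k - 1) : ℕ) : ZMod (2 ^ k)) := by
    by_contra hne
    have hsub : Finset.univ.image φ ⊆
        ({1, -1, -1 + ((2 ^ (k - 1) : ℕ) : ZMod (2 ^ k))} : Finset (ZMod (2 ^ k))) := by
      intro x hx
      obtain ⟨e, -, rfl⟩ := Finset.mem_image.1 hx
      rcases sq_root_cases k (by omega) _ (hsq e) with h | h | h | h
      · simp [h]
      · simp [h]
      · exact absurd ⟨e, h⟩ hne
      · simp [h]
    have := (Finset.card_le_card hsub).trans Finset.card_le_three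
    omega
  set h := 2 ^ (k - 1) with hhdef
  have hh2 : 2 * h = 2 ^ k := by rw [hhdef, ← pow_succ']; congr 1; omega
  set z := a ^ h with hzdef
  have hzA : z ∈ A := pow_mem haA h
  have hz1 : z ≠ 1 := pow_ne_one_of_lt_orderOf (pow_ne_zero _ two_ne_zero) (by
    rw [hk]; exact Nat.pow_lt_pow_right one_lt_two (by omega))
  have hz2 : z ^ 2 = 1 := by rw [hzdef, ← pow_mul, mul_comm, hh2, ← hk, pow_orderOf_eq_one]
  have hzc : ∀ g : X, g * z * g⁻¹ = z := fun g =>
    hom _ (hAn.conj_mem z hzA g) _ hzA (by rw [conj_pow, hz2]; group) hz2 hz1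
      (fun h => hz1 (conj_eq_one_iff.1 h))
  have hea : (e : X) * a * (e : X)⁻¹ = a ^ (1 + (h : ℤ)) := by
    rw [hr e, ← hpow]; push_cast; exact he
  have heA : (e : X) ∉ A := fun hm => by
    have h1 : (e : X) * a * (e : X)⁻¹ = a := by rw [hAab _ hm a haA, mul_inv_cancel_right]
    rw [hea] at h1
    refine hz1 ?_
    rw [zpow_add, zpow_one, zpow_natCast, mul_eq_left] at h1
    exact h1
  have he2 : (e : X) ^ 2 = 1 := hE.2 e e.2
  have hV : Cfsg.IsElementaryAbelian 2 (Subgroup.zpowers z ⊔ Subgroup.zpowers (e : X)) :=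
    Local.elemAb_sup (Local.elemAb_zpowers hz2) (Local.elemAb_zpowers he2) (fun x hx y hy => by
      obtain ⟨i, rfl⟩ := Subgroup.mem_zpowers_iff.1 hx
      obtain ⟨j, rfl⟩ := Subgroup.mem_zpowers_iff.1 hy
      exact (Commute.zpow_zpow (mul_inv_eq_iff_eq_mul.1 (hzc e)).symm i j).eq)
  set V := Subgroup.zpowers z ⊔ Subgroup.zpowers (e : X)
  haveI : V.Normal := by
    rw [← Subgroup.normalizer_eq_top_iff, eq_top_iff]
    intro g _
    have hle : V ≤ V.comap (MulAut.conj g).toMonoidHom := by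
      refine sup_le (Subgroup.zpowers_le.2 ?_) (Subgroup.zpowers_le.2 ?_)
      · show g * z * g⁻¹ ∈ V
        rw [hzc g]; exact Subgroup.mem_sup_left (Subgroup.mem_zpowers z)
      · show g * (e : X) * g⁻¹ ∈ V
        have hdiff : (e : X)⁻¹ * (g * e * g⁻¹) ∈ A := by
          refine hcent _ ?_
          calc _ = (e : X)⁻¹ * (g * ((e : X) * (g⁻¹ * a * g) * (e : X)⁻¹) * g⁻¹) * e := by group
            _ = a := by
                obtain ⟨s, hs⟩ : ∃ s : ℤ, g⁻¹ * a * g = a ^ s := ⟨r g⁻¹, by simpa using hr g⁻¹⟩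
                rw [hs, ← conj_zpow, hea, ← zpow_mul, mul_comm, zpow_mul, ← conj_zpow, ← hs,
                  show g * (g⁻¹ * a * g) * g⁻¹ = a by group, ← hea]
                group
        obtain ⟨i, hi⟩ := Subgroup.mem_zpowers_iff.1 (hA.le hdiff)
        have hc : g * (e : X) * g⁻¹ = (e : X) * a ^ i := by rw [hi, mul_inv_cancel_left]
        have h2 : ((e : X) * a ^ i) * ((e : X) * a ^ i) = 1 := by
          rw [← hc, show g * (e : X) * g⁻¹ * (g * e * g⁻¹) = g * ((e : X) * e) * g⁻¹ by group, ← sq, he2]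
          group
        have h3 : a ^ ((1 + (h : ℤ)) * i + i) = 1 := by
          rw [zpow_add, zpow_mul, ← hea, conj_zpow]
          have : (e : X)⁻¹ = e := by rw [sq] at he2; exact inv_eq_of_mul_eq_one_right he2
          rw [this]
          calc _ = ((e : X) * a ^ i) * ((e : X) * a ^ i) := by group
            _ = 1 := h2
        have h4 := orderOf_dvd_iff_zpow_eq_one.2 h3
        rw [hk] at h4
        have h5 : (h : ℤ) ∣ i := by
          have h6 : ((2 * h : ℕ) : ℤ) ∣ (1 + (h : ℤ)) * i + i := by rwa [hh2]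
          obtain ⟨m, hm⟩ : ∃ m, h = 2 * m := ⟨2 ^ (k - 2), by rw [hhdef, ← pow_succ']; congr 1; omega⟩
          have hm2 : 2 ∣ m := by
            refine ⟨2 ^ (k - 3), ?_⟩
            have h7 : 2 * m = 2 * (2 * 2 ^ (k - 3)) := by
              rw [← hm, hhdef, ← pow_succ', ← pow_succ']; congr 1; omega
            omega
          have hcop : IsCoprime (h : ℤ) (1 + (m : ℤ)) := by
            rw [hhdef]; push_cast
            refine IsCoprime.pow_left ?_
            obtain ⟨q, rfl⟩ := hm2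
            exact ⟨-(q : ℤ), 1, by push_cast; ring⟩
          refine hcop.dvd_of_dvd_mul_left ?_
          rw [show (1 + (h : ℤ)) * i + i = 2 * ((1 + (m : ℤ)) * i) by rw [hm]; push_cast; ring] at h6
          push_cast at h6
          exact (mul_dvd_mul_iff_left (by norm_num)).1 h6
        obtain ⟨q, rfl⟩ := h5
        rw [hc, zpow_mul, zpow_natCast, ← hzdef]
        exact mul_mem (Subgroup.mem_sup_right (Subgroup.mem_zpowers _))
          (zpow_mem (Subgroup.mem_sup_left (Subgroup.mem_zpowers z)) q)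
    refine Subgroup.mem_normalizer_iff.2 fun x => ⟨fun hx => hle hx, fun hx => ?_⟩
    have heq : V.map (MulAut.conj g).toMonoidHom = V :=
      Subgroup.eq_of_le_of_card_ge (Subgroup.map_le_iff_le_comap.2 hle)
        (Subgroup.card_map_of_injective (MulAut.conj g).injective).ge
    rw [← heq] at hx
    obtain ⟨w, hw, hwx⟩ := hx
    have hwx' : x = w := (MulAut.conj g).injective hwx.symm
    rw [hwx']; exact hw
  have hV4 : 4 ≤ Nat.card V := by
    have hze : z * (e : X) ≠ 1 := fun h => heA (by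
      rw [← inv_eq_of_mul_eq_one_right h]; exact inv_mem hzA)
    have he1' : e ≠ 1 := fun h => heA (h ▸ one_mem A)
    let g : Fin 4 → V := ![1, ⟨z, Subgroup.mem_sup_left (Subgroup.mem_zpowers z)⟩,
      ⟨e, Subgroup.mem_sup_right (Subgroup.mem_zpowers _)⟩,
      ⟨z * e, mul_mem (Subgroup.mem_sup_left (Subgroup.mem_zpowers z)) (Subgroup.mem_sup_right (Subgroup.mem_zpowers _))⟩]
    have he1 : (e : X) ≠ 1 := fun h => heA (h ▸ one_mem A)
    have hzne : z ≠ (e : X) := fun h => heA (h ▸ hzA)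
    have hg : Function.Injective g := by
      intro i k hik
      have h' := congrArg Subtype.val hik
      fin_cases i <;> fin_cases k <;> simp [g] at h' ⊢ <;>
        first
          | exact absurd h' hz1 | exact absurd h'.symm hz1 | exact absurd h' he1 | exact absurd h'.symm he1
          | exact absurd h' he1' | exact absurd h'.symm he1'
          | exact absurd h' hzne | exact absurd h'.symm hzne | exact absurd h' hze | exact absurd h'.symm hze
    have := Nat.card_le_card_of_injective g hg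
    rwa [Nat.card_fin] at this
  obtain ⟨U, -, h1, h2, h3⟩ := normal_four_le hX V hV hV4
  exact hno ⟨U, h1, h2, h3⟩

end Cfsg.Agent.Fusion
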