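import Cfsg.Agent.Lib.Fusion.OddAutNoScn
import Cfsg.Prelude.Def_Transfer

/-!
# The classification of the two-groups without normal elementary subgroups of order eight admitting
a perfect action of a group of odd order
-/

set_option autoImplicit false
set_option linter.style.haveILetI false
set_option linter.unusedSectionVars false

open scoped commutatorElement

universe u

namespace Cfsg.Agent.Fusion.OddAutNoScn

variable {X : Type u} [Group X]

/-- The sign character of a four-group with kernel `⟨u⟩`. -/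
noncomputable def chi (u z : X) : ℤ := by classical exact if z = 1 ∨ z = u then 1 else -1

theorem chi_pm (u z : X) : chi u z = 1 ∨ chi u z = -1 := by
  classical
  unfold chi; split_ifs <;> simp

theorem chi_one (u : X) : chi u 1 = 1 := by
  classical
  unfold chi; simp

theorem chi_of_ne {u z : X} (h1 : z ≠ 1) (h2 : z ≠ u) : chi u z = -1 := by
  classical
  unfold chi; simp [h1, h2]

theorem chi_self (u : X) : chi u u = 1 := by
  classical
  unfold chi; simp

theorem chi_map (σ : MulAut X) (u z : X) : chi (σ u) (σ z) = chi u z := by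
  classical
  unfold chi
  simp [σ.injective.eq_iff]

theorem chi_mul_four [Finite X] {Z : Subgroup X} (h4 : Nat.card Z = 4) (hsq : ∀ v ∈ Z, v * v = 1) {u : X}
    (hu : u ∈ Z) (hu1 : u ≠ 1) : ∀ a ∈ Z, ∀ b ∈ Z, chi u (a * b) = chi u a * chi u b := by
  obtain ⟨w, hw, hw1, hwu⟩ : ∃ w ∈ Z, w ≠ 1 ∧ w ≠ u := by
    by_contra h
    push Not at h
    have hs : Function.Surjective (fun i : Fin 2 => if i = 0 then (1 : Z) else ⟨u, hu⟩) := fun z => by
      by_cases hz : (z : X) = 1
      · exact ⟨0, by simp [Subtype.ext_iff, hz]⟩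
      · exact ⟨1, by simp [Subtype.ext_iff, h z z.2 hz]⟩
    have := Nat.card_le_card_of_surjective _ hs
    rw [h4, Nat.card_fin] at this
    omega
  have huw : u * w ∈ Z := mul_mem hu hw
  have e1 : u * w ≠ 1 := fun e => hwu (mul_left_cancel (e.trans (hsq u hu).symm))
  have e2 : u * w ≠ u := fun e => hw1 (mul_left_cancel (e.trans (mul_one u).symm))
  have hc : w * u = u * w := by
    have h1 := hsq _ huw
    rw [mul_eq_one_iff_eq_inv, mul_inv_rev, inv_eq_of_mul_eq_one_right (hsq u hu),
      inv_eq_of_mul_eq_one_right (hsq w hw)] at h1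
    exact h1.symm
  have k1 : chi u w = -1 := chi_of_ne hw1 hwu
  have k2 : chi u (u * w) = -1 := chi_of_ne e1 e2
  intro a ha b hb
  rcases four_elems h4 hsq hu hw hu1 hw1 (Ne.symm hwu) a ha with rfl | rfl | rfl | rfl <;>
    rcases four_elems h4 hsq hu hw hu1 hw1 (Ne.symm hwu) b hb with rfl | rfl | rfl | rfl
  all_goals try simp [chi_one, chi_self, k1, k2, hsq _ hu, hsq _ hw, hsq _ huw]
  · rw [← mul_assoc, hsq _ hu, one_mul, k1]
  · rw [hc, k2]
  · rw [← mul_assoc, hc, mul_assoc, hsq _ hw, mul_one, chi_self]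
  · rw [mul_assoc, hc, ← mul_assoc, hsq _ hu, one_mul, k1]
  · rw [mul_assoc, hsq _ hw, mul_one, chi_self]

section Sums

variable [Fintype X]

theorem char_sum {Z : Subgroup X} (hZ : Z ≤ Subgroup.center X) (hsq : ∀ g : X, g * g ∈ Z)
    (hcm : ∀ g h : X, ⁅g, h⁆ ∈ Z) (χ : X → ℤ) (hpm : ∀ z, χ z = 1 ∨ χ z = -1) (h1 : χ 1 = 1)
    (hmul : ∀ a ∈ Z, ∀ b ∈ Z, χ (a * b) = χ a * χ b) :
    ∃ R : Subgroup X, Z ≤ R ∧ (∀ h, h ∈ R ↔ ∀ x, χ ⁅h, x⁆ = 1) ∧
      (((∀ h ∈ R, χ (h * h) = 1) ∧
          (∑ x : X, χ (x * x)) * (∑ x : X, χ (x * x)) = (Nat.card X : ℤ) * Nat.card R) ∨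
        (¬ (∀ h ∈ R, χ (h * h) = 1) ∧ (∑ x : X, χ (x * x)) = 0)) := by
  classical
  have hr : ∀ a b x : X, ⁅a * b, x⁆ = ⁅b, x⁆ * ⁅a, x⁆ := fun a b x => comm_mul_left (hZ (hcm b x))
  have hl : ∀ a x y : X, ⁅a, x * y⁆ = ⁅a, x⁆ * ⁅a, y⁆ := fun a x y => comm_mul_right (hZ (hcm a y))
  let R : Subgroup X :=
    { carrier := {h | ∀ x, χ ⁅h, x⁆ = 1}
      one_mem' := fun x => by rw [commutatorElement_one_left, h1]
      mul_mem' := fun {a b} ha hb x => by rw [hr, hmul _ (hcm b x) _ (hcm a x), ha x, hb x, one_mul]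
      inv_mem' := fun {a} ha x => by
        have h2 : χ ⁅a * a⁻¹, x⁆ = 1 := by rw [mul_inv_cancel, commutatorElement_one_left, h1]
        rw [hr, hmul _ (hcm _ x) _ (hcm a x), ha x, mul_one] at h2
        exact h2 }
  refine ⟨R, fun z hz x => ?_, fun h => Iff.rfl, ?_⟩
  · rw [commutatorElement_eq_one_iff_mul_comm.2 (Subgroup.mem_center_iff.1 (hZ hz) x).symm, h1]
  have hf : ∀ x h : X, χ (x * h * (x * h)) = χ (x * x) * χ (h * h) * χ ⁅h, x⁆ := fun x h => by
    rw [sq_mul_cen (hZ (hcm h x)), hmul _ (mul_mem (hsq x) (hsq h)) _ (hcm h x), hmul _ (hsq x) _ (hsq h)]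
  have hone : ∀ x, χ x * χ x = 1 := fun x => by rcases hpm x with e | e <;> rw [e] <;> norm_num
  have hinner : ∀ h : X, (∑ x : X, χ ⁅h, x⁆) = if h ∈ R then (Nat.card X : ℤ) else 0 := by
    intro h
    split_ifs with hh
    · rw [Finset.sum_congr rfl fun x _ => hh x, Finset.sum_const, Finset.card_univ, Nat.card_eq_fintype_card]
      simp
    · obtain ⟨x₀, hx₀⟩ : ∃ x, χ ⁅h, x⁆ ≠ 1 := by
        by_contra hc
        push Not at hc
        exact hh hc
      have e : (∑ x : X, χ ⁅h, x⁆) = - ∑ x : X, χ ⁅h, x⁆ := by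
        conv_lhs => rw [← Equiv.sum_comp (Equiv.mulLeft x₀) (fun x => χ ⁅h, x⁆)]
        rw [← Finset.sum_neg_distrib]
        refine Finset.sum_congr rfl fun x _ => ?_
        simp only [Equiv.coe_mulLeft]
        rw [hl, hmul _ (hcm h x₀) _ (hcm h x), (hpm _).resolve_left hx₀]
        ring
      linarith
  have hsum : (∑ x : X, χ (x * x)) * (∑ x : X, χ (x * x)) =
      (Nat.card X : ℤ) * ∑ h : X, if h ∈ R then χ (h * h) else 0 := by
    calc (∑ x : X, χ (x * x)) * (∑ x : X, χ (x * x)) = ∑ x : X, ∑ y : X, χ (x * x) * χ (y * y) := Finset.sum_mul_sum _ _ _ _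
      _ = ∑ x : X, ∑ h : X, χ (x * x) * χ (x * h * (x * h)) :=
        Finset.sum_congr rfl fun x _ => (Equiv.sum_comp (Equiv.mulLeft x) (fun y => χ (x * x) * χ (y * y))).symm
      _ = ∑ x : X, ∑ h : X, χ (h * h) * χ ⁅h, x⁆ := Finset.sum_congr rfl fun x _ => Finset.sum_congr rfl fun h _ => by
          rw [hf, ← mul_assoc, ← mul_assoc, hone, one_mul]
      _ = ∑ h : X, χ (h * h) * ∑ x : X, χ ⁅h, x⁆ := by
          rw [Finset.sum_comm]; exact Finset.sum_congr rfl fun h _ => (Finset.mul_sum _ _ _).symm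
      _ = _ := by
          rw [Finset.mul_sum]
          refine Finset.sum_congr rfl fun h _ => ?_
          rw [hinner]
          split_ifs <;> ring
  by_cases hall : ∀ h ∈ R, χ (h * h) = 1
  · refine Or.inl ⟨hall, ?_⟩
    rw [hsum]
    congr 1
    rw [← Finset.sum_filter, Finset.sum_congr rfl (fun h hh => hall h (Finset.mem_filter.1 hh).2), Finset.sum_const,
      Nat.card_eq_fintype_card, Fintype.card_subtype]
    simp
  · refine Or.inr ⟨hall, ?_⟩
    push Not at hall
    obtain ⟨h₀, hh₀, hne⟩ := hall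
    have e : (∑ h : X, if h ∈ R then χ (h * h) else 0) = - ∑ h : X, if h ∈ R then χ (h * h) else 0 := by
      conv_lhs => rw [← Equiv.sum_comp (Equiv.mulLeft h₀) (fun h => if h ∈ R then χ (h * h) else 0)]
      rw [← Finset.sum_neg_distrib]
      refine Finset.sum_congr rfl fun h _ => ?_
      simp only [Equiv.coe_mulLeft, mul_mem_cancel_left hh₀]
      split_ifs with hh
      · rw [hf, (hpm _).resolve_left hne, hh h₀]
        ring
      · rw [neg_zero]
    have h2 : (∑ x : X, χ (x * x)) * (∑ x : X, χ (x * x)) = 0 := by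
      rw [hsum, show (∑ h : X, if h ∈ R then χ (h * h) else 0) = 0 by linarith, mul_zero]
    exact mul_self_eq_zero.1 h2

theorem sum_four {Z : Subgroup X} (h4 : Nat.card Z = 4) (hsq : ∀ v ∈ Z, v * v = 1) (hsqX : ∀ g : X, g * g ∈ Z)
    (hinv : ∀ g : X, g * g = 1 ↔ g ∈ Z) {u w : X} (hu : u ∈ Z) (hw : w ∈ Z) (hu1 : u ≠ 1) (hw1 : w ≠ 1)
    (huw : u ≠ w) : (Nat.card X : ℤ) + (∑ x : X, chi u (x * x)) + (∑ x : X, chi w (x * x)) +
      (∑ x : X, chi (u * w) (x * x)) = 16 := by
  classical
  have e1 : u * w ≠ 1 := fun e => huw (mul_left_cancel ((hsq u hu).trans e.symm))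
  have e2 : u * w ≠ u := fun e => hw1 (mul_left_cancel (e.trans (mul_one u).symm))
  have e3 : u * w ≠ w := fun e => hu1 (mul_right_cancel (e.trans (one_mul w).symm))
  have key : ∀ x : X, 1 + chi u (x * x) + chi w (x * x) + chi (u * w) (x * x) = if x * x = 1 then (4 : ℤ) else 0 := by
    intro x
    rcases four_elems h4 hsq hu hw hu1 hw1 huw _ (hsqX x) with e | e | e | e <;> rw [e]
    · rw [chi_one, chi_one, chi_one, if_pos rfl]; norm_num
    · rw [chi_self, chi_of_ne hu1 huw, chi_of_ne hu1 (Ne.symm e2), if_neg hu1]; norm_num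
    · rw [chi_self, chi_of_ne hw1 (Ne.symm huw), chi_of_ne hw1 (Ne.symm e3), if_neg hw1]; norm_num
    · rw [chi_self, chi_of_ne e1 e2, chi_of_ne e1 e3, if_neg e1]; norm_num
  have h := Finset.sum_congr (rfl : (Finset.univ : Finset X) = Finset.univ) (fun x _ => key x)
  rw [Finset.sum_add_distrib, Finset.sum_add_distrib, Finset.sum_add_distrib, Finset.sum_const, ← Finset.sum_filter,
    Finset.sum_const, Finset.card_univ, ← Nat.card_eq_fintype_card] at h
  have h5 : (Finset.univ.filter fun x : X => x * x = 1).card = 4 := by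
    rw [← h4, Nat.card_eq_fintype_card, Fintype.card_subtype]
    exact congrArg Finset.card (Finset.filter_congr fun x _ => hinv x)
  rw [h5] at h
  simpa using h

end Sums

theorem nat_sq_eq_two_pow {m : ℤ} {e : ℕ} (h : m * m = 2 ^ e) : ∃ j, e = 2 * j ∧ m.natAbs = 2 ^ j := by
  have h1 : m.natAbs * m.natAbs = 2 ^ e := by
    have := congrArg Int.natAbs h
    rwa [Int.natAbs_mul, Int.natAbs_pow] at this
  obtain ⟨j, -, hj⟩ := (Nat.dvd_prime_pow Nat.prime_two).1 (Dvd.intro _ h1)
  rw [hj, ← pow_add] at h1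
  exact ⟨j, by have := Nat.pow_right_injective le_rfl h1; omega, hj⟩

/-- A quadratic four-valued group without involutions outside the four-group has order `64`. -/
theorem card_sixty_four [Finite X] (hX : IsPGroup 2 X) {Z : Subgroup X} (hZ : Z ≤ Subgroup.center X)
    (h4 : Nat.card Z = 4) (hsqZ : ∀ v ∈ Z, v * v = 1) (hsq : ∀ g : X, g * g ∈ Z) (hcm : ∀ g h : X, ⁅g, h⁆ ∈ Z)
    (hinv : ∀ g : X, g * g = 1 → g ∈ Z) (hK : commutator X = Z) (h32 : Nat.card X = 32 → False) :
    Nat.card X = 64 := by
  classical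
  letI : Fintype X := Fintype.ofFinite X
  obtain ⟨n, hn⟩ := IsPGroup.iff_card.1 hX
  have hidx : Z.index * 4 = 2 ^ n := by rw [← h4, mul_comm, Subgroup.card_mul_index, hn]
  have hn5 : 5 ≤ n := by
    by_contra h
    push Not at h
    have h16 : 2 ^ n ≤ 2 ^ 4 := Nat.pow_le_pow_right two_pos (by omega)
    obtain ⟨c, hc⟩ := comm_cases hZ (by omega) fun g h => hZ (hcm g h)
    have hKc : commutator X ≤ Subgroup.zpowers c := by
      rw [commutator_def, Subgroup.commutator_le]
      intro p _ q _
      rcases hc p q with e | e | e <;> rw [e]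
      · exact one_mem _
      · exact Subgroup.mem_zpowers c
      · exact inv_mem (Subgroup.mem_zpowers c)
    rw [hK] at hKc
    have hc2 : Nat.card (Subgroup.zpowers c) ≤ 2 := by
      by_cases hcZ : c ∈ Z
      · rw [Nat.card_zpowers]; exact orderOf_le_of_pow_eq_one two_pos ((pow_two c).trans (hsqZ c hcZ))
      · have hK1 : commutator X ≤ ⊥ := by
          rw [commutator_def, Subgroup.commutator_le]
          intro p _ q _
          rcases hc p q with e | e | e
          · exact e
          · exact absurd (e ▸ hcm p q) hcZ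
          · exact absurd (inv_mem_iff.1 (e ▸ hcm p q)) hcZ
        rw [hK] at hK1
        have := Subgroup.card_le_of_le hK1
        rw [h4, Subgroup.card_bot] at this
        omega
    have := Subgroup.card_le_of_le hKc
    omega
  obtain ⟨u, hu, hu1⟩ : ∃ u ∈ Z, u ≠ 1 := by
    haveI : Nontrivial Z := Finite.one_lt_card_iff_nontrivial.1 (by rw [h4]; norm_num)
    obtain ⟨⟨u, hu⟩, hne⟩ := exists_ne (1 : Z)
    exact ⟨u, hu, fun e => hne (Subtype.ext e)⟩
  obtain ⟨w, hw, hw1, hwu⟩ : ∃ w ∈ Z, w ≠ 1 ∧ w ≠ u := by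
    by_contra h
    push Not at h
    have hs : Function.Surjective (fun i : Fin 2 => if i = 0 then (1 : Z) else ⟨u, hu⟩) := fun z => by
      by_cases hz : (z : X) = 1
      · exact ⟨0, by simp [Subtype.ext_iff, hz]⟩
      · exact ⟨1, by simp [Subtype.ext_iff, h z z.2 hz]⟩
    have := Nat.card_le_card_of_surjective _ hs
    rw [h4, Nat.card_fin] at this
    omega
  rcases (show n = 5 ∨ n = 6 ∨ 7 ≤ n by omega) with h | h | h
  · exact (h32 (by rw [hn, h]; norm_num)).elim
  · rw [hn, h]; norm_num
  have hdiv : ∀ t ∈ Z, t ≠ 1 → (32 : ℤ) ∣ ∑ x : X, chi t (x * x) := by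
    intro t ht ht1
    obtain ⟨R, hZR, -, hR⟩ := char_sum hZ hsq hcm (chi t) (chi_pm t) (chi_one t) (chi_mul_four h4 hsqZ ht ht1)
    rcases hR with ⟨-, e⟩ | ⟨-, e⟩
    swap
    · rw [e]; exact dvd_zero _
    obtain ⟨r, hr⟩ := IsPGroup.iff_card.1 (hX.to_subgroup R)
    have hr2 : 2 ≤ r := by
      have h1 := Subgroup.card_le_of_le hZR
      rw [h4, hr] at h1
      by_contra hlt
      have := Nat.pow_le_pow_right two_pos (show r ≤ 1 by omega)
      omega
    rw [hn, hr] at e
    push_cast at e
    rw [← pow_add] at e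
    obtain ⟨j, hj1, hj2⟩ := nat_sq_eq_two_pow e
    rw [← Int.natAbs_dvd_natAbs, hj2]
    exact pow_dvd_pow 2 (show 5 ≤ j by omega)
  have hsum := sum_four h4 hsqZ hsq (fun g => ⟨hinv g, hsqZ g⟩) hu hw hu1 hw1 (Ne.symm hwu)
  obtain ⟨a, ha⟩ := hdiv u hu hu1
  obtain ⟨b, hb⟩ := hdiv w hw hw1
  obtain ⟨c, hc⟩ := hdiv (u * w) (mul_mem hu hw) fun e => hwu (mul_left_cancel (e.trans (hsqZ u hu).symm))
  obtain ⟨d, hd⟩ : (32 : ℕ) ∣ Nat.card X := by rw [hn]; exact pow_dvd_pow 2 (show 5 ≤ n by omega)
  rw [ha, hb, hc, hd] at hsum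
  push_cast at hsum
  omega

theorem normal_of_le_center {N : Subgroup X} (h : N ≤ Subgroup.center X) : N.Normal :=
  ⟨fun v hv g => by rwa [Subgroup.mem_center_iff.1 (h hv) g, mul_inv_cancel_right]⟩

theorem card_involutions [Fintype X] [DecidableEq X] :
    Nat.card {x : X // orderOf x = 2} + 1 = (Finset.univ.filter fun x : X => x * x = 1).card := by
  have e : (Finset.univ.filter fun x : X => x * x = 1) = insert 1 (Finset.univ.filter fun x : X => orderOf x = 2) := by
    ext x
    simp only [Finset.mem_filter, Finset.mem_insert, Finset.mem_univ, true_and]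
    constructor
    · intro h
      by_cases hx : x = 1
      · exact Or.inl hx
      · exact Or.inr (orderOf_eq_prime ((pow_two x).trans h) hx)
    · rintro (rfl | h)
      · exact one_mul 1
      · rw [← pow_two, ← h, pow_orderOf_eq_one]
  rw [e, Finset.card_insert_of_notMem (by simp), Nat.card_eq_fintype_card, Fintype.card_subtype]

theorem special_of [Finite X] (hX : IsPGroup 2 X) (hsq : ∀ g : X, g * g ∈ Subgroup.center X)
    (hK : commutator X = Subgroup.center X) : Cfsg.IsSpecial 2 X := by
  haveI : Fact (Nat.Prime 2) := ⟨Nat.prime_two⟩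
  refine ⟨hX, le_antisymm ?_ (hK ▸ Solv.commutator_le_frattini_pgroup hX), hK⟩
  exact Solv.frattini_le _ (fun a b => hK ▸ Subgroup.commutator_mem_commutator (Subgroup.mem_top a) (Subgroup.mem_top b))
    fun a => by rw [pow_two]; exact hsq a

/-- The conclusion for a central four-group. -/
theorem concl_four [Finite X] (hX : IsPGroup 2 X) (h4 : Nat.card (Subgroup.center X) = 4)
    (hsqZ : ∀ v ∈ Subgroup.center X, v * v = 1) (hsq : ∀ g : X, g * g ∈ Subgroup.center X)
    (hK : commutator X = Subgroup.center X) (hinv : ∀ g : X, g * g = 1 → g ∈ Subgroup.center X)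
    (h32 : Nat.card X = 32 → False) :
    Cfsg.IsSpecial 2 X ∧ Nat.card X = 64 ∧ Nat.card {x : X // orderOf x = 2} = 3 ∧
      ∀ x : X, orderOf x = 2 → x ∈ Subgroup.center X := by
  classical
  letI : Fintype X := Fintype.ofFinite X
  have hcm : ∀ g h : X, ⁅g, h⁆ ∈ Subgroup.center X := fun g h =>
    hK ▸ Subgroup.commutator_mem_commutator (Subgroup.mem_top g) (Subgroup.mem_top h)
  refine ⟨special_of hX hsq hK, card_sixty_four hX le_rfl h4 hsqZ hsq hcm hinv hK h32, ?_, fun x hx => hinv x (by
    rw [← pow_two, ← hx, pow_orderOf_eq_one])⟩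
  have h1 := card_involutions (X := X)
  have h2 : (Finset.univ.filter fun x : X => x * x = 1).card = 4 := by
    rw [← h4, Nat.card_eq_fintype_card, Fintype.card_subtype]
    exact congrArg Finset.card (Finset.filter_congr fun x _ => ⟨hinv x, hsqZ x⟩)
  omega

/-- The conclusion for a centre of order two. -/
theorem concl_two [Finite X] {A : Subgroup (MulAut X)} (S : Setting A) (hna : ∃ x y : X, x * y ≠ y * x)
    (hbound : ∀ E : Subgroup X, E.Normal → (∀ v ∈ E, ∀ w ∈ E, v * w = w * v) → (∀ v ∈ E, v * v = 1) → Nat.card E ≤ 4)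
    (h2 : Nat.card (Subgroup.center X) = 2) (hsq : ∀ g : X, g * g ∈ Subgroup.center X)
    (hK : commutator X = Subgroup.center X)
    (hcoset : ∀ g : X, (∀ a ∈ A, g⁻¹ * a g ∈ Subgroup.center X) → g ∈ Subgroup.center X) :
    Nonempty (X ≃* QuaternionGroup 2) ∨
      (Cfsg.IsExtraspecial 2 X ∧ Nat.card X = 32 ∧ Nat.card {x : X // orderOf x = 2} = 11) := by
  classical
  letI : Fintype X := Fintype.ofFinite X
  haveI : Fact (Nat.Prime 2) := ⟨Nat.prime_two⟩
  haveI : Nontrivial (Subgroup.center X) := Finite.one_lt_card_iff_nontrivial.1 (by rw [h2]; norm_num)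
  obtain ⟨⟨c, hc⟩, hne⟩ := exists_ne (1 : Subgroup.center X)
  have hc1 : c ≠ 1 := fun e => hne (Subtype.ext e)
  have hZ : ∀ z ∈ Subgroup.center X, z = 1 ∨ z = c := by
    intro z hz
    by_contra h
    push Not at h
    letI : Fintype (Subgroup.center X) := Fintype.ofFinite _
    let s : Finset (Subgroup.center X) := {1, ⟨c, hc⟩, ⟨z, hz⟩}
    have hs : s.card = 3 := by
      simp [s, Finset.card_insert_of_notMem, Subtype.ext_iff, Ne.symm hc1, Ne.symm h.1, Ne.symm h.2]
    have := s.card_le_univ
    rw [← Nat.card_eq_fintype_card, h2] at this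
    omega
  have hcc : c * c = 1 := by
    rcases hZ _ (mul_mem hc hc) with e | e
    · exact e
    · exact absurd (mul_eq_left.1 e) hc1
  have hZsq : ∀ z ∈ Subgroup.center X, z * z = 1 := fun z hz => by
    rcases hZ z hz with rfl | rfl
    · exact one_mul 1
    · exact hcc
  have hcm : ∀ g h : X, ⁅g, h⁆ ∈ Subgroup.center X := fun g h =>
    hK ▸ Subgroup.commutator_mem_commutator (Subgroup.mem_top g) (Subgroup.mem_top h)
  have kc : chi (1 : X) c = -1 := chi_of_ne hc1 hc1
  have hmul : ∀ a ∈ Subgroup.center X, ∀ b ∈ Subgroup.center X, chi 1 (a * b) = chi 1 a * chi 1 b := by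
    intro a ha b hb
    rcases hZ a ha with rfl | rfl <;> rcases hZ b hb with rfl | rfl <;> simp [chi_one, kc, hcc]
  obtain ⟨R, hZR, hR, hS⟩ := char_sum le_rfl hsq hcm (chi (1 : X)) (chi_pm 1) (chi_one 1) hmul
  have hRZ : R ≤ Subgroup.center X := fun h hh => Subgroup.mem_center_iff.2 fun x => by
    have h3 := (hR h).1 hh x
    rcases hZ _ (hcm h x) with e | e
    · exact (commutatorElement_eq_one_iff_mul_comm.1 e).symm
    · rw [e, kc] at h3; norm_num at h3
  rw [le_antisymm hRZ hZR, h2] at hS
  obtain ⟨n, hn⟩ := IsPGroup.iff_card.1 S.pgroup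
  obtain ⟨s, hs⟩ : ∃ s : ℤ, s = ∑ x : X, chi (1 : X) (x * x) := ⟨_, rfl⟩
  rw [← hs] at hS
  obtain ⟨N, hN⟩ : ∃ N, N = (Finset.univ.filter fun x : X => x * x = 1).card := ⟨_, rfl⟩
  have hcount : 2 * (N : ℤ) = 2 ^ n + s := by
    have key : ∀ x : X, 1 + chi 1 (x * x) = if x * x = 1 then (2 : ℤ) else 0 := fun x => by
      rcases hZ _ (hsq x) with e | e <;> rw [e]
      · rw [chi_one, if_pos rfl]; norm_num
      · rw [kc, if_neg hc1]; norm_num
    have h := Finset.sum_congr (rfl : (Finset.univ : Finset X) = Finset.univ) (fun x _ => key x)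
    rw [Finset.sum_add_distrib, Finset.sum_const, ← Finset.sum_filter, Finset.sum_const, Finset.card_univ,
      ← Nat.card_eq_fintype_card, hn, ← hN, ← hs] at h
    push_cast at h
    simp at h
    linarith
  have hN2 : 2 ≤ N := by
    rw [hN]
    refine le_trans (le_of_eq (Finset.card_pair (Ne.symm hc1)).symm) (Finset.card_le_card fun x hx => ?_)
    simp only [Finset.mem_insert, Finset.mem_singleton] at hx
    rcases hx with rfl | rfl <;> simp [hcc]
  have hS' : s * s = 2 ^ (n + 1) := by
    rcases hS with ⟨-, e⟩ | ⟨e, -⟩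
    · rw [e, hn, pow_succ]; push_cast; ring
    · exact absurd (fun h hh => by rw [hZsq h hh, chi_one]) e
  obtain ⟨j, hj1, hj2⟩ := nat_sq_eq_two_pow hS'
  haveI hZn : (Subgroup.center X).Normal := inferInstance
  have hbnd : 4 * N ≤ 2 ^ n + 16 := by
    by_cases hex : ∃ x : X, x * x = 1 ∧ x ∉ Subgroup.center X
    swap
    · push Not at hex
      have : N ≤ 2 := by
        rw [hN]
        refine (Finset.card_le_card (t := ({1, c} : Finset X)) fun x hx => ?_).trans Finset.card_le_two
        rcases hZ x (hex x (Finset.mem_filter.1 hx).2) with rfl | rfl <;> simp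
      omega
    obtain ⟨x, hx, hxZ⟩ := hex
    obtain ⟨E, hEn, hEc, hEs, hVE, hxE, hEmem⟩ := adjoin (V := Subgroup.center X)
      (fun v hv w _ => (Subgroup.mem_center_iff.1 hv w).symm) hZsq hx (fun v hv => Subgroup.mem_center_iff.1 hv x) (hcm x)
    haveI := hEn
    have hE4 : 4 ≤ Nat.card E := by
      have h1 : Nat.card (Subgroup.center X) < Nat.card E := by
        refine lt_of_le_of_ne (Subgroup.card_le_of_le hVE) fun e => hxZ ?_
        rw [Subgroup.eq_of_le_of_card_ge hVE e.ge]; exact hxE
      obtain ⟨i, hi⟩ := IsPGroup.iff_card.1 (S.pgroup.to_subgroup E)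
      rcases (show i = 0 ∨ i = 1 ∨ 2 ≤ i by omega) with hi' | hi' | hi'
      · rw [hi, hi', h2] at h1; norm_num at h1
      · rw [hi, hi', h2] at h1; norm_num at h1
      · rw [hi]; exact Nat.pow_le_pow_right two_pos hi'
    have hin : ∀ y : X, y * y = 1 → x * y = y * x → y ∈ E := by
      intro y hy hxy
      obtain ⟨E', hEn', hEc', hEs', hEE', hyE', -⟩ := adjoin (V := E) hEc hEs hy
        (fun v hv => by
          rcases hEmem v hv with h | h
          · exact Subgroup.mem_center_iff.1 h y
          · have hk := Subgroup.mem_center_iff.1 h y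
            rw [← mul_assoc, ← hxy, mul_assoc, mul_assoc] at hk
            exact mul_left_cancel hk)
        (fun g => hVE (hcm y g))
      rw [Subgroup.eq_of_le_of_card_ge hEE' ((hbound E' hEn' hEc' hEs').trans hE4)]
      exact hyE'
    obtain ⟨C, hC⟩ : ∃ C, C = Subgroup.centralizer ({x} : Set X) := ⟨_, rfl⟩
    have hCm : ∀ y, y ∈ C ↔ x * y = y * x := fun y => by
      rw [hC, Subgroup.mem_centralizer_singleton_iff]; exact eq_comm
    have hC2 : 2 * Nat.card C = 2 ^ n := by
      let f : X →* Subgroup.center X := MonoidHom.mk' (fun g => ⟨⁅x, g⁆, hcm x g⟩) fun g g' =>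
        Subtype.ext (comm_mul_right (hcm x g'))
      have hker : f.ker = C := by
        ext g
        rw [MonoidHom.mem_ker, hCm, ← commutatorElement_eq_one_iff_mul_comm]
        exact Subtype.ext_iff
      have hsurj : Function.Surjective f := by
        obtain ⟨g, hg⟩ : ∃ g : X, ⁅x, g⁆ ≠ 1 := by
          by_contra h
          push Not at h
          exact hxZ (Subgroup.mem_center_iff.2 fun g => (commutatorElement_eq_one_iff_mul_comm.1 (h g)).symm)
        rintro ⟨z, hz⟩
        rcases hZ z hz with e | e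
        · exact ⟨1, Subtype.ext ((commutatorElement_one_right x).trans e.symm)⟩
        · exact ⟨g, Subtype.ext (((hZ _ (hcm x g)).resolve_left hg).trans e.symm)⟩
      have h3 := C.card_mul_index
      rw [← hker, Subgroup.index_ker, MonoidHom.range_eq_top.2 hsurj, Subgroup.card_top, h2, hn, hker] at h3
      omega
    have hI : (Finset.univ.filter fun y : X => y * y = 1 ∧ y ∈ C).card ≤ 4 := by
      refine le_trans (Finset.card_le_card (t := (Finset.univ.filter fun y : X => y ∈ E)) fun y hy => ?_) ?_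
      · simp only [Finset.mem_filter, Finset.mem_univ, true_and] at hy ⊢
        exact hin y hy.1 ((hCm y).1 hy.2)
      · have h3 := hbound E hEn hEc hEs
        rw [Nat.card_eq_fintype_card, Fintype.card_subtype] at h3
        exact h3
    have hO : 2 * (Finset.univ.filter fun y : X => y * y = 1 ∧ y ∉ C).card ≤
        (Finset.univ.filter fun y : X => y ∉ C).card := by
      have h1 : (Finset.univ.filter fun y : X => y * y = 1 ∧ y ∉ C).card ≤
          (Finset.univ.filter fun y : X => y * y ≠ 1 ∧ y ∉ C).card := by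
        refine Finset.card_le_card_of_injOn (fun y => x * y) ?_ (fun a _ b _ h => mul_left_cancel h)
        intro y hy
        simp only [Finset.coe_filter, Finset.mem_univ, true_and, Set.mem_setOf_eq] at hy ⊢
        have hxC : x ∈ C := (hCm x).2 rfl
        refine ⟨fun e => hy.2 ((hCm y).2 ?_), fun h => hy.2 ((mul_mem_cancel_left hxC).1 h)⟩
        have e1 : (x * y)⁻¹ = x * y := inv_eq_of_mul_eq_one_right e
        rw [mul_inv_rev, inv_eq_of_mul_eq_one_right hx, inv_eq_of_mul_eq_one_right hy.1] at e1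
        exact e1.symm
      have h3 : (Finset.univ.filter fun y : X => y ∉ C).card =
          (Finset.univ.filter fun y : X => y * y = 1 ∧ y ∉ C).card +
            (Finset.univ.filter fun y : X => y * y ≠ 1 ∧ y ∉ C).card := by
        rw [← Finset.card_union_of_disjoint (Finset.disjoint_filter.2 fun y _ h h' => h'.1 h.1)]
        congr 1
        ext y; simp only [Finset.mem_filter, Finset.mem_union, Finset.mem_univ, true_and]; tauto
      omega
    have hC' : (Finset.univ.filter fun y : X => y ∈ C).card + (Finset.univ.filter fun y : X => y ∉ C).card = 2 ^ n := by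
      rw [Finset.card_filter_add_card_filter_not, Finset.card_univ, ← Nat.card_eq_fintype_card, hn]
    have hC'' : (Finset.univ.filter fun y : X => y ∈ C).card = Nat.card C := by
      rw [Nat.card_eq_fintype_card, Fintype.card_subtype]
    have hsplit : N = (Finset.univ.filter fun y : X => y * y = 1 ∧ y ∈ C).card +
        (Finset.univ.filter fun y : X => y * y = 1 ∧ y ∉ C).card := by
      rw [hN, ← Finset.card_union_of_disjoint (Finset.disjoint_filter.2 fun y _ h h' => h'.2 h.2)]
      congr 1
      ext y; simp only [Finset.mem_filter, Finset.mem_union, Finset.mem_univ, true_and]; tauto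
    omega
  have hj0 : 2 ≤ j := by
    by_contra h
    obtain rfl : n = 1 := by
      have : n ≠ 0 := fun e => by
        have := Subgroup.card_le_card_group (Subgroup.center X)
        rw [h2, hn, e] at this; norm_num at this
      omega
    obtain ⟨p, q, hpq⟩ := hna
    have : Subgroup.center X = ⊤ := Subgroup.eq_top_of_card_eq _ (by rw [h2, hn, pow_one])
    exact hpq (Subgroup.mem_center_iff.1 (this.ge (Subgroup.mem_top q)) p)
  have hj3 : j ≤ 3 := by
    by_contra h
    push Not at h
    have hP : (2 : ℤ) ^ 7 ≤ 2 ^ n := pow_le_pow_right₀ (by norm_num) (by omega)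
    have hb : (4 : ℤ) * N ≤ 2 ^ n + 16 := by exact_mod_cast hbnd
    have hle : (2 : ℤ) ^ n - 16 ≤ -2 * s := by linarith
    have h0 : (0 : ℤ) ≤ 2 ^ n - 16 := by norm_num at hP; linarith
    have hsq' := mul_le_mul hle hle h0 (h0.trans hle)
    have he : (-2 * s) * (-2 * s) = 8 * 2 ^ n := by
      rw [show (-2 * s) * (-2 * s) = 4 * (s * s) by ring, hS', pow_succ]; ring
    rw [he] at hsq'
    norm_num at hP
    nlinarith
  have hNone : ∀ m : ℕ, N = m + 1 → Nat.card {x : X // orderOf x = 2} = m := fun m hm => by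
    have h1 := card_involutions (X := X)
    rw [← hN, hm] at h1
    omega
  rcases (show j = 2 ∨ j = 3 by omega) with rfl | rfl
  · obtain rfl : n = 3 := by omega
    norm_num at hj2 hcount
    left
    have hs4 : s = -4 := by
      rcases Int.natAbs_eq s with e | e <;> rw [hj2] at e
      · exfalso
        rw [e] at hcount
        norm_num at hcount
        obtain ⟨T, hT⟩ : ∃ T, T = (Finset.univ.filter fun g : X => g * g ≠ 1) := ⟨_, rfl⟩
        have hTc : T.card = 2 := by
          have := Finset.card_filter_add_card_filter_not (s := (Finset.univ : Finset X)) (fun g : X => g * g = 1)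
          rw [← hN, ← hT, Finset.card_univ, ← Nat.card_eq_fintype_card, hn] at this
          norm_num at this
          omega
        obtain ⟨g, hg⟩ : ∃ g, g ∈ T := Finset.card_pos.1 (by omega)
        have hg' : g * g ≠ 1 := by rw [hT] at hg; exact (Finset.mem_filter.1 hg).2
        have hgZ : g ∉ Subgroup.center X := fun h => hg' (hZsq g h)
        refine hgZ (hcoset g fun a ha => ?_)
        have hgc : g * c ∈ T := by
          rw [hT, Finset.mem_filter]
          refine ⟨Finset.mem_univ _, ?_⟩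
          rw [mul_assoc, ← mul_assoc c, ← Subgroup.mem_center_iff.1 hc g, mul_assoc g c, hcc, mul_one]
          exact hg'
        have hag : a g ∈ T := by
          rw [hT, Finset.mem_filter]
          exact ⟨Finset.mem_univ _, fun h => hg' (a.injective (by rw [map_mul, map_one]; exact h))⟩
        have hT2 : T = {g, g * c} := by
          refine (Finset.eq_of_subset_of_card_le ?_ ?_).symm
          · intro y hy
            simp only [Finset.mem_insert, Finset.mem_singleton] at hy
            rcases hy with rfl | rfl <;> assumption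
          · rw [hTc, Finset.card_pair fun h => hc1 (mul_eq_left.1 h.symm)]
        rw [hT2, Finset.mem_insert, Finset.mem_singleton] at hag
        rcases hag with e | e <;> rw [e]
        · rw [inv_mul_cancel]; exact one_mem _
        · rw [inv_mul_cancel_left]; exact hc
      · rw [e]; norm_num
    rw [hs4] at hcount
    have hN' : N = 2 := by omega
    have huniq : ∀ y : X, y * y = 1 → y = 1 ∨ y = c := by
      intro y hy
      have hsub : (Finset.univ.filter fun x : X => x * x = 1) = {1, c} := by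
        refine (Finset.eq_of_subset_of_card_le (fun z hz => ?_) ?_).symm
        · simp only [Finset.mem_insert, Finset.mem_singleton] at hz
          rcases hz with rfl | rfl <;> simp [hcc]
        · rw [← hN, hN', Finset.card_pair (Ne.symm hc1)]
      have : y ∈ ({1, c} : Finset X) := hsub ▸ Finset.mem_filter.2 ⟨Finset.mem_univ y, hy⟩
      simpa using this
    have hu : Solv.UniqueOrderP 2 X := by
      intro x y hx hy hy1
      rcases huniq y ((pow_two y).symm.trans hy) with rfl | rfl
      · exact absurd rfl hy1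
      · rcases huniq x ((pow_two x).symm.trans hx) with rfl | rfl
        · exact one_mem _
        · exact Subgroup.mem_zpowers _
    rcases Solv.cyclic_or_quaternion S.pgroup hu with h | ⟨-, k, ⟨e⟩⟩
    · obtain ⟨p, q, hpq⟩ := hna
      haveI := h
      letI := IsCyclic.commGroup (α := X)
      exact absurd (mul_comm p q) hpq
    · haveI : NeZero (2 ^ k) := ⟨by positivity⟩
      have h8 := Nat.card_congr e.toEquiv
      rw [hn, Nat.card_eq_fintype_card, QuaternionGroup.card] at h8
      have hk : 2 ^ k = 2 := by omega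
      rw [hk] at e
      exact ⟨e⟩
  · obtain rfl : n = 5 := by omega
    norm_num at hj2 hcount hbnd
    right
    refine ⟨⟨special_of S.pgroup hsq hK, h2⟩, by rw [hn]; norm_num, hNone 11 ?_⟩
    rcases Int.natAbs_eq s with e | e <;> rw [hj2] at e <;> rw [e] at hcount <;> norm_num at hcount <;> omega

/-- The classification. -/
theorem classify_all [Finite X] {A : Subgroup (MulAut X)} (S : Setting A) (hna : ∃ x y : X, x * y ≠ y * x)
    (hbound : ∀ E : Subgroup X, E.Normal → (∀ v ∈ E, ∀ w ∈ E, v * w = w * v) → (∀ v ∈ E, v * v = 1) → Nat.card E ≤ 4) :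
    Nonempty (X ≃* QuaternionGroup 2) ∨
      (Cfsg.IsSpecial 2 X ∧ Nat.card X = 64 ∧ Nat.card {x : X // orderOf x = 2} = 3 ∧
        ∀ x : X, orderOf x = 2 → x ∈ Subgroup.center X) ∨
      (Cfsg.IsExtraspecial 2 X ∧ Nat.card X = 32 ∧ Nat.card {x : X // orderOf x = 2} = 11) := by
  classical
  letI : Fintype X := Fintype.ofFinite X
  haveI : Fact (Nat.Prime 2) := ⟨Nat.prime_two⟩
  by_cases hM : ∃ V : Subgroup X, V ≤ Subgroup.center X ∧ Nat.card V = 4 ∧ (∀ v ∈ V, v * v = 1) ∧
      (∀ a ∈ A, ∀ v ∈ V, a v ∈ V) ∧ ∃ a ∈ A, ∃ v ∈ V, a v ≠ v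
  · obtain ⟨V, hV, h4, hsqV, hinv, hmove⟩ := hM
    haveI := normal_of_le_center hV
    have M : Mov A V := ⟨S, hV, h4, hsqV, hinv, hmove, fun x hx hg => by
      obtain ⟨E, hEn, hEc, hEs, hVE, hxE, -⟩ := adjoin (V := V) (fun v hv w _ => (Subgroup.mem_center_iff.1 (hV hv) w).symm)
        hsqV hx (fun v hv => Subgroup.mem_center_iff.1 (hV hv) x) hg
      rw [Subgroup.eq_of_le_of_card_ge hVE ((hbound E hEn hEc hEs).trans h4.ge)]
      exact hxE⟩
    obtain ⟨hsq, hcm, hinv', hZ, hK⟩ := M.classify hna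
    subst hZ
    refine Or.inr (Or.inl (concl_four S.pgroup h4 hsqV hsq hK hinv' fun h32 => ?_))
    obtain ⟨ψ, hψ, h3, hcube, -, -⟩ := M.exists_psi
    obtain ⟨a, ha, u, hu, hau⟩ := hmove
    have hu1 : u ≠ 1 := fun e => hau (by rw [e, map_one])
    have hψu1 : ψ u ≠ 1 := fun e => hu1 (ψ.injective (e.trans (map_one ψ).symm))
    have hshift : ∀ t : X, (∑ x : X, chi (ψ t) (x * x)) = ∑ x : X, chi t (x * x) := fun t => by
      rw [← ψ.toEquiv.sum_comp (fun x => chi (ψ t) (x * x))]
      refine Finset.sum_congr rfl fun x _ => ?_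
      show chi (ψ t) (ψ x * ψ x) = chi t (x * x)
      rw [← map_mul, chi_map]
    have hs := sum_four h4 hsqV hsq (fun g => ⟨hinv' g, hsqV g⟩) hu (hinv ψ hψ u hu) hu1 hψu1
      (Ne.symm (h3 u hu hu1).1)
    rw [← (h3 u hu hu1).2, hshift (ψ u), hshift u, h32] at hs
    push_cast at hs
    omega
  push Not at hM
  have hF : ∀ N : Subgroup X, N.Normal → (∀ v ∈ N, ∀ w ∈ N, v * w = w * v) → (∀ a ∈ A, ∀ v ∈ N, a v ∈ N) →
      N ≤ Subgroup.center X ∧ ∀ a ∈ A, ∀ v ∈ N, a v = v := by
    intro N hNn hNc hNi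
    haveI := hNn
    let E : Subgroup X :=
      { carrier := {v | v ∈ N ∧ v * v = 1}
        one_mem' := ⟨one_mem _, one_mul 1⟩
        mul_mem' := fun {p q} hp hq => ⟨mul_mem hp.1 hq.1, by
          rw [mul_assoc, ← mul_assoc q, hNc q hq.1 p hp.1, mul_assoc p q, ← mul_assoc p p, hp.2, hq.2, one_mul]⟩
        inv_mem' := fun {p} hp => ⟨inv_mem hp.1, by rw [← mul_inv_rev, hp.2, inv_one]⟩ }
    haveI hEn : E.Normal := ⟨fun v hv g => ⟨hNn.conj_mem v hv.1 g, by
      rw [show g * v * g⁻¹ * (g * v * g⁻¹) = g * (v * v) * g⁻¹ by group, hv.2, mul_one, mul_inv_cancel]⟩⟩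
    have hEi : ∀ a ∈ A, ∀ v ∈ E, a v ∈ E := fun a ha v hv => ⟨hNi a ha v hv.1, by rw [← map_mul, hv.2, map_one]⟩
    have hEle := hbound E hEn (fun v hv w hw => hNc v hv.1 w hw.1) fun v hv => hv.2
    have hfix : ∀ a ∈ A, ∀ v ∈ E, a v = v := by
      by_contra hne
      push Not at hne
      obtain ⟨a, ha, v, hv, hav⟩ := hne
      have hv1 : v ≠ 1 := fun e => hav (by rw [e, map_one])
      have hav1 : a v ≠ 1 := fun e => hv1 (a.injective (e.trans (map_one a).symm))
      have h4 : Nat.card E = 4 := by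
        letI : Fintype E := Fintype.ofFinite E
        let s : Finset E := {1, ⟨v, hv⟩, ⟨a v, hEi a ha v hv⟩}
        have hs : s.card = 3 := by
          simp [s, Finset.card_insert_of_notMem, Subtype.ext_iff, Ne.symm hv1, Ne.symm hav1, Ne.symm hav]
        have := s.card_le_univ
        rw [← Nat.card_eq_fintype_card, hs] at this
        obtain ⟨i, hi⟩ := IsPGroup.iff_card.1 (S.pgroup.to_subgroup E)
        rcases (show i ≤ 1 ∨ i = 2 ∨ 3 ≤ i by omega) with h | h | h
        · have := Nat.pow_le_pow_right two_pos h; omega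
        · rw [hi, h]; norm_num
        · have := Nat.pow_le_pow_right two_pos h; omega
      haveI := S.nilpotent
      obtain ⟨z, hzE, hz1, hzc⟩ := exists_fixed_mod (N := (⊥ : Subgroup X)) (C := E) (Q := ⊤)
        (by rw [Subgroup.normalizer_eq_top]) (fun h => hv1 (h hv))
      have hzC : z ∈ Subgroup.center X := Subgroup.mem_center_iff.2 fun g =>
        (commutatorElement_eq_one_iff_mul_comm.1 (Subgroup.mem_bot.1 (hzc g (Subgroup.mem_top g)))).symm
      have hazC : a z ∈ Subgroup.center X := Subgroup.mem_center_iff.2 fun g => by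
        obtain ⟨g, rfl⟩ := a.surjective g
        rw [← map_mul, ← map_mul, Subgroup.mem_center_iff.1 hzC g]
      have hkey := (S.four_key h4 (fun w hw => hw.2) ha (hEi a ha)).resolve_left fun h => hav (h v hv)
      have hz1' : z ≠ 1 := fun e => hz1 (Subgroup.mem_bot.2 e)
      have hEC : E ≤ Subgroup.center X := fun w hw => by
        rcases four_elems h4 (fun w hw => hw.2) hzE (hEi a ha z hzE) hz1'
          (fun e => hz1' (a.injective (e.trans (map_one a).symm))) (Ne.symm (hkey z hzE hz1').1) w hw with e | e | e | e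
          <;> rw [e]
        · exact one_mem _
        · exact hzC
        · exact hazC
        · exact mul_mem hzC hazC
      exact hav (hM E hEC h4 (fun w hw => hw.2) hEi a ha v hv)
    have hfixN : ∀ a ∈ A, ∀ v ∈ N, a v = v := fun a ha =>
      S.fix_abelian hNc ha (hNi a ha) fun x hx hxx => hfix a ha x ⟨hx, hxx⟩
    exact ⟨S.central_of_fixed hfixN, hfixN⟩
  have hZi : ∀ a ∈ A, ∀ v ∈ Subgroup.center X, a v ∈ Subgroup.center X := fun a _ v hv =>
    Subgroup.mem_center_iff.2 fun g => by
      obtain ⟨g, rfl⟩ := a.surjective g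
      rw [← map_mul, ← map_mul, Subgroup.mem_center_iff.1 hv g]
  have hKi : ∀ a ∈ A, ∀ v ∈ commutator X, a v ∈ commutator X := by
    intro a _
    have : commutator X ≤ (commutator X).comap (a : X →* X) := by
      rw [commutator_def, Subgroup.commutator_le]
      intro p _ q _
      show a ⁅p, q⁆ ∈ commutator X
      rw [show a ⁅p, q⁆ = ⁅a p, a q⁆ from map_commutatorElement a p q]
      exact Subgroup.commutator_mem_commutator (Subgroup.mem_top _) (Subgroup.mem_top _)
    exact this
  have hcmK : ∀ g h : X, ⁅g, h⁆ ∈ commutator X := fun g h =>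
    Subgroup.commutator_mem_commutator (Subgroup.mem_top g) (Subgroup.mem_top h)
  -- class two
  have hKZ : commutator X ≤ Subgroup.center X := by
    let N₀ : Subgroup X :=
      { carrier := {k | k ∈ commutator X ∧ ∀ g, ⁅k, g⁆ ∈ Subgroup.center X}
        one_mem' := ⟨one_mem _, fun g => by rw [commutatorElement_one_left]; exact one_mem _⟩
        mul_mem' := fun {p q} hp hq => ⟨mul_mem hp.1 hq.1, fun g => by
          rw [comm_mul_left (hq.2 g)]; exact mul_mem (hq.2 g) (hp.2 g)⟩
        inv_mem' := fun {p} hp => ⟨inv_mem hp.1, fun g => by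
          rw [show ⁅p⁻¹, g⁆ = p⁻¹ * ⁅p, g⁆⁻¹ * p⁻¹⁻¹ by simp only [commutatorElement_def]; group]
          exact (inferInstance : (Subgroup.center X).Normal).conj_mem _ (inv_mem (hp.2 g)) _⟩ }
    have hcK : ∀ k ∈ N₀, ∀ m ∈ commutator X, k * m = m * k := by
      intro k hk m hm
      let f : X →* Subgroup.center X := MonoidHom.mk' (fun g => ⟨⁅k, g⁆, hk.2 g⟩) fun g g' =>
        Subtype.ext (comm_mul_right (hk.2 g'))
      have : commutator X ≤ f.ker := by
        rw [commutator_def, Subgroup.commutator_le]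
        intro p _ q _
        rw [MonoidHom.mem_ker, map_commutatorElement, commutatorElement_eq_one_iff_mul_comm]
        exact Subtype.ext (Subgroup.mem_center_iff.1 (f q).2 _)
      exact commutatorElement_eq_one_iff_mul_comm.1 (congrArg Subtype.val (MonoidHom.mem_ker.1 (this hm)))
    have hN₀ := (hF N₀ ⟨fun k hk g => ⟨(inferInstance : (commutator X).Normal).conj_mem k hk.1 g, fun h => by
        rw [show g * k * g⁻¹ = ⁅g, k⁆ * k by rw [commutatorElement_def, inv_mul_cancel_right],
          comm_mul_left (hk.2 h)]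
        refine mul_mem (hk.2 h) ?_
        have hgk : ⁅g, k⁆ ∈ Subgroup.center X := by rw [← commutatorElement_inv]; exact inv_mem (hk.2 g)
        rw [commutatorElement_eq_one_iff_mul_comm.2 (Subgroup.mem_center_iff.1 hgk h).symm]
        exact one_mem _⟩⟩
      (fun v hv w hw => hcK v hv w hw.1)
      (fun a ha v hv => ⟨hKi a ha v hv.1, fun g => by
        obtain ⟨g, rfl⟩ := a.surjective g
        rw [show ⁅a v, a g⁆ = a ⁅v, g⁆ from (map_commutatorElement a v g).symm]
        exact hZi a ha _ (hv.2 g)⟩)).1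
    by_contra hne
    haveI := S.nilpotent
    obtain ⟨x, hxK, hxZ, hxc⟩ := exists_fixed_mod (N := Subgroup.center X) (C := commutator X) (Q := ⊤)
      (by rw [Subgroup.normalizer_eq_top]) hne
    exact hxZ (hN₀ ⟨hxK, fun g => hxc g (Subgroup.mem_top g)⟩)
  have hcm : ∀ g h : X, ⁅g, h⁆ ∈ Subgroup.center X := fun g h => hKZ (hcmK g h)
  have hpowc : ∀ (m : ℕ) (g h : X), ⁅g ^ m, h⁆ = ⁅g, h⁆ ^ m := by
    intro m g h
    induction m with
    | zero => rw [pow_zero, pow_zero, commutatorElement_one_left]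
    | succ m ih => rw [pow_succ, comm_mul_left (hcm g h), ih, pow_succ']
  have hsq : ∀ g : X, g * g ∈ Subgroup.center X := by
    obtain ⟨n, hn⟩ := IsPGroup.iff_card.1 S.pgroup
    have hdesc : ∀ d i : ℕ, n ≤ i + d → 1 ≤ i → ∀ g : X, g ^ 2 ^ i ∈ Subgroup.center X := by
      intro d
      induction d with
      | zero =>
        intro i hi _ g
        rw [show i = n + (i - n) by omega, pow_add, pow_mul, ← hn, pow_card_eq_one', one_pow]
        exact one_mem _
      | succ d ih =>
        intro i hi h1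
        have hnext := ih (i + i) (by omega) (by omega)
        obtain ⟨P, hP⟩ : ∃ P, P = Subgroup.closure (Set.range fun g : X => g ^ 2 ^ i) := ⟨_, rfl⟩
        have hgen : ∀ p ∈ Set.range (fun g : X => g ^ 2 ^ i), ∀ q ∈ Set.range (fun g : X => g ^ 2 ^ i),
            p * q = q * p := by
          rintro _ ⟨g, rfl⟩ _ ⟨h, rfl⟩
          refine commutatorElement_eq_one_iff_mul_comm.1 ?_
          have e : ⁅g ^ 2 ^ i, h ^ 2 ^ i⁆ = ⁅(g ^ 2 ^ i) ^ 2 ^ i, h⁆ := by
            rw [hpowc _ (g ^ 2 ^ i) h, ← commutatorElement_inv (h ^ 2 ^ i), hpowc, ← inv_pow, commutatorElement_inv]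
          rw [e, ← pow_mul, ← pow_add, commutatorElement_eq_one_iff_mul_comm]
          exact (Subgroup.mem_center_iff.1 (hnext g) h).symm
        have hPc : ∀ p ∈ P, ∀ q ∈ P, p * q = q * p := by
          rw [hP]
          intro p hp q hq
          have h2 : Subgroup.closure (Set.range fun g : X => g ^ 2 ^ i) ≤
              Subgroup.centralizer (Subgroup.closure (Set.range fun g : X => g ^ 2 ^ i) : Set X) := by
            rw [Subgroup.centralizer_closure]
            exact (Subgroup.closure_le _).2 fun a ha => Subgroup.mem_centralizer_iff.2 fun b hb => hgen b hb a ha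
          exact (Subgroup.mem_centralizer_iff.1 (h2 hp) q hq).symm
        have hPn : P.Normal := by
          refine ⟨fun p hp g => ?_⟩
          have : P ≤ P.comap (MulAut.conj g).toMonoidHom := by
            conv_lhs => rw [hP]
            rw [Subgroup.closure_le]
            rintro _ ⟨h, rfl⟩
            show g * h ^ 2 ^ i * g⁻¹ ∈ P
            rw [← conj_pow, hP]
            exact Subgroup.subset_closure ⟨_, rfl⟩
          exact this hp
        have hPi : ∀ a ∈ A, ∀ v ∈ P, a v ∈ P := by
          intro a _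
          have : P ≤ P.comap (a : X →* X) := by
            conv_lhs => rw [hP]
            rw [Subgroup.closure_le]
            rintro _ ⟨h, rfl⟩
            show a (h ^ 2 ^ i) ∈ P
            rw [map_pow, hP]
            exact Subgroup.subset_closure ⟨_, rfl⟩
          exact this
        intro g
        exact (hF P hPn hPc hPi).1 (hP ▸ Subgroup.subset_closure ⟨g, rfl⟩)
    intro g
    simpa [pow_two] using hdesc n 1 (by omega) le_rfl g
  have hZfix : ∀ a ∈ A, ∀ v ∈ Subgroup.center X, a v = v :=
    (hF (Subgroup.center X) inferInstance (fun v hv w _ => (Subgroup.mem_center_iff.1 hv w).symm) hZi).2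
  have hK : commutator X = Subgroup.center X := le_antisymm hKZ fun z hz =>
    S.fixed_coset hKi hcmK fun a ha => by rw [hZfix a ha z hz, inv_mul_cancel]; exact one_mem _
  have hsqZ : ∀ v ∈ Subgroup.center X, v * v = 1 := by
    let T₂ : Subgroup X :=
      { carrier := {z | z ∈ Subgroup.center X ∧ z * z = 1}
        one_mem' := ⟨one_mem _, one_mul 1⟩
        mul_mem' := fun {p q} hp hq => ⟨mul_mem hp.1 hq.1, by
          rw [mul_assoc, ← mul_assoc q, ← Subgroup.mem_center_iff.1 hq.1 p, mul_assoc p q, ← mul_assoc p p, hp.2, hq.2,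
            one_mul]⟩
        inv_mem' := fun {p} hp => ⟨inv_mem hp.1, by rw [← mul_inv_rev, hp.2, inv_one]⟩ }
    have hle : commutator X ≤ T₂ := by
      rw [commutator_def, Subgroup.commutator_le]
      refine fun p _ q _ => ⟨hcm p q, ?_⟩
      rw [← comm_mul_left (hcm p q), commutatorElement_eq_one_iff_mul_comm]
      exact (Subgroup.mem_center_iff.1 (hsq p) q).symm
    exact fun v hv => (hle (hK ▸ hv)).2
  have hcoset : ∀ g : X, (∀ a ∈ A, g⁻¹ * a g ∈ Subgroup.center X) → g ∈ Subgroup.center X :=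
    fun g hg => S.fixed_coset hZi hcm hg
  have hle4 := hbound (Subgroup.center X) inferInstance (fun v hv w _ => (Subgroup.mem_center_iff.1 hv w).symm) hsqZ
  obtain ⟨i, hi⟩ := IsPGroup.iff_card.1 (S.pgroup.to_subgroup (Subgroup.center X))
  rcases (show i = 0 ∨ i = 1 ∨ i = 2 ∨ 3 ≤ i by omega) with h | h | h | h
  · obtain ⟨p, q, hpq⟩ := hna
    have hbot : Subgroup.center X = ⊥ := Subgroup.card_eq_one.1 (by rw [hi, h, pow_zero])
    exact absurd (commutatorElement_eq_one_iff_mul_comm.1 (Subgroup.mem_bot.1 (hbot ▸ hcm p q))) hpq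
  · rcases concl_two S hna hbound (by rw [hi, h, pow_one]) hsq hK hcoset with e | e
    · exact Or.inl e
    · exact Or.inr (Or.inr e)
  · have h4 : Nat.card (Subgroup.center X) = 4 := by rw [hi, h]; norm_num
    have hinv : ∀ g : X, g * g = 1 → g ∈ Subgroup.center X := fun g hg => by
      obtain ⟨E, hEn, hEc, hEs, hVE, hgE, -⟩ := adjoin (V := Subgroup.center X)
        (fun v hv w _ => (Subgroup.mem_center_iff.1 hv w).symm) hsqZ hg
        (fun v hv => Subgroup.mem_center_iff.1 hv g) (hcm g)
      rw [Subgroup.eq_of_le_of_card_ge hVE ((hbound E hEn hEc hEs).trans h4.ge)]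
      exact hgE
    refine Or.inr (Or.inl (concl_four S.pgroup h4 hsqZ hsq hK hinv fun h32 => ?_))
    have hpos : ∀ t ∈ Subgroup.center X, t ≠ 1 → (0 : ℤ) ≤ ∑ x : X, chi t (x * x) := by
      intro t ht ht1
      obtain ⟨R, hZR, hR, hS⟩ := char_sum le_rfl hsq hcm (chi t) (chi_pm t) (chi_one t)
        (chi_mul_four h4 hsqZ ht ht1)
      rcases hS with ⟨hall, e⟩ | ⟨-, e⟩
      swap
      · rw [e]
      obtain ⟨r, hr⟩ := IsPGroup.iff_card.1 (S.pgroup.to_subgroup R)
      have hr1 : 2 ≤ r := by
        have h1 := Subgroup.card_le_of_le hZR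
        rw [h4, hr] at h1
        by_contra hlt
        have := Nat.pow_le_pow_right two_pos (show r ≤ 1 by omega)
        omega
      have hr2 : r ≤ 5 := by
        have h1 := Subgroup.card_le_card_group R
        rw [hr, h32, show (32 : ℕ) = 2 ^ 5 by norm_num] at h1
        exact (Nat.pow_le_pow_iff_right (by norm_num)).1 h1
      rw [hr, h32] at e
      push_cast at e
      rw [show (32 : ℤ) = 2 ^ 5 by norm_num, ← pow_add] at e
      obtain ⟨j, hj, -⟩ := nat_sq_eq_two_pow e
      rcases (show r = 3 ∨ r = 5 by omega) with hr3 | hr5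
      · exfalso
        have hRi : ∀ a ∈ A, ∀ g ∈ R, a g ∈ R := fun a ha g hg => (hR _).2 fun x => by
          obtain ⟨x, rfl⟩ := a.surjective x
          rw [show ⁅a g, a x⁆ = a ⁅g, x⁆ from (map_commutatorElement a g x).symm, hZfix a ha _ (hcm g x)]
          exact (hR g).1 hg x
        obtain ⟨g, hgR, hgZ⟩ : ∃ g ∈ R, g ∉ Subgroup.center X := by
          by_contra hh
          push Not at hh
          have h1 := Subgroup.card_le_of_le (show R ≤ Subgroup.center X from hh)
          rw [h4, hr, hr3] at h1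
          norm_num at h1
        refine hgZ (hcoset g fun a ha => ?_)
        by_contra hag
        have hag' : a g ∉ Subgroup.center X := fun h => hgZ (by
          have := hZi a⁻¹ (inv_mem ha) _ h
          rwa [MulAut.inv_apply_self] at this)
        -- two cosets in a subgroup of index two over the centre
        have hidx : (Subgroup.center X).relIndex R = 2 := by
          have h1 := Subgroup.relIndex_mul_relIndex ⊥ (Subgroup.center X) R bot_le hZR
          rw [Subgroup.relIndex_bot_left, Subgroup.relIndex_bot_left, h4, hr, hr3] at h1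
          omega
        have hiff := Subgroup.mul_mem_iff_of_index_two (H := (Subgroup.center X).subgroupOf R) hidx
          (a := ⟨g⁻¹, inv_mem hgR⟩) (b := ⟨a g, hRi a ha g hgR⟩)
        refine hag (hiff.2 ⟨fun h => absurd ?_ hgZ, fun h => absurd h hag'⟩)
        exact inv_mem_iff.1 h
      · have hRtop : R = ⊤ := Subgroup.eq_top_of_card_eq R (by rw [hr, hr5, h32]; norm_num)
        exact Finset.sum_nonneg fun x _ => by rw [hall x (hRtop ▸ Subgroup.mem_top x)]; norm_num
    obtain ⟨u, hu, hu1⟩ : ∃ u ∈ Subgroup.center X, u ≠ 1 := by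
      haveI : Nontrivial (Subgroup.center X) := Finite.one_lt_card_iff_nontrivial.1 (by rw [h4]; norm_num)
      obtain ⟨⟨u, hu⟩, hne⟩ := exists_ne (1 : Subgroup.center X)
      exact ⟨u, hu, fun e => hne (Subtype.ext e)⟩
    obtain ⟨w, hw, hw1, hwu⟩ : ∃ w ∈ Subgroup.center X, w ≠ 1 ∧ w ≠ u := by
      by_contra hcon
      push Not at hcon
      have hs : Function.Surjective
          (fun i : Fin 2 => if i = 0 then (1 : Subgroup.center X) else ⟨u, hu⟩) := fun z => by
        by_cases hz : (z : X) = 1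
        · exact ⟨0, by simp [Subtype.ext_iff, hz]⟩
        · exact ⟨1, by simp [Subtype.ext_iff, hcon z z.2 hz]⟩
      have := Nat.card_le_card_of_surjective _ hs
      rw [h4, Nat.card_fin] at this
      omega
    have hs := sum_four h4 hsqZ hsq (fun g => ⟨hinv g, hsqZ g⟩) hu hw hu1 hw1 (Ne.symm hwu)
    have p1 := hpos u hu hu1
    have p2 := hpos w hw hw1
    have p3 := hpos (u * w) (mul_mem hu hw) fun e => hwu (mul_left_cancel (e.trans (hsqZ u hu).symm))
    rw [h32] at hs
    push_cast at hs
    omega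
  · have := Nat.pow_le_pow_right two_pos h
    rw [hi] at hle4
    omega

end Cfsg.Agent.Fusion.OddAutNoScn
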