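import Cfsg.Agent.Lib.Fusion.NPC
import Cfsg.Agent.Lib.Solv.SetMul
import Cfsg.Agent.Lib.Local.ElemAb

/-!
# Timmesfeld's replacement

For `A` acting with abelian image on an abelian group `V`, either `|B| |C_V(B)|` exceeds
`|A| |C_V(A)|` for some `B ≤ A`, or `C_A([U, A])` attains it, with fixed points `[U, A] C_V(A)`.
-/

set_option autoImplicit false
set_option linter.style.haveILetI false

open Cfsg
open scoped Pointwise commutatorElement

namespace Cfsg.Agent.Fusion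

universe u

variable {G : Type u} [Group G] {V A : Subgroup G}

/-- `|B| |C_V(B)|`. -/
noncomputable def offMeasure (V B : Subgroup G) : ℕ :=
  Nat.card B * Nat.card ↥(V ⊓ Subgroup.centralizer (B : Set G))

section Action

variable (hV : ∀ x ∈ V, ∀ y ∈ V, x * y = y * x) (hAV : A ≤ Subgroup.normalizer (V : Set G))

include hAV in
theorem act_comm_mem {x a : G} (hx : x ∈ V) (ha : a ∈ A) : ⁅x, a⁆ ∈ V := by
  have h := (Subgroup.mem_normalizer_iff.1 (hAV ha) x⁻¹).1 (inv_mem hx)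
  rw [show ⁅x, a⁆ = x * (a * x⁻¹ * a⁻¹) by simp [commutatorElement_def, mul_assoc]]
  exact mul_mem hx h

include hV hAV in
theorem act_comm_mul {x y a : G} (hx : x ∈ V) (hy : y ∈ V) (ha : a ∈ A) :
    ⁅x * y, a⁆ = ⁅x, a⁆ * ⁅y, a⁆ := by
  have h1 : ⁅x * y, a⁆ = x * ⁅y, a⁆ * x⁻¹ * ⁅x, a⁆ := by simp [commutatorElement_def, mul_assoc]
  rw [h1, hV x hx _ (act_comm_mem hAV hy ha), mul_inv_cancel_right,
    hV _ (act_comm_mem hAV hy ha) _ (act_comm_mem hAV hx ha)]

include hV hAV in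
theorem act_comm_swap (hab : ⁅A, A⁆ ≤ Subgroup.centralizer (V : Set G)) {x a b : G} (hx : x ∈ V)
    (ha : a ∈ A) (hb : b ∈ A) : ⁅⁅x, a⁆, b⁆ = ⁅⁅x, b⁆, a⁆ := by
  have hc := hab (Subgroup.commutator_mem_commutator (inv_mem hb) (inv_mem ha))
  have hn : ∀ c ∈ A, ∀ y ∈ V, c * y * c⁻¹ ∈ V := fun c hc y hy =>
    (Subgroup.mem_normalizer_iff.1 (hAV hc) y).1 hy
  -- the two conjugations commute on `V`
  have hswap : b * (a * x * a⁻¹) * b⁻¹ = a * (b * x * b⁻¹) * a⁻¹ := by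
    have h2 : ⁅b⁻¹, a⁻¹⁆ * x = x * ⁅b⁻¹, a⁻¹⁆ := (Subgroup.mem_centralizer_iff.1 hc x hx).symm
    calc b * (a * x * a⁻¹) * b⁻¹ = a * b * (⁅b⁻¹, a⁻¹⁆ * x) * ⁅b⁻¹, a⁻¹⁆⁻¹ * b⁻¹ * a⁻¹ := by
          simp [commutatorElement_def, mul_assoc]
      _ = a * (b * x * b⁻¹) * a⁻¹ := by rw [h2]; group
  have e : ∀ c d : G, ⁅⁅x, c⁆, d⁆ = x * (c * x * c⁻¹)⁻¹ * (d * (c * x * c⁻¹) * d⁻¹) * (d * x * d⁻¹)⁻¹ :=
    fun c d => by simp [commutatorElement_def, mul_assoc]
  rw [e, e, hswap]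
  set p := (a * x * a⁻¹)⁻¹ with hp
  set q := (b * x * b⁻¹)⁻¹ with hq
  set r := a * (b * x * b⁻¹) * a⁻¹ with hr
  have hpV : p ∈ V := inv_mem (hn a ha x hx)
  have hqV : q ∈ V := inv_mem (hn b hb x hx)
  have hrV : r ∈ V := hn a ha _ (hn b hb x hx)
  calc x * p * r * q = x * (p * (r * q)) := by group
    _ = x * (r * q * p) := by rw [hV p hpV _ (mul_mem hrV hqV)]
    _ = x * (q * r * p) := by rw [hV r hrV q hqV]
    _ = x * q * (r * p) := by group
    _ = x * q * r * p := by group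

end Action

variable [Finite G]

omit [Finite G] in
theorem card_mul_relIndex_of_le {H K : Subgroup G} (h : H ≤ K) : Nat.card H * H.relIndex K = Nat.card K := by
  rw [← Subgroup.relIndex_bot_left, ← Subgroup.relIndex_bot_left]
  exact Subgroup.relIndex_mul_relIndex _ _ _ bot_le h

theorem offMeasure_pos (V B : Subgroup G) : 0 < offMeasure V B :=
  Nat.mul_pos Nat.card_pos Nat.card_pos

/-- The measure is supermodular. -/
theorem offMeasure_inf {B C : Subgroup G} {M : ℕ} (hB : offMeasure V B = M) (hC : offMeasure V C = M)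
    (hsup : offMeasure V (B ⊔ C) ≤ M) (hinf : offMeasure V (B ⊓ C) ≤ M) :
    offMeasure V (B ⊓ C) = M ∧ V ⊓ Subgroup.centralizer ((B ⊓ C : Subgroup G) : Set G) =
      (V ⊓ Subgroup.centralizer (B : Set G)) ⊔ (V ⊓ Subgroup.centralizer (C : Set G)) := by
  set WB := V ⊓ Subgroup.centralizer (B : Set G) with hWB
  set WC := V ⊓ Subgroup.centralizer (C : Set G) with hWC
  set Wi := V ⊓ Subgroup.centralizer ((B ⊓ C : Subgroup G) : Set G) with hWi
  have hle : WB ⊔ WC ≤ Wi :=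
    sup_le (inf_le_inf_left _ (Subgroup.centralizer_le inf_le_left))
      (inf_le_inf_left _ (Subgroup.centralizer_le inf_le_right))
  have hinfW : WB ⊓ WC ≤ V ⊓ Subgroup.centralizer ((B ⊔ C : Subgroup G) : Set G) := fun x hx =>
    ⟨hx.1.1, Subgroup.le_centralizer_iff.1 (sup_le (Subgroup.le_centralizer_iff.1 (inf_le_left.trans inf_le_right))
      (Subgroup.le_centralizer_iff.1 (inf_le_right.trans inf_le_right))) hx⟩
  have hsetBC : Nat.card ((B : Set G) * (C : Set G) : Set G) ≤ Nat.card ↥(B ⊔ C) :=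
    Nat.card_mono (Set.toFinite _) (by
      rintro _ ⟨b, hb, c, hc, rfl⟩
      exact mul_mem (Subgroup.mem_sup_left hb) (Subgroup.mem_sup_right hc))
  have hsetW : Nat.card ((WB : Set G) * (WC : Set G) : Set G) ≤ Nat.card ↥(WB ⊔ WC) :=
    Nat.card_mono (Set.toFinite _) (by
      rintro _ ⟨b, hb, c, hc, rfl⟩
      exact mul_mem (Subgroup.mem_sup_left hb) (Subgroup.mem_sup_right hc))
  have h1 : M * M ≤ offMeasure V (B ⊔ C) * (Nat.card ↥(B ⊓ C) * Nat.card ↥(WB ⊔ WC)) := by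
    calc M * M = (Nat.card B * Nat.card C) * (Nat.card WB * Nat.card WC) := by
          nth_rewrite 1 [← hB]; rw [← hC]; simp only [offMeasure, ← hWB, ← hWC]; ring
      _ = (Nat.card ((B : Set G) * (C : Set G) : Set G) * Nat.card ↥(B ⊓ C)) *
          (Nat.card ((WB : Set G) * (WC : Set G) : Set G) * Nat.card ↥(WB ⊓ WC)) := by
          rw [Solv.card_mul_set_mul_card_inf, Solv.card_mul_set_mul_card_inf]
      _ ≤ (Nat.card ↥(B ⊔ C) * Nat.card ↥(B ⊓ C)) * (Nat.card ↥(WB ⊔ WC) *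
          Nat.card ↥(V ⊓ Subgroup.centralizer ((B ⊔ C : Subgroup G) : Set G))) :=
          Nat.mul_le_mul (Nat.mul_le_mul_right _ hsetBC)
            (Nat.mul_le_mul hsetW (Subgroup.card_le_of_le hinfW))
      _ = _ := by simp only [offMeasure]; ring
  have hMpos : 0 < M := hB ▸ offMeasure_pos V B
  have h2 : M ≤ Nat.card ↥(B ⊓ C) * Nat.card ↥(WB ⊔ WC) :=
    Nat.le_of_mul_le_mul_left (h1.trans (Nat.mul_le_mul_right _ hsup)) hMpos
  have h3 : Nat.card ↥(B ⊓ C) * Nat.card ↥(WB ⊔ WC) ≤ offMeasure V (B ⊓ C) :=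
    Nat.mul_le_mul_left _ (Subgroup.card_le_of_le hle)
  refine ⟨le_antisymm hinf (h2.trans h3), (Subgroup.eq_of_le_of_card_ge hle ?_).symm⟩
  exact Nat.le_of_mul_le_mul_left (hinf.trans h2) Nat.card_pos

/-- The replacement for one element. -/
theorem offMeasure_single (hV : ∀ x ∈ V, ∀ y ∈ V, x * y = y * x)
    (hAV : A ≤ Subgroup.normalizer (V : Set G)) (hab : ⁅A, A⁆ ≤ Subgroup.centralizer (V : Set G))
    {S : Set G} {u : G} (hu : u ∈ V) (hS : S = {g | ∃ a ∈ A, ⁅u, a⁆ = g})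
    (hmax : ∀ B ≤ A, offMeasure V B ≤ offMeasure V A) :
    offMeasure V (A ⊓ Subgroup.centralizer S) = offMeasure V A ∧
      V ⊓ Subgroup.centralizer ((A ⊓ Subgroup.centralizer S : Subgroup G) : Set G) =
        Subgroup.closure S ⊔ (V ⊓ Subgroup.centralizer (A : Set G)) := by
  set B := A ⊓ Subgroup.centralizer S with hB
  set Cv := V ⊓ Subgroup.centralizer (A : Set G) with hCv
  set W := Subgroup.closure S ⊔ Cv with hW
  have hCW : Cv ≤ W := le_sup_right
  have hSV : S ⊆ V := by rw [hS]; rintro _ ⟨a, ha, rfl⟩; exact act_comm_mem hAV hu ha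
  have hWle : W ≤ V ⊓ Subgroup.centralizer (B : Set G) := by
    refine sup_le (le_inf ((Subgroup.closure_le _).2 hSV) ?_)
      (le_inf inf_le_left (inf_le_right.trans (Subgroup.centralizer_le inf_le_left)))
    refine (Subgroup.closure_le _).2 fun s hs => Subgroup.mem_centralizer_iff.2 fun b hb => ?_
    exact (Subgroup.mem_centralizer_iff.1 (Subgroup.mem_inf.1 hb).2 s hs).symm
  have hmem : ∀ a : A, ⁅u, (a : G)⁆ ∈ W := fun a =>
    Subgroup.mem_sup_left (Subgroup.subset_closure (hS ▸ ⟨a, a.2, rfl⟩))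
  have hidx : B.relIndex A ≤ Cv.relIndex W := by
    refine Nat.card_le_card_of_injective
      (fun q : A ⧸ B.subgroupOf A => (QuotientGroup.mk (⟨_, hmem q.out⟩ : W) : W ⧸ Cv.subgroupOf W)) ?_
    intro q r h
    rw [← q.out_eq', ← r.out_eq', QuotientGroup.eq, Subgroup.mem_subgroupOf]
    replace h := Subgroup.mem_subgroupOf.1 (QuotientGroup.eq.1 h)
    push_cast at h ⊢
    generalize (q.out : A) = a at h ⊢
    generalize (r.out : A) = b at h ⊢
    refine Subgroup.mem_inf.2 ⟨mul_mem (inv_mem a.2) b.2, Subgroup.mem_centralizer_iff.2 fun s hs => ?_⟩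
    rw [hS] at hs
    obtain ⟨x, hx, rfl⟩ := hs
    obtain ⟨c, hc, hcb⟩ : ∃ c ∈ Cv, ⁅u, (b : G)⁆ = ⁅u, (a : G)⁆ * c := ⟨_, h, by group⟩
    have e1 : ⁅⁅u, (b : G)⁆, x⁆ = ⁅⁅u, (a : G)⁆, x⁆ := by
      rw [hcb, act_comm_mul hV hAV (act_comm_mem hAV hu a.2) hc.1 hx,
        commutatorElement_eq_one_iff_mul_comm.2 (Subgroup.mem_centralizer_iff.1 hc.2 x hx).symm, mul_one]
    rw [act_comm_swap hV hAV hab hu b.2 hx, act_comm_swap hV hAV hab hu a.2 hx] at e1
    have e2 : (b : G) * ⁅u, x⁆⁻¹ * (b : G)⁻¹ = (a : G) * ⁅u, x⁆⁻¹ * (a : G)⁻¹ := by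
      apply mul_left_cancel (a := ⁅u, x⁆)
      simpa [commutatorElement_def, mul_assoc] using e1
    have e3 : ((a : G)⁻¹ * b) * ⁅u, x⁆⁻¹ = ⁅u, x⁆⁻¹ * ((a : G)⁻¹ * b) := by
      calc ((a : G)⁻¹ * b) * ⁅u, x⁆⁻¹ = (a : G)⁻¹ * ((b : G) * ⁅u, x⁆⁻¹ * (b : G)⁻¹) * b := by group
        _ = _ := by rw [e2]; group
    exact ((Commute.inv_right_iff.1 e3).eq).symm
  have hcard : offMeasure V A ≤ Nat.card B * Nat.card W := by
    have e1 := card_mul_relIndex_of_le (inf_le_left : B ≤ A)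
    have e2 := card_mul_relIndex_of_le hCW
    calc offMeasure V A = Nat.card B * B.relIndex A * Nat.card Cv := by rw [e1]; rfl
      _ ≤ Nat.card B * Cv.relIndex W * Nat.card Cv :=
          Nat.mul_le_mul_right _ (Nat.mul_le_mul_left _ hidx)
      _ = Nat.card B * Nat.card W := by rw [← e2]; ring
  have hle : Nat.card B * Nat.card W ≤ offMeasure V B :=
    Nat.mul_le_mul_left _ (Subgroup.card_le_of_le hWle)
  refine ⟨le_antisymm (hmax B inf_le_left) (hcard.trans hle),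
    (Subgroup.eq_of_le_of_card_ge hWle ?_).symm⟩
  exact Nat.le_of_mul_le_mul_left ((hmax B inf_le_left).trans hcard) Nat.card_pos

/-- Timmesfeld replacement. -/
theorem offMeasure_replacement (hV : ∀ x ∈ V, ∀ y ∈ V, x * y = y * x)
    (hAV : A ≤ Subgroup.normalizer (V : Set G)) (hab : ⁅A, A⁆ ≤ Subgroup.centralizer (V : Set G))
    {U : Subgroup G} (hU : U ≤ V) (hmax : ∀ B ≤ A, offMeasure V B ≤ offMeasure V A) :
    offMeasure V (A ⊓ Subgroup.centralizer ((⁅U, A⁆ : Subgroup G) : Set G)) = offMeasure V A ∧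
      V ⊓ Subgroup.centralizer ((A ⊓ Subgroup.centralizer ((⁅U, A⁆ : Subgroup G) : Set G) : Subgroup G) : Set G) =
        ⁅U, A⁆ ⊔ (V ⊓ Subgroup.centralizer (A : Set G)) := by
  classical
  have hcl : ∀ S : Set G, Subgroup.centralizer ((Subgroup.closure S : Subgroup G) : Set G) =
      Subgroup.centralizer S := Subgroup.centralizer_closure
  suffices ∀ s : Finset G, (∀ x ∈ s, x ∈ V) → ∀ S : Set G, S = {g | ∃ x ∈ s, ∃ a ∈ A, ⁅x, a⁆ = g} →
      offMeasure V (A ⊓ Subgroup.centralizer S) = offMeasure V A ∧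
      V ⊓ Subgroup.centralizer ((A ⊓ Subgroup.centralizer S : Subgroup G) : Set G) =
        Subgroup.closure S ⊔ (V ⊓ Subgroup.centralizer (A : Set G)) by
    have h := this (U : Set G).toFinite.toFinset (fun x hx => hU ((Set.Finite.mem_toFinset _).1 hx))
      {g | ∃ x ∈ U, ∃ a ∈ A, ⁅x, a⁆ = g} (by simp)
    rwa [Subgroup.commutator_def, hcl]
  intro s
  induction s using Finset.induction_on with
  | empty =>
    intro _ S hS
    have h0 : S = ∅ := by rw [hS]; simp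
    have h1 : Subgroup.centralizer S = ⊤ := top_le_iff.1 fun g _ =>
      Subgroup.mem_centralizer_iff.2 fun x hx => by rw [h0] at hx; exact hx.elim
    rw [h1, inf_top_eq, h0, Subgroup.closure_empty, bot_sup_eq]
    exact ⟨rfl, rfl⟩
  | insert x s _ ih =>
    intro hs S hS
    set S₁ : Set G := {g | ∃ a ∈ A, ⁅x, a⁆ = g} with hS₁
    set S₂ : Set G := {g | ∃ y ∈ s, ∃ a ∈ A, ⁅y, a⁆ = g} with hS₂
    have hSu : S = S₁ ∪ S₂ := by rw [hS, hS₁, hS₂]; ext g; simp
    obtain ⟨m1, w1⟩ := offMeasure_single hV hAV hab (hs x (Finset.mem_insert_self x s)) hS₁ hmax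
    obtain ⟨m2, w2⟩ := ih (fun y hy => hs y (Finset.mem_insert_of_mem hy)) S₂ hS₂
    have he : A ⊓ Subgroup.centralizer S = (A ⊓ Subgroup.centralizer S₁) ⊓ (A ⊓ Subgroup.centralizer S₂) := by
      ext g
      simp only [Subgroup.mem_inf, Subgroup.mem_centralizer_iff, hSu, Set.mem_union]
      grind
    obtain ⟨m3, w3⟩ := offMeasure_inf m1 m2 (hmax _ (sup_le inf_le_left inf_le_left))
      (hmax _ (inf_le_left.trans inf_le_left))
    rw [he]
    refine ⟨m3, ?_⟩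
    rw [w3, w1, w2, hSu, Subgroup.closure_union, sup_sup_sup_comm, sup_idem]

/-- A nontrivial invariant subgroup is not covered by its commutators with `A`. -/
theorem eq_bot_of_le_act_comm {p : ℕ} [hp : Fact p.Prime] (hAV : A ≤ Subgroup.normalizer (V : Set G))
    (hVp : IsPGroup p V) (hpow : ∀ a ∈ A, a ^ p ∈ Subgroup.centralizer (V : Set G)) {X : Subgroup G}
    (hXV : X ≤ V) (h : X ≤ ⁅X, A⁆) : X = ⊥ := by
  set K : Subgroup A := ((A ⊓ Subgroup.centralizer (V : Set G)).subgroupOf A) with hK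
  haveI : K.Normal := ⟨fun k hk a => by
    rw [hK, Subgroup.mem_subgroupOf] at hk ⊢
    obtain ⟨-, hk⟩ := Subgroup.mem_inf.1 hk
    refine Subgroup.mem_inf.2 ⟨(a * k * a⁻¹).2, Subgroup.mem_centralizer_iff.2 fun v hv => ?_⟩
    have hv' := (Subgroup.mem_normalizer_iff.1 (hAV (inv_mem a.2)) v).1 hv
    have := Subgroup.mem_centralizer_iff.1 hk _ hv'
    push_cast
    calc v * ((a : G) * k * (a : G)⁻¹) = a * (((a : G)⁻¹ * v * (a : G)⁻¹⁻¹) * k) * (a : G)⁻¹ := by group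
      _ = _ := by rw [this]; group⟩
  have hq : IsPGroup p (A ⧸ K) := fun q => ⟨1, by
    induction q using QuotientGroup.induction_on with
    | _ a =>
      rw [pow_one, ← QuotientGroup.mk_pow, QuotientGroup.eq_one_iff, hK, Subgroup.mem_subgroupOf]
      exact Subgroup.mem_inf.2 ⟨(a ^ p).2, by push_cast; exact hpow a a.2⟩⟩
  obtain ⟨P⟩ := (inferInstance : Nonempty (Sylow p A))
  have hKP : K ⊔ (P : Subgroup A) = ⊤ := by
    rw [← Subgroup.index_eq_one]
    obtain ⟨k, hk⟩ := IsPGroup.iff_card.1 hq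
    obtain ⟨j, -, hj⟩ := (Nat.dvd_prime_pow hp.out).1
      ((Subgroup.index_dvd_of_le (le_sup_left : K ≤ K ⊔ (P : Subgroup A))).trans
        (hk ▸ (Subgroup.index_eq_card K).dvd))
    rcases j with _ | j
    · exact hj.trans (pow_zero p)
    · exact absurd ((hj ▸ dvd_pow_self p j.succ_ne_zero).trans
        (Subgroup.index_dvd_of_le (le_sup_right : (P : Subgroup A) ≤ K ⊔ P))) P.not_dvd_index
  set S := (P : Subgroup A).map A.subtype
  have hS : IsPGroup p ↥(V ⊔ S) := hVp.to_sup_of_normal_left' (P.isPGroup'.map _)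
    ((Subgroup.map_subtype_le _).trans hAV)
  have h2 : ⁅X, A⁆ ≤ ⁅X, V ⊔ S⁆ := Subgroup.commutator_le.2 fun x hx a ha => by
    obtain ⟨k, hk, y, hy, hky⟩ := Subgroup.mem_sup_of_normal_left.1
      (hKP ▸ Subgroup.mem_top (⟨a, ha⟩ : A) : (⟨a, ha⟩ : A) ∈ K ⊔ (P : Subgroup A))
    replace hky : a = (k : G) * y := (congrArg Subtype.val hky).symm
    have hkC : ∀ v ∈ V, v * (k : G) = k * v := fun v hv =>
      Subgroup.mem_centralizer_iff.1 (Subgroup.mem_inf.1 (Subgroup.mem_subgroupOf.1 hk)).2 v hv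
    have hxy : ⁅x, (y : G)⁆ ∈ V := act_comm_mem hAV (hXV hx) y.2
    rw [hky, show ⁅x, (k : G) * (y : G)⁆ = x * (k : G) * x⁻¹ * (⁅x, (y : G)⁆) * (k : G)⁻¹ by
      simp [commutatorElement_def, mul_assoc], hkC x (hXV hx), mul_inv_cancel_right, ← hkC _ hxy,
      mul_inv_cancel_right]
    exact Subgroup.commutator_mem_commutator hx (Subgroup.mem_sup_right (Subgroup.mem_map_of_mem _ hy))
  by_contra hX
  exact not_le_commutator_pgroup hS (hXV.trans le_sup_left) hX (h.trans h2)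

end Cfsg.Agent.Fusion
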