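import Cfsg.Agent.Lib.Fusion.AB
import Cfsg.Agent.Lib.Fusion.Timmesfeld
import Cfsg.Agent.Lib.Solv.Generation

/-!
# The offender bound against a coprime group

An elementary abelian `p`-group `A` faithful on a `p'`-group `R`, both acting on a `p`-group `V` on which `R`
is faithful, satisfies `|A| |C_V(A)| ≤ |V|`.
-/

set_option autoImplicit false
set_option linter.style.haveILetI false

open Cfsg
open scoped commutatorElement Pointwise

namespace Cfsg.Agent.Fusion

universe u

variable {G : Type u} [Group G] [Finite G] {p : ℕ} [hp : Fact p.Prime]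

theorem card_sup_zpowers_le {A B : Subgroup G} {a : G} (hc : ∀ b ∈ B, a * b = b * a)
    (hA : B ⊔ Subgroup.zpowers a = A) (hap : a ^ p = 1) : Nat.card A ≤ p * Nat.card B := by
  have hle : Subgroup.zpowers a ≤ Subgroup.normalizer (B : Set G) := Subgroup.zpowers_le.2
    (Subgroup.centralizer_le_normalizer _ (Subgroup.mem_centralizer_iff.2 fun b hb => (hc b hb).symm))
  have h1 := Solv.card_sup_mul_card_inf' B (Subgroup.zpowers a) hle
  rw [hA] at h1
  have h2 : Nat.card (Subgroup.zpowers a) ≤ p := by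
    rw [Nat.card_zpowers]; exact orderOf_le_of_pow_eq_one hp.out.pos hap
  calc Nat.card A ≤ Nat.card A * Nat.card ↥(B ⊓ Subgroup.zpowers a) := Nat.le_mul_of_pos_right _ Nat.card_pos
    _ = Nat.card B * Nat.card (Subgroup.zpowers a) := h1
    _ ≤ Nat.card B * p := Nat.mul_le_mul_left _ h2
    _ = p * Nat.card B := mul_comm _ _

/-- Hyperplanes with strictly larger fixed points. -/
theorem exists_hyperplane_larger_fixed {V R : Subgroup G} (hV : IsPGroup p V) (hR : (Nat.card R).Coprime p)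
    (hRV : R ≤ Subgroup.normalizer (V : Set G)) (hRf : R ⊓ Subgroup.centralizer (V : Set G) = ⊥)
    {A : Subgroup G} (hA : IsElementaryAbelian p A) (hAV : A ≤ Subgroup.normalizer (V : Set G))
    (hAR : A ≤ Subgroup.normalizer (R : Set G)) (hAf : A ⊓ Subgroup.centralizer (R : Set G) = ⊥)
    {b₀ : G} (hb₀ : b₀ ∈ A) (hb₁ : b₀ ≠ 1) :
    ∃ B < A, b₀ ∉ B ∧ Nat.card A ≤ p * Nat.card B ∧ offMeasure V A ≤ offMeasure V B := by
  have hAp : IsPGroup p A := Local.elemAb_isPGroup hA
  have hco : (Nat.card A).Coprime (Nat.card R) := by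
    obtain ⟨k, hk⟩ := IsPGroup.iff_card.1 hAp
    rw [hk]; exact Nat.Coprime.pow_left k hR.symm
  obtain ⟨B, hB, hnotb⟩ : ∃ B ∈ Solv.CycQuot A,
      ¬ R ⊓ Subgroup.centralizer (B : Set G) ≤ Subgroup.centralizer ({b₀} : Set G) := by
    by_contra h
    push Not at h
    have h1 : R ≤ Subgroup.centralizer ({b₀} : Set G) := by
      rw [← Solv.gen_eq A R hA.1 hAR hco]; exact iSup₂_le h
    refine hb₁ (Subgroup.mem_bot.1 (hAf ▸ Subgroup.mem_inf.2 ⟨hb₀, Subgroup.mem_centralizer_iff.2 fun r hr => ?_⟩))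
    exact Subgroup.mem_centralizer_singleton_iff.1 (h1 hr)
  have hnot : ¬ R ⊓ Subgroup.centralizer (B : Set G) ≤ Subgroup.centralizer (A : Set G) := fun h =>
    hnotb (h.trans (Subgroup.centralizer_le (Set.singleton_subset_iff.2 hb₀)))
  have hbB : b₀ ∉ B := fun h => hnotb (inf_le_right.trans
    (Subgroup.centralizer_le (Set.singleton_subset_iff.2 h)))
  obtain ⟨hBA, a, ha, hBa⟩ := hB
  have hlt : B < A := lt_of_le_of_ne hBA fun h => hnot (h ▸ inf_le_right)
  have hBV : B ≤ Subgroup.normalizer (V : Set G) := hBA.trans hAV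
  set Rb := R ⊓ Subgroup.centralizer (B : Set G)
  set W := V ⊓ Subgroup.centralizer (B : Set G) with hW
  set C := V ⊓ Subgroup.centralizer (A : Set G) with hC
  have hCW : C ≤ W := inf_le_inf_left _ (Subgroup.centralizer_le hBA)
  have hne : C ≠ W := by
    intro heq
    -- `[R_B, A]` centralizes `C_V(B)`, hence `V`
    have hWA : ⁅W, A⁆ = ⊥ := Subgroup.commutator_eq_bot_iff_le_centralizer.2 (heq ▸ inf_le_right)
    have hcA : ∀ x ∈ A, ∀ b ∈ B, x * b = b * x := fun x hx b hb =>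
      Local.elemAb_commute hA hx (hBA hb)
    have hRbW : ⁅Rb, W⁆ ≤ W := Subgroup.commutator_le.2 fun r hr w hw => by
      obtain ⟨hrR, hrB⟩ := Subgroup.mem_inf.1 hr
      obtain ⟨hwV, hwB⟩ := Subgroup.mem_inf.1 hw
      have hrw : r * w * r⁻¹ ∈ W := Subgroup.mem_inf.2 ⟨(Subgroup.mem_normalizer_iff.1 (hRV hrR) w).1 hwV,
        mul_mem (mul_mem hrB hwB) (inv_mem hrB)⟩
      simpa [commutatorElement_def] using mul_mem hrw (inv_mem hw)
    have h1 : ⁅⁅A, W⁆, Rb⁆ = ⊥ := by
      rw [Subgroup.commutator_comm A W, hWA, Subgroup.commutator_bot_left]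
    have h2 : ⁅⁅W, Rb⁆, A⁆ = ⊥ := le_bot_iff.1 (by
      rw [← hWA]; exact Subgroup.commutator_mono ((Subgroup.commutator_comm W Rb).le.trans hRbW) le_rfl)
    have h3 : ⁅⁅Rb, A⁆, W⁆ = ⊥ := Subgroup.commutator_commutator_eq_bot_of_rotate h1 h2
    have hinR : ⁅Rb, A⁆ ≤ Rb := Subgroup.commutator_le.2 fun r hr x hx => by
      obtain ⟨hrR, hrB⟩ := Subgroup.mem_inf.1 hr
      have hxB : x ∈ Subgroup.centralizer (B : Set G) :=
        Subgroup.mem_centralizer_iff.2 fun b hb => (hcA x hx b hb).symm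
      refine Subgroup.mem_inf.2 ⟨act_comm_mem hAR hrR hx, ?_⟩
      rw [commutatorElement_def]
      exact mul_mem (mul_mem (mul_mem hrB hxB) (inv_mem hrB)) (inv_mem hxB)
    refine hnot (Subgroup.commutator_eq_bot_iff_le_centralizer.1 (le_bot_iff.1 ?_))
    rw [← hRf]
    refine le_inf (hinR.trans inf_le_left) fun x hx => ?_
    obtain ⟨hxR, hxB⟩ := Subgroup.mem_inf.1 (hinR hx)
    refine mem_centralizer_of_AB hV (Local.elemAb_isPGroup (Local.elemAb_mono hA hBA)) hBV (hRV hxR)
      (fun b hb => (Subgroup.mem_centralizer_iff.1 hxB b hb).symm) ?_ fun v hv hvB => ?_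
    · exact hR.coprime_dvd_left (Subgroup.orderOf_dvd_natCard _ hxR)
    · exact (Subgroup.mem_centralizer_iff.1 ((Subgroup.commutator_eq_bot_iff_le_centralizer.1 h3) hx) v
        (Subgroup.mem_inf.2 ⟨hv, Subgroup.mem_centralizer_iff.2 fun b hb => (hvB b hb).symm⟩)).symm
  have hidx : p * Nat.card C ≤ Nat.card W := by
    obtain ⟨k, hk⟩ := (hV.to_le (inf_le_left : W ≤ V)).index (C.subgroupOf W)
    have h2 : C.relIndex W = p ^ k := hk
    have hk0 : k ≠ 0 := by
      rintro rfl
      exact hne (le_antisymm hCW (Subgroup.relIndex_eq_one.1 (h2.trans (pow_zero p))))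
    rw [← card_mul_relIndex_of_le hCW, h2, mul_comm (Nat.card C)]
    exact Nat.mul_le_mul_right _ (Nat.le_self_pow hk0 p)
  have hcard := card_sup_zpowers_le (p := p) (fun b hb => Local.elemAb_commute hA ha (hBA hb)) hBa (hA.2 a ha)
  refine ⟨B, hlt, hbB, hcard, ?_⟩
  calc offMeasure V A = Nat.card A * Nat.card C := rfl
    _ ≤ p * Nat.card B * Nat.card C := Nat.mul_le_mul_right _ hcard
    _ = Nat.card B * (p * Nat.card C) := by ring
    _ ≤ offMeasure V B := Nat.mul_le_mul_left _ hidx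

/-- The coprime offender bound. -/
theorem offMeasure_le_of_coprime {V R : Subgroup G} (hV : IsPGroup p V) (hR : (Nat.card R).Coprime p)
    (hRV : R ≤ Subgroup.normalizer (V : Set G)) (hRf : R ⊓ Subgroup.centralizer (V : Set G) = ⊥)
    {A : Subgroup G} (hA : IsElementaryAbelian p A) (hAV : A ≤ Subgroup.normalizer (V : Set G))
    (hAR : A ≤ Subgroup.normalizer (R : Set G)) (hAf : A ⊓ Subgroup.centralizer (R : Set G) = ⊥) :
    offMeasure V A ≤ Nat.card V := by
  induction hn : Nat.card A using Nat.strong_induction_on generalizing A with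
  | _ n ih =>
    subst hn
    rcases eq_or_ne A ⊥ with rfl | hA1
    · rw [offMeasure, Subgroup.card_bot, one_mul]
      exact Subgroup.card_le_of_le inf_le_left
    obtain ⟨b₀, hb₀, hb₁⟩ := A.bot_or_exists_ne_one.resolve_left hA1
    obtain ⟨B, hlt, -, -, hm⟩ := exists_hyperplane_larger_fixed hV hR hRV hRf hA hAV hAR hAf hb₀ hb₁
    exact hm.trans (ih _ (Solv.card_lt_of_lt hlt) (Local.elemAb_mono hA hlt.le) (hlt.le.trans hAV)
      (hlt.le.trans hAR) (le_bot_iff.1 (hAf ▸ inf_le_inf_right _ hlt.le)) rfl)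

end Cfsg.Agent.Fusion
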