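import Cfsg.Agent.Lib.Fusion.OffenderBound
import Cfsg.Agent.Lib.Fusion.Cores
import Cfsg.Prelude.Def_PLocal

/-!
# Best offenders in groups with self-centralizing `p'`-core
-/

set_option autoImplicit false
set_option linter.style.haveILetI false

open Cfsg
open scoped commutatorElement

namespace Cfsg.Agent.Fusion

universe u

variable {G : Type u} [Group G] [Finite G] {p : ℕ} [hp : Fact p.Prime] {V H : Subgroup G}

/-- The standing hypotheses: `H` faithful on the elementary abelian `V`, with self-centralizing `p'`-core. -/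
structure OffCtx (p : ℕ) (V H : Subgroup G) : Prop where
  elem : IsElementaryAbelian p V
  norm : H ≤ Subgroup.normalizer (V : Set G)
  faithful : H ⊓ Subgroup.centralizer (V : Set G) = ⊥
  core : Subgroup.centralizer (pPrimeCore p ↥H : Set ↥H) ≤ pPrimeCore p ↥H

omit hp in
/-- A proper subgroup of a `p`-group has index at least `p`. -/
theorem mul_card_le_of_lt [Fact p.Prime] {K L : Subgroup G} (hL : IsPGroup p L) (h : K < L) :
    p * Nat.card K ≤ Nat.card L := by
  obtain ⟨k, hk⟩ := hL.index (K.subgroupOf L)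
  have h2 : K.relIndex L = p ^ k := hk
  have hk0 : k ≠ 0 := by
    rintro rfl
    exact h.not_ge (Subgroup.relIndex_eq_one.1 (h2.trans (pow_zero p)))
  rw [← card_mul_relIndex_of_le h.le, h2, mul_comm (Nat.card K)]
  exact Nat.mul_le_mul_right _ (Nat.le_self_pow hk0 p)

variable (c : OffCtx p V H) {A : Subgroup G} (hAH : A ≤ H)
include c hAH

theorem OffCtx.elementary (hA : IsBestOffenderOn p V A) : IsElementaryAbelian p A := by
  have h1 : ∀ g ∈ A, g ∈ Subgroup.centralizer (V : Set G) → g = 1 := fun g hg hgV =>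
    Subgroup.mem_bot.1 (c.faithful ▸ Subgroup.mem_inf.2 ⟨hAH hg, hgV⟩)
  refine ⟨⟨⟨fun a b => Subtype.ext ?_⟩⟩, fun a ha => h1 _ (pow_mem ha p) (hA.2.2 a ha)⟩
  exact commutatorElement_eq_one_iff_mul_comm.1 (h1 _ (mul_mem (mul_mem (mul_mem a.2 b.2) (inv_mem a.2))
    (inv_mem b.2)) (hA.2.1 (Subgroup.commutator_mem_commutator a.2 b.2)))

theorem OffCtx.conditions (hA : IsElementaryAbelian p A) :
  (Nat.card ((pPrimeCore p ↥H).map H.subtype)).Coprime p ∧
  (pPrimeCore p ↥H).map H.subtype ≤ Subgroup.normalizer (V : Set G) ∧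
  (pPrimeCore p ↥H).map H.subtype ⊓ Subgroup.centralizer (V : Set G) = ⊥ ∧
  (A ≤ Subgroup.normalizer (((pPrimeCore p ↥H).map H.subtype : Subgroup G) : Set G) ∧
    A ⊓ Subgroup.centralizer (((pPrimeCore p ↥H).map H.subtype : Subgroup G) : Set G) = ⊥) := by
  set R := (pPrimeCore p ↥H).map H.subtype with hR
  have hRH : R ≤ H := Subgroup.map_subtype_le _
  have hRc : (Nat.card R).Coprime p := by
    rw [hR, Subgroup.card_map_of_injective H.subtype_injective]
    exact card_pPrimeCore_coprime p ↥H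
  refine ⟨hRc, hRH.trans c.norm, le_bot_iff.1 (c.faithful ▸ inf_le_inf_right _ hRH), fun a ha => ?_,
    eq_bot_iff.2 fun a ha => ?_⟩
  · refine mem_normalizer_of_cj_le ?_
    rintro _ ⟨_, ⟨r, hr, rfl⟩, rfl⟩
    exact ⟨⟨a, hAH ha⟩ * r * ⟨a, hAH ha⟩⁻¹,
      (inferInstance : (pPrimeCore p ↥H).Normal).conj_mem r hr _, rfl⟩
  · obtain ⟨haA, haC⟩ := Subgroup.mem_inf.1 ha
    have h1 : (⟨a, hAH haA⟩ : H) ∈ pPrimeCore p ↥H := c.core (Subgroup.mem_centralizer_iff.2 fun r hr =>
      Subtype.ext (Subgroup.mem_centralizer_iff.1 haC _ ⟨r, hr, rfl⟩))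
    have h2 : (orderOf a).Coprime p := hRc.coprime_dvd_left
      (Subgroup.orderOf_dvd_natCard _ (⟨_, h1, rfl⟩ : a ∈ R))
    rw [Subgroup.mem_bot, ← orderOf_eq_one_iff]
    rcases (Nat.dvd_prime hp.out).1 (orderOf_dvd_of_pow_eq_one (hA.2 a haA)) with h | h
    · exact h
    · rw [h] at h2; exact absurd ((Nat.coprime_self p).1 h2) hp.out.ne_one

theorem OffCtx.hyperplane (hA : IsElementaryAbelian p A) {b₀ : G} (hb₀ : b₀ ∈ A) (hb₁ : b₀ ≠ 1) :
    ∃ B < A, b₀ ∉ B ∧ Nat.card A ≤ p * Nat.card B ∧ offMeasure V A ≤ offMeasure V B := by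
  obtain ⟨h1, h2, h3, h4⟩ := OffCtx.conditions c hAH hA
  exact exists_hyperplane_larger_fixed (Local.elemAb_isPGroup c.elem) h1 h2 h3 hA (hAH.trans c.norm) h4.1 h4.2
    hb₀ hb₁
theorem OffCtx.measure_le (hA : IsElementaryAbelian p A) : offMeasure V A ≤ Nat.card V := by
  obtain ⟨h1, h2, h3, h4⟩ := OffCtx.conditions c hAH hA
  exact offMeasure_le_of_coprime (Local.elemAb_isPGroup c.elem) h1 h2 h3 hA (hAH.trans c.norm) h4.1 h4.2

theorem OffCtx.measure_eq (hA : IsBestOffenderOn p V A) : offMeasure V A = Nat.card V := by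
  refine le_antisymm (c.measure_le hAH (c.elementary hAH hA)) ?_
  have h := hA.1 ⊥ bot_le
  rwa [Subgroup.card_bot, one_mul,
    inf_eq_left.2 (fun x _ => Subgroup.mem_centralizer_iff.2 fun y hy => by
      rw [Subgroup.mem_bot.1 hy, one_mul, mul_one] : V ≤ Subgroup.centralizer ((⊥ : Subgroup G) : Set G))] at h

theorem OffCtx.offender_of_measure (hA : IsBestOffenderOn p V A) {B : Subgroup G} (hB : B ≤ A)
    (h : Nat.card V ≤ offMeasure V B) : IsBestOffenderOn p V B :=
  ⟨fun C hC => le_trans (c.measure_le ((hC.trans hB).trans hAH)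
      (Local.elemAb_mono (c.elementary hAH hA) (hC.trans hB))) h,
    (Subgroup.commutator_mono hB hB).trans hA.2.1, fun a ha => hA.2.2 a (hB ha)⟩

theorem OffCtx.acts_of_ne_bot (hA : A ≠ ⊥) : ⁅V, A⁆ ≠ ⊥ := fun h =>
  hA (le_bot_iff.1 (c.faithful ▸ le_inf hAH (Subgroup.le_centralizer_iff.1
    (Subgroup.commutator_eq_bot_iff_le_centralizer.1 h))))

/-- An offender of order above `p` has an offender hyperplane missing any given element. -/
theorem OffCtx.exists_sub_offender (hA : IsBestOffenderOn p V A) {b₀ : G} (hb₀ : b₀ ∈ A) (hb₁ : b₀ ≠ 1) :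
    ∃ B < A, b₀ ∉ B ∧ Nat.card A ≤ p * Nat.card B ∧ IsBestOffenderOn p V B := by
  obtain ⟨B, hlt, hb, hcard, hm⟩ := c.hyperplane hAH (c.elementary hAH hA) hb₀ hb₁
  exact ⟨B, hlt, hb, hcard, c.offender_of_measure hAH hA hlt.le ((c.measure_eq hAH hA).symm.le.trans hm)⟩

/-- Minimal nontrivially acting offenders have order `p`. -/
theorem OffCtx.card_of_minimal (hA : IsBestOffenderOn p V A) (hAV : ⁅V, A⁆ ≠ ⊥)
    (hmin : ∀ B ≤ A, IsBestOffenderOn p V B → ⁅V, B⁆ ≠ ⊥ → B = A) : Nat.card A = p := by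
  have hA1 : A ≠ ⊥ := fun h => hAV (by rw [h, Subgroup.commutator_bot_right])
  obtain ⟨b₀, hb₀, hb₁⟩ := A.bot_or_exists_ne_one.resolve_left hA1
  obtain ⟨B, hlt, -, hcard, hB⟩ := c.exists_sub_offender hAH hA hb₀ hb₁
  have hB1 : B = ⊥ := by
    by_contra hne
    exact hlt.ne (hmin B hlt.le hB (c.acts_of_ne_bot (hlt.le.trans hAH) hne))
  rw [hB1, Subgroup.card_bot, mul_one] at hcard
  obtain ⟨k, hk⟩ := IsPGroup.iff_card.1 (Local.elemAb_isPGroup (c.elementary hAH hA))
  have hk0 : k ≠ 0 := by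
    rintro rfl
    exact hA1 (Subgroup.card_eq_one.1 (hk.trans (pow_zero p)))
  exact le_antisymm hcard (hk ▸ Nat.le_self_pow hk0 p)

/-- An offender is generated by the offenders of order `p` below it. -/
theorem OffCtx.eq_iSup_minimal (hA : IsBestOffenderOn p V A) :
    A = sSup {B | B ≤ A ∧ IsBestOffenderOn p V B ∧ Nat.card B = p} := by
  refine le_antisymm ?_ (sSup_le fun B hB => hB.1)
  induction hn : Nat.card A using Nat.strong_induction_on generalizing A with
  | _ n ih =>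
    subst hn
    rcases eq_or_ne A ⊥ with rfl | hA1
    · exact bot_le
    obtain ⟨b₀, hb₀, hb₁⟩ := A.bot_or_exists_ne_one.resolve_left hA1
    obtain ⟨B, hlt, -, hcard, hB⟩ := c.exists_sub_offender hAH hA hb₀ hb₁
    rcases eq_or_ne B ⊥ with hB1 | hB1
    · refine le_sSup ⟨le_rfl, hA, ?_⟩
      rw [hB1, Subgroup.card_bot, mul_one] at hcard
      obtain ⟨k, hk⟩ := IsPGroup.iff_card.1 (Local.elemAb_isPGroup (c.elementary hAH hA))
      have hk0 : k ≠ 0 := by
        rintro rfl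
        exact hA1 (Subgroup.card_eq_one.1 (hk.trans (pow_zero p)))
      exact le_antisymm hcard (hk ▸ Nat.le_self_pow hk0 p)
    obtain ⟨b₁', hb₁', hb1ne⟩ := B.bot_or_exists_ne_one.resolve_left hB1
    obtain ⟨B', hlt', hnot', hcard', hB'⟩ := c.exists_sub_offender hAH hA (hlt.le hb₁') hb1ne
    have hsup : A ≤ B ⊔ B' := by
      by_contra hne
      have hlt2 : B' < B ⊔ B' := lt_of_le_of_ne le_sup_right fun h =>
        hnot' (h.ge (Subgroup.mem_sup_left hb₁'))
      have hle : B ⊔ B' ≤ A := sup_le hlt.le hlt'.le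
      have hAp := Local.elemAb_isPGroup (c.elementary hAH hA)
      have h1 := mul_card_le_of_lt hAp (lt_of_le_of_ne hle fun h => hne h.ge)
      have hBS : B = B ⊔ B' := Subgroup.eq_of_le_of_card_ge le_sup_left
        (Nat.le_of_mul_le_mul_left (h1.trans hcard) hp.out.pos)
      have hB'B : B' < B := by rw [hBS]; exact hlt2
      have h2 := mul_card_le_of_lt (hAp.to_le hlt.le) hB'B
      exact absurd (hcard'.trans h2) (not_le.2 (Solv.card_lt_of_lt hlt))
    refine hsup.trans (sup_le ?_ ?_)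
    · exact (ih _ (Solv.card_lt_of_lt hlt) (hlt.le.trans hAH) hB rfl).trans
        (sSup_le_sSup fun C hC => ⟨hC.1.trans hlt.le, hC.2⟩)
    · exact (ih _ (Solv.card_lt_of_lt hlt') (hlt'.le.trans hAH) hB' rfl).trans
        (sSup_le_sSup fun C hC => ⟨hC.1.trans hlt'.le, hC.2⟩)

end Cfsg.Agent.Fusion
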