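import Cfsg.Agent.Lib.Fusion.OffenderStructure

/-!
# The factors under a coprime group of operators
-/

set_option autoImplicit false
set_option linter.style.haveILetI false

open Cfsg
open scoped commutatorElement

namespace Cfsg.Agent.Fusion

universe u

variable {G : Type u} [Group G] [Finite G] {p : ℕ} [hp : Fact p.Prime] {V H E F X : Subgroup G}

/-- A factor: the group spanned by a transvection group and its conjugates under the core. -/
def IsFactor (p : ℕ) (V H E : Subgroup G) : Prop :=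
  ∃ A x, TPair p V H A x ∧ E = A ⊔ cjS x A

/-- The complement of a factor. -/
abbrev coFactor (V H E : Subgroup G) : Subgroup G :=
  H ⊓ Subgroup.centralizer ((⁅V, E⁆ : Subgroup G) : Set G)

/-- The fixed points of a subgroup on `V`. -/
abbrev fixIn (V E : Subgroup G) : Subgroup G := V ⊓ Subgroup.centralizer (E : Set G)

theorem IsFactor.le (h : IsFactor p V H E) : E ≤ H := by
  obtain ⟨A, x, P, rfl⟩ := h; exact P.sup_le_H

theorem IsFactor.plane_le (h : IsFactor p V H E) : ⁅V, E⁆ ≤ V := by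
  obtain ⟨A, x, P, rfl⟩ := h; rw [P.comm_eq]; exact P.plane_le

theorem IsFactor.card_plane (h : IsFactor p V H E) : Nat.card ↥(⁅V, E⁆) = p ^ 2 := by
  obtain ⟨A, x, P, rfl⟩ := h; rw [P.comm_eq]; exact P.card_plane

theorem IsFactor.faith (h : IsFactor p V H E) {e : G} (he : e ∈ E) (hw : ∀ w ∈ ⁅V, E⁆, w * e = e * w) :
    e = 1 := by
  obtain ⟨A, x, P, rfl⟩ := h
  rw [P.comm_eq] at hw
  exact P.faith he hw

theorem IsFactor.plane_inf (h : IsFactor p V H E) :
    ⁅V, E⁆ ⊓ Subgroup.centralizer (E : Set G) = ⊥ := by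
  obtain ⟨A, x, P, rfl⟩ := h; rw [P.comm_eq]; exact P.fix_inf

theorem IsFactor.plane_sup (h : IsFactor p V H E) : ⁅V, E⁆ ⊔ fixIn V E = V := by
  obtain ⟨A, x, P, rfl⟩ := h; rw [P.comm_eq]; exact P.fix_sup

theorem IsFactor.exists_iso (h : IsFactor p V H E) :
    Nonempty (↥E ≃* Matrix.SpecialLinearGroup (Fin 2) (ZMod p)) := by
  obtain ⟨A, x, P, rfl⟩ := h
  obtain ⟨-, σ, -⟩ := P.exists_natural
  exact ⟨σ⟩

theorem IsFactor.comm_coFactor (h : IsFactor p V H E) (g : OffGen p V H) {e k : G} (he : e ∈ E)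
    (hk : k ∈ coFactor V H E) : e * k = k * e := by
  obtain ⟨A, x, P, rfl⟩ := h
  rw [coFactor, P.comm_eq] at hk
  exact mul_comm_of_comm_eq_one
    (Subgroup.mem_bot.1 (g.comm_complement P ▸ Subgroup.commutator_mem_commutator he hk))

theorem IsFactor.le_normalizer (h : IsFactor p V H E) (g : OffGen p V H) :
    H ≤ Subgroup.normalizer (E : Set G) := by
  obtain ⟨A, x, P, rfl⟩ := h; exact g.le_normalizer P

theorem IsFactor.plane_mem (h : IsFactor p V H E) (g : OffGen p V H) {k : G} (hk : k ∈ H) :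
    (∀ w ∈ ⁅V, E⁆, k * w * k⁻¹ ∈ ⁅V, E⁆) ∧ ∀ v ∈ fixIn V E, k * v * k⁻¹ ∈ fixIn V E := by
  obtain ⟨A, x, P, rfl⟩ := h
  rw [P.comm_eq]
  exact g.preserves P hk

theorem IsFactor.coFactor_conj (h : IsFactor p V H E) (g : OffGen p V H) {k c : G} (hk : k ∈ H)
    (hc : c ∈ coFactor V H E) : k * c * k⁻¹ ∈ coFactor V H E := by
  refine Subgroup.mem_inf.2 ⟨mul_mem (mul_mem hk hc.1) (inv_mem hk), Subgroup.mem_centralizer_iff.2 fun w hw => ?_⟩
  have h1 := Subgroup.mem_centralizer_iff.1 hc.2 (k⁻¹ * w * k) (by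
    simpa using (h.plane_mem g (inv_mem hk)).1 w hw)
  calc w * (k * c * k⁻¹) = k * (k⁻¹ * w * k * c) * k⁻¹ := by group
    _ = k * (c * (k⁻¹ * w * k)) * k⁻¹ := by rw [h1]
    _ = _ := by group

/-- A factor lies in the complement of each other one. -/
theorem IsFactor.le_coFactor (hE : IsFactor p V H E) (hF : IsFactor p V H F) (hne : F ≠ E) :
    F ≤ coFactor V H E := by
  obtain ⟨A, x, P, rfl⟩ := hE
  obtain ⟨A', x', P', rfl⟩ := hF
  rw [coFactor, P.comm_eq]
  rcases P.dichotomy P'.tg P'.le with h | h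
  · exfalso
    apply hne
    have hle : A' ⊔ cjS x' A' ≤ A ⊔ cjS x A := by
      refine sup_le h ?_
      rintro _ ⟨a, ha, rfl⟩
      exact P.core_norm P'.mem (h ha)
    obtain ⟨-, σ, -⟩ := P.exists_natural
    obtain ⟨-, σ', -⟩ := P'.exists_natural
    refine Subgroup.eq_of_le_of_card_ge hle (le_of_eq ?_)
    rw [Nat.card_congr σ.toEquiv, Nat.card_congr σ'.toEquiv]
  · refine sup_le h ?_
    rintro _ ⟨a, ha, rfl⟩
    have hx' := coreIn_le P'.mem
    refine Subgroup.mem_inf.2 ⟨mul_mem (mul_mem hx' (h ha).1) (inv_mem hx'), Subgroup.mem_centralizer_iff.2 fun w hw => ?_⟩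
    have h2 := Subgroup.mem_centralizer_iff.1 (h ha).2 (x'⁻¹ * w * x') (by
      simpa using P.core_plane (inv_mem P'.mem) hw)
    show w * (x' * a * x'⁻¹) = x' * a * x'⁻¹ * w
    calc w * (x' * a * x'⁻¹) = x' * (x'⁻¹ * w * x' * a) * x'⁻¹ := by group
      _ = x' * (a * (x'⁻¹ * w * x')) * x'⁻¹ := by rw [h2]
      _ = _ := by group

theorem IsFactor.plane_le_fix (hE : IsFactor p V H E) (g : OffGen p V H) (hF : IsFactor p V H F) (hne : F ≠ E) :
    ⁅V, F⁆ ≤ fixIn V E := by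
  obtain ⟨A, x, P, rfl⟩ := hE
  have h2 := g.comm_le_fix P
  rw [← P.comm_eq] at h2
  exact (Subgroup.commutator_mono le_rfl (IsFactor.le_coFactor ⟨A, x, P, rfl⟩ hF hne)).trans h2

theorem OffGen.le_iSup_factor (g : OffGen p V H) :
    H ≤ ⨆ (F : Subgroup G) (_ : IsFactor p V H F), F := g.induction fun B hB _ t => by
  obtain ⟨x, P⟩ := g.ctx.exists_pair t hB
  exact le_iSup₂_of_le (B ⊔ cjS x B) ⟨B, x, P, rfl⟩ le_sup_left

theorem OffGen.exists_factor (g : OffGen p V H) : ∃ E, IsFactor p V H E := by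
  by_contra h
  push Not at h
  exact g.ne (le_bot_iff.1 (g.le_iSup_factor.trans (iSup₂_le fun F hF => absurd hF (h F))))

theorem OffGen.fix_of_all (g : OffGen p V H) {v : G} (hv : v ∈ V)
    (h : ∀ F, IsFactor p V H F → v ∈ fixIn V F) : v ∈ fixIn V H := by
  refine ⟨hv, Subgroup.mem_centralizer_iff.2 fun k hk => ?_⟩
  have hle : H ≤ Subgroup.centralizer ({v} : Set G) := g.le_iSup_factor.trans (iSup₂_le fun F hF y hy =>
    Subgroup.mem_centralizer_singleton_iff.2 (Subgroup.mem_centralizer_iff.1 (h F hF).2 y hy))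
  exact Subgroup.mem_centralizer_singleton_iff.1 (hle hk)

/-- The planes and the fixed points give all of `V`. -/
theorem OffGen.le_planes (g : OffGen p V H) :
    V ≤ fixIn V H ⊔ ⨆ (F : Subgroup G) (_ : IsFactor p V H F), ⁅V, F⁆ := by
  classical
  haveI : Fintype (Subgroup G) := Fintype.ofFinite _
  have key : ∀ s : Finset (Subgroup G), (∀ F ∈ s, IsFactor p V H F) → ∀ v ∈ V,
      ∃ w ∈ ⨆ (F : Subgroup G) (_ : IsFactor p V H F), ⁅V, F⁆, ∃ c ∈ V, w * c = v ∧ ∀ F ∈ s, c ∈ fixIn V F := by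
    intro s
    induction s using Finset.induction_on with
    | empty => exact fun _ v hv => ⟨1, one_mem _, v, hv, one_mul v, by simp⟩
    | @insert E s hEs ih =>
      intro hs v hv
      obtain ⟨w, hw, c, hc, rfl, hcs⟩ := ih (fun F hF => hs F (Finset.mem_insert_of_mem hF)) v hv
      have hE := hs E (Finset.mem_insert_self E s)
      have hn : ⁅V, E⁆ ≤ Subgroup.normalizer ((fixIn V E : Subgroup G) : Set G) := fun u hu =>
        mem_normalizer_of_cj_le (by
          rintro _ ⟨d, hd, rfl⟩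
          show u * d * u⁻¹ ∈ fixIn V E
          rw [Local.elemAb_commute g.ctx.elem (hE.plane_le hu) hd.1, mul_inv_cancel_right]; exact hd)
      have h2 : c ∈ ((⁅V, E⁆ ⊔ fixIn V E : Subgroup G) : Set G) := by rw [hE.plane_sup]; exact hc
      rw [Subgroup.coe_mul_of_left_le_normalizer_right _ _ hn] at h2
      obtain ⟨u, hu, d, hd, rfl⟩ := Set.mem_mul.1 h2
      refine ⟨w * u, mul_mem hw (le_iSup₂ (f := fun F (_ : IsFactor p V H F) => ⁅V, F⁆) E hE hu), d, hd.1,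
        mul_assoc w u d, fun F hF => ?_⟩
      rcases Finset.mem_insert.1 hF with rfl | hF
      · exact hd
      · refine (Subgroup.mul_mem_cancel_left _ ?_).1 (hcs F hF)
        exact (hs F (Finset.mem_insert_of_mem hF)).plane_le_fix g hE (fun e => hEs (e ▸ hF)) hu
  intro v hv
  obtain ⟨w, hw, c, hc, rfl, hcs⟩ := key (Finset.univ.filter fun F => IsFactor p V H F) (by simp) v hv
  exact mul_mem (Subgroup.mem_sup_right hw) (Subgroup.mem_sup_left (g.fix_of_all hc fun F hF => hcs F (by simp [hF])))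

/-- The planes meet the fixed points trivially. -/
theorem OffGen.planes_inf (g : OffGen p V H) {v : G}
    (hv : v ∈ ⨆ (F : Subgroup G) (_ : IsFactor p V H F), ⁅V, F⁆)
    (h : ∀ F, IsFactor p V H F → v ∈ fixIn V F) : v = 1 := by
  classical
  haveI : Fintype (Subgroup G) := Fintype.ofFinite _
  have key : ∀ s : Finset (Subgroup G), (∀ F ∈ s, IsFactor p V H F) →
      ∀ v ∈ s.sup (fun F => ⁅V, F⁆), (∀ F ∈ s, v ∈ fixIn V F) → v = 1 := by
    intro s
    induction s using Finset.induction_on with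
    | empty => intro _ v hv _; simpa using hv
    | @insert E s hEs ih =>
      intro hs v hv hfix
      have hE := hs E (Finset.mem_insert_self E s)
      have hle : s.sup (fun F => ⁅V, F⁆) ≤ fixIn V E :=
        Finset.sup_le fun F hF => hE.plane_le_fix g (hs F (Finset.mem_insert_of_mem hF)) fun e => hEs (e ▸ hF)
      rw [Finset.sup_insert] at hv
      have hn : ⁅V, E⁆ ≤ Subgroup.normalizer ((s.sup (fun F => ⁅V, F⁆) : Subgroup G) : Set G) := fun u hu =>
        mem_normalizer_of_cj_le (by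
          rintro _ ⟨d, hd, rfl⟩
          show u * d * u⁻¹ ∈ _
          rw [Local.elemAb_commute g.ctx.elem (hE.plane_le hu) (hle hd).1, mul_inv_cancel_right]; exact hd)
      have h2 : v ∈ ((⁅V, E⁆ ⊔ s.sup (fun F => ⁅V, F⁆) : Subgroup G) : Set G) := hv
      rw [Subgroup.coe_mul_of_left_le_normalizer_right _ _ hn] at h2
      obtain ⟨u, hu, d, hd, rfl⟩ := Set.mem_mul.1 h2
      have hu1 : u = 1 := Subgroup.mem_bot.1 (hE.plane_inf ▸ Subgroup.mem_inf.2 ⟨hu,
        ((Subgroup.mul_mem_cancel_right _ (hle hd)).1 (hfix E (Finset.mem_insert_self E s))).2⟩)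
      rw [hu1, one_mul] at hfix ⊢
      exact ih (fun F hF => hs F (Finset.mem_insert_of_mem hF)) d hd fun F hF => hfix F (Finset.mem_insert_of_mem hF)
  refine key (Finset.univ.filter fun F => IsFactor p V H F) (by simp) v ?_ (fun F hF => h F (by simpa using hF))
  have hle : (⨆ (F : Subgroup G) (_ : IsFactor p V H F), ⁅V, F⁆) ≤
      (Finset.univ.filter fun F => IsFactor p V H F).sup (fun F => ⁅V, F⁆) :=
    iSup₂_le fun F hF => Finset.le_sup (f := fun F => ⁅V, F⁆) (by simp [hF])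
  exact hle hv

/-- An element in all complements is trivial. -/
theorem OffGen.eq_one_of_coFactor (g : OffGen p V H) {k : G} (hk : k ∈ H)
    (h : ∀ F, IsFactor p V H F → k ∈ coFactor V H F) : k = 1 := by
  refine g.ctx.eq_one_of_fix hk fun v hv => ?_
  have hle : V ≤ Subgroup.centralizer ({k} : Set G) := g.le_planes.trans (sup_le
    (fun c hc => Subgroup.mem_centralizer_singleton_iff.2 (Subgroup.mem_centralizer_iff.1 hc.2 k hk).symm)
    (iSup₂_le fun F hF w hw => Subgroup.mem_centralizer_singleton_iff.2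
      (Subgroup.mem_centralizer_iff.1 (h F hF).2 w hw)))
  exact Subgroup.mem_centralizer_singleton_iff.1 (hle hv)

/-- Prescribed components. -/
theorem OffGen.exists_components (g : OffGen p V H) (e : Subgroup G → G) (u : Subgroup G → G)
    (he : ∀ F, IsFactor p V H F → e F ∈ F) (hu : ∀ F, IsFactor p V H F → u F ∈ ⁅V, F⁆) :
    (∃ d ∈ H, ∀ F, IsFactor p V H F → (e F)⁻¹ * d ∈ coFactor V H F) ∧
      ∃ v ∈ ⨆ (F : Subgroup G) (_ : IsFactor p V H F), ⁅V, F⁆,
        ∀ F, IsFactor p V H F → (u F)⁻¹ * v ∈ fixIn V F := by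
  classical
  haveI : Fintype (Subgroup G) := Fintype.ofFinite _
  have key : ∀ s : Finset (Subgroup G), (∀ F ∈ s, IsFactor p V H F) →
      (∃ d ∈ H, ∀ F, IsFactor p V H F →
        (F ∈ s → (e F)⁻¹ * d ∈ coFactor V H F) ∧ (F ∉ s → d ∈ coFactor V H F)) ∧
      ∃ v ∈ ⨆ (F : Subgroup G) (_ : IsFactor p V H F), ⁅V, F⁆, ∀ F, IsFactor p V H F →
        (F ∈ s → (u F)⁻¹ * v ∈ fixIn V F) ∧ (F ∉ s → v ∈ fixIn V F) := by
    intro s
    induction s using Finset.induction_on with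
    | empty =>
      exact fun _ => ⟨⟨1, one_mem _, fun F _ => ⟨by simp, fun _ => one_mem _⟩⟩,
        ⟨1, one_mem _, fun F _ => ⟨by simp, fun _ => one_mem _⟩⟩⟩
    | @insert E s hEs ih =>
      intro hs
      have hE := hs E (Finset.mem_insert_self E s)
      obtain ⟨⟨d, hd, hd'⟩, ⟨v, hv, hv'⟩⟩ := ih fun F hF => hs F (Finset.mem_insert_of_mem hF)
      refine ⟨⟨e E * d, mul_mem (hE.le (he E hE)) hd, fun F hF => ?_⟩,
        ⟨u E * v, mul_mem (le_iSup₂ (f := fun F (_ : IsFactor p V H F) => ⁅V, F⁆) E hE (hu E hE)) hv, fun F hF => ?_⟩⟩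
      · constructor
        · intro hmem
          rcases Finset.mem_insert.1 hmem with rfl | hFs
          · rw [inv_mul_cancel_left]; exact (hd' F hF).2 hEs
          · have h1 : e E ∈ coFactor V H F :=
              IsFactor.le_coFactor hF hE (fun e' => hEs (e' ▸ hFs)) (he E hE)
            rw [show (e F)⁻¹ * (e E * d) = ((e F)⁻¹ * e E * (e F)⁻¹⁻¹) * ((e F)⁻¹ * d) by group]
            exact mul_mem (hF.coFactor_conj g (inv_mem (hF.le (he F hF))) h1) ((hd' F hF).1 hFs)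
        · intro hnot
          exact mul_mem (IsFactor.le_coFactor hF hE (fun e' => hnot (e' ▸ Finset.mem_insert_self E s)) (he E hE))
            ((hd' F hF).2 fun h => hnot (Finset.mem_insert_of_mem h))
      · constructor
        · intro hmem
          rcases Finset.mem_insert.1 hmem with rfl | hFs
          · rw [inv_mul_cancel_left]; exact (hv' F hF).2 hEs
          · have h1 := hF.plane_le_fix g hE (fun e' => hEs (e' ▸ hFs)) (hu E hE)
            rw [← mul_assoc, Local.elemAb_commute g.ctx.elem (inv_mem (hF.plane_le (hu F hF))) h1.1, mul_assoc]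
            exact mul_mem h1 ((hv' F hF).1 hFs)
        · intro hnot
          exact mul_mem (hF.plane_le_fix g hE (fun e' => hnot (e' ▸ Finset.mem_insert_self E s)) (hu E hE))
            ((hv' F hF).2 fun h => hnot (Finset.mem_insert_of_mem h))
  obtain ⟨⟨d, hd, hd'⟩, ⟨v, hv, hv'⟩⟩ := key (Finset.univ.filter fun F => IsFactor p V H F) (by simp)
  exact ⟨⟨d, hd, fun F hF => (hd' F hF).1 (by simp [hF])⟩, ⟨v, hv, fun F hF => (hv' F hF).1 (by simp [hF])⟩⟩

theorem coreIn_norm {t r : G} (ht : t ∈ Subgroup.normalizer (H : Set G)) (hr : r ∈ coreIn p H) :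
    t * r * t⁻¹ ∈ coreIn p H := by
  obtain ⟨r₀, hr₀, rfl⟩ := hr
  exact ⟨H.normalizerMonoidHom ⟨t, ht⟩ r₀,
    (Subgroup.characteristic_iff_map_eq.1 (pPrimeCore_characteristic (p := p) (G := ↥H)) _).le ⟨r₀, hr₀, rfl⟩, rfl⟩

theorem IsFactor.cj (h : IsFactor p V H E) {t : G} (hV : t ∈ Subgroup.normalizer (V : Set G))
    (hH : t ∈ Subgroup.normalizer (H : Set G)) : IsFactor p V H (cjS t E) := by
  obtain ⟨A, x, P, rfl⟩ := h
  have e : cjS (t * x * t⁻¹) (cjS t A) = cjS t (cjS x A) := by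
    rw [cjS, cjS, cjS, cjS, Subgroup.map_map, Subgroup.map_map]
    congr 1
    exact MonoidHom.ext fun z => by simp [mul_assoc]
  refine ⟨cjS t A, t * x * t⁻¹, ⟨P.ctx, P.tg.conj hV, ?_, coreIn_norm hH P.mem, fun he => P.ne ?_⟩, ?_⟩
  · rintro _ ⟨a, ha, rfl⟩
    exact (Subgroup.mem_normalizer_iff.1 hH a).1 (P.le ha)
  · exact Subgroup.map_injective (MulAut.conj t).injective (e.symm.trans he)
  · rw [e]; exact Subgroup.map_sup _ _ _

theorem cjS_cjS (s t : G) (E : Subgroup G) : cjS s (cjS t E) = cjS (s * t) E := by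
  rw [cjS, cjS, cjS, Subgroup.map_map]
  congr 1
  exact MonoidHom.ext fun z => by simp [mul_assoc]

theorem cjS_one (E : Subgroup G) : cjS 1 E = E := by
  ext z; simp [cjS]

theorem plane_cj {t : G} (hV : t ∈ Subgroup.normalizer (V : Set G)) {w : G} (hw : w ∈ ⁅V, E⁆) :
    t * w * t⁻¹ ∈ ⁅V, cjS t E⁆ := by
  have h := Subgroup.mem_map_of_mem (MulAut.conj t).toMonoidHom hw
  rw [Subgroup.map_commutator, map_conj_self hV] at h
  exact h

variable {q : ℕ} [hq : Fact q.Prime]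

/-- An operator stabilising a factor centralizes it and its plane. -/
theorem IsFactor.centralized (hE : IsFactor p V H E) (hXV : X ≤ Subgroup.normalizer (V : Set G))
    (hXq : IsPGroup q X) (hqH : ¬ q ∣ Nat.card H) {t : G} (ht : t ∈ X) (htE : cjS t E = E) :
    (∀ e ∈ E, t * e = e * t) ∧ ∀ w ∈ ⁅V, E⁆, t * w = w * t := by
  obtain ⟨σ⟩ := hE.exists_iso
  have hp23 : p = 2 ∨ p = 3 := by
    obtain ⟨A, x, P, -⟩ := hE; exact P.le_two_three
  have hq5 : q ≠ 2 ∧ q ≠ 3 := by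
    have hd : Nat.card E ∣ Nat.card H := Subgroup.card_dvd_of_le hE.le
    rw [Nat.card_congr σ.toEquiv] at hd
    rcases hp23 with rfl | rfl
    · rw [show Nat.card (Matrix.SpecialLinearGroup (Fin 2) (ZMod 2)) = 6 by
        rw [Nat.card_eq_fintype_card]; decide] at hd
      exact ⟨fun e => hqH (e ▸ (by norm_num : (2 : ℕ) ∣ 6).trans hd),
        fun e => hqH (e ▸ (by norm_num : (3 : ℕ) ∣ 6).trans hd)⟩
    · rw [show Nat.card (Matrix.SpecialLinearGroup (Fin 2) (ZMod 3)) = 24 by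
        rw [Nat.card_eq_fintype_card]; decide +kernel] at hd
      exact ⟨fun e => hqH (e ▸ (by norm_num : (2 : ℕ) ∣ 24).trans hd),
        fun e => hqH (e ▸ (by norm_num : (3 : ℕ) ∣ 24).trans hd)⟩
  have hnW : t ∈ Subgroup.normalizer ((⁅V, E⁆ : Subgroup G) : Set G) := mem_normalizer_of_cj_le (by
    rintro _ ⟨w, hw, rfl⟩
    have := plane_cj (hXV ht) hw
    rwa [htE] at this)
  have hW : ∀ w ∈ ⁅V, E⁆, t * w = w * t := by
    set W := ⁅V, E⁆ with hWdef
    let T := Subgroup.zpowers (⟨t, hnW⟩ : Subgroup.normalizer (W : Set G))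
    letI : MulAction T W := MulAction.compHom W ((W.normalizerMonoidHom).comp T.subtype)
    have hTq : IsPGroup q T := by
      obtain ⟨k, hk⟩ := IsPGroup.iff_orderOf.1 hXq ⟨t, ht⟩
      refine IsPGroup.of_card (n := k) ?_
      rw [Nat.card_zpowers, ← Subgroup.orderOf_coe, ← hk, ← Subgroup.orderOf_coe]
    have hmod := hTq.card_modEq_card_fixedPoints (α := W)
    let F : Subgroup G := W ⊓ Subgroup.centralizer ({t} : Set G)
    have hF : Nat.card (MulAction.fixedPoints T W) = Nat.card F := by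
      refine Nat.card_congr
        { toFun := fun w => ⟨(w.1 : G), w.1.2, Subgroup.mem_centralizer_singleton_iff.2
            (mul_inv_eq_iff_eq_mul.1 (congrArg Subtype.val (w.2 ⟨_, Subgroup.mem_zpowers _⟩))).symm⟩
          invFun := fun f => ⟨⟨(f : G), f.2.1⟩, fun τ => ?_⟩
          left_inv := fun w => rfl
          right_inv := fun f => rfl }
      obtain ⟨i, hi⟩ := Subgroup.mem_zpowers_iff.1 τ.2
      refine Subtype.ext ?_
      have e : ((τ : Subgroup.normalizer (W : Set G)) : G) = t ^ i := by rw [← hi, SubgroupClass.coe_zpow]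
      have hc : Commute t (f : G) := (Subgroup.mem_centralizer_singleton_iff.1 (Subgroup.mem_inf.1 f.2).2).symm
      show ((τ : Subgroup.normalizer (W : Set G)) : G) * (f : G) * ((τ : Subgroup.normalizer (W : Set G)) : G)⁻¹ = (f : G)
      rw [e, (hc.zpow_left i).eq, mul_inv_cancel_right]
    rw [hF, hE.card_plane] at hmod
    obtain ⟨j, hj, hFj⟩ := (Nat.dvd_prime_pow hp.out).1
      (hE.card_plane ▸ Subgroup.card_dvd_of_le (inf_le_left : F ≤ W))
    have hj2 : j = 2 := by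
      have hd := (Nat.modEq_iff_dvd' (hFj ▸ Nat.pow_le_pow_right hp.out.pos hj)).1 hmod.symm
      rw [hFj] at hd
      by_contra hne
      rcases hp23 with rfl | rfl <;> interval_cases j <;> norm_num at hd <;>
        first
        | exact hne rfl
        | exact hq5.2 ((Nat.prime_dvd_prime_iff_eq hq.out Nat.prime_three).1 hd)
        | exact hq5.1 ((Nat.prime_dvd_prime_iff_eq hq.out Nat.prime_two).1 hd)
        | exact hq5.1 ((Nat.prime_dvd_prime_iff_eq hq.out Nat.prime_two).1 (hq.out.dvd_of_dvd_pow (show q ∣ 2 ^ 3 from hd)))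
        | exact (hq.out.dvd_mul.1 (show q ∣ 2 * 3 from hd)).elim
            (fun h => hq5.1 ((Nat.prime_dvd_prime_iff_eq hq.out Nat.prime_two).1 h))
            (fun h => hq5.2 ((Nat.prime_dvd_prime_iff_eq hq.out Nat.prime_three).1 h))
    have hFW : F = W := Subgroup.eq_of_le_of_card_ge inf_le_left (by rw [hFj, hj2, hE.card_plane])
    exact fun w hw => (Subgroup.mem_centralizer_singleton_iff.1 (Subgroup.mem_inf.1 (hFW.ge hw)).2).symm
  refine ⟨fun e he => ?_, hW⟩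
  have h1 : t * e * t⁻¹ ∈ E := htE.le ⟨e, he, rfl⟩
  have h2 : t * e * t⁻¹ * e⁻¹ = 1 := hE.faith (mul_mem h1 (inv_mem he)) fun w hw => by
    have hw' : e⁻¹ * w * e ∈ ⁅V, E⁆ := by
      obtain ⟨A, x, P, rfl⟩ := hE
      rw [P.comm_eq] at hw ⊢
      simpa using P.conj_plane hw (inv_mem he)
    have h3 := hW _ hw'
    have h4 := hW w hw
    have e1 : t * e * t⁻¹ * e⁻¹ * w = w * (t * e * t⁻¹ * e⁻¹) := by
      calc t * e * t⁻¹ * e⁻¹ * w = t * e * t⁻¹ * (e⁻¹ * w * e) * e⁻¹ := by group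
        _ = t * e * t⁻¹ * (t * (e⁻¹ * w * e) * t⁻¹) * e⁻¹ := by rw [h3, mul_inv_cancel_right]
        _ = t * (e * (e⁻¹ * w * e)) * t⁻¹ * e⁻¹ := by group
        _ = t * w * e * t⁻¹ * e⁻¹ := by group
        _ = w * t * e * t⁻¹ * e⁻¹ := by rw [h4]
        _ = _ := by group
    exact e1.symm
  rw [mul_inv_eq_one, mul_inv_eq_iff_eq_mul] at h2
  exact h2

/-- The fixed points of the operators cover each factor and its plane diagonally. -/
theorem OffGen.exists_diagonal (g : OffGen p V H) (hXV : X ≤ Subgroup.normalizer (V : Set G))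
    (hXH : X ≤ Subgroup.normalizer (H : Set G)) (hXq : IsPGroup q X) (hqH : ¬ q ∣ Nat.card H)
    (hE : IsFactor p V H E) :
    ∃ (δ : ↥E →* G) (ω : ↥(⁅V, E⁆) →* G), (∀ e, δ e ∈ H ⊓ Subgroup.centralizer (X : Set G)) ∧
      (∀ (e : ↥E), ∀ u ∈ E, δ e * u * (δ e)⁻¹ = (e : G) * u * (e : G)⁻¹) ∧
      (∀ w, ω w ∈ V ⊓ Subgroup.centralizer (X : Set G)) ∧ Function.Injective ω ∧
      ∀ (e : ↥E) (w w' : ↥(⁅V, E⁆)), (w' : G) = (e : G) * w * (e : G)⁻¹ → δ e * ω w * (δ e)⁻¹ = ω w' := by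
  classical
  let orb : Subgroup G → Prop := fun F => ∃ t ∈ X, F = cjS t E
  let tr : G → Subgroup G → G := fun y F => if h : orb F then h.choose * y * h.choose⁻¹ else 1
  have hfac : ∀ t ∈ X, IsFactor p V H (cjS t E) := fun t ht => hE.cj (hXV ht) (hXH ht)
  have hcomm : ∀ y : G, (y ∈ E ∨ y ∈ ⁅V, E⁆) → ∀ t ∈ X, tr y (cjS t E) = t * y * t⁻¹ := by
    intro y hy t ht
    have h : orb (cjS t E) := ⟨t, ht, rfl⟩
    have hs : tr y (cjS t E) = h.choose * y * h.choose⁻¹ := dif_pos h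
    obtain ⟨hs1, hs2⟩ := h.choose_spec
    rw [hs]
    set s := h.choose
    have hfix : cjS (t⁻¹ * s) E = E := by
      rw [← cjS_cjS, ← hs2, cjS_cjS, inv_mul_cancel, cjS_one]
    obtain ⟨c1, c2⟩ := hE.centralized hXV hXq hqH (mul_mem (inv_mem ht) hs1) hfix
    have hc : t⁻¹ * s * y = y * (t⁻¹ * s) := hy.elim (c1 y) (c2 y)
    calc s * y * s⁻¹ = t * (t⁻¹ * s * y) * s⁻¹ := by group
      _ = t * (y * (t⁻¹ * s)) * s⁻¹ := by rw [hc]
      _ = _ := by group
  have htr0 : ∀ y F, ¬ orb F → tr y F = 1 := fun y F h => dif_neg h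
  have htrE : ∀ y ∈ E, ∀ F, IsFactor p V H F → tr y F ∈ F := fun y hy F hF => by
    by_cases h : orb F
    · obtain ⟨t, ht, rfl⟩ := h
      rw [hcomm y (Or.inl hy) t ht]; exact ⟨y, hy, rfl⟩
    · rw [htr0 y F h]; exact one_mem _
  have htrW : ∀ y ∈ ⁅V, E⁆, ∀ F, IsFactor p V H F → tr y F ∈ ⁅V, F⁆ := fun y hy F hF => by
    by_cases h : orb F
    · obtain ⟨t, ht, rfl⟩ := h
      rw [hcomm y (Or.inr hy) t ht]; exact plane_cj (hXV ht) hy
    · rw [htr0 y F h]; exact one_mem _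
  let PW : Subgroup G := ⨆ (F : Subgroup G) (_ : IsFactor p V H F), ⁅V, F⁆
  have hPV : PW ≤ V := iSup₂_le fun F hF => hF.plane_le
  have hd : ∀ y : ↥E, ∃ d ∈ H, ∀ F, IsFactor p V H F → (tr y F)⁻¹ * d ∈ coFactor V H F := fun y =>
    (g.exists_components (tr y) (fun _ => 1) (htrE y y.2) fun F _ => one_mem _).1
  have hv : ∀ y : ↥(⁅V, E⁆), ∃ v ∈ PW, ∀ F, IsFactor p V H F → (tr y F)⁻¹ * v ∈ fixIn V F := fun y =>
    (g.exists_components (fun _ => 1) (tr y) (fun F _ => one_mem _) (htrW y y.2)).2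
  choose d hdH hdc using hd
  choose v hvP hvc using hv
  have hduniq : ∀ (y : ↥E) (k : G), k ∈ H →
      (∀ F, IsFactor p V H F → (tr y F)⁻¹ * k ∈ coFactor V H F) → d y = k := fun y k hk h =>
    inv_mul_eq_one.1 (g.eq_one_of_coFactor (mul_mem (inv_mem (hdH y)) hk) fun F hF => by
      rw [show (d y)⁻¹ * k = ((tr y F)⁻¹ * d y)⁻¹ * ((tr y F)⁻¹ * k) by group]
      exact mul_mem (inv_mem (hdc y F hF)) (h F hF))
  have hvuniq : ∀ (y : ↥(⁅V, E⁆)) (k : G), k ∈ PW →
      (∀ F, IsFactor p V H F → (tr y F)⁻¹ * k ∈ fixIn V F) → v y = k := fun y k hk h =>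
    inv_mul_eq_one.1 (g.planes_inf (mul_mem (inv_mem (hvP y)) hk) fun F hF => by
      rw [show (v y)⁻¹ * k = ((tr y F)⁻¹ * v y)⁻¹ * ((tr y F)⁻¹ * k) by group]
      exact mul_mem (inv_mem (hvc y F hF)) (h F hF))
  have hone : (1 : G) = (1 : G) := rfl
  have hmulE : ∀ a b : ↥E, d (a * b) = d a * d b := by
    intro a b
    refine hduniq _ _ (mul_mem (hdH a) (hdH b)) fun F hF => ?_
    have e : tr (↑(a * b)) F = tr a F * tr b F := by
      by_cases h : orb F
      · obtain ⟨t, ht, rfl⟩ := h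
        rw [hcomm _ (Or.inl (a * b).2) t ht, hcomm _ (Or.inl a.2) t ht, hcomm _ (Or.inl b.2) t ht,
          Subgroup.coe_mul]; group
      · rw [htr0 _ F h, htr0 _ F h, htr0 _ F h, mul_one]
    rw [e, show (tr a F * tr b F)⁻¹ * (d a * d b) =
      ((tr b F)⁻¹ * ((tr a F)⁻¹ * d a) * (tr b F)⁻¹⁻¹) * ((tr b F)⁻¹ * d b) by group]
    exact mul_mem (hF.coFactor_conj g (inv_mem (hF.le (htrE b b.2 F hF))) (hdc a F hF)) (hdc b F hF)
  have hmulW : ∀ a b : ↥(⁅V, E⁆), v (a * b) = v a * v b := by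
    intro a b
    refine hvuniq _ _ (mul_mem (hvP a) (hvP b)) fun F hF => ?_
    have e : tr (↑(a * b)) F = tr a F * tr b F := by
      by_cases h : orb F
      · obtain ⟨t, ht, rfl⟩ := h
        rw [hcomm _ (Or.inr (a * b).2) t ht, hcomm _ (Or.inr a.2) t ht, hcomm _ (Or.inr b.2) t ht,
          Subgroup.coe_mul]; group
      · rw [htr0 _ F h, htr0 _ F h, htr0 _ F h, mul_one]
    have e2 : (tr b F)⁻¹ * ((tr a F)⁻¹ * v a) = ((tr a F)⁻¹ * v a) * (tr b F)⁻¹ :=
      Local.elemAb_commute g.ctx.elem (inv_mem (hF.plane_le (htrW b b.2 F hF))) (hvc a F hF).1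
    rw [e, show (tr a F * tr b F)⁻¹ * (v a * v b) = (tr b F)⁻¹ * ((tr a F)⁻¹ * v a) * v b by group, e2, mul_assoc]
    exact mul_mem (hvc a F hF) (hvc b F hF)
  have hshift : ∀ s ∈ X, ∀ F, IsFactor p V H F → IsFactor p V H (cjS s⁻¹ F) ∧
      ∀ y, (y ∈ E ∨ y ∈ ⁅V, E⁆) → s * tr y (cjS s⁻¹ F) * s⁻¹ = tr y F := by
    intro s hs F hF
    refine ⟨hF.cj (hXV (inv_mem hs)) (hXH (inv_mem hs)), fun y hy => ?_⟩
    by_cases h : orb F
    · obtain ⟨t, ht, rfl⟩ := h
      rw [cjS_cjS, hcomm y hy _ (mul_mem (inv_mem hs) ht), hcomm y hy t ht]; group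
    · rw [htr0 y F h, htr0 y _ (fun ⟨t, ht, e⟩ => h ⟨s * t, mul_mem hs ht, by
        rw [← cjS_cjS s t, ← e, cjS_cjS, mul_inv_cancel, cjS_one]⟩)]
      group
  have hcjmap : ∀ (s : G) (F : Subgroup G), cjS s (cjS s⁻¹ F) = F := fun s F => by
    rw [cjS_cjS, mul_inv_cancel, cjS_one]
  have hfixd : ∀ y : ↥E, ∀ s ∈ X, s * d y * s⁻¹ = d y := by
    intro y s hs
    refine (hduniq y _ ((Subgroup.mem_normalizer_iff.1 (hXH hs) _).1 (hdH y)) fun F hF => ?_).symm
    obtain ⟨hF', htr⟩ := hshift s hs F hF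
    obtain ⟨k1, k2⟩ := Subgroup.mem_inf.1 (hdc y _ hF')
    rw [← htr y (Or.inl y.2), show (s * tr y (cjS s⁻¹ F) * s⁻¹)⁻¹ * (s * d y * s⁻¹) =
      s * ((tr y (cjS s⁻¹ F))⁻¹ * d y) * s⁻¹ by group]
    refine ⟨(Subgroup.mem_normalizer_iff.1 (hXH hs) _).1 k1, Subgroup.mem_centralizer_iff.2 fun w hw => ?_⟩
    have hw' : s⁻¹ * w * s ∈ ⁅V, cjS s⁻¹ F⁆ := by simpa using plane_cj (E := F) (hXV (inv_mem hs)) hw
    have h2 := Subgroup.mem_centralizer_iff.1 k2 _ hw'
    generalize (tr y (cjS s⁻¹ F))⁻¹ * d y = k at h2 ⊢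
    calc w * (s * k * s⁻¹) = s * (s⁻¹ * w * s * k) * s⁻¹ := by group
      _ = s * (k * (s⁻¹ * w * s)) * s⁻¹ := by rw [h2]
      _ = _ := by group
  have hPWn : ∀ s ∈ X, ∀ k ∈ PW, s * k * s⁻¹ ∈ PW := by
    intro s hs k hk
    have hle : PW.map (MulAut.conj s).toMonoidHom ≤ PW := by
      rw [Subgroup.map_iSup]
      refine iSup_le fun F => ?_
      rw [Subgroup.map_iSup]
      refine iSup_le fun hF => ?_
      refine le_trans (le_of_eq ?_) (le_iSup₂ (f := fun F (_ : IsFactor p V H F) => ⁅V, F⁆) (cjS s F) (hF.cj (hXV hs) (hXH hs)))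
      rw [Subgroup.map_commutator, map_conj_self (hXV hs)]
    exact hle ⟨k, hk, rfl⟩
  have hfixv : ∀ y : ↥(⁅V, E⁆), ∀ s ∈ X, s * v y * s⁻¹ = v y := by
    intro y s hs
    refine (hvuniq y _ (hPWn s hs _ (hvP y)) fun F hF => ?_).symm
    obtain ⟨hF', htr⟩ := hshift s hs F hF
    obtain ⟨k1, k2⟩ := Subgroup.mem_inf.1 (hvc y _ hF')
    rw [← htr y (Or.inr y.2), show (s * tr y (cjS s⁻¹ F) * s⁻¹)⁻¹ * (s * v y * s⁻¹) =
      s * ((tr y (cjS s⁻¹ F))⁻¹ * v y) * s⁻¹ by group]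
    refine ⟨(Subgroup.mem_normalizer_iff.1 (hXV hs) _).1 k1, Subgroup.mem_centralizer_iff.2 fun u hu => ?_⟩
    have hu' : s⁻¹ * u * s ∈ cjS s⁻¹ F := ⟨u, hu, by simp⟩
    have h2 := Subgroup.mem_centralizer_iff.1 k2 _ hu'
    generalize (tr y (cjS s⁻¹ F))⁻¹ * v y = k at h2 ⊢
    calc u * (s * k * s⁻¹) = s * (s⁻¹ * u * s * k) * s⁻¹ := by group
      _ = s * (k * (s⁻¹ * u * s)) * s⁻¹ := by rw [h2]
      _ = _ := by group
  have htr1 : ∀ y : G, (y ∈ E ∨ y ∈ ⁅V, E⁆) → tr y E = y := fun y hy => by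
    have := hcomm y hy 1 (one_mem X)
    rwa [cjS_one, one_mul, inv_one, mul_one] at this
  refine ⟨MonoidHom.mk' d hmulE, MonoidHom.mk' v hmulW,
    fun y => ⟨hdH y, Subgroup.mem_centralizer_iff.2 fun s hs => mul_inv_eq_iff_eq_mul.1 (hfixd y s hs)⟩,
    fun y u hu => ?_,
    fun y => ⟨hPV (hvP y), Subgroup.mem_centralizer_iff.2 fun s hs => mul_inv_eq_iff_eq_mul.1 (hfixv y s hs)⟩,
    ?_, fun e w w' hw' => ?_⟩
  · have h := hdc y E hE
    rw [htr1 y (Or.inl y.2)] at h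
    have h2 := hE.comm_coFactor g hu h
    show d y * u * (d y)⁻¹ = _
    calc d y * u * (d y)⁻¹ = (y : G) * (((y : G)⁻¹ * d y) * u) * (d y)⁻¹ := by group
      _ = (y : G) * (u * ((y : G)⁻¹ * d y)) * (d y)⁻¹ := by rw [h2]
      _ = _ := by group
  · rw [injective_iff_map_eq_one]
    intro w hw
    have h := hvc w E hE
    rw [htr1 w (Or.inr w.2), show v w = 1 from hw, mul_one] at h
    exact Subtype.ext (inv_eq_one.1 (Subgroup.mem_bot.1 (hE.plane_inf ▸ Subgroup.mem_inf.2 ⟨inv_mem w.2, h.2⟩)))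
  · refine (hvuniq w' _ ?_ fun F hF => ?_).symm
    · have hle : PW.map (MulAut.conj (d e)).toMonoidHom ≤ PW := by
        rw [Subgroup.map_iSup]
        refine iSup_le fun F => ?_
        rw [Subgroup.map_iSup]
        refine iSup_le fun hF => ?_
        rintro _ ⟨z, hz, rfl⟩
        exact le_iSup₂ (f := fun F (_ : IsFactor p V H F) => ⁅V, F⁆) F hF ((hF.plane_mem g (hdH e)).1 z hz)
      exact hle ⟨v w, hvP w, rfl⟩
    · have e1 : tr w' F = tr e F * tr w F * (tr e F)⁻¹ := by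
        by_cases h : orb F
        · obtain ⟨t, ht, rfl⟩ := h
          rw [hcomm _ (Or.inr w'.2) t ht, hcomm _ (Or.inl e.2) t ht, hcomm _ (Or.inr w.2) t ht, hw']; group
        · rw [htr0 _ F h, htr0 _ F h, htr0 _ F h]; group
      obtain ⟨k, hk, hk'⟩ : ∃ k ∈ coFactor V H F, d e = tr e F * k :=
        ⟨_, hdc e F hF, (mul_inv_cancel_left _ _).symm⟩
      obtain ⟨c, hc, hc'⟩ : ∃ c ∈ fixIn V F, v w = tr w F * c :=
        ⟨_, hvc w F hF, (mul_inv_cancel_left _ _).symm⟩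
      show (tr w' F)⁻¹ * (d e * v w * (d e)⁻¹) ∈ fixIn V F
      have hkw : k * tr w F = tr w F * k := (Subgroup.mem_centralizer_iff.1 hk.2 _ (htrW w w.2 F hF)).symm
      have h3 := (hF.plane_mem g (mul_mem (hF.le (htrE e e.2 F hF)) hk.1)).2 c hc
      rw [e1, hk', hc']
      rw [show (tr e F * tr w F * (tr e F)⁻¹)⁻¹ * (tr e F * k * (tr w F * c) * (tr e F * k)⁻¹) =
        tr e F * ((tr w F)⁻¹ * (k * tr w F)) * c * (tr e F * k)⁻¹ by group, hkw, inv_mul_cancel_left]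
      exact h3

/-- A subgroup containing a Sylow subgroup of `H` and the fixed points of the operators contains `H`. -/
theorem OffGen.le_of_sylow_fixed (g : OffGen p V H) (hXV : X ≤ Subgroup.normalizer (V : Set G))
    (hXH : X ≤ Subgroup.normalizer (H : Set G)) (hXq : IsPGroup q X) (hqH : ¬ q ∣ Nat.card H)
    {T L : Subgroup G} (hT : SylIn p T H) (hTL : T ≤ L)
    (hXL : H ⊓ Subgroup.centralizer (X : Set G) ≤ L) : H ≤ L := by
  refine g.le_iSup_factor.trans (iSup₂_le fun E hE => ?_)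
  obtain ⟨δ, -, hδ, hconj, -⟩ := g.exists_diagonal hXV hXH hXq hqH hE
  have hS := hT.inf_normal hE.le (hE.le_normalizer g)
  have hmem : ∀ e : ↥E, ∀ u ∈ T ⊓ E, (e : G) * u * (e : G)⁻¹ ∈ L := by
    intro e u hu
    rw [← hconj e u hu.2]
    exact mul_mem (mul_mem (hXL (hδ e)) (hTL hu.1)) (inv_mem (hXL (hδ e)))
  obtain ⟨A, x, P, rfl⟩ := hE
  have hsub : ∀ B : Subgroup G, IsPGroup p B → B ≤ A ⊔ cjS x A → B ≤ L := by
    intro B hB hBE b hb
    obtain ⟨P₀, hP₀⟩ := hS.exists_sylow_subgroupOf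
    obtain ⟨Q, hQ⟩ := (hB.comap_subtype (K := A ⊔ cjS x A)).exists_le_sylow
    obtain ⟨e, he⟩ := MulAction.exists_smul_eq (↥(A ⊔ cjS x A)) P₀ Q
    have hb' : (⟨b, hBE hb⟩ : ↥(A ⊔ cjS x A)) ∈ (Q : Subgroup ↥(A ⊔ cjS x A)) := hQ hb
    rw [← he, Sylow.coe_subgroup_smul] at hb'
    obtain ⟨u, hu, hue⟩ := hb'
    rw [hP₀] at hu
    have := hmem e (u : G) hu
    have e2 : (e : G) * (u : G) * (e : G)⁻¹ = b := congrArg Subtype.val hue
    rwa [e2] at this
  exact sup_le (hsub A P.tg.isPGroup le_sup_left) (hsub _ P.tgB.isPGroup le_sup_right)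

end Cfsg.Agent.Fusion
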