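import Cfsg.Agent.Lib.Fusion.OffenderFamily
import Cfsg.Agent.Lib.Fusion.SL2Sections

/-!
# Transvection groups under a faithful `p'`-core generate `SL₂(p)`
-/

set_option autoImplicit false
set_option linter.style.haveILetI false

open Cfsg Matrix
open scoped commutatorElement Pointwise

namespace Cfsg.Agent.Fusion

universe u

variable {G : Type u} [Group G] [Finite G] {p : ℕ} [hp : Fact p.Prime] {V H A : Subgroup G}

/-- `O_{p'}(H)` inside the ambient group. -/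
abbrev coreIn (p : ℕ) (H : Subgroup G) : Subgroup G := (pPrimeCore p ↥H).map H.subtype

omit [Finite G] in
theorem coreIn_le : coreIn p H ≤ H := Subgroup.map_subtype_le _

theorem coreIn_conj {h r : G} (hh : h ∈ H) (hr : r ∈ coreIn p H) : h * r * h⁻¹ ∈ coreIn p H := by
  obtain ⟨r₀, hr₀, rfl⟩ := hr
  exact ⟨⟨h, hh⟩ * r₀ * ⟨h, hh⟩⁻¹, (inferInstance : (pPrimeCore p ↥H).Normal).conj_mem r₀ hr₀ _, rfl⟩

theorem coreIn_coprime : (Nat.card (coreIn p H)).Coprime p := by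
  rw [coreIn, Subgroup.card_map_of_injective H.subtype_injective]
  exact card_pPrimeCore_coprime p ↥H

theorem coreIn_eq_one {r : G} (hr : r ∈ coreIn p H) (h : r ^ p = 1) : r = 1 := by
  rw [← orderOf_eq_one_iff]
  exact Nat.Coprime.eq_one_of_dvd
    ((coreIn_coprime (p := p) (H := H)).coprime_dvd_left (Subgroup.orderOf_dvd_natCard _ hr))
    (orderOf_dvd_of_pow_eq_one h)

omit [Finite G] hp in
theorem OffCtx.eq_one_of_fix (c : OffCtx p V H) {g : G} (hg : g ∈ H) (h : ∀ v ∈ V, v * g = g * v) : g = 1 :=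
  Subgroup.mem_bot.1 (c.faithful ▸ ⟨hg, Subgroup.mem_centralizer_iff.2 h⟩ : g ∈ (⊥ : Subgroup G))

omit [Finite G] in
/-- A subgroup containing the commutators of `V` with `a` is normalized by `a`. -/
theorem conj_mem_of_comm_mem {X : Subgroup G} (hXV : X ≤ V) {a : G} (h : ∀ v ∈ V, ⁅v, a⁆ ∈ X) {x : G}
    (hx : x ∈ X) : a * x * a⁻¹ ∈ X := by
  have h1 := h x⁻¹ (inv_mem (hXV hx))
  have e : a * x * a⁻¹ = x * ⁅x⁻¹, a⁆ := by simp [commutatorElement_def, mul_assoc]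
  rw [e]; exact mul_mem hx h1

omit [Finite G] in
theorem mul_comm_of_comm_eq_one {x a : G} (h : ⁅x, a⁆ = 1) : x * a = a * x :=
  commutatorElement_eq_one_iff_mul_comm.1 h

/-- A group of transvections of order `p`. -/
structure TGrp (p : ℕ) (V A : Subgroup G) : Prop where
  norm : A ≤ Subgroup.normalizer (V : Set G)
  card : Nat.card A = p
  comm : Nat.card ↥(⁅V, A⁆) = p
  idx : (V ⊓ Subgroup.centralizer (A : Set G)).relIndex V = p

omit [Finite G] hp in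
theorem TGrp.line_le (t : TGrp p V A) : ⁅V, A⁆ ≤ V :=
  Subgroup.commutator_le.2 fun _ hx _ ha => act_comm_mem t.norm hx ha

theorem TGrp.pow_eq (t : TGrp p V A) {a : G} (ha : a ∈ A) : a ^ p = 1 := by
  have h : (⟨a, ha⟩ : A) ^ Nat.card A = 1 := pow_card_eq_one'
  rw [t.card] at h
  exact congrArg Subtype.val h

theorem TGrp.isPGroup (t : TGrp p V A) : IsPGroup p A :=
  IsPGroup.of_card (n := 1) (by rw [pow_one, t.card])

theorem eq_of_prime_card {X Y : Subgroup G} (hY : Nat.card Y = p) (hle : X ≤ Y) (hX : X ≠ ⊥) : X = Y := by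
  refine Subgroup.eq_of_le_of_card_ge hle ?_
  rcases (Nat.dvd_prime hp.out).1 (hY ▸ Subgroup.card_dvd_of_le hle) with h | h
  · exact absurd (Subgroup.card_eq_one.1 h) hX
  · exact (h.trans hY.symm).ge

theorem eq_zpowers_of_mem {X : Subgroup G} (hX : Nat.card X = p) {x : G} (hx : x ∈ X) (hx1 : x ≠ 1) :
    Subgroup.zpowers x = X :=
  eq_of_prime_card hX (Subgroup.zpowers_le.2 hx) (Subgroup.zpowers_ne_bot.2 hx1)

theorem TGrp.line_fix (t : TGrp p V A) (hV : IsElementaryAbelian p V) {x a : G} (hx : x ∈ ⁅V, A⁆) (ha : a ∈ A) :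
    x * a = a * x := by
  by_contra hne
  have hle : ⁅⁅V, A⁆, A⁆ ≤ ⁅V, A⁆ := Subgroup.commutator_mono t.line_le le_rfl
  have he : ⁅⁅V, A⁆, A⁆ = ⁅V, A⁆ := eq_of_prime_card t.comm hle fun h => hne (mul_comm_of_comm_eq_one
    (Subgroup.mem_bot.1 (h ▸ Subgroup.commutator_mem_commutator hx ha)))
  have h0 := eq_bot_of_le_act_comm t.norm (Local.elemAb_isPGroup hV)
    (fun a ha => by rw [t.pow_eq ha]; exact one_mem _) t.line_le he.ge
  have := t.comm
  rw [h0, Subgroup.card_bot] at this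
  exact hp.out.ne_one this.symm

theorem TGrp.line_ne_bot (t : TGrp p V A) : ⁅V, A⁆ ≠ ⊥ := fun h => by
  have := t.comm
  rw [h, Subgroup.card_bot] at this
  exact hp.out.ne_one this.symm

theorem TGrp.comm_mem (_t : TGrp p V A) {v a : G} (hv : v ∈ V) (ha : a ∈ A) : ⁅v, a⁆ ∈ ⁅V, A⁆ :=
  Subgroup.commutator_mem_commutator hv ha

omit [Finite G] hp in
theorem map_conj_self {X : Subgroup G} {g : G} (hg : g ∈ Subgroup.normalizer (X : Set G)) :
    X.map (MulAut.conj g).toMonoidHom = X := by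
  ext y
  constructor
  · rintro ⟨x, hx, rfl⟩
    exact (Subgroup.mem_normalizer_iff.1 hg x).1 hx
  · intro hy
    refine ⟨g⁻¹ * y * g, (Subgroup.mem_normalizer_iff.1 hg _).2 ?_, by simp [mul_assoc]⟩
    rw [show g * (g⁻¹ * y * g) * g⁻¹ = y by group]; exact hy

omit [Finite G] hp in
theorem map_conj_centralizer {X : Subgroup G} {g : G} (hg : g ∈ Subgroup.normalizer (V : Set G)) :
    (V ⊓ Subgroup.centralizer (X : Set G)).map (MulAut.conj g).toMonoidHom =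
      V ⊓ Subgroup.centralizer ((X.map (MulAut.conj g).toMonoidHom : Subgroup G) : Set G) := by
  ext y
  constructor
  · rintro ⟨x, ⟨hxV, hxC⟩, rfl⟩
    refine ⟨(Subgroup.mem_normalizer_iff.1 hg x).1 hxV, Subgroup.mem_centralizer_iff.2 ?_⟩
    rintro _ ⟨z, hz, rfl⟩
    rw [← map_mul, ← map_mul, Subgroup.mem_centralizer_iff.1 hxC z hz]
  · rintro ⟨hyV, hyC⟩
    refine ⟨g⁻¹ * y * g, ⟨(Subgroup.mem_normalizer_iff.1 hg _).2 ?_, Subgroup.mem_centralizer_iff.2 fun z hz => ?_⟩,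
      by simp [mul_assoc]⟩
    · rw [show g * (g⁻¹ * y * g) * g⁻¹ = y by group]; exact hyV
    · have h := Subgroup.mem_centralizer_iff.1 hyC _ ⟨z, hz, rfl⟩
      simp only [MulEquiv.coe_toMonoidHom, MulAut.conj_apply] at h
      calc z * (g⁻¹ * y * g) = g⁻¹ * (g * z * g⁻¹ * y) * g := by group
        _ = g⁻¹ * (y * (g * z * g⁻¹)) * g := by rw [h]
        _ = _ := by group

theorem TGrp.conj (t : TGrp p V A) {g : G} (hg : g ∈ Subgroup.normalizer (V : Set G)) :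
    TGrp p V (A.map (MulAut.conj g).toMonoidHom) := by
  have hinj : Function.Injective (MulAut.conj g).toMonoidHom := (MulAut.conj g).injective
  refine ⟨?_, by rw [Subgroup.card_map_of_injective hinj, t.card], ?_, ?_⟩
  · rintro _ ⟨a, ha, rfl⟩
    exact mul_mem (mul_mem hg (t.norm ha)) (inv_mem hg)
  · conv_lhs => rw [← map_conj_self hg, ← Subgroup.map_commutator]
    rw [Subgroup.card_map_of_injective hinj, t.comm]
  · have h := Subgroup.relIndex_map_map_of_injective (V ⊓ Subgroup.centralizer (A : Set G)) V hinj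
    rw [map_conj_centralizer hg, map_conj_self hg] at h
    rw [h, t.idx]

omit [Finite G] hp in
theorem comm_sup_mem {B X : Subgroup G} (hXV : X ≤ V) (hA : A ≤ Subgroup.normalizer (V : Set G))
    (hB : B ≤ Subgroup.normalizer (V : Set G)) (h1 : ∀ v ∈ V, ∀ a ∈ A, ⁅v, a⁆ ∈ X)
    (h2 : ∀ v ∈ V, ∀ b ∈ B, ⁅v, b⁆ ∈ X) : ∀ v ∈ V, ∀ g ∈ A ⊔ B, ⁅v, g⁆ ∈ X := by
  intro v hv g hg
  rw [← Subgroup.closure_eq A, ← Subgroup.closure_eq B, ← Subgroup.closure_union] at hg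
  suffices h : (∀ w ∈ V, g * w * g⁻¹ ∈ V ∧ g⁻¹ * w * g ∈ V) ∧ (∀ x ∈ X, g * x * g⁻¹ ∈ X ∧ g⁻¹ * x * g ∈ X) ∧
      ∀ w ∈ V, ⁅w, g⁆ ∈ X from h.2.2 v hv
  induction hg using Subgroup.closure_induction with
  | one => simp
  | mem a ha =>
    have hn : a ∈ Subgroup.normalizer (V : Set G) := ha.elim (fun h => hA h) fun h => hB h
    have hc : ∀ w ∈ V, ⁅w, a⁆ ∈ X := fun w hw => ha.elim (fun h => h1 w hw a h) fun h => h2 w hw a h
    have hc' : ∀ w ∈ V, ⁅w, a⁻¹⁆ ∈ X := fun w hw =>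
      ha.elim (fun h => h1 w hw _ (inv_mem h)) fun h => h2 w hw _ (inv_mem h)
    refine ⟨fun w hw => ⟨(Subgroup.mem_normalizer_iff.1 hn w).1 hw, ?_⟩,
      fun x hx => ⟨conj_mem_of_comm_mem hXV hc hx, ?_⟩, hc⟩
    · simpa using (Subgroup.mem_normalizer_iff.1 (inv_mem hn) w).1 hw
    · simpa using conj_mem_of_comm_mem hXV hc' hx
  | mul a b _ _ iha ihb =>
    refine ⟨fun w hw => ⟨?_, ?_⟩, fun x hx => ⟨?_, ?_⟩, fun w hw => ?_⟩
    · rw [show a * b * w * (a * b)⁻¹ = a * (b * w * b⁻¹) * a⁻¹ by group]; exact (iha.1 _ (ihb.1 w hw).1).1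
    · rw [show (a * b)⁻¹ * w * (a * b) = b⁻¹ * (a⁻¹ * w * a) * b by group]; exact (ihb.1 _ (iha.1 w hw).2).2
    · rw [show a * b * x * (a * b)⁻¹ = a * (b * x * b⁻¹) * a⁻¹ by group]; exact (iha.2.1 _ (ihb.2.1 x hx).1).1
    · rw [show (a * b)⁻¹ * x * (a * b) = b⁻¹ * (a⁻¹ * x * a) * b by group]; exact (ihb.2.1 _ (iha.2.1 x hx).2).2
    · rw [show ⁅w, a * b⁆ = ⁅w, a⁆ * (a * ⁅w, b⁆ * a⁻¹) by simp [commutatorElement_def, mul_assoc]]
      exact mul_mem (iha.2.2 w hw) (iha.2.1 _ (ihb.2.2 w hw)).1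
  | inv a _ iha =>
    refine ⟨fun w hw => ⟨?_, ?_⟩, fun x hx => ⟨?_, ?_⟩, fun w hw => ?_⟩
    · rw [inv_inv]; exact (iha.1 w hw).2
    · rw [inv_inv]; exact (iha.1 w hw).1
    · rw [inv_inv]; exact (iha.2.1 x hx).2
    · rw [inv_inv]; exact (iha.2.1 x hx).1
    · rw [show ⁅w, a⁻¹⁆ = a⁻¹ * ⁅w, a⁆⁻¹ * a by simp [commutatorElement_def, mul_assoc]]
      exact (iha.2.1 _ (inv_mem (iha.2.2 w hw))).2

/-- A transvection group and a different conjugate under the `p'`-core. -/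
structure TPair (p : ℕ) (V H A : Subgroup G) (x : G) : Prop where
  ctx : OffCtx p V H
  tg : TGrp p V A
  le : A ≤ H
  mem : x ∈ coreIn p H
  ne : A.map (MulAut.conj x).toMonoidHom ≠ A

/-- A conjugate subgroup. -/
abbrev cjS (x : G) (A : Subgroup G) : Subgroup G := A.map (MulAut.conj x).toMonoidHom

variable {x : G}

theorem TPair.tgB (P : TPair p V H A x) : TGrp p V (cjS x A) :=
  P.tg.conj (P.ctx.norm (coreIn_le P.mem))

theorem TPair.leB (P : TPair p V H A x) : cjS x A ≤ H := by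
  rintro _ ⟨a, ha, rfl⟩
  exact mul_mem (mul_mem (coreIn_le P.mem) (P.le ha)) (inv_mem (coreIn_le P.mem))

/-- `A R` as a set. -/
theorem mem_sup_core (hA : A ≤ H) {g : G} (hg : g ∈ A ⊔ coreIn p H) :
    ∃ a ∈ A, ∃ r ∈ coreIn p H, a * r = g := by
  have h : A ≤ Subgroup.normalizer ((coreIn p H : Subgroup G) : Set G) := fun a ha =>
    mem_normalizer_of_cj_le (by rintro _ ⟨r, hr, rfl⟩; exact coreIn_conj (hA ha) hr)
  have h2 : g ∈ ((A ⊔ coreIn p H : Subgroup G) : Set G) := hg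
  rw [Subgroup.coe_mul_of_left_le_normalizer_right _ _ h] at h2
  exact Set.mem_mul.1 h2

theorem conj_le_sup_core (hA : A ≤ H) {r : G} (hr : r ∈ coreIn p H) : cjS r A ≤ A ⊔ coreIn p H := by
  rintro _ ⟨a, ha, rfl⟩
  exact mul_mem (mul_mem (Subgroup.mem_sup_right hr) (Subgroup.mem_sup_left ha))
    (inv_mem (Subgroup.mem_sup_right hr))

theorem TPair.sup_le_H (P : TPair p V H A x) : A ⊔ cjS x A ≤ H := sup_le P.le P.leB

theorem TPair.sup_le_AR (P : TPair p V H A x) : A ⊔ cjS x A ≤ A ⊔ coreIn p H :=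
  sup_le le_sup_left (conj_le_sup_core P.le P.mem)

theorem TPair.comm_eq (P : TPair p V H A x) : ⁅V, A ⊔ cjS x A⁆ = ⁅V, A⁆ ⊔ ⁅V, cjS x A⁆ := by
  refine le_antisymm (Subgroup.commutator_le.2 (comm_sup_mem (sup_le P.tg.line_le P.tgB.line_le) P.tg.norm
    P.tgB.norm (fun v hv a ha => Subgroup.mem_sup_left (P.tg.comm_mem hv ha))
    fun v hv a ha => Subgroup.mem_sup_right (P.tgB.comm_mem hv ha))) (sup_le ?_ ?_)
  · exact Subgroup.commutator_mono le_rfl le_sup_left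
  · exact Subgroup.commutator_mono le_rfl le_sup_right

theorem TPair.plane_le (P : TPair p V H A x) : ⁅V, A⁆ ⊔ ⁅V, cjS x A⁆ ≤ V :=
  sup_le P.tg.line_le P.tgB.line_le

theorem TPair.comm_mem_plane (P : TPair p V H A x) {v g : G} (hv : v ∈ V) (hg : g ∈ A ⊔ cjS x A) :
    ⁅v, g⁆ ∈ ⁅V, A⁆ ⊔ ⁅V, cjS x A⁆ := P.comm_eq ▸ Subgroup.commutator_mem_commutator hv hg

theorem TPair.conj_plane (P : TPair p V H A x) {w g : G} (hw : w ∈ ⁅V, A⁆ ⊔ ⁅V, cjS x A⁆) (hg : g ∈ A ⊔ cjS x A) :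
    g * w * g⁻¹ ∈ ⁅V, A⁆ ⊔ ⁅V, cjS x A⁆ :=
  conj_mem_of_comm_mem P.plane_le (fun _ hv => P.comm_mem_plane hv hg) hw

theorem TPair.faith (P : TPair p V H A x) {g : G} (hg : g ∈ A ⊔ cjS x A)
    (h : ∀ w ∈ ⁅V, A⁆ ⊔ ⁅V, cjS x A⁆, w * g = g * w) : g = 1 := by
  let E := A ⊔ cjS x A
  let K : Subgroup G := E ⊓ Subgroup.centralizer ((⁅V, A⁆ ⊔ ⁅V, cjS x A⁆ : Subgroup G) : Set G)
  have hKR : ∀ k ∈ K, k ∈ coreIn p H → k = 1 := by
    rintro k ⟨hkE, hkC⟩ hkR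
    refine P.ctx.eq_one_of_fix (P.sup_le_H hkE) fun v hv => mul_comm_of_comm_eq_one ?_
    obtain ⟨w, hwdef⟩ : ∃ w, w = ⁅v, k⁆ := ⟨_, rfl⟩
    have hw : w ∈ ⁅V, A⁆ ⊔ ⁅V, cjS x A⁆ := hwdef ▸ P.comm_mem_plane hv hkE
    have hwk : k * w⁻¹ * k⁻¹ = w⁻¹ := by
      rw [← Subgroup.mem_centralizer_iff.1 hkC _ (inv_mem hw), mul_inv_cancel_right]
    have hkv : k * v * k⁻¹ = w⁻¹ * v := by rw [hwdef]; simp [commutatorElement_def, mul_assoc]
    have hn : ∀ n : ℕ, k ^ n * v * (k ^ n)⁻¹ = (w⁻¹) ^ n * v := by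
      intro n
      induction n with
      | zero => simp
      | succ n ih =>
        calc k ^ (n + 1) * v * (k ^ (n + 1))⁻¹ = k * (k ^ n * v * (k ^ n)⁻¹) * k⁻¹ := by
              rw [pow_succ']; group
          _ = (k * w⁻¹ * k⁻¹) ^ n * (k * v * k⁻¹) := by rw [ih, conj_pow]; group
          _ = (w⁻¹) ^ (n + 1) * v := by rw [hwk, hkv, pow_succ]; group
    have h1 := hn (orderOf k)
    rw [pow_orderOf_eq_one, one_mul, inv_one, mul_one, right_eq_mul, inv_pow, inv_eq_one] at h1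
    rw [← hwdef, ← orderOf_eq_one_iff]
    refine Nat.Coprime.eq_one_of_dvd ?_ (orderOf_dvd_of_pow_eq_one (P.ctx.elem.2 w (P.plane_le hw)))
    exact ((coreIn_coprime (p := p) (H := H)).coprime_dvd_left
      (Subgroup.orderOf_dvd_natCard _ hkR)).coprime_dvd_left (orderOf_dvd_of_pow_eq_one h1)
  have hKpow : ∀ k ∈ K, k ^ p = 1 := by
    intro k hk
    obtain ⟨a, ha, r, hr, rfl⟩ := mem_sup_core P.le (P.sup_le_AR (Subgroup.mem_inf.1 hk).1)
    refine hKR _ (pow_mem hk p) ?_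
    have h2 : ∀ n : ℕ, ∃ s ∈ coreIn p H, (a * r) ^ n = a ^ n * s := by
      intro n
      induction n with
      | zero => exact ⟨1, one_mem _, by simp⟩
      | succ n ih =>
        obtain ⟨s, hs, e⟩ := ih
        refine ⟨a⁻¹ * s * a⁻¹⁻¹ * r, mul_mem (coreIn_conj (inv_mem (P.le ha)) hs) hr, ?_⟩
        rw [pow_succ, e, pow_succ]; group
    obtain ⟨s, hs, e⟩ := h2 p
    rw [e, P.tg.pow_eq ha, one_mul]; exact hs
  by_contra hg1
  have hgK : g ∈ K := ⟨hg, Subgroup.mem_centralizer_iff.2 h⟩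
  have hnorm : E ≤ Subgroup.normalizer (K : Set G) := fun e he => mem_normalizer_of_cj_le (by
    rintro _ ⟨k, ⟨hk1, hk2⟩, rfl⟩
    refine Subgroup.mem_inf.2 ⟨mul_mem (mul_mem he hk1) (inv_mem he), Subgroup.mem_centralizer_iff.2 fun w hw => ?_⟩
    show w * (e * k * e⁻¹) = e * k * e⁻¹ * w
    have h3 := Subgroup.mem_centralizer_iff.1 hk2 (e⁻¹ * w * e) (by
      simpa using P.conj_plane hw (inv_mem he))
    calc w * (e * k * e⁻¹) = e * ((e⁻¹ * w * e) * k) * e⁻¹ := by group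
      _ = e * (k * (e⁻¹ * w * e)) * e⁻¹ := by rw [h3]
      _ = _ := by group)
  have hKp : IsPGroup p K := fun k => ⟨1, Subtype.ext (by simpa using hKpow k k.2)⟩
  have hin : ∀ X : Subgroup G, TGrp p V X → X ≤ E → g ∈ X := by
    intro X tX hXE
    have hS : IsPGroup p ↥(X ⊔ K) := hKp.to_sup_of_normal_left' tX.isPGroup (hXE.trans hnorm) |> fun h => by
      rwa [sup_comm]
    obtain ⟨n, hn⟩ := hS.exists_card_eq
    have hdvd : Nat.card ↥(X ⊔ K) ∣ Nat.card A * Nat.card (coreIn p H) := by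
      refine (Subgroup.card_dvd_of_le ((sup_le hXE inf_le_left).trans P.sup_le_AR)).trans ?_
      have hbij : Function.Bijective (fun q : A × coreIn p H => (⟨(q.1 : G) * q.2, mul_mem
          (Subgroup.mem_sup_left q.1.2) (Subgroup.mem_sup_right q.2.2)⟩ : ↥(A ⊔ coreIn p H))) := by
        refine ⟨fun a b h => Subgroup.mul_injective_of_disjoint ?_ (congrArg Subtype.val h), fun g => ?_⟩
        · rw [disjoint_iff, eq_bot_iff]
          exact fun z hz => Subgroup.mem_bot.2 (coreIn_eq_one hz.2 (P.tg.pow_eq hz.1))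
        · obtain ⟨a, ha, r, hr, e⟩ := mem_sup_core P.le g.2
          exact ⟨(⟨a, ha⟩, ⟨r, hr⟩), Subtype.ext e⟩
      rw [← Nat.card_prod, Nat.card_eq_of_bijective _ hbij]
    rw [hn, P.tg.card] at hdvd
    have hle : p ^ n ≤ p := Nat.le_of_dvd hp.out.pos
      (((coreIn_coprime (p := p) (H := H)).symm.pow_left n).dvd_of_dvd_mul_right hdvd)
    have he : X ⊔ K = X := (Subgroup.eq_of_le_of_card_ge le_sup_left (by rw [hn, tX.card]; exact hle)).symm
    exact he ▸ Subgroup.mem_sup_right hgK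
  exact P.ne ((eq_zpowers_of_mem P.tgB.card (hin _ P.tgB le_sup_right) hg1).symm.trans
    (eq_zpowers_of_mem P.tg.card (hin _ P.tg le_sup_left) hg1))

theorem TPair.not_fix_line (P : TPair p V H A x) {w : G} (hw : w ∈ ⁅V, cjS x A⁆) (h : ∀ a ∈ A, w * a = a * w) :
    w = 1 := by
  by_contra hw1
  have hL : ⁅V, cjS x A⁆ = Subgroup.zpowers w := (eq_zpowers_of_mem P.tgB.comm hw hw1).symm
  obtain ⟨a, ha, ha1⟩ := A.bot_or_exists_ne_one.resolve_left fun e => by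
    have := P.tg.card
    rw [e, Subgroup.card_bot] at this
    exact hp.out.ne_one this.symm
  refine ha1 (P.faith (Subgroup.mem_sup_left ha) fun z hz => ?_)
  have hle : ⁅V, A⁆ ⊔ ⁅V, cjS x A⁆ ≤ Subgroup.centralizer ({a} : Set G) := by
    refine sup_le (fun z hz => ?_) ?_
    · exact Subgroup.mem_centralizer_singleton_iff.2 (P.tg.line_fix P.ctx.elem hz ha)
    · rw [hL, Subgroup.zpowers_le, Subgroup.mem_centralizer_singleton_iff]; exact h a ha
  exact Subgroup.mem_centralizer_singleton_iff.1 (hle hz)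

theorem TPair.inf_lines (P : TPair p V H A x) : ⁅V, A⁆ ⊓ ⁅V, cjS x A⁆ = ⊥ :=
  eq_bot_iff.2 fun _ hw => Subgroup.mem_bot.2
    (P.not_fix_line hw.2 fun _ ha => P.tg.line_fix P.ctx.elem hw.1 ha)

theorem TPair.exists_coord (P : TPair p V H A x) : ∃ W : (Fin 2 → ZMod p) → G, Function.Injective W ∧
    (∀ a b, W (a + b) = W a * W b) ∧ (∀ c, W c ∈ ⁅V, A⁆ ⊔ ⁅V, cjS x A⁆) ∧
    (∀ w ∈ ⁅V, A⁆ ⊔ ⁅V, cjS x A⁆, ∃ c, W c = w) ∧ W ![1, 0] ∈ ⁅V, A⁆ ∧ W ![0, 1] ∈ ⁅V, cjS x A⁆ := by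
  obtain ⟨w₁, h₁, h₁'⟩ := ⁅V, A⁆.bot_or_exists_ne_one.resolve_left P.tg.line_ne_bot
  obtain ⟨w₂, h₂, h₂'⟩ := ⁅V, cjS x A⁆.bot_or_exists_ne_one.resolve_left P.tgB.line_ne_bot
  have hc : ∀ a ∈ V, ∀ b ∈ V, a * b = b * a := fun a ha b hb => Local.elemAb_commute P.ctx.elem ha hb
  have e1 : w₁ ^ p = 1 := P.ctx.elem.2 _ (P.tg.line_le h₁)
  have e2 : w₂ ^ p = 1 := P.ctx.elem.2 _ (P.tgB.line_le h₂)
  let W : (Fin 2 → ZMod p) → G := fun c => w₁ ^ (c 0).val * w₂ ^ (c 1).val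
  have hadd : ∀ a b, W (a + b) = W a * W b := by
    intro a b
    show w₁ ^ (a 0 + b 0).val * w₂ ^ (a 1 + b 1).val = _
    rw [ZMod.val_add, ZMod.val_add, ← pow_eq_pow_mod _ e1, ← pow_eq_pow_mod _ e2, pow_add, pow_add]
    have := hc _ (pow_mem (P.tg.line_le h₁) (b 0).val) _ (pow_mem (P.tgB.line_le h₂) (a 1).val)
    calc w₁ ^ (a 0).val * w₁ ^ (b 0).val * (w₂ ^ (a 1).val * w₂ ^ (b 1).val)
        = w₁ ^ (a 0).val * (w₁ ^ (b 0).val * w₂ ^ (a 1).val) * w₂ ^ (b 1).val := by group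
      _ = _ := by rw [this]; simp only [W]; group
  have hmem : ∀ c, W c ∈ ⁅V, A⁆ ⊔ ⁅V, cjS x A⁆ := fun c =>
    mul_mem (pow_mem (Subgroup.mem_sup_left h₁) _) (pow_mem (Subgroup.mem_sup_right h₂) _)
  have hker : ∀ c, W c = 1 → c = 0 := by
    intro c hc0
    have hA : w₁ ^ (c 0).val ∈ ⁅V, A⁆ ⊓ ⁅V, cjS x A⁆ :=
      Subgroup.mem_inf.2 ⟨pow_mem h₁ _, by rw [eq_inv_of_mul_eq_one_left hc0]; exact inv_mem (pow_mem h₂ _)⟩
    rw [P.inf_lines, Subgroup.mem_bot] at hA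
    have hB : w₂ ^ (c 1).val = 1 := by
      have := hc0
      simp only [W, hA, one_mul] at this
      exact this
    have o1 : orderOf w₁ = p := orderOf_eq_prime e1 h₁'
    have o2 : orderOf w₂ = p := orderOf_eq_prime e2 h₂'
    funext i
    fin_cases i
    · exact (ZMod.val_eq_zero _).1 (Nat.eq_zero_of_dvd_of_lt
        (o1.symm.dvd.trans (orderOf_dvd_of_pow_eq_one hA)) (ZMod.val_lt _))
    · exact (ZMod.val_eq_zero _).1 (Nat.eq_zero_of_dvd_of_lt
        (o2.symm.dvd.trans (orderOf_dvd_of_pow_eq_one hB)) (ZMod.val_lt _))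
  have hinj : Function.Injective W := fun a b hab => by
    refine sub_eq_zero.1 (hker _ ?_)
    have h := hadd (a - b) b
    rw [sub_add_cancel, hab] at h
    exact right_eq_mul.1 h
  refine ⟨W, hinj, hadd, hmem, ?_, ?_, ?_⟩
  · intro w hw
    let T : Subgroup G :=
      { carrier := Set.range W
        one_mem' := ⟨0, by simp [W]⟩
        mul_mem' := by rintro _ _ ⟨a, rfl⟩ ⟨b, rfl⟩; exact ⟨a + b, hadd a b⟩
        inv_mem' := by
          rintro _ ⟨a, rfl⟩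
          refine ⟨-a, eq_inv_of_mul_eq_one_left ?_⟩
          rw [← hadd, neg_add_cancel]; simp [W] }
    have hle : ⁅V, A⁆ ⊔ ⁅V, cjS x A⁆ ≤ T := by
      refine sup_le ?_ ?_
      · rw [← eq_zpowers_of_mem P.tg.comm h₁ h₁', Subgroup.zpowers_le]
        exact ⟨![1, 0], by simp [W, ZMod.val_one]⟩
      · rw [← eq_zpowers_of_mem P.tgB.comm h₂ h₂', Subgroup.zpowers_le]
        exact ⟨![0, 1], by simp [W, ZMod.val_one]⟩
    exact hle hw
  · simpa [W, ZMod.val_one] using h₁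
  · simpa [W, ZMod.val_one] using h₂

theorem TPair.card_plane (P : TPair p V H A x) : Nat.card ↥(⁅V, A⁆ ⊔ ⁅V, cjS x A⁆) = p ^ 2 := by
  obtain ⟨W, hinj, -, hmem, hsurj, -, -⟩ := P.exists_coord
  have hb : Function.Bijective (fun c => (⟨W c, hmem c⟩ : ↥(⁅V, A⁆ ⊔ ⁅V, cjS x A⁆))) :=
    ⟨fun a b h => hinj (congrArg Subtype.val h), fun w => by
      obtain ⟨c, hc⟩ := hsurj w w.2; exact ⟨c, Subtype.ext hc⟩⟩
  rw [← Nat.card_eq_of_bijective _ hb, Nat.card_fun, Nat.card_zmod, Nat.card_fin]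

/-- `SL₂` over a prime field is generated by the elementary matrices. -/
theorem sl2_mem_of_elementary (S : Subgroup (Matrix.SpecialLinearGroup (Fin 2) (ZMod p)))
    (hu : ∀ t, Dickson.upU t ∈ S) (hl : ∀ t, Dickson.lowL t ∈ S)
    (M : Matrix.SpecialLinearGroup (Fin 2) (ZMod p)) : M ∈ S := by
  have main : ∀ N : Matrix.SpecialLinearGroup (Fin 2) (ZMod p), N.1 1 0 ≠ 0 → N ∈ S := by
    intro N hN
    have hd := Dickson.det_eq N
    have e : Dickson.upU ((N.1 0 0 - 1) / N.1 1 0) * Dickson.lowL (N.1 1 0) *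
        Dickson.upU ((N.1 1 1 - 1) / N.1 1 0) = N := by
      apply Dickson.ext' <;> simp [Dickson.mul_entry] <;> field_simp <;> first | linear_combination -hd | linear_combination hd | ring
    rw [← e]
    exact mul_mem (mul_mem (hu _) (hl _)) (hu _)
  by_cases h : M.1 1 0 = 0
  · have hd := Dickson.det_eq M
    have h00 : M.1 0 0 ≠ 0 := fun h0 => by rw [h0, h, mul_zero, zero_mul, sub_zero] at hd; exact zero_ne_one hd
    have h1 : (Dickson.lowL 1 * M).1 1 0 ≠ 0 := by simp [Dickson.mul_entry, h, h00]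
    have h2 := mul_mem (inv_mem (hl 1)) (main _ h1)
    rwa [inv_mul_cancel_left] at h2
  · exact main M h

/-- The pair generates `SL₂(p)` acting naturally on its plane. -/
theorem TPair.exists_natural (P : TPair p V H A x) :
    ∃ (W : (Fin 2 → ZMod p) → G) (σ : ↥(A ⊔ cjS x A) ≃* Matrix.SpecialLinearGroup (Fin 2) (ZMod p)),
      Function.Injective W ∧ (∀ w ∈ ⁅V, A⁆ ⊔ ⁅V, cjS x A⁆, ∃ c, W c = w) ∧ W ![1, 0] ∈ ⁅V, A⁆ ∧
      W 0 = 1 ∧ ∀ (g : ↥(A ⊔ cjS x A)) c, (g : G) * W c * (g : G)⁻¹ = W ((σ g).1 *ᵥ c) := by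
  classical
  obtain ⟨W, hinj, hadd, hmem, hsurj, hL₁, hL₂⟩ := P.exists_coord
  have hW0 : W 0 = 1 := by simpa using hadd 0 0
  have hpow : ∀ a (i : ℕ), W a ^ i = W (i • a) := fun a i => by
    induction i with
    | zero => simp [hW0]
    | succ i ih => rw [pow_succ, ih, succ_nsmul, hadd]
  have hexp : ∀ c : Fin 2 → ZMod p, W c = W ![1, 0] ^ (c 0).val * W ![0, 1] ^ (c 1).val := fun c => by
    rw [hpow, hpow, ← hadd]
    congr 1
    funext i; fin_cases i <;> simp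
  have hne₁ : W ![1, 0] ≠ 1 := fun h => by
    rw [← hW0] at h; simpa using congrFun (hinj h) 0
  have hne₂ : W ![0, 1] ≠ 1 := fun h => by
    rw [← hW0] at h; simpa using congrFun (hinj h) 1
  -- the action of the generators
  have upA : ∀ a ∈ A, ∃ t, ∀ c, a * W c * a⁻¹ = W ((Dickson.upU t).1 *ᵥ c) := by
    intro a ha
    have hfix : a * W ![1, 0] * a⁻¹ = W ![1, 0] := by
      rw [← P.tg.line_fix P.ctx.elem hL₁ ha, mul_inv_cancel_right]
    have hm := inv_mem (P.tg.comm_mem (P.tgB.line_le hL₂) ha)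
    rw [← eq_zpowers_of_mem P.tg.comm hL₁ hne₁] at hm
    obtain ⟨i, hi⟩ := (isOfFinOrder_of_finite (W ![1, 0])).mem_powers_iff_mem_zpowers.2 hm
    have hb : a * W ![0, 1] * a⁻¹ = W ![(i : ZMod p), 1] := by
      have e : a * W ![0, 1] * a⁻¹ = ⁅W ![0, 1], a⁆⁻¹ * W ![0, 1] := by simp [commutatorElement_def, mul_assoc]
      rw [e, ← show W ![1, 0] ^ i = ⁅W ![0, 1], a⁆⁻¹ from hi, hpow, ← hadd]
      congr 1; funext j; fin_cases j <;> simp
    refine ⟨i, fun c => ?_⟩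
    rw [hexp c, ← conj_mul, ← conj_pow, ← conj_pow, hfix, hb, hpow, hpow, ← hadd]
    congr 1
    funext j; fin_cases j <;> simp [mulVec, dotProduct, Fin.sum_univ_two, mul_comm]
  have lowB : ∀ b ∈ cjS x A, ∃ t, ∀ c, b * W c * b⁻¹ = W ((Dickson.lowL t).1 *ᵥ c) := by
    intro b hb
    have hfix : b * W ![0, 1] * b⁻¹ = W ![0, 1] := by
      rw [← P.tgB.line_fix P.ctx.elem hL₂ hb, mul_inv_cancel_right]
    have hm := inv_mem (P.tgB.comm_mem (P.tg.line_le hL₁) hb)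
    rw [← eq_zpowers_of_mem P.tgB.comm hL₂ hne₂] at hm
    obtain ⟨i, hi⟩ := (isOfFinOrder_of_finite (W ![0, 1])).mem_powers_iff_mem_zpowers.2 hm
    have hb' : b * W ![1, 0] * b⁻¹ = W ![1, (i : ZMod p)] := by
      have e : b * W ![1, 0] * b⁻¹ = ⁅W ![1, 0], b⁆⁻¹ * W ![1, 0] := by simp [commutatorElement_def, mul_assoc]
      rw [e, ← show W ![0, 1] ^ i = ⁅W ![1, 0], b⁆⁻¹ from hi, hpow, ← hadd]
      congr 1; funext j; fin_cases j <;> simp
    refine ⟨i, fun c => ?_⟩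
    rw [hexp c, ← conj_mul, ← conj_pow, ← conj_pow, hfix, hb', hpow, hpow, ← hadd]
    congr 1
    funext j; fin_cases j <;> simp [mulVec, dotProduct, Fin.sum_univ_two, mul_comm]
  let Y : Subgroup G :=
    { carrier := {y | ∃ R : Matrix.SpecialLinearGroup (Fin 2) (ZMod p), ∀ c, y * W c * y⁻¹ = W (R.1 *ᵥ c)}
      one_mem' := ⟨1, fun c => by simp⟩
      mul_mem' := by
        rintro a b ⟨R, hR⟩ ⟨S, hS⟩
        refine ⟨R * S, fun c => ?_⟩
        show a * b * W c * (a * b)⁻¹ = W ((R.1 * S.1) *ᵥ c)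
        rw [← mulVec_mulVec, ← hR, ← hS]; group
      inv_mem' := by
        rintro a ⟨R, hR⟩
        refine ⟨R⁻¹, fun c => ?_⟩
        have h := hR ((R⁻¹).1 *ᵥ c)
        rw [mulVec_mulVec, show R.1 * (R⁻¹).1 = 1 from congrArg Subtype.val (mul_inv_cancel R), one_mulVec] at h
        rw [← h]; group }
  have hEY : A ⊔ cjS x A ≤ Y := sup_le
    (fun a ha => (upA a ha).elim fun t ht => ⟨_, ht⟩) (fun b hb => (lowB b hb).elim fun t ht => ⟨_, ht⟩)
  have hex : ∀ g : ↥(A ⊔ cjS x A), ∃ R : Matrix.SpecialLinearGroup (Fin 2) (ZMod p),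
      ∀ c, (g : G) * W c * (g : G)⁻¹ = W (R.1 *ᵥ c) := fun g => hEY g.2
  choose τ hτ using hex
  have huniq : ∀ (g : ↥(A ⊔ cjS x A)) (R : Matrix.SpecialLinearGroup (Fin 2) (ZMod p)),
      (∀ c, (g : G) * W c * (g : G)⁻¹ = W (R.1 *ᵥ c)) → τ g = R := fun g R h =>
    Subtype.ext (Matrix.ext_iff_mulVec.2 fun c => hinj ((hτ g c).symm.trans (h c)))
  let σ₀ : ↥(A ⊔ cjS x A) →* Matrix.SpecialLinearGroup (Fin 2) (ZMod p) :=
    MonoidHom.mk' τ fun a b => huniq _ _ fun c => by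
      show (a : G) * b * W c * ((a : G) * b)⁻¹ = W (((τ a).1 * (τ b).1) *ᵥ c)
      rw [← mulVec_mulVec, ← hτ, ← hτ]; group
  have hσinj : Function.Injective σ₀ := by
    rw [injective_iff_map_eq_one]
    intro g hg
    refine Subtype.ext (P.faith g.2 fun w hw => ?_)
    obtain ⟨c, rfl⟩ := hsurj w hw
    have h := hτ g c
    rw [show τ g = 1 from hg, Matrix.SpecialLinearGroup.coe_one, one_mulVec, mul_inv_eq_iff_eq_mul] at h
    exact h.symm
  have honto : ∀ (X : Subgroup G) (hX : X ≤ A ⊔ cjS x A), Nat.card X = p →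
      ∀ f : ZMod p → Matrix.SpecialLinearGroup (Fin 2) (ZMod p), (∀ g ∈ X, ∃ t, ∀ c, g * W c * g⁻¹ = W ((f t).1 *ᵥ c)) →
      ∀ t, f t ∈ σ₀.range := by
    intro X hX hcard f hf t
    choose τX hτX using fun g : X => hf g g.2
    have hval : ∀ g : X, σ₀ ⟨g, hX g.2⟩ = f (τX g) := fun g => huniq _ _ (hτX g)
    have hbij : Function.Bijective τX := by
      refine (Nat.bijective_iff_injective_and_card τX).2 ⟨fun a b hab => ?_, by rw [hcard, Nat.card_zmod]⟩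
      have h := hσinj ((hval a).trans ((congrArg f hab).trans (hval b).symm))
      exact Subtype.ext (congrArg (fun g : ↥(A ⊔ cjS x A) => (g : G)) h)
    obtain ⟨g, rfl⟩ := hbij.2 t
    exact ⟨_, hval g⟩
  have hσsurj : Function.Surjective σ₀ := fun M =>
    sl2_mem_of_elementary σ₀.range (honto A le_sup_left P.tg.card _ upA)
      (honto _ le_sup_right P.tgB.card _ lowB) M
  exact ⟨W, MulEquiv.ofBijective σ₀ ⟨hσinj, hσsurj⟩, hinj, hsurj, hL₁, hW0, fun g c => hτ g c⟩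

/-- The plane and the fixed points split `V`. -/
theorem TPair.fix_inf (P : TPair p V H A x) :
    (⁅V, A⁆ ⊔ ⁅V, cjS x A⁆) ⊓ Subgroup.centralizer ((A ⊔ cjS x A : Subgroup G) : Set G) = ⊥ := by
  obtain ⟨W, σ, hinj, hsurj, -, hW0, hact⟩ := P.exists_natural
  refine eq_bot_iff.2 fun w hw => Subgroup.mem_bot.2 ?_
  obtain ⟨c, rfl⟩ := hsurj w hw.1
  have hall : ∀ R : Matrix.SpecialLinearGroup (Fin 2) (ZMod p), R.1 *ᵥ c = c := by
    intro R
    obtain ⟨g, rfl⟩ := σ.surjective R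
    apply hinj
    rw [← hact, Subgroup.mem_centralizer_iff.1 hw.2 g g.2, mul_inv_cancel_right]
  have h1 := congrFun (hall (Dickson.upU 1)) 0
  have h2 := congrFun (hall (Dickson.lowL 1)) 1
  simp [mulVec, dotProduct, Fin.sum_univ_two] at h1 h2
  rw [show c = 0 from funext fun i => by fin_cases i <;> simpa, hW0]

theorem TPair.fix_sup (P : TPair p V H A x) :
    (⁅V, A⁆ ⊔ ⁅V, cjS x A⁆) ⊔ (V ⊓ Subgroup.centralizer ((A ⊔ cjS x A : Subgroup G) : Set G)) = V := by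
  set W := ⁅V, A⁆ ⊔ ⁅V, cjS x A⁆
  set C := V ⊓ Subgroup.centralizer ((A ⊔ cjS x A : Subgroup G) : Set G) with hC
  refine Subgroup.eq_of_le_of_card_ge (sup_le P.plane_le inf_le_left) ?_
  have hle : (V ⊓ Subgroup.centralizer (A : Set G)) ⊓ (V ⊓ Subgroup.centralizer ((cjS x A : Subgroup G) : Set G)) ≤ C := by
    intro v hv
    refine ⟨hv.1.1, Subgroup.mem_centralizer_iff.2 fun g hg => ?_⟩
    have hs : A ⊔ cjS x A ≤ Subgroup.centralizer ({v} : Set G) := by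
      refine sup_le (fun a ha => ?_) fun a ha => ?_ <;> rw [Subgroup.mem_centralizer_singleton_iff]
      · exact Subgroup.mem_centralizer_iff.1 hv.1.2 a ha
      · exact Subgroup.mem_centralizer_iff.1 hv.2.2 a ha
    exact Subgroup.mem_centralizer_singleton_iff.1 (hs hg)
  have h1 : C.relIndex V ≤ p * p := by
    refine le_trans (Nat.le_of_dvd ?_ (Subgroup.relIndex_dvd_of_le_left V hle)) ?_
    · exact Nat.pos_of_ne_zero Subgroup.index_ne_zero_of_finite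
    · exact Subgroup.relIndex_inf_le.trans_eq (by rw [P.tg.idx, P.tgB.idx])
  have h2 := card_mul_relIndex_of_le (inf_le_left : C ≤ V)
  have hinf : W ⊓ C = ⊥ := le_bot_iff.1 (P.fix_inf ▸ inf_le_inf_left W inf_le_right)
  have h3 : Nat.card W * Nat.card C ≤ Nat.card ↥(W ⊔ C) := by
    have hinj : Function.Injective (fun q : W × C => (⟨(q.1 : G) * q.2, mul_mem
        (Subgroup.mem_sup_left q.1.2) (Subgroup.mem_sup_right q.2.2)⟩ : ↥(W ⊔ C))) := fun a b h =>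
      Subgroup.mul_injective_of_disjoint (disjoint_iff.2 hinf) (congrArg Subtype.val h)
    rw [← Nat.card_prod]
    exact Nat.card_le_card_of_injective _ hinj
  calc Nat.card V = Nat.card C * C.relIndex V := h2.symm
    _ ≤ Nat.card C * (p * p) := Nat.mul_le_mul_left _ h1
    _ = Nat.card W * Nat.card C := by rw [P.card_plane, pow_two, mul_comm]
    _ ≤ _ := h3

/-- Any vector of the plane is moved to any other by an element of the core. -/
theorem TPair.exists_center (P : TPair p V H A x) {w : G} (hw : w ∈ ⁅V, A⁆ ⊔ ⁅V, cjS x A⁆) (hw1 : w ≠ 1) :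
    ∃ r ∈ coreIn p H, cjS r A ≤ A ⊔ cjS x A ∧ w ∈ ⁅V, cjS r A⁆ := by
  obtain ⟨W, σ, -, hsurj, hL₁, hW0, hact⟩ := P.exists_natural
  obtain ⟨c, rfl⟩ := hsurj w hw
  obtain ⟨M, hM⟩ : ∃ M : Matrix.SpecialLinearGroup (Fin 2) (ZMod p), M.1 *ᵥ ![1, 0] = c := by
    by_cases h0 : c 0 = 0
    · have h1 : c 1 ≠ 0 := fun h1 => hw1 (by
        rw [show c = 0 from funext fun i => by fin_cases i <;> simpa, hW0])
      refine ⟨⟨!![c 0, -(c 1)⁻¹; c 1, 0], by simp [Matrix.det_fin_two, h1]⟩, funext fun i => ?_⟩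
      fin_cases i <;> simp [mulVec, dotProduct, Fin.sum_univ_two]
    · refine ⟨⟨!![c 0, 0; c 1, (c 0)⁻¹], by simp [Matrix.det_fin_two, h0]⟩, funext fun i => ?_⟩
      fin_cases i <;> simp [mulVec, dotProduct, Fin.sum_univ_two]
  obtain ⟨g, rfl⟩ := σ.surjective M
  obtain ⟨a, ha, r, hr, hg⟩ := mem_sup_core P.le (P.sup_le_AR g.2)
  have e : cjS (g : G) A = cjS (a * r * a⁻¹) A := by
    conv_rhs => rw [← map_conj_self (Subgroup.le_normalizer ha) (X := A)]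
    show Subgroup.map _ A = Subgroup.map _ (Subgroup.map _ A)
    rw [Subgroup.map_map]
    congr 1
    refine MonoidHom.ext fun y => ?_
    simp [← hg, mul_assoc]
  refine ⟨a * r * a⁻¹, coreIn_conj (P.le ha) hr, ?_, ?_⟩
  · rw [← e]
    rintro _ ⟨y, hy, rfl⟩
    exact mul_mem (mul_mem g.2 (Subgroup.mem_sup_left hy)) (inv_mem g.2)
  · rw [← e, ← hM, ← hact]
    have h := Subgroup.mem_map_of_mem (MulAut.conj (g : G)).toMonoidHom hL₁
    rw [Subgroup.map_commutator, map_conj_self (P.ctx.norm (P.sup_le_H g.2))] at h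
    exact h

/-- All conjugates under the core lie in the pair. -/
theorem TPair.conj_le (P : TPair p V H A x) {y : G} (hy : y ∈ coreIn p H) : cjS y A ≤ A ⊔ cjS x A := by
  have t : TGrp p V (cjS y A) := P.tg.conj (P.ctx.norm (coreIn_le hy))
  set W := ⁅V, A⁆ ⊔ ⁅V, cjS x A⁆ with hW
  have hne : W ⊓ Subgroup.centralizer ((cjS y A : Subgroup G) : Set G) ≠ ⊥ := by
    intro h
    have h1 : (V ⊓ Subgroup.centralizer ((cjS y A : Subgroup G) : Set G)).relIndex W ≤ p :=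
      (Subgroup.relIndex_le_of_le_right P.plane_le (by rw [t.idx]; exact hp.out.ne_zero)).trans_eq t.idx
    have h2 : (V ⊓ Subgroup.centralizer ((cjS y A : Subgroup G) : Set G)).relIndex W = Nat.card W := by
      rw [← Subgroup.inf_relIndex_right, inf_comm, ← inf_assoc, inf_eq_left.2 P.plane_le, h,
        Subgroup.relIndex_bot_left]
    rw [h2, P.card_plane] at h1
    nlinarith [hp.out.two_le]
  obtain ⟨w, ⟨hwW, hwC⟩, hw1⟩ := (W ⊓ _).bot_or_exists_ne_one.resolve_left hne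
  obtain ⟨r, hr, hrE, hwr⟩ := P.exists_center hwW hw1
  by_cases he : cjS y A = cjS r A
  · rw [he]; exact hrE
  exfalso
  have hcomp : cjS (r * y⁻¹) (cjS y A) = cjS r A := by
    show Subgroup.map _ (Subgroup.map _ A) = Subgroup.map _ A
    rw [Subgroup.map_map]
    congr 1
    exact MonoidHom.ext fun z => by simp [mul_assoc]
  have P' : TPair p V H (cjS y A) (r * y⁻¹) := ⟨P.ctx, t,
    fun z hz => by
      obtain ⟨a, ha, rfl⟩ := hz
      exact mul_mem (mul_mem (coreIn_le hy) (P.le ha)) (inv_mem (coreIn_le hy)),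
    mul_mem hr (inv_mem hy), fun e => he (e.symm.trans hcomp)⟩
  exact hw1 (P'.not_fix_line (by show w ∈ ⁅V, cjS (r * y⁻¹) (cjS y A)⁆; rw [hcomp]; exact hwr)
    fun a ha => (Subgroup.mem_centralizer_iff.1 hwC a ha).symm)

theorem OffCtx.exists_pair (c : OffCtx p V H) (t : TGrp p V A) (hA : A ≤ H) :
    ∃ x, TPair p V H A x := by
  have hel : IsElementaryAbelian p A := by
    refine ⟨⟨⟨fun a b => ?_⟩⟩, fun a ha => t.pow_eq ha⟩
    haveI := isCyclic_of_prime_card t.card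
    exact IsCyclic.commGroup.mul_comm a b
  obtain ⟨-, -, -, -, hbot⟩ := OffCtx.conditions c hA hel
  by_contra hcon
  push Not at hcon
  have hall : A ≤ A ⊓ Subgroup.centralizer ((coreIn p H : Subgroup G) : Set G) := by
    intro a ha
    refine ⟨ha, Subgroup.mem_centralizer_iff.2 fun r hr => ?_⟩
    have he : Subgroup.map (MulAut.conj r).toMonoidHom A = A := by
      by_contra hne
      exact hcon r ⟨c, t, hA, hr, hne⟩
    have h1 : r * a * r⁻¹ * a⁻¹ ∈ A := mul_mem (he ▸ Subgroup.mem_map_of_mem _ ha) (inv_mem ha)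
    have h2 : r * a * r⁻¹ * a⁻¹ ∈ coreIn p H := by
      rw [show r * a * r⁻¹ * a⁻¹ = r * (a * r⁻¹ * a⁻¹) by group]
      exact mul_mem hr (coreIn_conj (hA ha) (inv_mem hr))
    have h3 := coreIn_eq_one h2 (t.pow_eq h1)
    exact mul_comm_of_comm_eq_one (by rwa [commutatorElement_def])
  rw [hbot, le_bot_iff] at hall
  have := t.card
  rw [hall, Subgroup.card_bot] at this
  exact hp.out.ne_one this.symm

theorem TPair.of_not_mem (c : OffCtx p V H) (t : TGrp p V A) (hA : A ≤ H) {y : G} (hy : y ∈ coreIn p H)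
    (hyA : y ∉ Subgroup.centralizer (A : Set G)) : TPair p V H A y := by
  refine ⟨c, t, hA, hy, fun he => hyA (Subgroup.mem_centralizer_iff.2 fun a ha => ?_)⟩
  have h1 : y * a * y⁻¹ * a⁻¹ ∈ A := mul_mem (he ▸ Subgroup.mem_map_of_mem _ ha) (inv_mem ha)
  have h2 : y * a * y⁻¹ * a⁻¹ ∈ coreIn p H := by
    rw [show y * a * y⁻¹ * a⁻¹ = y * (a * y⁻¹ * a⁻¹) by group]
    exact mul_mem hy (coreIn_conj (hA ha) (inv_mem hy))
  exact (mul_comm_of_comm_eq_one (by rw [commutatorElement_def]; exact coreIn_eq_one h2 (t.pow_eq h1))).symm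

theorem TPair.sup_eq (P : TPair p V H A x) : A ⊔ cjS x A = ⁅coreIn p H, A⁆ ⊔ A := by
  refine le_antisymm (sup_le le_sup_right ?_) (sup_le (Subgroup.commutator_le.2 fun r hr a ha => ?_) le_sup_left)
  · rintro _ ⟨a, ha, rfl⟩
    show x * a * x⁻¹ ∈ _
    rw [show x * a * x⁻¹ = ⁅x, a⁆ * a by simp [commutatorElement_def, mul_assoc]]
    exact mul_mem (Subgroup.mem_sup_left (Subgroup.commutator_mem_commutator P.mem ha)) (Subgroup.mem_sup_right ha)
  · rw [commutatorElement_def]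
    exact mul_mem (P.conj_le hr ⟨a, ha, rfl⟩) (inv_mem (Subgroup.mem_sup_left ha))

theorem TPair.comm_le (P : TPair p V H A x) : ⁅coreIn p H, A⁆ ≤ (A ⊔ cjS x A) ⊓ coreIn p H :=
  le_inf (P.sup_eq ▸ le_sup_left) (Subgroup.commutator_le.2 fun r hr a ha => by
    rw [commutatorElement_def, show r * a * r⁻¹ * a⁻¹ = r * (a * r⁻¹ * a⁻¹) by group]
    exact mul_mem hr (coreIn_conj (P.le ha) (inv_mem hr)))

/-- The part in the core is the normal complement of `A`. -/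
theorem TPair.exists_comm_mul (P : TPair p V H A x) {g : G} (hg : g ∈ A ⊔ cjS x A) :
    ∃ a ∈ A, ∃ r ∈ ⁅coreIn p H, A⁆, a * r = g := by
  have hn : A ≤ Subgroup.normalizer ((⁅coreIn p H, A⁆ : Subgroup G) : Set G) := fun a ha => by
    refine mem_normalizer_of_cj_le ?_
    show Subgroup.map _ ⁅coreIn p H, A⁆ ≤ _
    rw [Subgroup.map_commutator, map_conj_self (Subgroup.le_normalizer ha)]
    refine Subgroup.commutator_mono ?_ le_rfl
    rintro _ ⟨r, hr, rfl⟩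
    exact coreIn_conj (P.le ha) hr
  rw [P.sup_eq, sup_comm] at hg
  have h2 : g ∈ ((A ⊔ ⁅coreIn p H, A⁆ : Subgroup G) : Set G) := hg
  rw [Subgroup.coe_mul_of_left_le_normalizer_right _ _ hn] at h2
  exact Set.mem_mul.1 h2

theorem TPair.le_two_three (P : TPair p V H A x) : p = 2 ∨ p = 3 := by
  by_contra h
  push Not at h
  obtain ⟨W, σ, -, -, -, -, -⟩ := P.exists_natural
  -- commutators of the pair lie in the core
  have hcomm : ∀ g h : ↥(A ⊔ cjS x A), ((⁅g, h⁆ : ↥(A ⊔ cjS x A)) : G) ∈ coreIn p H := by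
    intro g h
    obtain ⟨a, ha, r, hr, hgr⟩ := mem_sup_core P.le (P.sup_le_AR g.2)
    obtain ⟨b, hb, s, hs, hhs⟩ := mem_sup_core P.le (P.sup_le_AR h.2)
    have hab : a * b = b * a := by
      haveI := isCyclic_of_prime_card P.tg.card
      exact congrArg Subtype.val (IsCyclic.commGroup.mul_comm (⟨a, ha⟩ : A) ⟨b, hb⟩)
    show (g : G) * h * (g : G)⁻¹ * (h : G)⁻¹ ∈ _
    rw [← hgr, ← hhs]
    have e : a * r * (b * s) * (a * r)⁻¹ * (b * s)⁻¹ = (a * r * a⁻¹) * ((a * b) * s * (a * b)⁻¹) *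
        ((a * b) * r⁻¹ * (a * b)⁻¹) * (a * b * a⁻¹ * s⁻¹ * b⁻¹) := by group
    rw [e, show a * b * a⁻¹ = b by rw [hab, mul_inv_cancel_right]]
    exact mul_mem (mul_mem (mul_mem (coreIn_conj (P.le ha) hr)
      (coreIn_conj (mul_mem (P.le ha) (P.le hb)) hs)) (coreIn_conj (mul_mem (P.le ha) (P.le hb)) (inv_mem hr)))
      (coreIn_conj (P.le hb) (inv_mem hs))
  have hp3 : 5 ≤ p := by
    have := hp.out.two_le
    rcases Nat.lt_or_ge p 5 with h5 | h5
    · interval_cases p <;> simp_all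
      exact absurd hp.out (by decide)
    · exact h5
  have h3 : (3 : ZMod p) ≠ 0 := by
    rw [show (3 : ZMod p) = ((3 : ℕ) : ZMod p) by norm_num, Ne, ZMod.natCast_eq_zero_iff]
    exact fun hd => absurd (Nat.le_of_dvd (by norm_num) hd) (by omega)
  have h2 : (2 : ZMod p) ≠ 0 := by
    rw [show (2 : ZMod p) = ((2 : ℕ) : ZMod p) by norm_num, Ne, ZMod.natCast_eq_zero_iff]
    exact fun hd => absurd (Nat.le_of_dvd (by norm_num) hd) (by omega)
  let D : Matrix.SpecialLinearGroup (Fin 2) (ZMod p) :=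
    ⟨!![2, 0; 0, 2⁻¹], by simp [Matrix.det_fin_two, h2]⟩
  obtain ⟨d, hd⟩ := σ.surjective D
  obtain ⟨u, hu⟩ := σ.surjective (Dickson.upU (3⁻¹ : ZMod p))
  have e : σ ⁅d, u⁆ = Dickson.upU 1 := by
    rw [map_commutatorElement, hd, hu, commutatorElement_def, mul_inv_eq_iff_eq_mul, mul_inv_eq_iff_eq_mul,
      Dickson.upU_mul]
    refine Subtype.ext (Matrix.ext fun i j => ?_)
    rw [Dickson.mul_entry, Dickson.mul_entry]
    fin_cases i <;> fin_cases j <;> simp [D, Dickson.upU] <;> field_simp <;> ring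
  have h1 : ((⁅d, u⁆ : ↥(A ⊔ cjS x A)) : G) = 1 := coreIn_eq_one (hcomm d u) (by
    have : (⁅d, u⁆ : ↥(A ⊔ cjS x A)) ^ p = 1 := σ.injective (by
      rw [map_pow, e, map_one, Dickson.upU_pow, ZMod.natCast_self, zero_mul, Dickson.upU_zero])
    exact congrArg Subtype.val this)
  rw [show (⁅d, u⁆ : ↥(A ⊔ cjS x A)) = 1 from Subtype.ext h1, map_one] at e
  simpa [Dickson.one_entries] using congrArg (fun M : Matrix.SpecialLinearGroup (Fin 2) (ZMod p) => M.1 0 1) e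

theorem TPair.core_norm (P : TPair p V H A x) {r g : G} (hr : r ∈ coreIn p H) (hg : g ∈ A ⊔ cjS x A) :
    r * g * r⁻¹ ∈ A ⊔ cjS x A := by
  have h : (A ⊔ cjS x A).map (MulAut.conj r).toMonoidHom ≤ A ⊔ cjS x A := by
    rw [Subgroup.map_sup]
    refine sup_le (P.conj_le hr) ?_
    show Subgroup.map _ (Subgroup.map _ A) ≤ _
    rw [Subgroup.map_map]
    refine le_trans (le_of_eq ?_) (P.conj_le (mul_mem hr P.mem))
    congr 1
    exact MonoidHom.ext fun z => by simp [mul_assoc]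
  exact h ⟨g, hg, rfl⟩

theorem TPair.core_plane (P : TPair p V H A x) {r w : G} (hr : r ∈ coreIn p H)
    (hw : w ∈ ⁅V, A⁆ ⊔ ⁅V, cjS x A⁆) : r * w * r⁻¹ ∈ ⁅V, A⁆ ⊔ ⁅V, cjS x A⁆ := by
  rw [← P.comm_eq] at hw ⊢
  have h : (⁅V, A ⊔ cjS x A⁆).map (MulAut.conj r).toMonoidHom ≤ ⁅V, A ⊔ cjS x A⁆ := by
    rw [Subgroup.map_commutator, map_conj_self (P.ctx.norm (coreIn_le hr))]
    exact Subgroup.commutator_mono le_rfl (by rintro _ ⟨g, hg, rfl⟩; exact P.core_norm hr hg)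
  exact h ⟨w, hw, rfl⟩

theorem TPair.core_fix (P : TPair p V H A x) {r v : G} (hr : r ∈ coreIn p H)
    (hv : v ∈ V ⊓ Subgroup.centralizer ((A ⊔ cjS x A : Subgroup G) : Set G)) :
    r * v * r⁻¹ ∈ V ⊓ Subgroup.centralizer ((A ⊔ cjS x A : Subgroup G) : Set G) := by
  refine ⟨(Subgroup.mem_normalizer_iff.1 (P.ctx.norm (coreIn_le hr)) v).1 hv.1,
    Subgroup.mem_centralizer_iff.2 fun g hg => ?_⟩
  have h := Subgroup.mem_centralizer_iff.1 hv.2 (r⁻¹ * g * r) (by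
    simpa using P.core_norm (inv_mem hr) hg)
  calc g * (r * v * r⁻¹) = r * (r⁻¹ * g * r * v) * r⁻¹ := by group
    _ = r * (v * (r⁻¹ * g * r)) * r⁻¹ := by rw [h]
    _ = _ := by group

/-- The core acts irreducibly on the plane. -/
theorem TPair.plane_irred (P : TPair p V H A x) {X : Subgroup G} (hXW : X ≤ ⁅V, A⁆ ⊔ ⁅V, cjS x A⁆)
    (hX : ∀ r ∈ coreIn p H, ∀ v ∈ X, r * v * r⁻¹ ∈ X) (hX1 : X ≠ ⊥) : X = ⁅V, A⁆ ⊔ ⁅V, cjS x A⁆ := by
  obtain ⟨w, hw, hw1⟩ := X.bot_or_exists_ne_one.resolve_left hX1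
  obtain ⟨r, hr, -, hwr⟩ := P.exists_center (hXW hw) hw1
  have hAX : ⁅V, A⁆ ≤ X := by
    intro v hv
    have h1 : r * v * r⁻¹ ∈ ⁅V, cjS r A⁆ := by
      have h := Subgroup.mem_map_of_mem (MulAut.conj r).toMonoidHom hv
      rw [Subgroup.map_commutator, map_conj_self (P.ctx.norm (coreIn_le hr))] at h
      exact h
    have h2 : r * v * r⁻¹ ∈ X := by
      rw [← eq_zpowers_of_mem (P.tg.conj (P.ctx.norm (coreIn_le hr))).comm hwr hw1] at h1
      exact Subgroup.zpowers_le.2 hw h1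
    have h3 := hX r⁻¹ (inv_mem hr) _ h2
    rwa [inv_inv, show r⁻¹ * (r * v * r⁻¹) * r = v by group] at h3
  refine le_antisymm hXW (sup_le hAX ?_)
  rw [← map_conj_self (P.ctx.norm (coreIn_le P.mem)), ← Subgroup.map_commutator]
  rintro _ ⟨v, hv, rfl⟩
  exact hX x P.mem v (hAX hv)

/-- The fixed points of the commutator with the core are those of the pair. -/
theorem TPair.fix_of_comm (P : TPair p V H A x) {v : G} (hv : v ∈ V)
    (h : ∀ q ∈ ⁅coreIn p H, A⁆, v * q = q * v) :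
    v ∈ V ⊓ Subgroup.centralizer ((A ⊔ cjS x A : Subgroup G) : Set G) := by
  set W := ⁅V, A⁆ ⊔ ⁅V, cjS x A⁆ with hW
  set C := V ⊓ Subgroup.centralizer ((A ⊔ cjS x A : Subgroup G) : Set G) with hC
  let X : Subgroup G := W ⊓ Subgroup.centralizer ((⁅coreIn p H, A⁆ : Subgroup G) : Set G)
  have hQn : ∀ r ∈ coreIn p H, (⁅coreIn p H, A⁆).map (MulAut.conj r).toMonoidHom ≤ ⁅coreIn p H, A⁆ := by
    intro r hr
    rw [Subgroup.map_le_iff_le_comap, Subgroup.commutator_le]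
    intro s hs a ha
    show r * ⁅s, a⁆ * r⁻¹ ∈ ⁅coreIn p H, A⁆
    rw [show r * ⁅s, a⁆ * r⁻¹ = ⁅r * s, a⁆ * ⁅r, a⁆⁻¹ by simp [commutatorElement_def, mul_assoc]]
    exact mul_mem (Subgroup.commutator_mem_commutator (mul_mem hr hs) ha)
      (inv_mem (Subgroup.commutator_mem_commutator hr ha))
  have hX : X = ⊥ := by
    by_contra hne
    have hXW := P.plane_irred (X := X) inf_le_left (fun r hr z hz => ⟨P.core_plane hr hz.1,
      Subgroup.mem_centralizer_iff.2 fun q hq => by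
        have h4 := Subgroup.mem_centralizer_iff.1 hz.2 (r⁻¹ * q * r) (by
          simpa using hQn _ (inv_mem hr) ⟨q, hq, rfl⟩)
        calc q * (r * z * r⁻¹) = r * (r⁻¹ * q * r * z) * r⁻¹ := by group
          _ = r * (z * (r⁻¹ * q * r)) * r⁻¹ := by rw [h4]
          _ = _ := by group⟩) hne
    have hQ : ⁅coreIn p H, A⁆ = ⊥ := eq_bot_iff.2 fun q hq => Subgroup.mem_bot.2
      (P.faith (P.comm_le hq).1 fun w hw => by
        have : w ∈ X := hXW ▸ hw
        exact (Subgroup.mem_centralizer_iff.1 this.2 q hq).symm)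
    exact P.ne (eq_of_prime_card P.tg.card
      (fun z hz => by
        obtain ⟨a, ha, rfl⟩ := hz
        show x * a * x⁻¹ ∈ A
        have := Subgroup.mem_bot.1 (hQ ▸ Subgroup.commutator_mem_commutator P.mem ha)
        rw [commutatorElement_def, mul_inv_eq_one] at this
        rw [this]; exact ha)
      (fun e => by
        have := (P.tgB).card
        rw [show cjS x A = ⊥ from e, Subgroup.card_bot] at this
        exact hp.out.ne_one this.symm))
  have hvV : v ∈ W ⊔ C := by rw [P.fix_sup]; exact hv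
  obtain ⟨w, hw, c, hc, rfl⟩ : ∃ w ∈ W, ∃ c ∈ C, w * c = v := by
    have hn : W ≤ Subgroup.normalizer (C : Set G) := fun w hw => mem_normalizer_of_cj_le (by
      rintro _ ⟨c, hc, rfl⟩
      show w * c * w⁻¹ ∈ C
      rw [Local.elemAb_commute P.ctx.elem (P.plane_le hw) hc.1, mul_inv_cancel_right]; exact hc)
    have h2 : v ∈ ((W ⊔ C : Subgroup G) : Set G) := hvV
    rw [Subgroup.coe_mul_of_left_le_normalizer_right _ _ hn] at h2
    exact Set.mem_mul.1 h2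
  have hwX : w ∈ X := ⟨hw, Subgroup.mem_centralizer_iff.2 fun q hq => by
    have h1 := h q hq
    have h2 : q * c = c * q := Subgroup.mem_centralizer_iff.1 hc.2 q (P.comm_le hq).1
    refine mul_right_cancel (b := c) ?_
    rw [mul_assoc w q c, h2, ← mul_assoc, h1, mul_assoc]⟩
  rw [hX, Subgroup.mem_bot] at hwX
  rw [hwX, one_mul]; exact hc

/-- Another transvection group preserves the splitting. -/
theorem TPair.preserves (P : TPair p V H A x) {B : Subgroup G} (t : TGrp p V B) (hB : B ≤ H) {b : G}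
    (hb : b ∈ B) :
    (∀ w ∈ ⁅V, A⁆ ⊔ ⁅V, cjS x A⁆, b * w * b⁻¹ ∈ ⁅V, A⁆ ⊔ ⁅V, cjS x A⁆) ∧
      ∀ v ∈ V ⊓ Subgroup.centralizer ((A ⊔ cjS x A : Subgroup G) : Set G),
        b * v * b⁻¹ ∈ V ⊓ Subgroup.centralizer ((A ⊔ cjS x A : Subgroup G) : Set G) := by
  set W := ⁅V, A⁆ ⊔ ⁅V, cjS x A⁆ with hW
  set C := V ⊓ Subgroup.centralizer ((A ⊔ cjS x A : Subgroup G) : Set G) with hC
  have hWne : W ≠ ⊥ := fun h => P.tg.line_ne_bot (le_bot_iff.1 (h ▸ le_sup_left))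
  have inv : ∀ (S : Subgroup G), S ≤ V → (∀ r ∈ coreIn p H, ∀ v ∈ S, r * v * r⁻¹ ∈ S) → ∀ b ∈ B,
      ∀ r ∈ coreIn p H, ∀ v ∈ S.map (MulAut.conj b).toMonoidHom, r * v * r⁻¹ ∈ S.map (MulAut.conj b).toMonoidHom := by
    rintro S - hS b hb r hr _ ⟨v, hv, rfl⟩
    refine ⟨(b⁻¹ * r * b⁻¹⁻¹) * v * (b⁻¹ * r * b⁻¹⁻¹)⁻¹, hS _ (coreIn_conj (inv_mem (hB hb)) hr) v hv, ?_⟩
    simp [mul_assoc]
  have hWb : ∀ b ∈ B, W ≤ W.map (MulAut.conj b).toMonoidHom := by
    intro b hb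
    have hne : W ⊓ W.map (MulAut.conj b).toMonoidHom ≠ ⊥ := by
      intro h
      have hsub : W ⊓ (V ⊓ Subgroup.centralizer (B : Set G)) ≤ W ⊓ W.map (MulAut.conj b).toMonoidHom := by
        intro w hw
        refine ⟨hw.1, w, hw.1, ?_⟩
        show b * w * b⁻¹ = w
        rw [Subgroup.mem_centralizer_iff.1 hw.2.2 b hb, mul_inv_cancel_right]
      rw [h, le_bot_iff] at hsub
      have h1 : (V ⊓ Subgroup.centralizer (B : Set G)).relIndex W ≤ p :=
        (Subgroup.relIndex_le_of_le_right P.plane_le (by rw [t.idx]; exact hp.out.ne_zero)).trans_eq t.idx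
      rw [← Subgroup.inf_relIndex_right, inf_comm, hsub, Subgroup.relIndex_bot_left, P.card_plane] at h1
      nlinarith [hp.out.two_le]
    exact inf_eq_left.1 (P.plane_irred inf_le_left
      (fun r hr v hv => ⟨P.core_plane hr hv.1, inv W P.plane_le (fun r hr v hv => P.core_plane hr hv) b hb r hr v hv.2⟩) hne)
  have hWmem : ∀ b ∈ B, ∀ w ∈ W, b * w * b⁻¹ ∈ W := by
    intro b hb w hw
    obtain ⟨w', hw', e⟩ := hWb b⁻¹ (inv_mem hb) hw
    have e' : b⁻¹ * w' * b⁻¹⁻¹ = w := e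
    rw [← e', show b * (b⁻¹ * w' * b⁻¹⁻¹) * b⁻¹ = w' by group]; exact hw'
  refine ⟨hWmem b hb, fun v hv => ?_⟩
  set X := C.map (MulAut.conj b).toMonoidHom with hX
  have hXV : X ≤ V := by
    rintro _ ⟨z, hz, rfl⟩
    exact (Subgroup.mem_normalizer_iff.1 (t.norm hb) z).1 hz.1
  have hXinv : ∀ r ∈ coreIn p H, ∀ v ∈ X, r * v * r⁻¹ ∈ X :=
    inv C inf_le_left (fun r hr v hv => P.core_fix hr hv) b hb
  have hWX : W ⊓ X = ⊥ := by
    by_contra hne
    have h1 := P.plane_irred inf_le_left (fun r hr v hv => ⟨P.core_plane hr hv.1, hXinv r hr v hv.2⟩) hne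
    have h2 : W ≤ C := by
      intro w hw
      obtain ⟨z, hz, e⟩ := (inf_eq_left.1 h1) (hWmem b hb w hw)
      rwa [← (MulAut.conj b).injective e]
    exact hWne (le_bot_iff.1 (P.fix_inf ▸ le_inf le_rfl (h2.trans inf_le_right)))
  have hfix : ∀ z ∈ X, ∀ q ∈ ⁅coreIn p H, A⁆, z * q = q * z := by
    intro z hz q hq
    refine mul_comm_of_comm_eq_one ?_
    have h1 : ⁅z, q⁆ ∈ W := P.comm_mem_plane (hXV hz) (P.comm_le hq).1
    have h2 : ⁅z, q⁆ ∈ X := by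
      rw [commutatorElement_def, show z * q * z⁻¹ * q⁻¹ = z * (q * z⁻¹ * q⁻¹) by group]
      exact mul_mem hz (hXinv q (P.comm_le hq).2 _ (inv_mem hz))
    exact Subgroup.mem_bot.1 (hWX ▸ ⟨h1, h2⟩)
  exact P.fix_of_comm (hXV ⟨v, hv, rfl⟩) (hfix _ ⟨v, hv, rfl⟩)

/-- A transvection group lies in the pair or centralizes its plane. -/
theorem TPair.dichotomy (P : TPair p V H A x) {B : Subgroup G} (t : TGrp p V B) (hB : B ≤ H) :
    B ≤ A ⊔ cjS x A ∨ B ≤ H ⊓ Subgroup.centralizer ((⁅V, A⁆ ⊔ ⁅V, cjS x A⁆ : Subgroup G) : Set G) := by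
  set W := ⁅V, A⁆ ⊔ ⁅V, cjS x A⁆ with hW
  set C := V ⊓ Subgroup.centralizer ((A ⊔ cjS x A : Subgroup G) : Set G) with hC
  by_cases hfix : ∀ b ∈ B, ∀ w ∈ W, w * b = b * w
  · exact Or.inr (le_inf hB fun b hb => Subgroup.mem_centralizer_iff.2 (hfix b hb))
  left
  push Not at hfix
  obtain ⟨b₀, hb₀, w₀, hw₀, hne⟩ := hfix
  have hbne : b₀ ≠ 1 := fun e => hne (by rw [e, mul_one, one_mul])
  have hline_mem : ⁅w₀, b₀⁆ ∈ W := by
    rw [commutatorElement_def, show w₀ * b₀ * w₀⁻¹ * b₀⁻¹ = w₀ * (b₀ * w₀⁻¹ * b₀⁻¹) by group]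
    exact mul_mem hw₀ ((P.preserves t hB hb₀).1 _ (inv_mem hw₀))
  obtain ⟨ℓ, hℓ⟩ : ∃ ℓ, ℓ = ⁅w₀, b₀⁆ := ⟨_, rfl⟩
  have hℓ1 : ℓ ≠ 1 := fun e => hne (mul_comm_of_comm_eq_one (hℓ ▸ e))
  have hℓB : ℓ ∈ ⁅V, B⁆ := hℓ ▸ t.comm_mem (P.plane_le hw₀) hb₀
  have hline : ⁅V, B⁆ = Subgroup.zpowers ℓ := (eq_zpowers_of_mem t.comm hℓB hℓ1).symm
  have hBC : ∀ b ∈ B, ∀ v ∈ C, v * b = b * v := by
    intro b hb v hv
    refine mul_comm_of_comm_eq_one ?_
    have h1 : ⁅v, b⁆ ∈ W := by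
      have := t.comm_mem hv.1 hb
      rw [hline] at this
      exact Subgroup.zpowers_le.2 (hℓ ▸ hline_mem) this
    have h2 : ⁅v, b⁆ ∈ C := by
      rw [commutatorElement_def, show v * b * v⁻¹ * b⁻¹ = v * (b * v⁻¹ * b⁻¹) by group]
      exact mul_mem hv ((P.preserves t hB hb).2 _ (inv_mem hv))
    exact Subgroup.mem_bot.1 (P.fix_inf ▸ ⟨h1, h2.2⟩)
  obtain ⟨r, hr, hrE, hℓr⟩ := P.exists_center (hℓ ▸ hline_mem : ℓ ∈ W) hℓ1
  have tD : TGrp p V (cjS r A) := P.tg.conj (P.ctx.norm (coreIn_le hr))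
  have hDline : ⁅V, cjS r A⁆ = Subgroup.zpowers ℓ := (eq_zpowers_of_mem tD.comm hℓr hℓ1).symm
  have hw₀ℓ : W ≤ Subgroup.zpowers ℓ ⊔ Subgroup.zpowers w₀ := by
    refine (Subgroup.eq_of_le_of_card_ge (sup_le (Subgroup.zpowers_le.2 (hℓ ▸ hline_mem)) (Subgroup.zpowers_le.2 hw₀)) ?_).ge
    rw [P.card_plane]
    have hnot : w₀ ∉ Subgroup.zpowers ℓ := fun hm => by
      rw [← hline] at hm
      exact hne (t.line_fix P.ctx.elem hm hb₀)
    have hlt : Subgroup.zpowers ℓ < Subgroup.zpowers ℓ ⊔ Subgroup.zpowers w₀ :=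
      lt_of_le_of_ne le_sup_left fun e => hnot (e ▸ Subgroup.mem_sup_right (Subgroup.mem_zpowers _))
    have hle2 : Subgroup.zpowers ℓ ⊔ Subgroup.zpowers w₀ ≤ V :=
      sup_le (Subgroup.zpowers_le.2 (P.plane_le (hℓ ▸ hline_mem))) (Subgroup.zpowers_le.2 (P.plane_le hw₀))
    have h := mul_card_le_of_lt ((Local.elemAb_isPGroup P.ctx.elem).to_le hle2) hlt
    rw [show Nat.card ↥(Subgroup.zpowers ℓ) = p by rw [← hline, t.comm], ← pow_two] at h
    exact h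
  have hDfix : ∀ d ∈ cjS r A, d * ℓ = ℓ * d := fun d hd => (tD.line_fix P.ctx.elem hℓr hd).symm
  have hDw : ∃ d ∈ cjS r A, ⁅w₀, d⁆ ≠ 1 := by
    by_contra hcon
    push Not at hcon
    obtain ⟨d, hd, hd1⟩ := (cjS r A).bot_or_exists_ne_one.resolve_left fun e => by
      have := tD.card
      rw [e, Subgroup.card_bot] at this
      exact hp.out.ne_one this.symm
    refine hd1 (P.faith (hrE hd) fun w hw => ?_)
    have hle : Subgroup.zpowers ℓ ⊔ Subgroup.zpowers w₀ ≤ Subgroup.centralizer ({d} : Set G) := by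
      refine sup_le (Subgroup.zpowers_le.2 ?_) (Subgroup.zpowers_le.2 ?_) <;>
        rw [Subgroup.mem_centralizer_singleton_iff]
      · exact (hDfix d hd).symm
      · exact mul_comm_of_comm_eq_one (hcon d hd)
    exact Subgroup.mem_centralizer_singleton_iff.1 (hle (hw₀ℓ hw))
  obtain ⟨d₀, hd₀, hd₀1⟩ := hDw
  have hm : ⁅w₀, d₀⁆ ∈ Subgroup.zpowers ℓ := hDline ▸ tD.comm_mem (P.plane_le hw₀) hd₀
  replace hline : ⁅V, B⁆ = Subgroup.zpowers ⁅w₀, d₀⁆ := hline.trans (eq_zpowers_of_mem (hline ▸ t.comm) hm hd₀1).symm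
  obtain ⟨i, hi⟩ := (isOfFinOrder_of_finite ⁅w₀, d₀⁆).mem_powers_iff_mem_zpowers.2 (hline ▸ hℓB)
  have hpowd : ∀ n : ℕ, ⁅w₀, d₀ ^ n⁆ = ⁅w₀, d₀⁆ ^ n := by
    intro n
    induction n with
    | zero => simp
    | succ n ih =>
      have hc : d₀ ^ n * ⁅w₀, d₀⁆ = ⁅w₀, d₀⁆ * d₀ ^ n :=
        ((Commute.pow_left (show Commute d₀ ⁅w₀, d₀⁆ from
          (tD.line_fix P.ctx.elem (tD.comm_mem (P.plane_le hw₀) hd₀) hd₀).symm) n)).eq
      rw [pow_succ, show ⁅w₀, d₀ ^ n * d₀⁆ = ⁅w₀, d₀ ^ n⁆ * (d₀ ^ n * ⁅w₀, d₀⁆ * (d₀ ^ n)⁻¹) by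
        simp [commutatorElement_def, mul_assoc], ih, hc, mul_inv_cancel_right, pow_succ]
  have hd : d₀ ^ i ∈ cjS r A := pow_mem hd₀ i
  have heq : ⁅w₀, d₀ ^ i⁆ = ⁅w₀, b₀⁆ := by rw [hpowd, ← hℓ]; exact hi
  have hconj : b₀ * w₀ * b₀⁻¹ = d₀ ^ i * w₀ * (d₀ ^ i)⁻¹ := by
    have h := heq
    simp only [commutatorElement_def, mul_assoc, mul_right_inj] at h
    have h2 := congrArg (fun z => z⁻¹) h
    simpa [mul_assoc] using h2.symm
  have hg : (d₀ ^ i)⁻¹ * b₀ = 1 := by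
    refine P.ctx.eq_one_of_fix (mul_mem (inv_mem (P.sup_le_H (hrE hd))) (hB hb₀)) fun v hv => ?_
    have hle : W ⊔ C ≤ Subgroup.centralizer ({(d₀ ^ i)⁻¹ * b₀} : Set G) := by
      refine sup_le (hw₀ℓ.trans (sup_le (Subgroup.zpowers_le.2 ?_) (Subgroup.zpowers_le.2 ?_))) fun z hz => ?_ <;>
        rw [Subgroup.mem_centralizer_singleton_iff]
      · have h1 : ℓ * b₀ = b₀ * ℓ := t.line_fix P.ctx.elem hℓB hb₀
        have h2 : Commute ℓ (d₀ ^ i)⁻¹ := (Commute.inv_right ((hDfix _ hd).symm))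
        rw [← mul_assoc, h2.eq, mul_assoc, h1, mul_assoc]
      · calc w₀ * ((d₀ ^ i)⁻¹ * b₀) = (d₀ ^ i)⁻¹ * (d₀ ^ i * w₀ * (d₀ ^ i)⁻¹) * b₀ := by group
          _ = (d₀ ^ i)⁻¹ * (b₀ * w₀ * b₀⁻¹) * b₀ := by rw [hconj]
          _ = _ := by group
      · have h1 : z * b₀ = b₀ * z := hBC b₀ hb₀ z hz
        have h2 : Commute z (d₀ ^ i)⁻¹ :=
          Commute.inv_right (Subgroup.mem_centralizer_iff.1 hz.2 _ (hrE hd)).symm
        rw [← mul_assoc, h2.eq, mul_assoc, h1, mul_assoc]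
    rw [P.fix_sup] at hle
    exact Subgroup.mem_centralizer_singleton_iff.1 (hle hv)
  rw [inv_mul_eq_one] at hg
  rw [← eq_zpowers_of_mem t.card hb₀ hbne, Subgroup.zpowers_le, ← hg]
  exact hrE hd

end Cfsg.Agent.Fusion
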