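import Cfsg.Agent.Lib.Fusion.OffenderSL2
import Cfsg.Agent.S0611

/-!
# The structure forced by failure of factorization
-/

set_option autoImplicit false
set_option linter.style.haveILetI false

open Cfsg Matrix
open scoped commutatorElement Pointwise

namespace Cfsg.Agent.Fusion

universe u

variable {G : Type u} [Group G] [Finite G] {p : ℕ} [hp : Fact p.Prime] {V H A : Subgroup G}

/-- The hypotheses on a group generated by best offenders. -/
structure OffGen (p : ℕ) (V H : Subgroup G) : Prop where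
  ctx : OffCtx p V H
  gen : H = ⨆ A : {A : Subgroup G // A ≤ H ∧ IsBestOffenderOn p V A}, (A : Subgroup G)
  ne : H ≠ ⊥

theorem OffGen.minimal_of_card (g : OffGen p V H) (hA : A ≤ H) (hc : Nat.card A = p) :
    ⁅V, A⁆ ≠ ⊥ ∧ ∀ B : Subgroup G, B ≤ A → IsBestOffenderOn p V B → ⁅V, B⁆ ≠ ⊥ → B = A := by
  refine ⟨g.ctx.acts_of_ne_bot hA fun h => ?_, fun B hB _ hBV =>
    eq_of_prime_card hc hB fun h => hBV (by rw [h, Subgroup.commutator_bot_right])⟩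
  rw [h, Subgroup.card_bot] at hc
  exact hp.out.ne_one hc.symm

theorem OffGen.tgrp (g : OffGen p V H) (hA : A ≤ H) (hoff : IsBestOffenderOn p V A) (hc : Nat.card A = p) :
    TGrp p V A := by
  obtain ⟨h1, h2⟩ := g.minimal_of_card hA hc
  obtain ⟨-, h3, h4⟩ := S0611.result V H g.ctx.elem g.ctx.norm g.ctx.faithful g.ctx.core g.gen g.ne A hA hoff h1 h2
  exact ⟨hA.trans g.ctx.norm, hc, h3, h4⟩

theorem OffGen.tgrp_of_minimal (g : OffGen p V H) (hA : A ≤ H) (hoff : IsBestOffenderOn p V A)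
    (hAV : ⁅V, A⁆ ≠ ⊥)
    (hmin : ∀ B : Subgroup G, B ≤ A → IsBestOffenderOn p V B → ⁅V, B⁆ ≠ ⊥ → B = A) : TGrp p V A :=
  g.tgrp hA hoff (g.ctx.card_of_minimal hA hoff hAV hmin)

/-- What holds of all offenders of order `p` holds of `H`. -/
theorem OffGen.induction (g : OffGen p V H) {S : Subgroup G}
    (h : ∀ B ≤ H, IsBestOffenderOn p V B → TGrp p V B → B ≤ S) : H ≤ S := by
  refine g.gen.le.trans (iSup_le fun A => ?_)
  refine (g.ctx.eq_iSup_minimal A.2.1 A.2.2).le.trans (sSup_le fun B hB => ?_)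
  exact h B (hB.1.trans A.2.1) hB.2.1 (g.tgrp (hB.1.trans A.2.1) hB.2.1 hB.2.2)

variable {x : G}

theorem OffGen.preserves (g : OffGen p V H) (P : TPair p V H A x) {h : G} (hh : h ∈ H) :
    (∀ w ∈ ⁅V, A⁆ ⊔ ⁅V, cjS x A⁆, h * w * h⁻¹ ∈ ⁅V, A⁆ ⊔ ⁅V, cjS x A⁆) ∧
      ∀ v ∈ V ⊓ Subgroup.centralizer ((A ⊔ cjS x A : Subgroup G) : Set G),
        h * v * h⁻¹ ∈ V ⊓ Subgroup.centralizer ((A ⊔ cjS x A : Subgroup G) : Set G) := by
  have hle : H ≤ Subgroup.normalizer ((⁅V, A⁆ ⊔ ⁅V, cjS x A⁆ : Subgroup G) : Set G) ⊓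
      Subgroup.normalizer ((V ⊓ Subgroup.centralizer ((A ⊔ cjS x A : Subgroup G) : Set G) : Subgroup G) : Set G) :=
    g.induction fun B hB _ t b hb => Subgroup.mem_inf.2
      ⟨mem_normalizer_of_cj_le (by rintro _ ⟨w, hw, rfl⟩; exact (P.preserves t hB hb).1 w hw),
        mem_normalizer_of_cj_le (by rintro _ ⟨w, hw, rfl⟩; exact (P.preserves t hB hb).2 w hw)⟩
  exact ⟨fun w hw => (Subgroup.mem_normalizer_iff.1 (Subgroup.mem_inf.1 (hle hh)).1 w).1 hw,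
    fun v hv => (Subgroup.mem_normalizer_iff.1 (Subgroup.mem_inf.1 (hle hh)).2 v).1 hv⟩

theorem OffGen.comm_complement (g : OffGen p V H) (P : TPair p V H A x) :
    ⁅A ⊔ cjS x A, H ⊓ Subgroup.centralizer ((⁅V, A⁆ ⊔ ⁅V, cjS x A⁆ : Subgroup G) : Set G)⁆ = ⊥ := by
  rw [eq_bot_iff, Subgroup.commutator_le]
  rintro e he k ⟨hkH, hkC⟩
  rw [Subgroup.mem_bot]
  have heH := P.sup_le_H he
  have hle : V ≤ Subgroup.centralizer ({⁅e, k⁆} : Set G) := by
    conv_lhs => rw [← P.fix_sup]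
    refine sup_le (fun w hw => ?_) fun v hv => ?_ <;> rw [Subgroup.mem_centralizer_singleton_iff]
    · have h1 : k⁻¹ * w * k = w := by
        rw [mul_assoc, Subgroup.mem_centralizer_iff.1 hkC w hw, inv_mul_cancel_left]
      have h2 : ∀ z ∈ ⁅V, A⁆ ⊔ ⁅V, cjS x A⁆, k * z * k⁻¹ = z := fun z hz => by
        rw [← Subgroup.mem_centralizer_iff.1 hkC z hz, mul_inv_cancel_right]
      have hw' := P.conj_plane hw (inv_mem he)
      rw [inv_inv] at hw'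
      have h3 : ⁅e, k⁆ * w * ⁅e, k⁆⁻¹ = w := by
        calc ⁅e, k⁆ * w * ⁅e, k⁆⁻¹ = e * (k * (e⁻¹ * (k⁻¹ * w * k) * e) * k⁻¹) * e⁻¹ := by
              simp [commutatorElement_def, mul_assoc]
          _ = w := by rw [h1, h2 _ hw']; group
      exact (mul_inv_eq_iff_eq_mul.1 h3).symm
    · have h1 : ∀ z ∈ V ⊓ Subgroup.centralizer ((A ⊔ cjS x A : Subgroup G) : Set G), e * z * e⁻¹ = z :=
        fun z hz => by rw [Subgroup.mem_centralizer_iff.1 hz.2 e he, mul_inv_cancel_right]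
      have hv' := (g.preserves P (inv_mem hkH)).2 v hv
      rw [inv_inv] at hv'
      have h4 : e⁻¹ * (k⁻¹ * v * k) * e = k⁻¹ * v * k := by
        rw [mul_assoc, ← Subgroup.mem_centralizer_iff.1 hv'.2 e he, inv_mul_cancel_left]
      have h3 : ⁅e, k⁆ * v * ⁅e, k⁆⁻¹ = v := by
        calc ⁅e, k⁆ * v * ⁅e, k⁆⁻¹ = e * (k * (e⁻¹ * (k⁻¹ * v * k) * e) * k⁻¹) * e⁻¹ := by
              simp [commutatorElement_def, mul_assoc]
          _ = e * v * e⁻¹ := by rw [h4]; group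
          _ = v := h1 v hv
      exact (mul_inv_eq_iff_eq_mul.1 h3).symm
  exact P.ctx.eq_one_of_fix
    (mul_mem (mul_mem (mul_mem heH hkH) (inv_mem heH)) (inv_mem hkH))
    fun v hv => Subgroup.mem_centralizer_singleton_iff.1 (hle hv)

theorem TPair.inf_complement (P : TPair p V H A x) :
    (A ⊔ cjS x A) ⊓ (H ⊓ Subgroup.centralizer ((⁅V, A⁆ ⊔ ⁅V, cjS x A⁆ : Subgroup G) : Set G)) = ⊥ :=
  eq_bot_iff.2 fun g hg => Subgroup.mem_bot.2
    (P.faith (Subgroup.mem_inf.1 hg).1 (Subgroup.mem_centralizer_iff.1 (Subgroup.mem_inf.1 (Subgroup.mem_inf.1 hg).2).2))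

theorem OffGen.sup_complement (g : OffGen p V H) (P : TPair p V H A x) :
    (A ⊔ cjS x A) ⊔ (H ⊓ Subgroup.centralizer ((⁅V, A⁆ ⊔ ⁅V, cjS x A⁆ : Subgroup G) : Set G)) = H :=
  le_antisymm (sup_le P.sup_le_H inf_le_left) (g.induction fun B hB _ t => (P.dichotomy t hB).elim
    (fun h => h.trans le_sup_left) fun h => h.trans le_sup_right)

theorem OffGen.le_normalizer (g : OffGen p V H) (P : TPair p V H A x) :
    H ≤ Subgroup.normalizer ((A ⊔ cjS x A : Subgroup G) : Set G) := by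
  conv_lhs => rw [← g.sup_complement P]
  refine sup_le Subgroup.le_normalizer fun k hk => mem_normalizer_of_cj_le ?_
  rintro _ ⟨e, he, rfl⟩
  show k * e * k⁻¹ ∈ A ⊔ cjS x A
  have h : ⁅e, k⁆ = 1 := Subgroup.mem_bot.1 (g.comm_complement P ▸ Subgroup.commutator_mem_commutator he hk)
  rw [← mul_comm_of_comm_eq_one h, mul_inv_cancel_right]
  exact he

theorem OffGen.comm_le_fix (g : OffGen p V H) (P : TPair p V H A x) :
    ⁅V, H ⊓ Subgroup.centralizer ((⁅V, A⁆ ⊔ ⁅V, cjS x A⁆ : Subgroup G) : Set G)⁆ ≤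
      V ⊓ Subgroup.centralizer ((A ⊔ cjS x A : Subgroup G) : Set G) := by
  refine Subgroup.commutator_le.2 fun v hv k hk => ?_
  set C := V ⊓ Subgroup.centralizer ((A ⊔ cjS x A : Subgroup G) : Set G) with hC
  have hn : ⁅V, A⁆ ⊔ ⁅V, cjS x A⁆ ≤ Subgroup.normalizer (C : Set G) := fun w hw => mem_normalizer_of_cj_le (by
    rintro _ ⟨c, hc, rfl⟩
    show w * c * w⁻¹ ∈ C
    rw [Local.elemAb_commute P.ctx.elem (P.plane_le hw) hc.1, mul_inv_cancel_right]; exact hc)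
  have h2 : v ∈ (((⁅V, A⁆ ⊔ ⁅V, cjS x A⁆) ⊔ C : Subgroup G) : Set G) := by
    show v ∈ (⁅V, A⁆ ⊔ ⁅V, cjS x A⁆) ⊔ C
    rw [P.fix_sup]; exact hv
  rw [Subgroup.coe_mul_of_left_le_normalizer_right _ _ hn] at h2
  obtain ⟨w, hw, c, hc, rfl⟩ := Set.mem_mul.1 h2
  have hkw : k * w⁻¹ * k⁻¹ = w⁻¹ := by
    rw [← Subgroup.mem_centralizer_iff.1 hk.2 _ (inv_mem hw), mul_inv_cancel_right]
  have h3 := (g.preserves P hk.1).2 c⁻¹ (inv_mem hc)
  have hcw : c * (k * c⁻¹ * k⁻¹) * w⁻¹ = w⁻¹ * (c * (k * c⁻¹ * k⁻¹)) :=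
    (Local.elemAb_commute P.ctx.elem (inv_mem (P.plane_le hw)) (mul_mem hc.1 h3.1)).symm
  have e : ⁅w * c, k⁆ = c * (k * c⁻¹ * k⁻¹) := by
    calc ⁅w * c, k⁆ = w * (c * (k * c⁻¹ * k⁻¹) * (k * w⁻¹ * k⁻¹)) := by
          simp [commutatorElement_def, mul_assoc]
      _ = c * (k * c⁻¹ * k⁻¹) := by rw [hkw, hcw, mul_inv_cancel_left]
  rw [e]
  exact mul_mem hc h3

end Cfsg.Agent.Fusion
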