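import Cfsg.Agent.Lib.Fusion.AnisotropicIsometry
import Cfsg.Agent.S0093
import Cfsg.Agent.S0012
import Cfsg.Agent.S0121

/-!
Automorphisms of a 2-group with central involutions that fix every involution form a solvable group.
-/

set_option autoImplicit false
set_option linter.style.haveILetI false

open scoped commutatorElement

namespace Cfsg.Agent.OmegaFixer

variable {S : Type*} [Group S]

/-- The elements of order at most 2. -/
def omega (hΩ : ∀ x : S, x ^ 2 = 1 → x ∈ Subgroup.center S) : Subgroup S where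
  carrier := {x | x ^ 2 = 1}
  one_mem' := one_pow 2
  mul_mem' := fun {a b} ha hb => by
    show (a * b) ^ 2 = 1
    rw [(show Commute a b from Subgroup.mem_center_iff.1 (hΩ b hb) a).mul_pow, ha, hb, one_mul]
  inv_mem' := fun {a} ha => by
    show a⁻¹ ^ 2 = 1
    rw [inv_pow, ha, inv_one]

theorem sq_commutator {x y : S} (hx : y * x ^ 2 = x ^ 2 * y) (hd : x * ⁅x, y⁆ = ⁅x, y⁆ * x) :
    ⁅x, y⁆ ^ 2 = 1 := by
  have h1 : x * y = ⁅x, y⁆ * (y * x) := by rw [commutatorElement_def]; group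
  have h2 : x ^ 2 * y = ⁅x, y⁆ ^ 2 * (y * x ^ 2) := by
    calc x ^ 2 * y = x * (x * y) := by rw [pow_two, mul_assoc]
      _ = x * (⁅x, y⁆ * (y * x)) := by rw [← h1]
      _ = x * ⁅x, y⁆ * y * x := by simp only [mul_assoc]
      _ = ⁅x, y⁆ * x * y * x := by rw [hd]
      _ = ⁅x, y⁆ * (x * y) * x := by simp only [mul_assoc]
      _ = ⁅x, y⁆ * (⁅x, y⁆ * (y * x)) * x := by rw [← h1]
      _ = ⁅x, y⁆ ^ 2 * (y * x ^ 2) := by simp only [pow_two, mul_assoc]
  rw [hx] at h2
  exact mul_eq_right.1 h2.symm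

theorem mul_sq {x y : S} (hd : ∀ g : S, g * ⁅x, y⁆ = ⁅x, y⁆ * g) :
    (y * x) ^ 2 = y ^ 2 * x ^ 2 * ⁅x, y⁆ := by
  have h1 : x * y = ⁅x, y⁆ * (y * x) := by rw [commutatorElement_def]; group
  calc (y * x) ^ 2 = y * (x * y) * x := by simp only [pow_two, mul_assoc]
    _ = y * (⁅x, y⁆ * (y * x)) * x := by rw [← h1]
    _ = y * ⁅x, y⁆ * (y * x) * x := by simp only [mul_assoc]
    _ = ⁅x, y⁆ * y * (y * x) * x := by rw [hd y]
    _ = ⁅x, y⁆ * (y ^ 2 * x ^ 2) := by simp only [pow_two, mul_assoc]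
    _ = y ^ 2 * x ^ 2 * ⁅x, y⁆ := (hd _).symm

variable [Finite S]

/-- Automorphisms fixing the (central) involutions form a solvable group. -/
theorem isSolvable (hS : IsPGroup 2 S) (hΩ : ∀ x : S, x ^ 2 = 1 → x ∈ Subgroup.center S)
    (X : Subgroup (MulAut S)) (hX : ∀ φ ∈ X, ∀ x : S, x ^ 2 = 1 → φ x = x) : Group.IsSolvable X := by
  haveI : Fact (Nat.Prime 2) := ⟨Nat.prime_two⟩
  obtain ⟨C, hCc, hC1, hC2, hC3⟩ := Cfsg.Agent.S0093.result hS
  have hsqC : ∀ x ∈ C, ∀ y ∈ C, y * x ^ 2 = x ^ 2 * y := fun x hx y hy => by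
    have h : (⟨x, hx⟩ : C) ^ 2 ∈ frattini C := (Cfsg.Agent.S0012.result 2 (hS.to_subgroup C)).2 _
    exact Subgroup.mem_centralizer_iff.1 (hC1 ⟨_, h, rfl⟩) y hy
  have hcomm : ∀ x ∈ C, ∀ y : S, ∀ g ∈ C, g * ⁅x, y⁆ = ⁅x, y⁆ * g := fun x hx y g hg =>
    Subgroup.mem_centralizer_iff.1 (hC2 (Subgroup.commutator_mem_commutator hx (Subgroup.mem_top y))).2 g hg
  have hdΩ : ∀ x ∈ C, ∀ y ∈ C, ⁅x, y⁆ ^ 2 = 1 := fun x hx y hy =>
    sq_commutator (hsqC x hx y hy) (hcomm x hx y x hx)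
  have hdc : ∀ x ∈ C, ∀ y ∈ C, ∀ g : S, g * ⁅x, y⁆ = ⁅x, y⁆ * g := fun x hx y hy g =>
    Subgroup.mem_center_iff.1 (hΩ _ (hdΩ x hx y hy)) g
  let C₂ : Subgroup S :=
    { carrier := {x | x ∈ C ∧ x ^ 4 = 1}
      one_mem' := ⟨one_mem C, one_pow 4⟩
      mul_mem' := fun {a b} ha hb => ⟨mul_mem ha.1 hb.1, by
        rw [show (4 : ℕ) = 2 * 2 from rfl, pow_mul, mul_sq (hdc b hb.1 a ha.1),
          (Commute.mul_pow (show Commute (a ^ 2 * b ^ 2) ⁅b, a⁆ from Subgroup.mem_center_iff.1 (hΩ _ (hdΩ b hb.1 a ha.1)) _) 2), hdΩ b hb.1 a ha.1,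
          mul_one, (Commute.mul_pow (show Commute (a ^ 2) (b ^ 2) from
            (hsqC b hb.1 (a ^ 2) (pow_mem ha.1 2))) 2), ← pow_mul, ← pow_mul, ha.2, hb.2, one_mul]⟩
      inv_mem' := fun {a} ha => ⟨inv_mem ha.1, by rw [inv_pow, ha.2, inv_one]⟩ }
  -- the quotient by the involutions
  set N := (omega hΩ).subgroupOf C₂ with hNdef
  haveI hN : N.Normal := ⟨fun a ha g => by
    show ((g : S) * (a : S) * ((g : S))⁻¹) ^ 2 = 1
    rw [show (g : S) * (a : S) = a * g from Subgroup.mem_center_iff.1 (hΩ _ ha) (g : S), mul_inv_cancel_right]; exact ha⟩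
  letI iQ : CommGroup (↥C₂ ⧸ N) := { (inferInstance : Group (↥C₂ ⧸ N)) with
    mul_comm := fun a b => by
      induction a using QuotientGroup.induction_on with
      | _ a =>
      induction b using QuotientGroup.induction_on with
      | _ b =>
      rw [← QuotientGroup.mk_mul, ← QuotientGroup.mk_mul, QuotientGroup.eq]
      show (((a : S) * b)⁻¹ * ((b : S) * a)) ^ 2 = 1
      rw [show ((a : S) * b)⁻¹ * ((b : S) * a) = ⁅(b : S)⁻¹, (a : S)⁻¹⁆ by rw [commutatorElement_def]; group]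
      exact hdΩ _ (inv_mem b.2.1) _ (inv_mem a.2.1) }
  letI iE : CommGroup ↥(omega hΩ) := { (inferInstance : Group ↥(omega hΩ)) with
    mul_comm := fun a b => Subtype.ext (Subgroup.mem_center_iff.1 (hΩ _ b.2) (a : S)) }
  let sq : ↥C₂ → Additive ↥(omega hΩ) := fun x => Additive.ofMul ⟨(x : S) ^ 2, by
    show ((x : S) ^ 2) ^ 2 = 1
    rw [← pow_mul]; exact x.2.2⟩
  let q : Additive (↥C₂ ⧸ N) → Additive ↥(omega hΩ) := fun w => Quotient.liftOn' w.toMul sq fun x y hxy => by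
    have hxy : ((x : S)⁻¹ * y) ^ 2 = 1 := QuotientGroup.leftRel_apply.1 hxy
    refine congrArg Additive.ofMul (Subtype.ext ?_)
    show (x : S) ^ 2 = (y : S) ^ 2
    conv_rhs => rw [show (y : S) = x * ((x : S)⁻¹ * y) by group,
      (Commute.mul_pow (show Commute (x : S) ((x : S)⁻¹ * y) from Subgroup.mem_center_iff.1 (hΩ _ hxy) _) 2), hxy, mul_one]
  let b : Additive (↥C₂ ⧸ N) → Additive (↥C₂ ⧸ N) → Additive ↥(omega hΩ) := fun v w => q (v + w) + q v + q w
  have two_E : ∀ e : Additive ↥(omega hΩ), e + e = 0 := fun e => by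
    show Additive.ofMul (e.toMul * e.toMul) = 0
    rw [← pow_two, show e.toMul ^ 2 = 1 from Subtype.ext e.toMul.2]; rfl
  have hbval : ∀ x y : ↥C₂, (((b (Additive.ofMul (x : ↥C₂ ⧸ N)) (Additive.ofMul (y : ↥C₂ ⧸ N))).toMul :
      ↥(omega hΩ)) : S) = ⁅(y : S), (x : S)⁆ := by
    intro x y
    show ((x : S) * y) ^ 2 * (x : S) ^ 2 * (y : S) ^ 2 = _
    rw [mul_sq (hdc _ y.2.1 _ x.2.1)]
    have e1 : Commute ((x : S) ^ 2) ((y : S) ^ 2) := hsqC _ y.2.1 _ (pow_mem x.2.1 2)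
    calc (x : S) ^ 2 * (y : S) ^ 2 * ⁅(y : S), (x : S)⁆ * (x : S) ^ 2 * (y : S) ^ 2
        = (x : S) ^ 2 * (y : S) ^ 2 * (⁅(y : S), (x : S)⁆ * ((x : S) ^ 2 * (y : S) ^ 2)) := by simp only [mul_assoc]
      _ = (x : S) ^ 2 * (y : S) ^ 2 * ((x : S) ^ 2 * (y : S) ^ 2 * ⁅(y : S), (x : S)⁆) := by
          rw [← hdc _ y.2.1 _ x.2.1 ((x : S) ^ 2 * (y : S) ^ 2)]
      _ = ((x : S) ^ 2 * (y : S) ^ 2) ^ 2 * ⁅(y : S), (x : S)⁆ := by simp only [pow_two, mul_assoc]
      _ = _ := by rw [e1.mul_pow, ← pow_mul, ← pow_mul, x.2.2, y.2.2, one_mul, one_mul]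
  -- the action
  have hCmem : ∀ (φ : X) (x : S), x ∈ C₂ → (φ : MulAut S) x ∈ C₂ := fun φ x hx => by
    refine ⟨?_, by rw [← map_pow, hx.2, map_one]⟩
    have h := hx.1
    rw [← Subgroup.characteristic_iff_comap_eq.1 hCc (φ : MulAut S)] at h
    exact h
  let act : ∀ φ : X, ↥C₂ →* ↥C₂ := fun φ =>
    ((φ : MulAut S).toMonoidHom.comp C₂.subtype).codRestrict C₂ fun x => hCmem φ x x.2
  have hactN : ∀ φ : X, N ≤ N.comap (act φ) := fun φ a ha => by
    show ((φ : MulAut S) (a : S)) ^ 2 = 1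
    rw [show (φ : MulAut S) (a : S) = a from hX _ φ.2 _ ha]; exact ha
  letI iA : DistribMulAction X (Additive (↥C₂ ⧸ N)) :=
    { smul := fun φ w => Additive.ofMul (QuotientGroup.map N N (act φ) (hactN φ) w.toMul)
      one_smul := fun w => by
        obtain ⟨x, hx⟩ := QuotientGroup.mk_surjective w.toMul
        show Additive.ofMul (QuotientGroup.map N N (act 1) (hactN 1) w.toMul) = w
        rw [← hx]
        exact congrArg Additive.ofMul hx
      mul_smul := fun φ ψ w => by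
        obtain ⟨x, hx⟩ := QuotientGroup.mk_surjective w.toMul
        show Additive.ofMul (QuotientGroup.map N N (act (φ * ψ)) (hactN _) w.toMul) =
          Additive.ofMul (QuotientGroup.map N N (act φ) (hactN _) (QuotientGroup.map N N (act ψ) (hactN _) w.toMul))
        rw [← hx]
        rfl
      smul_zero := fun φ => congrArg Additive.ofMul (map_one (QuotientGroup.map N N (act φ) (hactN φ)))
      smul_add := fun φ v w =>
        congrArg Additive.ofMul (map_mul (QuotientGroup.map N N (act φ) (hactN φ)) v.toMul w.toMul) }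
  have hA : AnisoIso.Aniso X q b := by
    refine ⟨fun w => ?_, two_E, fun v w => ?_, fun u v w => ?_, fun w hw => ?_, fun φ w => ?_⟩
    · obtain ⟨x, hx⟩ := QuotientGroup.mk_surjective w.toMul
      show Additive.ofMul (w.toMul * w.toMul) = 0
      rw [← hx, ← QuotientGroup.mk_mul, (QuotientGroup.eq_one_iff (x * x)).2 ?_]
      · rfl
      · show ((x : S) * x) ^ 2 = 1
        rw [← pow_two, ← pow_mul]; exact x.2.2
    · show q (v + w) = q v + q w + (q (v + w) + q v + q w)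
      rw [show q v + q w + (q (v + w) + q v + q w) = (q v + q v) + (q w + q w) + q (v + w) by abel,
        two_E, two_E, add_zero, zero_add]
    · obtain ⟨x, hx⟩ := QuotientGroup.mk_surjective u.toMul
      obtain ⟨y, hy⟩ := QuotientGroup.mk_surjective v.toMul
      obtain ⟨z, hz⟩ := QuotientGroup.mk_surjective w.toMul
      obtain rfl : u = Additive.ofMul (x : ↥C₂ ⧸ N) := hx.symm
      obtain rfl : v = Additive.ofMul (y : ↥C₂ ⧸ N) := hy.symm
      obtain rfl : w = Additive.ofMul (z : ↥C₂ ⧸ N) := hz.symm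
      refine Additive.toMul.injective (Subtype.ext ?_)
      rw [← ofMul_mul, ← QuotientGroup.mk_mul, hbval, Subgroup.coe_mul, toMul_add]
      show _ = (((b (Additive.ofMul (x : ↥C₂ ⧸ N)) (Additive.ofMul (z : ↥C₂ ⧸ N))).toMul : ↥(omega hΩ)) : S) *
        ((b (Additive.ofMul (y : ↥C₂ ⧸ N)) (Additive.ofMul (z : ↥C₂ ⧸ N))).toMul : ↥(omega hΩ))
      rw [hbval, hbval]
      have e1 : ⁅(z : S), (x : S) * y⁆ = ⁅(z : S), (x : S)⁆ * ((x : S) * ⁅(z : S), (y : S)⁆ * (x : S)⁻¹) := by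
        simp only [commutatorElement_def]; group
      rw [e1, hdc _ z.2.1 _ y.2.1, mul_inv_cancel_right]
    · obtain ⟨x, hx⟩ := QuotientGroup.mk_surjective w.toMul
      obtain rfl : w = Additive.ofMul (x : ↥C₂ ⧸ N) := hx.symm
      have h : (x : S) ^ 2 = 1 := congrArg (fun e : Additive ↥(omega hΩ) => ((e.toMul : ↥(omega hΩ)) : S)) hw
      exact congrArg Additive.ofMul ((QuotientGroup.eq_one_iff x).2 h)
    · obtain ⟨x, hx⟩ := QuotientGroup.mk_surjective w.toMul
      obtain rfl : w = Additive.ofMul (x : ↥C₂ ⧸ N) := hx.symm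
      refine Additive.toMul.injective (Subtype.ext ?_)
      show ((φ : MulAut S) (x : S)) ^ 2 = (x : S) ^ 2
      rw [← map_pow]
      exact hX _ φ.2 _ (by rw [← pow_mul]; exact x.2.2)
  -- split into image and kernel
  let f : X →* Multiplicative (AddAut (Additive (↥C₂ ⧸ N))) := DistribMulAction.toAddAut X (Additive (↥C₂ ⧸ N))
  have hker : IsPGroup 2 f.ker := by
    intro ⟨φ, hφ⟩
    have hfix2 : ∀ x : ↥C₂, ((x : S)⁻¹ * (φ : MulAut S) x) ^ 2 = 1 := fun x => by
      have h := DFunLike.congr_fun (congrArg Multiplicative.toAdd (MonoidHom.mem_ker.1 hφ)) (Additive.ofMul (x : ↥C₂ ⧸ N))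
      have h' : ((act φ x : ↥C₂) : ↥C₂ ⧸ N) = (x : ↥C₂ ⧸ N) := congrArg Additive.toMul h
      have h2 : x⁻¹ * act φ x ∈ N := QuotientGroup.eq.1 h'.symm
      exact h2
    obtain ⟨a, m, hm, ham⟩ := Nat.exists_eq_two_pow_mul_odd (orderOf_pos (φ : MulAut S)).ne'
    refine ⟨a, Subtype.ext (Subtype.ext ?_)⟩
    show (φ : MulAut S) ^ 2 ^ a = 1
    set ψ := (φ : MulAut S) ^ 2 ^ a with hψ
    have hψm : ψ ^ m = 1 := by rw [hψ, ← pow_mul, ← ham, pow_orderOf_eq_one]
    have hψX : ψ ∈ X := pow_mem φ.2 _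
    -- a translation of exponent 4 fixed by the automorphism is trivial
    have trivd : ∀ x d : S, ψ x = x * d → ψ d = d → d ^ 4 = 1 → d = 1 := by
      intro x d h1 h2 h4
      have hk : ∀ k : ℕ, (ψ ^ k) x = x * d ^ k := by
        intro k
        induction k with
        | zero => simp
        | succ k ih => rw [pow_succ', MulAut.mul_apply, ih, map_mul, map_pow, h1, h2, pow_succ', mul_assoc]
      have := hk m
      rw [hψm, MulAut.one_apply, left_eq_mul] at this
      have hg := pow_gcd_eq_one.2 ⟨this, h4⟩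
      rwa [Nat.Coprime.gcd_eq_one (show Nat.Coprime m 4 from
        (Nat.Coprime.pow_right 2 (Nat.coprime_two_right.2 hm) : Nat.Coprime m (2 ^ 2))), pow_one] at hg
    have hC₂ : ∀ x ∈ C₂, ψ x = x := by
      intro x hx
      have hk : ∀ k : ℕ, ∃ e : S, e ^ 2 = 1 ∧ ((φ : MulAut S) ^ k) x = x * e := by
        intro k
        induction k with
        | zero => exact ⟨1, one_pow 2, by simp⟩
        | succ k ih =>
          obtain ⟨e, he, hek⟩ := ih
          refine ⟨x⁻¹ * (φ : MulAut S) x * e, ?_, ?_⟩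
          · rw [(Commute.mul_pow (show Commute (x⁻¹ * (φ : MulAut S) x) e from Subgroup.mem_center_iff.1 (hΩ _ he) _) 2), hfix2 ⟨x, hx⟩, he, one_mul]
          · rw [pow_succ', MulAut.mul_apply, hek, map_mul, hX _ φ.2 e he]
            group
      obtain ⟨e, he, hek⟩ := hk (2 ^ a)
      have := trivd x e hek (hX _ hψX e he) (by rw [show (4 : ℕ) = 2 * 2 from rfl, pow_mul, he, one_pow])
      rw [← hψ] at hek
      rw [hek, this, mul_one]
    have hψC : ∀ n : ℕ, ∀ x ∈ C, x ^ 2 ^ n = 1 → ψ x = x := by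
      intro n
      induction n with
      | zero => intro x _ hx; rw [pow_zero, pow_one] at hx; rw [hx, map_one]
      | succ n ih =>
        intro x hx hn
        have hx2 : ψ x ^ 2 = x ^ 2 := by
          rw [← map_pow, ih _ (pow_mem hx 2) (by rw [← pow_mul, ← pow_succ']; exact hn)]
        set d := x⁻¹ * ψ x with hd
        have hψxC : ψ x ∈ C := by
          have h := hx
          rw [← Subgroup.characteristic_iff_comap_eq.1 hCc ψ] at h
          exact h
        have hdC : d ∈ C := mul_mem (inv_mem hx) hψxC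
        have hd2 : d ^ 2 = ⁅d, x⁆ := by
          have h := mul_sq (hdc d hdC x hx)
          rw [show x * d = ψ x by rw [hd, mul_inv_cancel_left], hx2, mul_assoc, left_eq_mul] at h
          rw [eq_inv_of_mul_eq_one_left h]
          exact inv_eq_of_mul_eq_one_left (by rw [← pow_two]; exact hdΩ d hdC x hx)
        have hd4 : d ^ 4 = 1 := by rw [show (4 : ℕ) = 2 * 2 from rfl, pow_mul, hd2, hdΩ d hdC x hx]
        have hd1 := trivd x d (by rw [hd, mul_inv_cancel_left]) (hC₂ d ⟨hdC, hd4⟩) hd4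
        rwa [hd, inv_mul_eq_one, eq_comm] at hd1
    refine Cfsg.Agent.S0121.result hS C hCc hC1 hC2 hC3 ψ ?_ fun x hx => ?_
    · exact Nat.Coprime.coprime_dvd_left (orderOf_dvd_of_pow_eq_one hψm) (Nat.coprime_two_right.2 hm)
    · obtain ⟨n, hn⟩ := hS x
      exact hψC n x hx hn
  haveI : Group.IsNilpotent f.ker := hker.isNilpotent
  letI : DistribMulAction f.range (Additive (↥C₂ ⧸ N)) :=
    { smul := fun r w => (r.1.toAdd : AddAut (Additive (↥C₂ ⧸ N))) w
      one_smul := fun w => rfl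
      mul_smul := fun r s w => rfl
      smul_zero := fun r => map_zero (r.1.toAdd : AddAut (Additive (↥C₂ ⧸ N)))
      smul_add := fun r v w => map_add (r.1.toAdd : AddAut (Additive (↥C₂ ⧸ N))) v w }
  haveI : FaithfulSMul f.range (Additive (↥C₂ ⧸ N)) :=
    ⟨fun h => Subtype.ext (Multiplicative.toAdd.injective (AddEquiv.ext h))⟩
  have hA' : AnisoIso.Aniso f.range q b := ⟨hA.two_W, hA.two_E, hA.polar, hA.add_left, hA.eq_zero, by
    rintro ⟨_, φ, rfl⟩ w
    exact hA.inv φ w⟩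
  haveI := hA'.isSolvable
  exact Group.isSolvable_of_ker_le_range f.ker.subtype f.rangeRestrict
    (by rw [MonoidHom.ker_rangeRestrict, Subgroup.range_subtype])

end Cfsg.Agent.OmegaFixer
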