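import Cfsg.Agent.Lib.Fusion.OffenderFixed
import Cfsg.Agent.Lib.Fusion.ActModel
import Cfsg.Agent.Lib.Char.OneBlock
import Cfsg.Agent.Lib.Solv.Coprime

/-!
# Failure of factorization under coprime operators
-/

set_option autoImplicit false
set_option linter.style.haveILetI false

open Cfsg
open scoped commutatorElement

namespace Cfsg.Agent.Fusion

universe u

variable {M : Type u} [Group M] [Finite M] {p : ℕ} [hp : Fact p.Prime]

/-- The subgroup generated by the `Ω₁(Z(S))` is characteristic. -/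
theorem iSup_omegaZ_char : (⨆ S : Sylow p M, omegaZ p (S : Subgroup M)).Characteristic := by
  refine Subgroup.characteristic_iff_map_le.2 fun φ => ?_
  rw [Subgroup.map_iSup]
  refine iSup_le fun S => ?_
  rw [omegaZ_map φ.toMonoidHom _ φ.injective.injOn]
  obtain ⟨S', hS'⟩ : ∃ S' : Sylow p M, (S' : Subgroup M) = (S : Subgroup M).map φ.toMonoidHom :=
    ⟨S.mapSurjective φ.surjective, Sylow.coe_mapSurjective φ.surjective S⟩
  rw [← hS']
  exact le_iSup (fun S : Sylow p M => omegaZ p (S : Subgroup M)) S'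

/-- In a `p`-solvable group with trivial `p'`-core the `Ω₁(Z(S))` generate an elementary abelian group. -/
theorem iSup_omegaZ_elem (hsep : IsPSolvable p M) (hO : pPrimeCore p M = ⊥) :
    IsElementaryAbelian p (⨆ S : Sylow p M, omegaZ p (S : Subgroup M)) := by
  have hZ : ∀ T : Sylow p M, ∀ y ∈ omegaZ p (T : Subgroup M),
      y ∈ pCore p M ∧ y ∈ Subgroup.centralizer (pCore p M : Set M) := by
    intro T y hy
    have h2 : y ∈ Subgroup.centralizer (pCore p M : Set M) :=
      Subgroup.centralizer_le (pCore_le_sylow T) (omegaZ_le _ hy).2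
    exact ⟨Char.centralizer_pCore_le_of_pSolvable hsep hO h2, h2⟩
  rw [show (⨆ S : Sylow p M, omegaZ p (S : Subgroup M)) = Subgroup.closure (⋃ S : Sylow p M,
      {y : M | y ∈ (S : Subgroup M) ⊓ Subgroup.centralizer ((S : Subgroup M) : Set M) ∧ y ^ p = 1}) by
    rw [Subgroup.closure_iUnion]; rfl]
  refine Local.elemAb_closure _ ?_ ?_
  · intro a ha b hb
    obtain ⟨S, hS⟩ := Set.mem_iUnion.1 ha
    obtain ⟨T, hT⟩ := Set.mem_iUnion.1 hb
    exact (Subgroup.mem_centralizer_iff.1 (hZ S a (Subgroup.subset_closure hS)).2 b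
      (hZ T b (Subgroup.subset_closure hT)).1).symm
  · intro a ha
    obtain ⟨S, hS⟩ := Set.mem_iUnion.1 ha
    exact hS.2

/-- Best offenders inside a subgroup are best offenders. -/
theorem offender_map_subtype {K : Subgroup M} {V A : Subgroup ↥K} (hA : IsBestOffenderOn p V A) :
    IsBestOffenderOn p (V.map K.subtype) (A.map K.subtype) := by
  have hinj : Function.Injective K.subtype := K.subtype_injective
  have hfix : ∀ B : Subgroup ↥K, V.map K.subtype ⊓ Subgroup.centralizer (B.map K.subtype : Set M) =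
      (V ⊓ Subgroup.centralizer (B : Set ↥K)).map K.subtype := by
    intro B
    ext y
    constructor
    · rintro ⟨⟨v, hv, rfl⟩, hy⟩
      exact ⟨v, ⟨hv, Subgroup.mem_centralizer_iff.2 fun b hb =>
        hinj (by rw [map_mul, map_mul]; exact Subgroup.mem_centralizer_iff.1 hy _ ⟨b, hb, rfl⟩)⟩, rfl⟩
    · rintro ⟨v, hv, rfl⟩
      refine ⟨⟨v, hv.1, rfl⟩, Subgroup.mem_centralizer_iff.2 ?_⟩
      rintro _ ⟨b, hb, rfl⟩
      rw [← map_mul, ← map_mul, Subgroup.mem_centralizer_iff.1 hv.2 b hb]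
  have hC : ∀ z : ↥K, z ∈ Subgroup.centralizer (V : Set ↥K) →
      (z : M) ∈ Subgroup.centralizer (V.map K.subtype : Set M) := fun z hz => Subgroup.mem_centralizer_iff.2 (by
    rintro _ ⟨v, hv, rfl⟩
    exact congrArg Subtype.val (Subgroup.mem_centralizer_iff.1 hz v hv))
  refine ⟨fun B hB => ?_, ?_, ?_⟩
  · obtain ⟨B₀, hB₀, rfl⟩ : ∃ B₀ ≤ A, B₀.map K.subtype = B := by
      refine ⟨B.comap K.subtype, fun z hz => ?_,
        Subgroup.map_comap_eq_self (hB.trans (Subgroup.map_le_range _ _))⟩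
      obtain ⟨a, ha, he⟩ := hB hz
      rwa [← hinj he]
    rw [hfix, hfix, Subgroup.card_map_of_injective hinj, Subgroup.card_map_of_injective hinj,
      Subgroup.card_map_of_injective hinj, Subgroup.card_map_of_injective hinj]
    exact hA.1 B₀ hB₀
  · rw [← Subgroup.map_commutator]
    rintro _ ⟨z, hz, rfl⟩
    exact hC z (hA.2.1 hz)
  · rintro _ ⟨a, ha, rfl⟩
    rw [← map_pow]
    exact hC _ (hA.2.2 a ha)

/-- The image of a Sylow subgroup under a homomorphism. -/
theorem SylIn.map_hom {Q : Type*} [Group Q] {T J : Subgroup M} (h : SylIn p T J) (f : M →* Q) :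
    SylIn p (T.map f) (J.map f) := by
  exact ⟨Subgroup.map_mono h.le, h.isPGroup.map f, fun hd => h.not_dvd (hd.trans (Solv.relIndex_map_dvd f))⟩

variable {q : ℕ} [hq : Fact q.Prime]

/-- The data of a coprime operator group on a `p`-solvable normal subgroup. -/
structure OpCtx (p q : ℕ) (K X : Subgroup M) : Prop where
  normal : K.Normal
  elem : IsElementaryAbelian q X
  coprime : ¬ q ∣ Nat.card K
  sep : IsPSolvable p ↥K
  core : pPrimeCore p ↥K = ⊥

variable {K X : Subgroup M}

/-- The fixed plane and the covering by fixed points. -/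
theorem OpCtx.main (c : OpCtx p q K X) :
    (¬ thompsonSubgroup p ↥K ≤ Subgroup.centralizer ((⨆ S : Sylow p ↥K, omegaZ p (S : Subgroup ↥K) : Subgroup ↥K) : Set ↥K) →
      (p = 2 ∨ p = 3) ∧ ∃ W D : Subgroup M, W ≤ K ⊓ Subgroup.centralizer (X : Set M) ∧
        D ≤ K ⊓ Subgroup.centralizer (X : Set M) ∧ IsElementaryAbelian p W ∧ Nat.card W = p ^ 2 ∧
        D ≤ Subgroup.normalizer (W : Set M) ∧ ∃ hn : ((Subgroup.centralizer (W : Set M)).subgroupOf D).Normal,
          Nonempty ((↥D ⧸ (Subgroup.centralizer (W : Set M)).subgroupOf D) ≃* Matrix.SpecialLinearGroup (Fin 2) (ZMod p))) ∧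
    ∀ (S : Sylow p ↥K) (L : Subgroup M), (S : Subgroup ↥K).map K.subtype ≤ L →
      K ⊓ Subgroup.centralizer (X : Set M) ≤ L → L ≤ K →
      (thompsonSubgroup p ↥K).map K.subtype ≤
        L ⊔ (Subgroup.centralizer ((⨆ S : Sylow p ↥K, omegaZ p (S : Subgroup ↥K) : Subgroup ↥K) : Set ↥K)).map K.subtype := by
  classical
  haveI := c.normal
  set Vk := ⨆ S : Sylow p ↥K, omegaZ p (S : Subgroup ↥K) with hVk
  haveI hVc : Vk.Characteristic := iSup_omegaZ_char
  haveI : Vk.Normal := Subgroup.normal_of_characteristic Vk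
  obtain ⟨V, hV⟩ : ∃ V, V = Vk.map K.subtype := ⟨_, rfl⟩
  haveI hVn : V.Normal := hV ▸ Solv.map_subtype_normal_of_characteristic K Vk
  have hVK : V ≤ K := hV ▸ Subgroup.map_subtype_le _
  have hVke : IsElementaryAbelian p Vk := iSup_omegaZ_elem c.sep c.core
  have hVe : IsElementaryAbelian p V := by
    refine ⟨⟨⟨fun a b => Subtype.ext ?_⟩⟩, ?_⟩
    · obtain ⟨a', ha', ea⟩ := hV.le a.2
      obtain ⟨b', hb', eb⟩ := hV.le b.2
      show (a : M) * b = b * a
      rw [← ea, ← eb, ← map_mul, ← map_mul, Local.elemAb_commute hVke ha' hb']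
    · intro a ha
      obtain ⟨a', ha', rfl⟩ := hV.le ha
      rw [← map_pow, hVke.2 a' ha', map_one]
  have hCk : ∀ z : ↥K, (z : M) ∈ Subgroup.centralizer (V : Set M) ↔ z ∈ Subgroup.centralizer (Vk : Set ↥K) := by
    intro z
    simp only [Subgroup.mem_centralizer_iff]
    constructor
    · intro h v hv
      exact Subtype.ext (h _ (hV.ge ⟨v, hv, rfl⟩))
    · intro h v hv
      obtain ⟨v', hv', rfl⟩ := hV.le hv
      exact congrArg Subtype.val (h v' hv')
  have hCmap : (Subgroup.centralizer (Vk : Set ↥K)).map K.subtype = K ⊓ Subgroup.centralizer (V : Set M) := by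
    ext y
    exact ⟨fun ⟨z, hz, e⟩ => e ▸ ⟨z.2, (hCk z).2 hz⟩, fun hy => ⟨⟨y, hy.1⟩, (hCk _).1 hy.2, rfl⟩⟩
  obtain ⟨J, hJ⟩ : ∃ J, J = (thompsonSubgroup p ↥K).map K.subtype := ⟨_, rfl⟩
  haveI := thompsonSubgroup_char (p := p) (G := ↥K)
  haveI hJn : J.Normal := hJ ▸ Solv.map_subtype_normal_of_characteristic K _
  have hJK : J ≤ K := hJ ▸ Subgroup.map_subtype_le _
  -- the standing hypotheses in the model
  have hctx : OffCtx p (ActModel.incl V).range (J.map (ActModel.proj V)) := by
    have hJsep : IsPSolvable p ↥J := Solv.isPSolvable_map hp.out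
      (Char.isPSolvable_subgroup hp.out c.sep (J.subgroupOf K))
      (Subgroup.subgroupOfEquivOfLe hJK).toMonoidHom (Subgroup.subgroupOfEquivOfLe hJK).surjective
    refine ActModel.ctx' V hVe J hJsep ?_
    set C := Subgroup.centralizer (V : Set M) with hC
    set Jb := J.map (QuotientGroup.mk' C) with hJb
    haveI := Char.TISocle.pCore_characteristic (G := ↥Jb) (p := p)
    haveI : Jb.Normal := Subgroup.Normal.map hJn _ (QuotientGroup.mk'_surjective _)
    set D := (pCore p ↥Jb).map Jb.subtype with hD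
    haveI hDn : D.Normal := Solv.map_subtype_normal_of_characteristic Jb _
    have hDp : IsPGroup p D := (isPGroup_pCore p ↥Jb).map _
    set D' := (D.comap (QuotientGroup.mk' C)).subgroupOf K with hD'
    haveI : D'.Normal := (Subgroup.normal_comap (QuotientGroup.mk' C)).subgroupOf K
    have hgen : Vk ≤ ⨆ S : Sylow p ↥K, Vk ⊓ Subgroup.centralizer ((S : Subgroup ↥K) : Set ↥K) :=
      hVk.le.trans (iSup_mono fun S => le_inf (hVk ▸ le_iSup (fun S : Sylow p ↥K => omegaZ p (S : Subgroup ↥K)) S)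
        ((omegaZ_le _).trans inf_le_right))
    have hle : Subgroup.centralizer (Vk : Set ↥K) ≤ D' := fun z hz => by
      rw [hD', Subgroup.mem_subgroupOf, Subgroup.mem_comap, QuotientGroup.mk'_apply,
        (QuotientGroup.eq_one_iff _).2 ((hCk z).2 hz)]
      exact one_mem _
    have heq := eq_centralizer_of_generated_fixed hgen hle (by
      obtain ⟨k, hk⟩ := IsPGroup.iff_card.1 hDp
      let ψ : ↥D' →* ↥D := (((QuotientGroup.mk' C).comp K.subtype).comp D'.subtype).codRestrict D fun z => z.2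
      have hker : ψ.ker = (Subgroup.centralizer (Vk : Set ↥K)).subgroupOf D' := by
        ext z
        rw [MonoidHom.mem_ker, Subgroup.mem_subgroupOf, ← hCk, ← QuotientGroup.eq_one_iff (N := C)]
        exact ⟨fun h => congrArg Subtype.val h, fun h => Subtype.ext h⟩
      obtain ⟨j, -, hj⟩ := (Nat.dvd_prime_pow hp.out).1
        (hk ▸ (Subgroup.index_ker ψ ▸ Subgroup.card_subgroup_dvd_card ψ.range) : ψ.ker.index ∣ p ^ k)
      rw [hker] at hj
      exact ⟨j, hj⟩)
    have hbot : D = ⊥ := by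
      rw [eq_bot_iff]
      intro d hd
      obtain ⟨j, hj, rfl⟩ : ∃ j ∈ J, QuotientGroup.mk' C j = d := (Subgroup.map_subtype_le _ hd : d ∈ Jb)
      have h1 : (⟨j, hJK hj⟩ : ↥K) ∈ D' := hd
      rw [heq, ← hCk] at h1
      exact Subgroup.mem_bot.2 ((QuotientGroup.eq_one_iff j).2 h1)
    rw [hD] at hbot
    exact (Subgroup.map_eq_bot_iff_of_injective _ Jb.subtype_injective).1 hbot
  have hgenJ : J.map (ActModel.proj V) =
      ⨆ A : {A : Subgroup (ActModel.Ω V) // A ≤ J.map (ActModel.proj V) ∧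
        IsBestOffenderOn p (ActModel.incl V).range A}, (A : Subgroup (ActModel.Ω V)) := by
    refine le_antisymm ?_ (iSup_le fun A => A.2.1)
    rw [Subgroup.map_le_iff_le_comap, hJ, Subgroup.map_le_iff_le_comap, thompsonSubgroup]
    refine sSup_le fun A hA => Subgroup.map_le_iff_le_comap.1 (Subgroup.map_le_iff_le_comap.1 ?_)
    refine le_iSup_of_le ⟨(A.map K.subtype).map (ActModel.proj V),
      Subgroup.map_mono (Subgroup.map_mono (le_sSup hA)), ?_⟩ le_rfl
    refine ActModel.offender V ?_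
    rw [hV]
    exact offender_map_subtype (isBestOffender_of_maxElementary Vk hVke hA)
  have hqH : ¬ q ∣ Nat.card ↥(J.map (ActModel.proj V)) := fun h => c.coprime
    ((h.trans (Subgroup.card_map_dvd J _)).trans (Subgroup.card_dvd_of_le hJK))
  have hXq : IsPGroup q ↥(X.map (ActModel.proj V)) := (Local.elemAb_isPGroup c.elem).map _
  have hXV : X.map (ActModel.proj V) ≤ Subgroup.normalizer ((ActModel.incl V).range : Set (ActModel.Ω V)) :=
    (Subgroup.map_le_range _ _).trans (ActModel.norm V)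
  have hXH : X.map (ActModel.proj V) ≤ Subgroup.normalizer (J.map (ActModel.proj V) : Set (ActModel.Ω V)) := by
    refine le_trans (Subgroup.map_mono (by rw [Subgroup.normalizer_eq_top]; exact le_top)) (Subgroup.le_normalizer_map _)
  have hlift : ∀ h ∈ J.map (ActModel.proj V), h ∈ Subgroup.centralizer ((X.map (ActModel.proj V) : Subgroup (ActModel.Ω V)) : Set (ActModel.Ω V)) →
      ∃ j ∈ J ⊓ Subgroup.centralizer (X : Set M), ActModel.proj V j = h := by
    rintro _ ⟨j, hj, rfl⟩ hh
    have hcop : (Nat.card X).Coprime (Nat.card J) := by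
      obtain ⟨k, hk⟩ := IsPGroup.iff_card.1 (Local.elemAb_isPGroup c.elem)
      rw [hk]
      exact Nat.Coprime.pow_left k ((hq.out.coprime_iff_not_dvd).2 fun hd => c.coprime (hd.trans (Subgroup.card_dvd_of_le hJK)))
    have hsol : Group.IsSolvable X := isSolvable_of_comm fun a b => Subtype.ext (Local.elemAb_commute c.elem a.2 b.2)
    obtain ⟨d, hd, hjd⟩ := Solv.exists_fixed_in_coset' X J (J ⊓ Subgroup.centralizer (V : Set M))
      (by rw [Subgroup.normalizer_eq_top]; exact le_top) hcop (Or.inl hsol) inf_le_left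
      (by haveI : (Subgroup.centralizer (V : Set M)).Normal := Subgroup.normal_centralizer
          rw [Subgroup.normalizer_eq_top]; exact le_top) hj (fun a ha => by
        refine Subgroup.mem_inf.2 ⟨mul_mem (inv_mem hj) (hJn.conj_mem j hj a), (ActModel.proj_eq_one V).1 ?_⟩
        rw [map_mul, map_mul, map_mul, map_inv, map_inv, Subgroup.mem_centralizer_iff.1 hh _ ⟨a, ha, rfl⟩,
          mul_inv_cancel_right, inv_mul_cancel])
    refine ⟨d, hd, ?_⟩
    have h2 := (ActModel.proj_eq_one V).2 hjd.2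
    rw [map_mul, map_inv, inv_mul_eq_one] at h2
    exact h2.symm
  have hgmk : J.map (ActModel.proj V) ≠ ⊥ → OffGen p (ActModel.incl V).range (J.map (ActModel.proj V)) :=
    fun hne => ⟨hctx, hgenJ, hne⟩
  refine ⟨fun hnc => ?_, fun S L hSL hXL hLK => ?_⟩
  · have hne : J.map (ActModel.proj V) ≠ ⊥ := fun h => hnc fun z hz => (hCk z).1 (by
      rw [Subgroup.map_eq_bot_iff, ActModel.ker_proj] at h
      exact h (hJ.ge ⟨z, hz, rfl⟩))
    have g := hgmk hne
    obtain ⟨E, hE⟩ := g.exists_factor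
    obtain ⟨δ, ω, hδ, -, hω, hωinj, hact⟩ := g.exists_diagonal hXV hXH hXq hqH hE
    have hp23 : p = 2 ∨ p = 3 := by
      obtain ⟨A, x, P, -⟩ := hE; exact P.le_two_three
    obtain ⟨σ⟩ := hE.exists_iso
    have hconjW : ∀ e : ↥E, ∀ w : ↥(⁅(ActModel.incl V).range, E⁆),
        (e : ActModel.Ω V) * w * (e : ActModel.Ω V)⁻¹ ∈ ⁅(ActModel.incl V).range, E⁆ := fun e w =>
      (hE.plane_mem g (hE.le e.2)).1 w w.2
    have hδinj : Function.Injective δ := by
      rw [injective_iff_map_eq_one]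
      intro e he
      refine Subtype.ext (hE.faith e.2 fun w hw => ?_)
      have h := hact e ⟨w, hw⟩ ⟨_, hconjW e ⟨w, hw⟩⟩ rfl
      rw [he, one_mul, inv_one, mul_one] at h
      have h2 := congrArg Subtype.val (hωinj h)
      simp only at h2
      exact (eq_mul_inv_iff_mul_eq.1 h2)
    set W' := ω.range with hW'
    obtain ⟨W, hWdef⟩ : ∃ W, W = (W'.comap (ActModel.incl V)).map V.subtype := ⟨_, rfl⟩
    have hWmem : ∀ v : ↥V, (v : M) ∈ W ↔ ActModel.incl V v ∈ W' := fun v => by
      rw [hWdef]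
      exact ⟨fun ⟨u, hu, e⟩ => by rw [← V.subtype_injective e]; exact hu, fun h => ⟨v, h, rfl⟩⟩
    have hWV : W ≤ V := hWdef ▸ Subgroup.map_subtype_le _
    have hW'le : W' ≤ (ActModel.incl V).range := by rintro _ ⟨w, rfl⟩; exact (hω w).1
    have hWcard : Nat.card W = p ^ 2 := by
      rw [hWdef, Subgroup.card_map_of_injective V.subtype_injective,
        ← Subgroup.card_map_of_injective (K := W'.comap (ActModel.incl V)) (show Function.Injective (ActModel.incl V) from SemidirectProduct.inl_injective),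
        Subgroup.map_comap_eq_self hW'le]
      exact (Nat.card_congr (MonoidHom.ofInjective hωinj).toEquiv).symm.trans hE.card_plane
    obtain ⟨D, hDdef⟩ : ∃ D, D = J ⊓ Subgroup.centralizer (X : Set M) ⊓ δ.range.comap (ActModel.proj V) := ⟨_, rfl⟩
    have hDJ : D ≤ J ⊓ Subgroup.centralizer (X : Set M) := hDdef ▸ inf_le_left
    have hDδ : ∀ d : ↥D, ∃ e, δ e = ActModel.proj V d := fun d => (hDdef.le d.2).2
    refine ⟨hp23, W, D, fun w hw => ⟨hVK (hWV hw), Subgroup.mem_centralizer_iff.2 fun x hx => ?_⟩,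
      fun d hd => ⟨hJK (hDJ hd).1, (hDJ hd).2⟩, Local.elemAb_mono hVe hWV, hWcard, ?_, ?_⟩
    · obtain ⟨w', hw'⟩ := (hWmem ⟨w, hWV hw⟩).1 hw
      have h := ActModel.act V x ⟨w, hWV hw⟩
      rw [← hw', Subgroup.mem_centralizer_iff.1 (hω w').2 _ ⟨x, hx, rfl⟩, mul_inv_cancel_right, hw'] at h
      exact mul_inv_eq_iff_eq_mul.1 (congrArg Subtype.val (SemidirectProduct.inl_injective h)).symm
    · intro d hd
      refine mem_normalizer_of_cj_le ?_
      rintro _ ⟨w, hw, rfl⟩
      show d * w * d⁻¹ ∈ W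
      refine (hWmem ⟨d * w * d⁻¹, hVn.conj_mem w (hWV hw) d⟩).2 ?_
      obtain ⟨e, he⟩ := hDδ ⟨d, hd⟩
      obtain ⟨w', hw'⟩ := (hWmem ⟨w, hWV hw⟩).1 hw
      rw [← ActModel.act V d ⟨w, hWV hw⟩, ← he, ← hw']
      exact ⟨_, (hact e w' ⟨_, hconjW e w'⟩ rfl).symm⟩
    · choose ee hee using hDδ
      let ψ : ↥D →* Matrix.SpecialLinearGroup (Fin 2) (ZMod p) := σ.toMonoidHom.comp
        (MonoidHom.mk' ee fun a b => hδinj (by rw [map_mul, hee, hee, hee, ← map_mul]; rfl))
      have hψ : Function.Surjective ψ := by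
        intro s
        obtain ⟨e, rfl⟩ := σ.surjective s
        obtain ⟨j, hj, hje⟩ := hlift (δ e) (hδ e).1 (hδ e).2
        refine ⟨⟨j, hDdef.ge ⟨hj, ⟨e, hje.symm⟩⟩⟩, congrArg σ ?_⟩
        exact hδinj ((hee _).trans hje)
      have hker : ψ.ker = (Subgroup.centralizer (W : Set M)).subgroupOf D := by
        ext d
        rw [MonoidHom.mem_ker, Subgroup.mem_subgroupOf]
        constructor
        · intro h
          have h1 : ee d = 1 := σ.injective (h.trans (map_one σ).symm)
          have h2 := hee d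
          rw [h1, map_one, eq_comm, ActModel.proj_eq_one] at h2
          exact Subgroup.centralizer_le hWV h2
        · intro h
          refine (congrArg σ (?_ : ee d = 1)).trans (map_one σ)
          refine Subtype.ext (hE.faith (ee d).2 fun w hw => ?_)
          obtain ⟨v, hv⟩ := (hω ⟨w, hw⟩).1
          have hvW : (v : M) ∈ W := (hWmem v).2 (hv ▸ ⟨_, rfl⟩)
          have h1 := hact (ee d) ⟨w, hw⟩ ⟨_, hconjW (ee d) ⟨w, hw⟩⟩ rfl
          rw [hee, ← hv, ActModel.act, show (⟨(d : M) * v * (d : M)⁻¹, hVn.conj_mem v v.2 d⟩ : ↥V) = v from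
            Subtype.ext (mul_inv_eq_iff_eq_mul.2 (Subgroup.mem_centralizer_iff.1 h _ hvW).symm), hv] at h1
          have h3 := congrArg Subtype.val (hωinj h1)
          simp only at h3
          exact (eq_mul_inv_iff_mul_eq.1 h3)
      haveI hn : ((Subgroup.centralizer (W : Set M)).subgroupOf D).Normal := hker ▸ inferInstance
      exact ⟨hn, ⟨(QuotientGroup.quotientMulEquivOfEq hker.symm).trans (QuotientGroup.quotientKerEquivOfSurjective ψ hψ)⟩⟩
  · rw [← hJ, hCmap]
    by_cases hne : J.map (ActModel.proj V) = ⊥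
    · intro j hj
      rw [Subgroup.map_eq_bot_iff, ActModel.ker_proj] at hne
      exact Subgroup.mem_sup_right ⟨hJK hj, hne hj⟩
    have g := hgmk hne
    have hT : SylIn p ((S : Subgroup ↥K).map K.subtype ⊓ J) J :=
      (sylIn_map K S).inf_normal hJK (by rw [Subgroup.normalizer_eq_top]; exact le_top)
    have hle := g.le_of_sylow_fixed (L := L.map (ActModel.proj V)) hXV hXH hXq hqH (hT.map_hom (ActModel.proj V))
      (Subgroup.map_mono (inf_le_left.trans hSL)) (fun h hh => by
        obtain ⟨j, hj, hje⟩ := hlift h hh.1 hh.2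
        exact ⟨j, hXL ⟨hJK hj.1, hj.2⟩, hje⟩)
    intro j hj
    obtain ⟨l, hl, hle'⟩ := hle ⟨j, hj, rfl⟩
    have h1 : l⁻¹ * j ∈ Subgroup.centralizer (V : Set M) := (ActModel.proj_eq_one V).1 (by
      rw [map_mul, map_inv, hle', inv_mul_cancel])
    rw [← mul_inv_cancel_left l j]
    exact mul_mem (Subgroup.mem_sup_left hl) (Subgroup.mem_sup_right (Subgroup.mem_inf.2 ⟨mul_mem (inv_mem (hLK hl)) (hJK hj), h1⟩))

omit hq in
/-- The Thompson subgroup under an isomorphism. -/
theorem thompsonSubgroup_map_equiv {K' : Type u} [Group K'] [Finite K'] (e : M ≃* K') :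
    (thompsonSubgroup p M).map e.toMonoidHom = thompsonSubgroup p K' := by
  rw [thompsonSubgroup_eq_jElem_top, thompsonSubgroup_eq_jElem_top,
    jElem_map_injOn e.toMonoidHom ⊤ e.injective.injOn, Subgroup.map_top_of_surjective _ e.surjective]

omit hq in
/-- The join of the `Ω₁(Z(S))` under an isomorphism. -/
theorem iSup_omegaZ_map_equiv {K' : Type u} [Group K'] [Finite K'] (e : M ≃* K') :
    (⨆ S : Sylow p M, omegaZ p (S : Subgroup M)).map e.toMonoidHom =
      ⨆ S : Sylow p K', omegaZ p (S : Subgroup K') := by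
  have hle : ∀ {A B : Type u} [Group A] [Group B] [Finite A] [Finite B] (f : A ≃* B),
      (⨆ S : Sylow p A, omegaZ p (S : Subgroup A)).map f.toMonoidHom ≤ ⨆ S : Sylow p B, omegaZ p (S : Subgroup B) := by
    intro A B _ _ _ _ f
    rw [Subgroup.map_iSup]
    refine iSup_le fun T => ?_
    rw [omegaZ_map f.toMonoidHom _ f.injective.injOn]
    exact le_iSup_of_le (T.mapSurjective (f := f.toMonoidHom) f.surjective)
      (le_of_eq (congrArg (omegaZ p) (Sylow.coe_mapSurjective f.surjective T).symm))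
  refine le_antisymm (hle e) fun y hy => ?_
  exact ⟨e.symm y, hle e.symm ⟨y, hy, rfl⟩, e.apply_symm_apply y⟩

/-- Passage to the normalizer. -/
theorem OpCtx.of_normalizer {K X : Subgroup M} (hX : IsElementaryAbelian q X) (hq' : ¬ q ∣ Nat.card K)
    (hsep : IsPSolvable p ↥K) (hO : pPrimeCore p ↥K = ⊥) :
    OpCtx p q (K.subgroupOf (Subgroup.normalizer (K : Set M))) (X.subgroupOf (Subgroup.normalizer (K : Set M))) := by
  have hn : (K.subgroupOf (Subgroup.normalizer (K : Set M))).Normal :=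
    Subgroup.normal_subgroupOf_of_le_normalizer le_rfl
  let e := Subgroup.subgroupOfEquivOfLe (Subgroup.le_normalizer : K ≤ Subgroup.normalizer (K : Set M))
  refine ⟨hn, ?_, ?_, ?_, ?_⟩
  · exact ⟨⟨⟨fun a b => Subtype.ext (Subtype.ext (Local.elemAb_commute hX a.2 b.2))⟩⟩,
      fun a ha => Subtype.ext (hX.2 _ ha)⟩
  · rw [Nat.card_congr e.toEquiv]; exact hq'
  · exact Solv.isPSolvable_map Fact.out hsep e.symm.toMonoidHom e.symm.surjective
  · rw [← Subgroup.map_eq_bot_iff_of_injective (f := e.toMonoidHom) _ e.injective, eq_bot_iff, ← hO]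
    exact le_pPrimeCore (hn := Subgroup.Normal.map (Solv.pPrimeCore_normal p) _ e.surjective)
      (by rw [Subgroup.card_map_of_injective e.injective]; exact card_pPrimeCore_coprime p _)

end Cfsg.Agent.Fusion
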