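import Cfsg.Agent.Lib.Fusion.Involutions
import Cfsg.Agent.Lib.Char.Central
import Cfsg.Agent.S0208
import Cfsg.Agent.S0209

/-!
# The Thompson order formula
-/

set_option autoImplicit false

namespace Cfsg.Agent.Fusion

variable {G : Type*} [Group G] [Finite G]

theorem invol_unique_in_zpowers {r x : G} (hx : orderOf x = 2) (hxr : x ∈ Subgroup.zpowers r) :
    x = r ^ (orderOf r / 2) := by
  obtain ⟨k, rfl⟩ := mem_powers_iff_mem_zpowers.2 hxr
  simp only at hx ⊢
  have hn := orderOf_pos r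
  have h2 : (r ^ k) ^ 2 = 1 := by rw [← hx]; exact pow_orderOf_eq_one _
  rw [← pow_mul] at h2
  have hdvd := orderOf_dvd_of_pow_eq_one h2
  have hnk : ¬ orderOf r ∣ k := fun h => by
    rw [orderOf_dvd_iff_pow_eq_one.1 h, orderOf_one] at hx; omega
  obtain ⟨m, hm⟩ : 2 ∣ orderOf r := by
    rw [← hx]; exact orderOf_pow_dvd k
  rw [hm, mul_comm k 2, Nat.mul_dvd_mul_iff_left two_pos] at hdvd
  obtain ⟨j, rfl⟩ := hdvd
  have hj : Odd j := by
    by_contra h
    rw [Nat.not_odd_iff_even] at h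
    obtain ⟨i, rfl⟩ := h
    exact hnk ⟨i, by rw [hm]; ring⟩
  show r ^ (m * j) = r ^ (orderOf r / 2)
  rw [hm, Nat.mul_div_cancel_left m two_pos]
  obtain ⟨i, rfl⟩ := hj
  rw [mul_add, mul_one, pow_add, show m * (2 * i) = 2 * m * i by ring, pow_mul, ← hm,
    pow_orderOf_eq_one, one_pow, one_mul]

/-- The number of pairs `(u₁, v₁)` of conjugates of `u`, `v` with `w ∈ ⟨u₁v₁⟩`. -/
noncomputable def rCount (u v w : G) : ℕ :=
  Nat.card {q : G × G // IsConj u q.1 ∧ IsConj v q.2 ∧ w ∈ Subgroup.zpowers (q.1 * q.2)}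

omit [Finite G] in
theorem orderOf_isConj {a b : G} (h : IsConj a b) : orderOf a = orderOf b := by
  obtain ⟨g, hg⟩ := isConj_iff.1 h
  rw [← hg]; exact ((MulAut.conj g).orderOf_eq a).symm

theorem thompson_order_count (u v : G) (hu : orderOf u = 2) (hv : orderOf v = 2)
    (huv : ¬ IsConj u v) (W : Finset G) (hW2 : ∀ w ∈ W, orderOf w = 2)
    (hWrep : ∀ t : G, orderOf t = 2 → ∃ w ∈ W, IsConj t w ∧ ∀ w' ∈ W, IsConj t w' → w' = w) :
    Nat.card {x : G // IsConj u x} * Nat.card {x : G // IsConj v x} =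
      ∑ w ∈ W, Nat.card {x : G // IsConj w x} * rCount u v w := by
  classical
  let A := {q : G × G // IsConj u q.1 ∧ IsConj v q.2}
  let inv : A → G := fun q => (q.1.1 * q.1.2) ^ (orderOf (q.1.1 * q.1.2) / 2)
  have hinv : ∀ q : A, orderOf (inv q) = 2 := fun q => by
    have h1 := (orderOf_isConj q.2.1).symm.trans hu
    have h2 := (orderOf_isConj q.2.2).symm.trans hv
    refine (S0209.result _ _ h1 h2 ?_).1
    rw [← Nat.not_odd_iff_even]
    intro ho
    obtain ⟨d, -, hd⟩ := S0208.result _ _ h1 h2 ho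
    exact huv ((q.2.1.trans (isConj_iff.2 ⟨d, hd⟩)).trans q.2.2.symm)
  let rep : A → W := fun q => ⟨(hWrep _ (hinv q)).choose, (hWrep _ (hinv q)).choose_spec.1⟩
  have e : A ≃ Σ w : W, Σ x : {x : G // IsConj (w : G) x},
      {q : G × G // IsConj u q.1 ∧ IsConj v q.2 ∧ (x : G) ∈ Subgroup.zpowers (q.1 * q.2)} :=
    (Equiv.ofBijective (fun z => (⟨z.2.2.1, z.2.2.2.1, z.2.2.2.2.1⟩ : A)) (by
      constructor
      · rintro ⟨⟨w, hw⟩, ⟨x, hx⟩, ⟨q, hq1, hq2, hq3⟩⟩ ⟨⟨w', hw'⟩, ⟨x', hx'⟩, ⟨q', hq1', hq2', hq3'⟩⟩ h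
        obtain rfl : q = q' := congrArg Subtype.val h
        have hx2 : orderOf x = 2 := (orderOf_isConj hx).symm.trans (hW2 w hw)
        have hx2' : orderOf x' = 2 := (orderOf_isConj hx').symm.trans (hW2 w' hw')
        obtain rfl : x = x' :=
          (invol_unique_in_zpowers hx2 hq3).trans (invol_unique_in_zpowers hx2' hq3').symm
        obtain ⟨w₀, -, -, hu₀⟩ := hWrep x hx2
        obtain rfl : w = w' := (hu₀ w hw hx.symm).trans (hu₀ w' hw' hx'.symm).symm
        rfl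
      · intro q
        exact ⟨⟨rep q, ⟨inv q, (hWrep _ (hinv q)).choose_spec.2.1.symm⟩,
          q.1, q.2.1, q.2.2, Subgroup.npow_mem_zpowers _ _⟩, rfl⟩)).symm
  have hA : Nat.card A = Nat.card {x : G // IsConj u x} * Nat.card {x : G // IsConj v x} := by
    rw [← Nat.card_prod]
    exact Nat.card_congr
      { toFun := fun q => (⟨q.1.1, q.2.1⟩, ⟨q.1.2, q.2.2⟩)
        invFun := fun q => ⟨(q.1.1, q.2.1), q.1.2, q.2.2⟩
        left_inv := fun _ => rfl
        right_inv := fun _ => rfl }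
  rw [← hA, Nat.card_congr e, Nat.card_sigma, Finset.univ_eq_attach]
  refine (Finset.sum_congr rfl fun w _ => ?_).trans (Finset.sum_attach W
    fun w => Nat.card {x : G // IsConj w x} * rCount u v w)
  haveI : Fintype {x : G // IsConj (w : G) x} := Fintype.ofFinite _
  rw [Nat.card_sigma]
  have hc : ∀ x : {x : G // IsConj (w : G) x},
      Nat.card {q : G × G // IsConj u q.1 ∧ IsConj v q.2 ∧ (x : G) ∈ Subgroup.zpowers (q.1 * q.2)} =
        rCount u v (w : G) := by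
    rintro ⟨x, hx⟩
    obtain ⟨g, hg⟩ := isConj_iff.1 hx
    refine (Nat.card_congr ((Equiv.prodCongr (MulAut.conj g).toEquiv (MulAut.conj g).toEquiv).subtypeEquiv
      fun q => ?_)).symm
    show _ ↔ IsConj u (g * q.1 * g⁻¹) ∧ IsConj v (g * q.2 * g⁻¹) ∧
      x ∈ Subgroup.zpowers (g * q.1 * g⁻¹ * (g * q.2 * g⁻¹))
    refine and_congr ⟨fun h => h.trans (isConj_iff.2 ⟨g, rfl⟩), fun h => h.trans (isConj_iff.2 ⟨g, rfl⟩ : IsConj q.1 _).symm⟩
      (and_congr ⟨fun h => h.trans (isConj_iff.2 ⟨g, rfl⟩), fun h => h.trans (isConj_iff.2 ⟨g, rfl⟩ : IsConj q.2 _).symm⟩ ?_)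
    rw [← hg, show g * q.1 * g⁻¹ * (g * q.2 * g⁻¹) = MulAut.conj g (q.1 * q.2) by simp [mul_assoc],
      show g * (w : G) * g⁻¹ = MulAut.conj g (w : G) from rfl, Subgroup.mem_zpowers_iff, Subgroup.mem_zpowers_iff]
    simp only [← map_zpow, EmbeddingLike.apply_eq_iff_eq]
  simp only [hc]
  rw [Finset.sum_const, smul_eq_mul, Finset.card_univ, Nat.card_eq_fintype_card]

theorem thompson_order_formula (u v : G) (hu : orderOf u = 2) (hv : orderOf v = 2)
    (huv : ¬ IsConj u v) (W : Finset G) (hW2 : ∀ w ∈ W, orderOf w = 2)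
    (hWrep : ∀ t : G, orderOf t = 2 → ∃ w ∈ W, IsConj t w ∧ ∀ w' ∈ W, IsConj t w' → w' = w) :
    (Nat.card G : ℚ) =
      (Nat.card ↥(Subgroup.centralizer ({u} : Set G)) : ℚ) * Nat.card ↥(Subgroup.centralizer ({v} : Set G)) *
        ∑ w ∈ W, (rCount u v w : ℚ) / Nat.card ↥(Subgroup.centralizer ({w} : Set G)) := by
  have h := congrArg (fun n : ℕ => (n : ℚ)) (thompson_order_count u v hu hv huv W hW2 hWrep)
  push_cast at h
  have hk : ∀ g : G, (Nat.card {x : G // IsConj g x} : ℚ) =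
      (Nat.card G : ℚ) / Nat.card ↥(Subgroup.centralizer ({g} : Set G)) := fun g => by
    rw [eq_div_iff (by exact_mod_cast Nat.card_pos.ne')]
    exact_mod_cast Char.card_conjClass_mul_centralizer g
  simp only [hk] at h
  have hN : (Nat.card G : ℚ) ≠ 0 := by exact_mod_cast Nat.card_pos.ne'
  have h1 : ∑ w ∈ W, (Nat.card G : ℚ) / Nat.card ↥(Subgroup.centralizer ({w} : Set G)) * rCount u v w =
      (Nat.card G : ℚ) * ∑ w ∈ W, (rCount u v w : ℚ) / Nat.card ↥(Subgroup.centralizer ({w} : Set G)) := by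
    rw [Finset.mul_sum]; exact Finset.sum_congr rfl fun w _ => by ring
  rw [h1] at h
  have hu0 : (Nat.card ↥(Subgroup.centralizer ({u} : Set G)) : ℚ) ≠ 0 := by exact_mod_cast Nat.card_pos.ne'
  have hv0 : (Nat.card ↥(Subgroup.centralizer ({v} : Set G)) : ℚ) ≠ 0 := by exact_mod_cast Nat.card_pos.ne'
  field_simp at h
  linear_combination h

end Cfsg.Agent.Fusion
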