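import Cfsg.Agent.Lib.Solv.OddGated.SylowFixerAut
import Cfsg.Agent.S0205
import Cfsg.Agent.S4207
import Cfsg.Agent.S0144
import Cfsg.Agent.S0012
import Cfsg.Prelude.Def_KGroupFacts

/-!
The automorphisms leaving a Sylow 2-subgroup invariant, and a reduction for the solvability of `Out`.
-/

set_option autoImplicit false
set_option linter.style.haveILetI false

open scoped Pointwise

namespace Cfsg.Agent.OutStab

universe u

variable {G : Type u} [Group G]

/-- Restriction of the automorphisms leaving `H` invariant. -/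
def stab (H : Subgroup G) : Subgroup (MulAut G) where
  carrier := {φ | ∀ x : G, φ x ∈ H ↔ x ∈ H}
  one_mem' := fun _ => Iff.rfl
  mul_mem' := fun {a b} ha hb x => (ha (b x)).trans (hb x)
  inv_mem' := fun {a} ha x => by rw [← ha (a⁻¹ x), MulAut.apply_inv_self]

/-- The restriction to `H`. -/
def res (H : Subgroup G) : stab H →* MulAut H where
  toFun φ :=
    { toFun := fun x => ⟨(φ : MulAut G) x, (φ.2 x).2 x.2⟩
      invFun := fun x => ⟨((φ : MulAut G)⁻¹) x, (((stab H).inv_mem φ.2) x).2 x.2⟩
      left_inv := fun x => Subtype.ext (MulAut.inv_apply_self _ _ _)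
      right_inv := fun x => Subtype.ext (MulAut.apply_inv_self _ _ _)
      map_mul' := fun x y => Subtype.ext (map_mul (φ : MulAut G) (x : G) y) }
  map_one' := MulEquiv.ext fun _ => Subtype.ext rfl
  map_mul' := fun _ _ => MulEquiv.ext fun _ => Subtype.ext rfl

/-- Conjugation by the normaliser. -/
def inner (H : Subgroup G) : Subgroup.normalizer (H : Set G) →* stab H :=
  (MulAut.conj.comp (Subgroup.normalizer (H : Set G)).subtype).codRestrict (stab H) fun g x =>
    (Subgroup.mem_normalizer_iff.1 g.2 x).symm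

theorem inner_range_normal (H : Subgroup G) : ((inner H).range).Normal := ⟨by
  rintro _ ⟨g, rfl⟩ φ
  have hφi : ∀ x, (φ : MulAut G)⁻¹ x ∈ H ↔ x ∈ H := (stab H).inv_mem φ.2
  refine ⟨⟨(φ : MulAut G) g, Subgroup.mem_normalizer_iff.2 fun x => ?_⟩, Subtype.ext (MulEquiv.ext fun x => ?_)⟩
  · have e : (φ : MulAut G) g * x * ((φ : MulAut G) g)⁻¹ =
        (φ : MulAut G) ((g : G) * (φ : MulAut G)⁻¹ x * (g : G)⁻¹) := by
      rw [map_mul, map_mul, map_inv, MulAut.apply_inv_self]
    rw [e, φ.2, ← (Subgroup.mem_normalizer_iff.1 g.2), hφi]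
  · show (φ : MulAut G) g * x * ((φ : MulAut G) g)⁻¹ =
      (φ : MulAut G) ((g : G) * (φ : MulAut G)⁻¹ x * (g : G)⁻¹)
    rw [map_mul, map_mul, map_inv, MulAut.apply_inv_self]⟩

theorem isSolvable_of_ker {A T : Type*} [Group A] [Group T] (f : A →* T) [Group.IsSolvable f.ker]
    [Group.IsSolvable f.range] : Group.IsSolvable A :=
  Group.isSolvable_of_ker_le_range f.ker.subtype f.rangeRestrict
    (by rw [MonoidHom.ker_rangeRestrict, Subgroup.range_subtype])

variable [Finite G]

/-- `Out(G)` is solvable as soon as the stabiliser of a Sylow subgroup is. -/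
theorem out_solvable {p : ℕ} [Fact p.Prime] (S : Sylow p G) (hA : Group.IsSolvable (stab (S : Subgroup G))) :
    Group.IsSolvable (Cfsg.Out G) := by
  haveI := hA
  refine Group.isSolvable_of_surjective (f := (QuotientGroup.mk' (Cfsg.Inn G)).comp (stab (S : Subgroup G)).subtype)
    fun q => ?_
  obtain ⟨φ, rfl⟩ := QuotientGroup.mk'_surjective (Cfsg.Inn G) q
  obtain ⟨g, hg⟩ := MulAction.exists_smul_eq G S (S.comapOfInjective (φ : G ≃* G).toMonoidHom
    (show Function.Injective ⇑((φ : G ≃* G).toMonoidHom) from φ.injective)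
    (by rw [MonoidHom.range_eq_top.2 φ.surjective]; exact le_top))
  have hg' : ∀ x : G, φ x ∈ (S : Subgroup G) ↔ g⁻¹ * x * g ∈ (S : Subgroup G) := fun x => by
    have h := SetLike.ext_iff.1 (congrArg Sylow.toSubgroup hg) x
    rw [Sylow.coe_subgroup_smul, Sylow.coe_comapOfInjective, Subgroup.mem_pointwise_smul_iff_inv_smul_mem] at h
    simpa [MulAut.smul_def, MulAut.conj_inv_apply, MulAut.conj_apply] using h.symm
  refine ⟨⟨φ * MulAut.conj g, fun x => ?_⟩, ?_⟩
  · rw [MulAut.mul_apply, MulAut.conj_apply, hg']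
    simp [mul_assoc]
  · show QuotientGroup.mk' (Cfsg.Inn G) (φ * MulAut.conj g) = _
    rw [map_mul, show QuotientGroup.mk' (Cfsg.Inn G) (MulAut.conj g) = 1 from
      (QuotientGroup.eq_one_iff _).2 ⟨g, rfl⟩, mul_one]

/-- The stabiliser is solvable if its action through `θ` is, for `θ` with solvable kernel. -/
theorem isSolvable_stab (hO : ∀ N : Subgroup G, N.Normal → Odd (Nat.card N) → N = ⊥) (S : Sylow 2 G)
    {T : Type*} [Group T] (θ : MulAut (S : Subgroup G) →* T) (hK : Group.IsSolvable θ.ker)
    (hR : Group.IsSolvable (θ.comp (res (S : Subgroup G))).range) :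
    Group.IsSolvable (stab (S : Subgroup G)) := by
  haveI : Fact (Nat.Prime 2) := ⟨Nat.prime_two⟩
  set f := res (S : Subgroup G)
  let C : Subgroup (MulAut G) := f.ker.map (stab (S : Subgroup G)).subtype
  have hfix : ∀ a ∈ C, ∀ s ∈ (S : Subgroup G), (a : MulAut G) s = s := by
    rintro _ ⟨a, ha, rfl⟩ s hs
    exact congrArg (fun e : MulAut ↥(S : Subgroup G) => ((e ⟨s, hs⟩ : ↥(S : Subgroup G)) : G)) (MonoidHom.mem_ker.1 ha)
  haveI : Group.IsSolvable ↥C := Solv.OddGated.Fixer.solvable_of_structure (fun X _ _ hX => Cfsg.Agent.S0205.result hX)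
    (Solv.OddGated.Fixer.structure_of_fixer hO hfix)
  haveI : Group.IsSolvable ↥f.ker := Group.isSolvable_of_isSolvable_injective
    (f := (f.ker.equivMapOfInjective _ (stab (S : Subgroup G)).subtype_injective).toMonoidHom) (MulEquiv.injective _)
  -- the kernel of the composite
  haveI := hK
  let g : (θ.comp f).ker →* θ.ker := (f.comp (θ.comp f).ker.subtype).codRestrict θ.ker fun a => a.2
  haveI : Group.IsSolvable g.ker := Group.isSolvable_of_isSolvable_injective
    (f := ((θ.comp f).ker.subtype.comp g.ker.subtype).codRestrict f.ker fun a =>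
      congrArg Subtype.val (MonoidHom.mem_ker.1 a.2))
    fun a b h => Subtype.ext (Subtype.ext (congrArg (fun z : f.ker => (z : stab (S : Subgroup G))) h))
  haveI : Group.IsSolvable (θ.comp f).ker := isSolvable_of_ker g
  haveI := hR
  exact isSolvable_of_ker (θ.comp f)

omit [Finite G] in
/-- A finite group whose order involves only the primes 2 and 3 is solvable. -/
theorem isSolvable_of_two_three {H : Type*} [Group H] [Finite H]
    (hp : ∀ q : ℕ, q.Prime → q ∣ Nat.card H → q = 2 ∨ q = 3) : Group.IsSolvable H := by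
  refine Cfsg.Agent.S0144.result 2 3 ((Nat.card H).factorization 2) ((Nat.card H).factorization 3)
    Nat.prime_two Nat.prime_three ?_
  refine Nat.eq_of_factorization_eq Nat.card_pos.ne' (by positivity) fun q => ?_
  rw [Nat.factorization_mul (by positivity) (by positivity), Finsupp.add_apply,
    Nat.Prime.factorization_pow Nat.prime_two, Nat.Prime.factorization_pow Nat.prime_three]
  by_cases h2 : q = 2
  · subst h2; simp
  by_cases h3 : q = 3
  · subst h3; simp
  rw [Finsupp.single_eq_of_ne h2, Finsupp.single_eq_of_ne h3, add_zero]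
  refine Nat.factorization_eq_zero_iff _ _ |>.2 ?_
  by_cases hq : q.Prime
  · exact Or.inr (Or.inl fun hd => (hp q hq hd).elim h2 h3)
  · exact Or.inl hq

omit [Finite G] in
/-- Automorphism groups of groups of order at most 4 are solvable. -/
theorem isSolvable_mulAut_le_four {Q : Type*} [Group Q] [Finite Q] (hQ : Nat.card Q ≤ 4) :
    Group.IsSolvable (MulAut Q) := by
  refine isSolvable_of_two_three fun q hq hd => ?_
  let ι : MulAut Q →* Equiv.Perm Q :=
    { toFun := fun φ => φ.toEquiv, map_one' := rfl, map_mul' := fun _ _ => rfl }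
  have h1 : Nat.card (MulAut Q) ∣ Nat.card (Equiv.Perm Q) := Subgroup.card_dvd_of_injective ι
    fun a b h => MulEquiv.ext fun x => congrArg (fun e : Equiv.Perm Q => e x) h
  rw [Nat.card_perm] at h1
  have h4 : q ≤ 4 := (hq.dvd_factorial.1 (hd.trans h1)).trans hQ
  have := hq.two_le
  have : q ≠ 4 := fun e => by rw [e] at hq; norm_num at hq
  omega

/-- The action on the Frattini quotient. -/
noncomputable def frat (P : Type*) [Group P] : MulAut P →* MulAut (P ⧸ frattini P) where
  toFun α := QuotientGroup.congr _ _ α (Subgroup.characteristic_iff_map_eq.1 inferInstance α)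
  map_one' := by ext q; induction q using QuotientGroup.induction_on; rfl
  map_mul' := fun α β => by ext q; induction q using QuotientGroup.induction_on; rfl

omit [Finite G] in
/-- Its kernel is a 2-group for 2-groups. -/
theorem isPGroup_frat_ker {P : Type*} [Group P] [Finite P] (hP : IsPGroup 2 P) : IsPGroup 2 (frat P).ker := by
  haveI : Fact (Nat.Prime 2) := ⟨Nat.prime_two⟩
  obtain ⟨n, hn⟩ := hP.exists_card_eq
  obtain ⟨r, -, hr⟩ := (Nat.dvd_prime_pow Nat.prime_two).1 ((frattini P).index_dvd_card.trans hn.dvd)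
  have h := Cfsg.Agent.S4207.result (p := 2) hn hr (frat P).ker fun α hα z => by
    have e : frat P α (z : P ⧸ frattini P) = z := by rw [MonoidHom.mem_ker.1 hα]; rfl
    have e' : ((α z : P) : P ⧸ frattini P) = z := e
    rw [← QuotientGroup.eq_one_iff, QuotientGroup.mk_mul, QuotientGroup.mk_inv, e', mul_inv_cancel]
  obtain ⟨j, -, hj⟩ := (Nat.dvd_prime_pow Nat.prime_two).1 h
  exact IsPGroup.of_card hj

omit [Finite G] in
theorem frat_exponent_two {P : Type*} [Group P] [Finite P] (hP : IsPGroup 2 P) (q : P ⧸ frattini P) :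
    q * q = 1 := by
  haveI : Fact (Nat.Prime 2) := ⟨Nat.prime_two⟩
  induction q using QuotientGroup.induction_on with
  | _ z =>
    rw [← QuotientGroup.mk_mul, QuotientGroup.eq_one_iff, ← pow_two]
    exact (Cfsg.Agent.S0012.result 2 hP).2 z

end Cfsg.Agent.OutStab
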