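import Cfsg.Agent.S3743
import Cfsg.Agent.Lib.Fusion.NPC
import Cfsg.Agent.Lib.Solv.Component

/-!
# Basic properties of `p`-components
-/

set_option autoImplicit false

namespace Cfsg.Agent.Fusion

variable {X : Type*} [Group X] [Finite X] {p : ℕ} [hp : Fact p.Prime]

theorem piPrime_of_subnormal {A : Subgroup X} (hA : A.IsSubnormal) (h : (Nat.card A).Coprime p) :
    A ≤ Cfsg.pPrimeCore p X := by
  have h1 := S3743.pi_le X A hA {q | q ≠ p} fun q hq hd hqp => by
    subst hqp
    exact (coprime_card_iff_not_dvd.1 h) hd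
  haveI : (Cfsg.piCore {q | q ≠ p} X).Normal := inferInstance
  refine h1.trans (le_pPrimeCore (coprime_card_iff_not_dvd.2 fun hd => ?_))
  obtain ⟨M, -, hM⟩ := Finite.exists_le_maximal
    (p := fun N : Subgroup X => N.Normal ∧ ∀ q : ℕ, q.Prime → q ∣ Nat.card N → q ∈ {q | q ≠ p}) (a := ⊥)
    ⟨inferInstance, fun q hq hd => absurd (Nat.dvd_one.1 (by simpa using hd)) hq.ne_one⟩
  have hcore : Cfsg.piCore {q | q ≠ p} X = M := by
    refine le_antisymm (sSup_le fun N hN => ?_) (le_sSup hM.1)
    have := hM.1.1; have := hN.1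
    exact le_sup_right.trans (hM.2 ⟨inferInstance, fun q hq hd => by
      rcases hq.dvd_mul.1 (hd.trans (Solv.card_sup_dvd M N)) with h | h
      exacts [hM.1.2 q hq h, hN.2 q hq h]⟩ le_sup_left)
  exact hM.1.2 p hp.out (hcore ▸ hd) rfl

theorem map_isSubnormal_quotient {H : Subgroup X} (hH : H.IsSubnormal) :
    (H.map (QuotientGroup.mk' (Cfsg.pPrimeCore p X))).IsSubnormal :=
  Subgroup.IsSubnormal.map (QuotientGroup.mk'_surjective _) hH

omit hp [Finite X] in
theorem qs_of_central_kernel {K H : Type*} [Group K] [Group H] (φ : K →* H)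
    (hφ : Function.Surjective φ) (hK : Group.IsPerfect K) (hker : φ.ker ≤ Subgroup.center K)
    (hH : Cfsg.IsQuasisimple H) : Cfsg.IsQuasisimple K := by
  haveI := hK
  let ψ : K →* H ⧸ Subgroup.center H := (QuotientGroup.mk' _).comp φ
  have hψ : Function.Surjective ψ := (QuotientGroup.mk'_surjective _).comp hφ
  have hkψ : ψ.ker = Subgroup.center K := by
    refine le_antisymm ?_ fun x hx => ?_
    · intro x hx
      have hx' : φ x ∈ Subgroup.center H := (QuotientGroup.eq_one_iff (φ x)).1 hx
      have h1 : ⁅ψ.ker, (⊤ : Subgroup K)⁆ ≤ Subgroup.center K := by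
        rw [Subgroup.commutator_le]
        intro a ha b _
        refine hker ?_
        have ha' : φ a ∈ Subgroup.center H := (QuotientGroup.eq_one_iff (φ a)).1 ha
        rw [MonoidHom.mem_ker, map_commutatorElement, commutatorElement_eq_one_iff_mul_comm]
        exact (Subgroup.mem_center_iff.1 ha' (φ b)).symm
      have h2 : ⁅(⊤ : Subgroup K), ψ.ker⁆ = ⊥ :=
        Solv.commutator_eq_bot_of_perfect ((commutator_def K).symm.trans Group.IsPerfect.commutator_eq_top) (by
          rw [eq_bot_iff, Subgroup.commutator_comm (⊤ : Subgroup K) ψ.ker]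
          refine le_trans (Subgroup.commutator_mono h1 le_rfl) ?_
          rw [Subgroup.commutator_le]
          intro a ha b _
          rw [Subgroup.mem_bot, commutatorElement_eq_one_iff_mul_comm]
          exact (Subgroup.mem_center_iff.1 ha b).symm)
      rw [Subgroup.commutator_eq_bot_iff_le_centralizer] at h2
      exact Subgroup.mem_center_iff.2 fun y =>
        (Subgroup.mem_centralizer_iff.1 (h2 (Subgroup.mem_top y)) x hx).symm
    · refine (QuotientGroup.eq_one_iff (φ x)).2 (Subgroup.mem_center_iff.2 fun y => ?_)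
      obtain ⟨y, rfl⟩ := hφ y
      rw [← map_mul, ← map_mul, Subgroup.mem_center_iff.1 hx y]
  haveI := hH.2
  exact ⟨hK, ((QuotientGroup.quotientMulEquivOfEq hkψ.symm).trans
    (QuotientGroup.quotientKerEquivOfSurjective ψ hψ)).isSimpleGroup⟩

variable {K : Subgroup X}

theorem pComponent_perfect (hK : Cfsg.IsPComponent p K) : ⁅K, K⁆ = K := by
  refine hK.2.2 _ ?_ (Subgroup.commutator_le_self K) ?_
  · exact Subgroup.IsSubnormal.step _ K (Subgroup.commutator_le_self K) hK.1 (by
      rw [Subgroup.normal_subgroupOf_iff_le_normalizer (Subgroup.commutator_le_self K)]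
      exact fun x hx => mem_normalizer_of_cj_le (by rw [cj_commutator, cj_eq_self_of_mem hx]))
  · rw [Subgroup.map_commutator]
    exact Solv.qs_self_commutator hK.2.1.2

theorem pComponent_dvd (hK : Cfsg.IsPComponent p K) : p ∣ Nat.card K := by
  by_contra h
  refine Solv.qs_ne_bot hK.2.1.2 ((Subgroup.map_eq_bot_iff K).2 ?_)
  rw [QuotientGroup.ker_mk']
  exact piPrime_of_subnormal hK.1 (coprime_card_iff_not_dvd.2 h)

theorem pComponent_minimal (hK : Cfsg.IsPComponent p K) {H : Subgroup X} (hHK : H ≤ K)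
    (hH : H.IsSubnormal) (hperf : ⁅H, H⁆ = H) (hd : p ∣ Nat.card H) : H = K := by
  set π := QuotientGroup.mk' (Cfsg.pPrimeCore p X) with hπ
  have hle : H.map π ≤ K.map π := Subgroup.map_mono hHK
  rcases Solv.qs_subnormal hK.2.1.2 (A := (H.map π).subgroupOf (K.map π))
      (map_isSubnormal_quotient hH).subgroupOf with h | h
  · exact hK.2.2 H hH hHK (le_antisymm hle (Subgroup.subgroupOf_eq_top.1 h))
  · exfalso
    have h1 : H.map π = ⊥ := by
      rw [← hperf, Subgroup.map_commutator, eq_bot_iff, Subgroup.commutator_le]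
      intro a ha b hb
      rw [Subgroup.mem_bot, commutatorElement_eq_one_iff_mul_comm]
      exact (congrArg Subtype.val (Subgroup.mem_center_iff.1
        (h (show (⟨a, hle ha⟩ : K.map π) ∈ (H.map π).subgroupOf (K.map π) from ha)) ⟨b, hle hb⟩)).symm
    rw [Subgroup.map_eq_bot_iff, hπ, QuotientGroup.ker_mk'] at h1
    exact coprime_card_iff_not_dvd.1
      ((card_pPrimeCore_coprime p X).coprime_dvd_left (Subgroup.card_dvd_of_le h1)) hd

theorem pComponent_normal_coprime_index (hK : Cfsg.IsPComponent p K) (N : Subgroup ↥K) [N.Normal]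
    (hidx : N.index.Coprime p) : N = ⊤ := by
  set π := QuotientGroup.mk' (Cfsg.pPrimeCore p X) with hπ
  let φ : ↥K →* ↥(K.map π) := π.subgroupMap K
  have hφ : Function.Surjective φ := π.subgroupMap_surjective K
  haveI : (N.map φ).Normal := Subgroup.Normal.map inferInstance φ hφ
  have hNsn : (N.map K.subtype).IsSubnormal :=
    (inferInstance : N.Normal).isSubnormal.trans' hK.1
  have hmapeq : (N.map φ).map (K.map π).subtype = (N.map K.subtype).map π := by
    rw [Subgroup.map_map, Subgroup.map_map]; rfl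
  rcases Solv.qs_normal_le_center_or_top hK.2.1.2 (N.map φ) with h | h
  · have h1 : (N.map K.subtype).map π = K.map π := by
      rw [← hmapeq, h, ← MonoidHom.range_eq_map, Subgroup.range_subtype]
    have h2 := hK.2.2 _ hNsn (Subgroup.map_subtype_le N) h1
    refine Subgroup.map_injective K.subtype_injective ?_
    rw [h2, ← MonoidHom.range_eq_map, Subgroup.range_subtype]
  · exfalso
    haveI hperf := hK.2.1.2.1
    have hidx' : (N.map φ).index.Coprime p := hidx.coprime_dvd_left (N.index_map_dvd hφ)
    have hn : Cfsg.HasNormalPComplement p ↥(K.map π) := by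
      obtain ⟨P⟩ : Nonempty (Sylow p ↥(K.map π)) := inferInstance
      refine hnpc_of_normalizer_le_centralizer P fun c _ => Subgroup.mem_centralizer_iff.2 fun y hy => ?_
      have hy1 : y ∈ Subgroup.center ↥(K.map π) := by
        refine h ?_
        rw [← QuotientGroup.eq_one_iff, ← orderOf_eq_one_iff]
        obtain ⟨k, hk⟩ := P.isPGroup' ⟨y, hy⟩
        refine Nat.eq_one_of_dvd_coprimes ((hidx'.symm.pow_left k).symm) ?_
          ((orderOf_map_dvd (QuotientGroup.mk' (N.map φ)) y).trans
            (orderOf_dvd_of_pow_eq_one (congrArg Subtype.val hk)))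
        rw [Subgroup.index_eq_card]
        exact orderOf_dvd_natCard _
      exact (Subgroup.mem_center_iff.1 hy1 c).symm
    have htop : Cfsg.pResidual p ↥(K.map π) = ⊤ := by
      by_contra hne
      haveI : Nontrivial (↥(K.map π) ⧸ Cfsg.pResidual p ↥(K.map π)) := QuotientGroup.nontrivial_iff.2 hne
      haveI := (isPGroup_quotient_pResidual (p := p) (G := ↥(K.map π))).isNilpotent
      haveI : Group.IsPerfect (↥(K.map π) ⧸ Cfsg.pResidual p ↥(K.map π)) :=
        Group.IsPerfect.ofSurjective (f := QuotientGroup.mk' _) (QuotientGroup.mk'_surjective _)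
      exact Group.IsPerfect.not_isSolvable (G := ↥(K.map π) ⧸ Cfsg.pResidual p ↥(K.map π)) inferInstance
    rw [hnpc_iff, htop, Subgroup.card_top] at hn
    refine Solv.qs_ne_bot hK.2.1.2 (le_bot_iff.1 ?_)
    rw [← pPrimeCore_quotient_eq_bot (p := p) (G := X)]
    exact piPrime_of_subnormal hK.2.1.1 hn

theorem map_pPrimeCore_pComponent (hK : Cfsg.IsPComponent p K) :
    ((QuotientGroup.mk' (Cfsg.pPrimeCore p X)).subgroupMap K).ker = Cfsg.pPrimeCore p ↥K := by
  have hker : ((QuotientGroup.mk' (Cfsg.pPrimeCore p X)).subgroupMap K).ker =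
      (Cfsg.pPrimeCore p X).subgroupOf K := by
    ext x
    rw [MonoidHom.mem_ker, Subgroup.mem_subgroupOf, Subtype.ext_iff]
    exact QuotientGroup.eq_one_iff (x : X)
  rw [hker]
  refine le_antisymm (le_pPrimeCore ?_) fun x hx => ?_
  · rw [← Subgroup.card_map_of_injective K.subtype_injective, Subgroup.subgroupOf_map_subtype]
    exact (card_pPrimeCore_coprime p X).coprime_dvd_left (Subgroup.card_dvd_of_le inf_le_left)
  · refine piPrime_of_subnormal ((inferInstance : (Cfsg.pPrimeCore p ↥K).Normal).isSubnormal.trans' hK.1) ?_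
      (Subgroup.mem_map_of_mem K.subtype hx)
    rw [Subgroup.card_map_of_injective K.subtype_injective]
    exact card_pPrimeCore_coprime p _

end Cfsg.Agent.Fusion
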