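import Cfsg.Agent.Lib.Fusion.PConstrained
import Cfsg.Agent.Lib.Fusion.PComponent

/-!
Components lift to p-components; p-constrained means trivial p-layer.
-/

set_option autoImplicit false

open scoped commutatorElement

namespace Cfsg.Agent.Fusion

variable {X : Type*} [Group X] [Finite X] {p : ℕ}

/-- every component of the quotient by the p'-core is the image of a p-component -/
theorem exists_pComponent_map {C : Subgroup (X ⧸ Cfsg.pPrimeCore p X)} (hC : Cfsg.IsComponent C) :
    ∃ K : Subgroup X, Cfsg.IsPComponent p K ∧ K.map (QuotientGroup.mk' (Cfsg.pPrimeCore p X)) = C := by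
  set π := QuotientGroup.mk' (Cfsg.pPrimeCore p X) with hπ
  have hne : {K : Subgroup X | K.IsSubnormal ∧ K.map π = C}.Nonempty :=
    ⟨C.comap π, hC.1.comap π, Subgroup.map_comap_eq_self_of_surjective (QuotientGroup.mk'_surjective _) C⟩
  obtain ⟨K, ⟨hKsn, hKC⟩, hmin⟩ := Set.exists_min_image _ (fun K : Subgroup X => Nat.card K)
    (Set.toFinite _) hne
  refine ⟨K, ⟨hKsn, ?_, fun H hH hHK he => ?_⟩, hKC⟩
  · rw [← hπ, hKC]; exact hC
  · exact Subgroup.eq_of_le_of_card_ge hHK (hmin H ⟨hH, he.trans hKC⟩)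

theorem pLayer_eq_bot_iff :
    Cfsg.pLayer p X = ⊥ ↔ Cfsg.layer (X ⧸ Cfsg.pPrimeCore p X) = ⊥ := by
  constructor
  · intro h
    rw [Cfsg.layer, sSup_eq_bot]
    intro C hC
    obtain ⟨K, hK, rfl⟩ := exists_pComponent_map (p := p) hC
    have : K ≤ ⊥ := h ▸ le_sSup hK
    rw [le_bot_iff.1 this, Subgroup.map_bot]
  · intro h
    rw [Cfsg.pLayer, sSup_eq_bot]
    intro K hK
    exfalso
    refine Solv.qs_ne_bot hK.2.1.2 (le_bot_iff.1 ?_)
    rw [← h]
    exact Solv.component_le_layer hK.2.1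

theorem fitting_eq_pCore [hp : Fact p.Prime] (h : Cfsg.pPrimeCore p X = ⊥) :
    Cfsg.fittingSubgroup X = Cfsg.pCore p X := by
  refine le_antisymm ?_ (Solv.pCore_le_fitting p)
  rw [Solv.fitting_eq_iSup_pCore]
  refine iSup_le fun q => ?_
  by_cases hq : (q : ℕ) = p
  · rw [hq]
  · haveI : Fact (q : ℕ).Prime := ⟨q.2⟩
    refine le_trans (le_pPrimeCore (p := p) ?_) (h.le.trans bot_le)
    obtain ⟨n, hn⟩ := IsPGroup.iff_card.1 (isPGroup_pCore (q : ℕ) X)
    rw [hn]
    exact Nat.Coprime.pow_left n ((Nat.coprime_primes q.2 hp.out).2 hq)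

/-- With trivial p'-core, the p-core contains its centraliser iff there are no components. -/
theorem centralizer_pCore_le_iff_layer [Fact p.Prime] (h : Cfsg.pPrimeCore p X = ⊥) :
    Subgroup.centralizer (Cfsg.pCore p X : Set X) ≤ Cfsg.pCore p X ↔ Cfsg.layer X = ⊥ := by
  constructor
  · intro hc
    have h1 : Cfsg.layer X ≤ Cfsg.pCore p X := by
      refine le_trans ?_ hc
      rw [← Subgroup.commutator_eq_bot_iff_le_centralizer, ← fitting_eq_pCore h]
      exact Solv.layer_commutator_fitting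
    rw [Cfsg.layer, sSup_eq_bot]
    intro K hK
    by_contra hKb
    haveI := Solv.qs_nontrivial hK.2
    haveI := hK.2.1
    haveI := ((isPGroup_pCore p X).to_le ((Solv.component_le_layer hK).trans h1)).isNilpotent
    exact Group.IsPerfect.not_isSolvable (G := K) inferInstance
  · intro hl
    have := Solv.centralizer_gfit_le (G := X)
    rwa [Cfsg.generalizedFittingSubgroup, hl, bot_sup_eq, fitting_eq_pCore h] at this

theorem isPConstrained_iff_pLayer [Fact p.Prime] :
    Cfsg.IsPConstrained p X ↔ Cfsg.pLayer p X = ⊥ := by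
  rw [pLayer_eq_bot_iff, isPConstrained_iff,
    centralizer_pCore_le_iff_layer (pPrimeCore_quotient_eq_bot (p := p) (G := X))]

end Cfsg.Agent.Fusion
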