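import Cfsg.Agent.Lib.Fusion.PComponent
import Cfsg.Agent.Lib.Fusion.PLayerBasics

/-!
p-components are determined by their images: they are generated by the p-elements of `K O_{p'}`.
-/

set_option autoImplicit false
set_option linter.style.haveILetI false

open scoped commutatorElement

namespace Cfsg.Agent.Fusion

variable {X : Type*} [Group X] [Finite X] {p : ℕ} [hp : Fact p.Prime]

/-- a subnormal subgroup of index prime to `p` contains every p-element -/
theorem mem_of_subnormal_coprime_index {G : Type*} [Group G] [Finite G] {A : Subgroup G}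
    (hA : A.IsSubnormal) :
    A.index.Coprime p → ∀ x : G, (∃ k : ℕ, x ^ p ^ k = 1) → x ∈ A := by
  induction hA with
  | top => exact fun _ _ _ => Subgroup.mem_top _
  | step A B hAB _ hN ih =>
    intro hi x hx
    have hd : A.relIndex B ∣ A.index := Subgroup.relIndex_dvd_index_of_le hAB
    have hxB : x ∈ B := ih (hi.coprime_dvd_left (Subgroup.index_dvd_of_le hAB)) x hx
    haveI := hN
    obtain ⟨k, hk⟩ := hx
    have h1 : (QuotientGroup.mk' (A.subgroupOf B) (⟨x, hxB⟩ : B)) = 1 := by
      rw [← orderOf_eq_one_iff]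
      refine Nat.eq_one_of_dvd_coprimes ((hi.coprime_dvd_left hd).pow_right k) ?_ ?_
      · rw [Subgroup.relIndex, Subgroup.index_eq_card]
        exact orderOf_dvd_natCard _
      · refine orderOf_dvd_of_pow_eq_one ?_
        rw [← map_pow, show (⟨x, hxB⟩ : B) ^ p ^ k = 1 from Subtype.ext hk, map_one]
    exact (QuotientGroup.eq_one_iff (N := A.subgroupOf B) ⟨x, hxB⟩).1 h1

theorem pelement_mem_of_mem_sup {K : Subgroup X} (hK : K.IsSubnormal) {x : X}
    (hx : x ∈ K ⊔ Cfsg.pPrimeCore p X) (hp' : ∃ k : ℕ, x ^ p ^ k = 1) : x ∈ K := by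
  obtain ⟨R, hR⟩ : ∃ R, R = Cfsg.pPrimeCore p X := ⟨_, rfl⟩
  rw [← hR] at hx
  have hRn : R.Normal := hR ▸ inferInstance
  haveI := hRn
  have hco : (Nat.card R).Coprime p := hR ▸ card_pPrimeCore_coprime p X
  have hidx : (K.subgroupOf (K ⊔ R)).index.Coprime p := by
    refine hco.coprime_dvd_left ?_
    have h1 : K.relIndex (K ⊔ R) * Nat.card K = Nat.card ↥(K ⊔ R) := by
      rw [mul_comm, ← Nat.card_congr (Subgroup.subgroupOfEquivOfLe (le_sup_left : K ≤ K ⊔ R)).toEquiv]
      exact Subgroup.card_mul_index _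
    have h2 : K.relIndex (K ⊔ R) * Nat.card K ∣ Nat.card R * Nat.card K := by
      rw [h1, sup_comm]
      exact Solv.card_sup_dvd R K
    exact Nat.dvd_of_mul_dvd_mul_right Nat.card_pos h2
  obtain ⟨k, hk⟩ := hp'
  exact mem_of_subnormal_coprime_index (p := p) hK.subgroupOf hidx ⟨x, hx⟩ ⟨k, Subtype.ext hk⟩

/-- a p-component is generated by its p-elements -/
theorem pComponent_le_of_pelements {K W : Subgroup X} (hK : Cfsg.IsPComponent p K)
    (h : ∀ x ∈ K, (∃ k : ℕ, x ^ p ^ k = 1) → x ∈ W) : K ≤ W := by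
  obtain ⟨N, hN⟩ : ∃ N : Subgroup K, N = Subgroup.closure {x : K | ∃ k : ℕ, x ^ p ^ k = 1} := ⟨_, rfl⟩
  haveI : N.Normal := by
    refine normal_iff_cj.2 fun g => cj_eq_of_cj_le ?_
    rw [hN, cj, MonoidHom.map_closure, Subgroup.closure_le]
    rintro _ ⟨x, ⟨k, hk⟩, rfl⟩
    exact Subgroup.subset_closure ⟨k, by rw [← map_pow, hk, map_one]⟩
  have hidx : N.index.Coprime p := by
    obtain ⟨P⟩ : Nonempty (Sylow p K) := inferInstance
    have hPN : (P : Subgroup K) ≤ N := by
      intro x hx
      obtain ⟨k, hk⟩ := P.isPGroup' ⟨x, hx⟩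
      exact hN ▸ Subgroup.subset_closure ⟨k, congrArg Subtype.val hk⟩
    rw [Nat.coprime_comm, Nat.Prime.coprime_iff_not_dvd hp.out]
    exact fun hd => P.not_dvd_index (hd.trans (Subgroup.index_dvd_of_le hPN))
  have htop := pComponent_normal_coprime_index hK N hidx
  intro x hx
  have hle : N ≤ W.subgroupOf K := by
    rw [hN, Subgroup.closure_le]
    rintro y ⟨k, hk⟩
    exact h y y.2 ⟨k, congrArg Subtype.val hk⟩
  exact hle (show (⟨x, hx⟩ : K) ∈ N from htop.symm ▸ Subgroup.mem_top _)

theorem pComponent_le_of_map_le {K L : Subgroup X} (hK : Cfsg.IsPComponent p K)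
    (hL : L.IsSubnormal)
    (h : K.map (QuotientGroup.mk' (Cfsg.pPrimeCore p X)) ≤ L.map (QuotientGroup.mk' (Cfsg.pPrimeCore p X))) :
    K ≤ L := by
  refine pComponent_le_of_pelements hK fun x hx hxp => pelement_mem_of_mem_sup hL ?_ hxp
  have h1 := Subgroup.map_le_iff_le_comap.1 h hx
  rwa [Subgroup.comap_map_eq, QuotientGroup.ker_mk'] at h1

theorem pComponent_eq_of_map_eq {K L : Subgroup X} (hK : Cfsg.IsPComponent p K)
    (hL : Cfsg.IsPComponent p L)
    (h : K.map (QuotientGroup.mk' (Cfsg.pPrimeCore p X)) = L.map (QuotientGroup.mk' (Cfsg.pPrimeCore p X))) :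
    K = L :=
  le_antisymm (pComponent_le_of_map_le hK hL.1 h.le) (pComponent_le_of_map_le hL hK.1 h.ge)

theorem pComponents_map_commute {K L : Subgroup X} (hK : Cfsg.IsPComponent p K)
    (hL : Cfsg.IsPComponent p L) (hne : K ≠ L) :
    ⁅K.map (QuotientGroup.mk' (Cfsg.pPrimeCore p X)), L.map (QuotientGroup.mk' (Cfsg.pPrimeCore p X))⁆ = ⊥ :=
  Solv.components_commute hK.2.1 hL.2.1 fun h => hne (pComponent_eq_of_map_eq hK hL h)

theorem pComponents_commutator_le {K L : Subgroup X} (hK : Cfsg.IsPComponent p K)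
    (hL : Cfsg.IsPComponent p L) (hne : K ≠ L) : ⁅K, L⁆ ≤ Cfsg.pPrimeCore p X := by
  have h := pComponents_map_commute hK hL hne
  rwa [← Subgroup.map_commutator, Subgroup.map_eq_bot_iff, QuotientGroup.ker_mk'] at h

/-- whoever normalises the image of a p-component normalises the p-component -/
theorem mem_normalizer_pComponent {K : Subgroup X} (hK : Cfsg.IsPComponent p K) {g : X}
    (h : cj (K.map (QuotientGroup.mk' (Cfsg.pPrimeCore p X))) (QuotientGroup.mk' (Cfsg.pPrimeCore p X) g) ≤
      K.map (QuotientGroup.mk' (Cfsg.pPrimeCore p X))) :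
    g ∈ Subgroup.normalizer (K : Set X) := by
  refine mem_normalizer_of_cj_le (Subgroup.map_le_iff_le_comap.2 ?_)
  refine pComponent_le_of_pelements hK fun x hx hxp => Subgroup.mem_comap.2 ?_
  refine pelement_mem_of_mem_sup (p := p) hK.1 ?_ ?_
  · have h1 := h (Subgroup.mem_map_of_mem _ (Subgroup.mem_map_of_mem _ hx))
    have h2 : QuotientGroup.mk' (Cfsg.pPrimeCore p X) (g * x * g⁻¹) ∈
        K.map (QuotientGroup.mk' (Cfsg.pPrimeCore p X)) := by
      simpa [map_mul, map_inv] using h1
    rw [← Subgroup.mem_comap, Subgroup.comap_map_eq, QuotientGroup.ker_mk'] at h2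
    exact h2
  · obtain ⟨k, hk⟩ := hxp
    exact ⟨k, by rw [← map_pow, hk, map_one]⟩

theorem pPrimeCore_normalizes_pComponent {K : Subgroup X} (hK : Cfsg.IsPComponent p K) :
    Cfsg.pPrimeCore p X ≤ Subgroup.normalizer (K : Set X) := fun g hg =>
  mem_normalizer_pComponent hK (by
    rw [show QuotientGroup.mk' (Cfsg.pPrimeCore p X) g = 1 from (QuotientGroup.eq_one_iff g).2 hg, cj_one])

theorem pComponent_normalizes {K L : Subgroup X} (hK : Cfsg.IsPComponent p K)
    (hL : Cfsg.IsPComponent p L) : L ≤ Subgroup.normalizer (K : Set X) := by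
  rcases eq_or_ne K L with rfl | hne
  · exact Subgroup.le_normalizer
  intro g hg
  refine mem_normalizer_pComponent hK (le_of_eq (cj_eq_self ?_))
  exact Subgroup.centralizer_le_normalizer _
    (Subgroup.commutator_eq_bot_iff_le_centralizer.1 (pComponents_map_commute hL hK (Ne.symm hne))
      (Subgroup.mem_map_of_mem _ hg))

theorem pLayer_le_normalizer {K : Subgroup X} (hK : Cfsg.IsPComponent p K) :
    Cfsg.pLayer p X ≤ Subgroup.normalizer (K : Set X) :=
  sSup_le fun _ hL => pComponent_normalizes hK hL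

omit hp in
theorem map_pLayer : (Cfsg.pLayer p X).map (QuotientGroup.mk' (Cfsg.pPrimeCore p X)) =
    Cfsg.layer (X ⧸ Cfsg.pPrimeCore p X) := by
  refine le_antisymm (Subgroup.map_le_iff_le_comap.2 (sSup_le fun K hK =>
    Subgroup.map_le_iff_le_comap.1 (Solv.component_le_layer hK.2.1))) (sSup_le fun C hC => ?_)
  obtain ⟨K, hK, rfl⟩ := exists_pComponent_map (p := p) hC
  exact Subgroup.map_mono (le_sSup hK)

/-- centralising a Sylow p-subgroup of a p-component forces normalising it -/
theorem mem_normalizer_of_centralizes_sylow {K S : Subgroup X} (hK : Cfsg.IsPComponent p K)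
    (hS : SylIn p S K) {g : X} (hg : g ∈ Subgroup.centralizer (S : Set X)) :
    g ∈ Subgroup.normalizer (K : Set X) := by
  set π := QuotientGroup.mk' (Cfsg.pPrimeCore p X) with hπ
  by_contra hne
  set C := K.map π with hC
  have hC' : Cfsg.IsComponent (cj C (π g)) := Solv.component_conj hK.2.1 _
  have hd : C ≠ cj C (π g) := fun he => hne (mem_normalizer_pComponent hK he.ge)
  have hcomm := Solv.components_commute hK.2.1 hC' hd
  rw [Subgroup.commutator_eq_bot_iff_le_centralizer] at hcomm
  let φ : ↥K →* ↥C := π.subgroupMap K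
  have hφ : Function.Surjective φ := π.subgroupMap_surjective K
  let N : Subgroup K := (Subgroup.center ↥C).comap φ
  haveI : N.Normal := inferInstance
  have hSN : S.subgroupOf K ≤ N := by
    intro s hs
    refine Subgroup.mem_comap.2 (Subgroup.mem_center_iff.2 fun c => Subtype.ext ?_)
    have h1 : π (s : X) ∈ cj C (π g) := by
      refine ⟨π (s : X), Subgroup.mem_map_of_mem _ s.2, ?_⟩
      show π g * π (s : X) * (π g)⁻¹ = π (s : X)
      rw [← map_mul, ← Subgroup.mem_centralizer_iff.1 hg s hs, map_mul, mul_inv_cancel_right]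
    exact (Subgroup.mem_centralizer_iff.1 (hcomm c.2) _ h1).symm
  have hidx : N.index.Coprime p := by
    rw [Nat.coprime_comm, Nat.Prime.coprime_iff_not_dvd hp.out]
    exact fun hd => hS.not_dvd (hd.trans (Subgroup.index_dvd_of_le hSN))
  have htop := pComponent_normal_coprime_index hK N hidx
  refine Solv.qs_center_ne_top hK.2.1.2 (eq_top_iff.2 fun c _ => ?_)
  obtain ⟨x, rfl⟩ := hφ c
  exact (show x ∈ N from htop.symm ▸ Subgroup.mem_top x)

end Cfsg.Agent.Fusion
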