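import Cfsg.Prelude.Def_ClassificationStages
import Cfsg.Agent.Lib.Fusion.PComponentUnique
import Cfsg.Agent.Lib.Solv.Coprime
import Cfsg.Agent.Lib.Fusion.LocalBalance

/-!
A p-component of a subgroup is a subnormal subgroup with an intrinsic property.
-/

set_option autoImplicit false
set_option linter.style.haveILetI false

open Cfsg Cfsg.Agent Cfsg.Agent.Fusion
open scoped commutatorElement

namespace Cfsg.Agent.PComp

universe u v

variable {p : ℕ}

/-- The intrinsic part of being a p-component. -/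
def PQ (p : ℕ) (Y : Type u) [Group Y] : Prop :=
  Cfsg.IsQuasisimple (Y ⧸ Cfsg.pPrimeCore p Y) ∧
    ∀ W : Subgroup Y, W.IsSubnormal → W ⊔ Cfsg.pPrimeCore p Y = ⊤ → W = ⊤

theorem pPrimeCore_map_equiv {Y : Type u} {Z : Type v} [Group Y] [Group Z] [Finite Y] [Finite Z] (e : Y ≃* Z) :
    (Cfsg.pPrimeCore p Y).map e.toMonoidHom = Cfsg.pPrimeCore p Z := by
  have key : ∀ {A : Type u} {B : Type v} [Group A] [Group B] [Finite A] [Finite B] (f : A ≃* B),
      (Cfsg.pPrimeCore p A).map f.toMonoidHom ≤ Cfsg.pPrimeCore p B := fun {A B} _ _ _ _ f => by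
    haveI : ((Cfsg.pPrimeCore p A).map f.toMonoidHom).Normal :=
      (inferInstance : (Cfsg.pPrimeCore p A).Normal).map _ f.surjective
    refine le_pPrimeCore ?_
    rw [Subgroup.card_map_of_injective f.injective]
    exact card_pPrimeCore_coprime p A
  refine le_antisymm (key e) fun z hz => ?_
  haveI : ((Cfsg.pPrimeCore p Z).comap e.toMonoidHom).Normal := inferInstance
  refine ⟨e.symm z, le_pPrimeCore (N := (Cfsg.pPrimeCore p Z).comap e.toMonoidHom) ?_ ?_, e.apply_symm_apply z⟩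
  · rw [← Subgroup.card_map_of_injective (f := e.toMonoidHom) e.injective,
      Subgroup.map_comap_eq_self_of_surjective e.surjective]
    exact card_pPrimeCore_coprime p Z
  · exact Subgroup.mem_comap.2 (show e (e.symm z) ∈ _ by rwa [e.apply_symm_apply])

theorem PQ.congr {Y : Type u} {Z : Type v} [Group Y] [Group Z] [Finite Y] [Finite Z] (h : PQ p Y)
    (e : Y ≃* Z) : PQ p Z := by
  refine ⟨Local.isQuasisimple_congr (QuotientGroup.congr _ _ e (pPrimeCore_map_equiv e)) h.1,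
    fun W hW ht => ?_⟩
  have h1 := h.2 (W.comap e.toMonoidHom) (hW.comap e.toMonoidHom) (Subgroup.map_injective (f := e.toMonoidHom) e.injective (by
    rw [Subgroup.map_sup, Subgroup.map_comap_eq_self_of_surjective e.surjective,
      pPrimeCore_map_equiv, Subgroup.map_top_of_surjective _ e.surjective, ht]))
  rw [← Subgroup.map_comap_eq_self_of_surjective (f := e.toMonoidHom) e.surjective W, h1,
    Subgroup.map_top_of_surjective _ e.surjective]

variable {X : Type u} [Group X] [Finite X] [hp : Fact p.Prime]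

theorem ker_subgroupMap {K : Subgroup X} (hK : K.IsSubnormal) :
    ((QuotientGroup.mk' (Cfsg.pPrimeCore p X)).subgroupMap K).ker = Cfsg.pPrimeCore p ↥K := by
  have hker : ((QuotientGroup.mk' (Cfsg.pPrimeCore p X)).subgroupMap K).ker =
      (Cfsg.pPrimeCore p X).subgroupOf K := by
    ext x
    rw [MonoidHom.mem_ker, Subgroup.mem_subgroupOf, Subtype.ext_iff]
    exact QuotientGroup.eq_one_iff (x : X)
  rw [hker]
  refine le_antisymm (le_pPrimeCore ?_) fun x hx => ?_
  · rw [← Subgroup.card_map_of_injective K.subtype_injective, Subgroup.subgroupOf_map_subtype]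
    exact (card_pPrimeCore_coprime p X).coprime_dvd_left (Subgroup.card_dvd_of_le inf_le_left)
  · refine piPrime_of_subnormal ((inferInstance : (Cfsg.pPrimeCore p ↥K).Normal).isSubnormal.trans' hK) ?_
      (Subgroup.mem_map_of_mem K.subtype hx)
    rw [Subgroup.card_map_of_injective K.subtype_injective]
    exact card_pPrimeCore_coprime p _

theorem pcore_inf {K : Subgroup X} (hK : K.IsSubnormal) :
    (Cfsg.pPrimeCore p X).subgroupOf K = Cfsg.pPrimeCore p ↥K := by
  rw [← ker_subgroupMap hK]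
  ext x
  rw [MonoidHom.mem_ker, Subgroup.mem_subgroupOf, Subtype.ext_iff]
  exact (QuotientGroup.eq_one_iff (x : X)).symm

/-- The intrinsic characterisation. -/
theorem isPComponent_iff {K : Subgroup X} :
    Cfsg.IsPComponent p K ↔ K.IsSubnormal ∧ PQ p ↥K := by
  have key : ∀ hK : K.IsSubnormal, ∀ W : Subgroup ↥K,
      (W.map K.subtype).map (QuotientGroup.mk' (Cfsg.pPrimeCore p X)) =
        K.map (QuotientGroup.mk' (Cfsg.pPrimeCore p X)) ↔ W ⊔ Cfsg.pPrimeCore p ↥K = ⊤ := by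
    intro hK W
    constructor
    · intro h
      rw [eq_top_iff]
      intro k _
      obtain ⟨y, ⟨w, hw, rfl⟩, hy⟩ : (QuotientGroup.mk' (Cfsg.pPrimeCore p X)) (k : X) ∈
          (W.map K.subtype).map (QuotientGroup.mk' (Cfsg.pPrimeCore p X)) :=
        h.symm ▸ Subgroup.mem_map_of_mem _ k.2
      have h1 : w⁻¹ * k ∈ (Cfsg.pPrimeCore p X).subgroupOf K := by
        rw [Subgroup.mem_subgroupOf]
        exact QuotientGroup.eq.1 hy
      rw [pcore_inf hK] at h1
      have := mul_mem (Subgroup.mem_sup_left hw : w ∈ W ⊔ Cfsg.pPrimeCore p ↥K) (Subgroup.mem_sup_right h1)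
      rwa [mul_inv_cancel_left] at this
    · intro h
      have h2 := congrArg (fun S : Subgroup ↥K => (S.map K.subtype).map (QuotientGroup.mk' (Cfsg.pPrimeCore p X))) h
      simp only [Subgroup.map_sup, ← MonoidHom.range_eq_map, Subgroup.range_subtype] at h2
      rw [← h2, left_eq_sup, ← pcore_inf hK, Subgroup.subgroupOf_map_subtype]
      exact (Subgroup.map_mono inf_le_left).trans ((QuotientGroup.map_mk'_self _).le.trans bot_le)
  constructor
  · intro h
    refine ⟨h.1, Local.isQuasisimple_congr ?_ h.2.1.2, fun W hW ht => ?_⟩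
    · exact ((QuotientGroup.quotientMulEquivOfEq (ker_subgroupMap h.1).symm).trans
        (QuotientGroup.quotientKerEquivOfSurjective _ (MonoidHom.subgroupMap_surjective _ _))).symm
    · have h1 := h.2.2 _ (hW.trans' h.1) (Subgroup.map_subtype_le W) ((key h.1 W).2 ht)
      exact Subgroup.map_injective K.subtype_injective (by
        rw [h1, ← MonoidHom.range_eq_map, Subgroup.range_subtype])
  · rintro ⟨hK, hq, hmin⟩
    refine ⟨hK, ⟨map_isSubnormal_quotient hK, Local.isQuasisimple_congr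
      ((QuotientGroup.quotientMulEquivOfEq (ker_subgroupMap hK).symm).trans
        (QuotientGroup.quotientKerEquivOfSurjective _ (MonoidHom.subgroupMap_surjective _ _))) hq⟩,
      fun W hW hWK he => ?_⟩
    have h1 := hmin (W.subgroupOf K) hW.subgroupOf ((key hK _).1 (by
      rw [Subgroup.map_subgroupOf_eq_of_le hWK, he]))
    exact le_antisymm hWK (Subgroup.subgroupOf_eq_top.1 h1)

variable {G : Type u} [Group G] [Finite G]

theorem pcompOf_iff {K H : Subgroup G} :
    Cfsg.IsPComponentOf p K H ↔ K ≤ H ∧ (K.subgroupOf H).IsSubnormal ∧ PQ p ↥K := by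
  rw [Cfsg.IsPComponentOf, isPComponent_iff]
  exact ⟨fun h => ⟨h.1, h.2.1, h.2.2.congr (Subgroup.subgroupOfEquivOfLe h.1)⟩,
    fun h => ⟨h.1, h.2.1, h.2.2.congr (Subgroup.subgroupOfEquivOfLe h.1).symm⟩⟩

omit hp [Finite G] in
theorem subnormal_trans {K H L : Subgroup G} (hKH : K ≤ H) (hHL : H ≤ L)
    (h1 : (K.subgroupOf H).IsSubnormal) (h2 : (H.subgroupOf L).IsSubnormal) :
    (K.subgroupOf L).IsSubnormal := by
  have h3 := h1.map (f := (Subgroup.subgroupOfEquivOfLe hHL).symm.toMonoidHom) (MulEquiv.surjective _)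
  have h4 := h3.trans' h2
  have e : ((K.subgroupOf H).map (Subgroup.subgroupOfEquivOfLe hHL).symm.toMonoidHom).map
      (H.subgroupOf L).subtype = K.subgroupOf L := by
    ext y
    constructor
    · rintro ⟨_, ⟨k, hk, rfl⟩, rfl⟩
      exact hk
    · intro hy
      exact ⟨_, ⟨⟨(y : G), hKH hy⟩, hy, rfl⟩, Subtype.ext rfl⟩
  rwa [e] at h4

theorem pcompOf_restrict {K H L : Subgroup G} (h : Cfsg.IsPComponentOf p K L) (hKH : K ≤ H) (hHL : H ≤ L) :
    Cfsg.IsPComponentOf p K H := by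
  obtain ⟨-, hsn, hq⟩ := pcompOf_iff.1 h
  exact pcompOf_iff.2 ⟨hKH, hsn.comap (Subgroup.inclusion hHL), hq⟩

theorem pcompOf_trans {K H L : Subgroup G} (h : Cfsg.IsPComponentOf p K H) (hHL : H ≤ L)
    (h2 : (H.subgroupOf L).IsSubnormal) : Cfsg.IsPComponentOf p K L := by
  obtain ⟨hKH, hsn, hq⟩ := pcompOf_iff.1 h
  exact pcompOf_iff.2 ⟨hKH.trans hHL, subnormal_trans hKH hHL hsn h2, hq⟩

omit hp [Finite G] in
theorem pcompOf_le_pLayerOf {K H : Subgroup G} (h : Cfsg.IsPComponentOf p K H) :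
    K ≤ Cfsg.pLayerOf p H := by
  rw [← Subgroup.map_subgroupOf_eq_of_le h.1]
  exact Subgroup.map_mono (le_sSup h.2)

/-- A group quasisimple modulo the core has one p-component, its p-layer, and it covers the quotient. -/
theorem pLayer_of_qs {Y : Type u} [Group Y] [Finite Y]
    (hq : Cfsg.IsQuasisimple (Y ⧸ Cfsg.pPrimeCore p Y)) :
    Cfsg.IsPComponent p (Cfsg.pLayer p Y) ∧ Cfsg.pLayer p Y ⊔ Cfsg.pPrimeCore p Y = ⊤ := by
  have htop : Cfsg.IsComponent (⊤ : Subgroup (Y ⧸ Cfsg.pPrimeCore p Y)) :=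
    ⟨(inferInstance : (⊤ : Subgroup (Y ⧸ Cfsg.pPrimeCore p Y)).Normal).isSubnormal,
      Local.isQuasisimple_congr Subgroup.topEquiv.symm hq⟩
  obtain ⟨I, hI, hIm⟩ := exists_pComponent_map (p := p) htop
  have hcov : I ⊔ Cfsg.pPrimeCore p Y = ⊤ := by
    have := congrArg (Subgroup.comap (QuotientGroup.mk' (Cfsg.pPrimeCore p Y))) hIm
    rwa [Subgroup.comap_map_eq, QuotientGroup.ker_mk', Subgroup.comap_top] at this
  have he : Cfsg.pLayer p Y = I := by
    refine le_antisymm (sSup_le fun K hK => ?_) (le_sSup hI)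
    exact pComponent_le_of_map_le hK hI.1 (hIm ▸ le_top)
  exact ⟨he ▸ hI, he ▸ hcov⟩

omit hp [Finite G] in
theorem mem_centralizerOfPComponent {x m : G} {K : Subgroup G}
    (hK : K ≤ Subgroup.centralizer ({x} : Set G)) :
    m ∈ Cfsg.centralizerOfPComponent p x K ↔ m ∈ Subgroup.centralizer ({x} : Set G) ∧
      ∀ k ∈ K, ⁅m, k⁆ ∈ Cfsg.centralizerPPrimeCore p x := by
  obtain ⟨π, hπ⟩ : ∃ π, π = QuotientGroup.mk' (Cfsg.pPrimeCore p ↥(Subgroup.centralizer ({x} : Set G))) := ⟨_, rfl⟩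
  have hcom : ∀ a b : ↥(Subgroup.centralizer ({x} : Set G)),
      π a * π b = π b * π a ↔ ⁅(a : G), (b : G)⁆ ∈ Cfsg.centralizerPPrimeCore p x := fun a b => by
    rw [← commutatorElement_eq_one_iff_mul_comm, ← map_commutatorElement, hπ, QuotientGroup.mk'_apply,
      QuotientGroup.eq_one_iff]
    exact ⟨fun h => ⟨⁅a, b⁆, h, rfl⟩, fun ⟨c, hc, he⟩ => by
      rwa [← show c = ⁅a, b⁆ from Subtype.ext he]⟩
  rw [Cfsg.centralizerOfPComponent, Cfsg.centralizerModCore, ← hπ]
  constructor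
  · rintro ⟨a, ha, rfl⟩
    refine ⟨a.2, fun k hk => (hcom a ⟨k, hK hk⟩).1 ?_⟩
    exact (Subgroup.mem_centralizer_iff.1 (Subgroup.mem_comap.1 ha) _
      ⟨⟨k, hK hk⟩, hk, rfl⟩).symm
  · rintro ⟨hm, hc⟩
    refine ⟨⟨m, hm⟩, Subgroup.mem_comap.2 (Subgroup.mem_centralizer_iff.2 ?_), rfl⟩
    rintro _ ⟨k, hk, rfl⟩
    exact ((hcom ⟨m, hm⟩ k).2 (hc k hk)).symm

omit hp [Finite G] in
theorem centralizerOfPComponent_le (x : G) (K : Subgroup G) :
    Cfsg.centralizerOfPComponent p x K ≤ Subgroup.centralizer ({x} : Set G) :=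
  Subgroup.map_subtype_le _

theorem d_le_normalizer {x : G} {K : Subgroup G}
    (hK : Cfsg.IsPComponentOf p K (Subgroup.centralizer ({x} : Set G))) :
    Cfsg.centralizerOfPComponent p x K ≤ Subgroup.normalizer (K : Set G) := by
  rintro _ ⟨a, ha, rfl⟩
  have h1 : a ∈ Subgroup.normalizer ((K.subgroupOf _ : Subgroup ↥(Subgroup.centralizer ({x} : Set G))) :
      Set ↥(Subgroup.centralizer ({x} : Set G))) := by
    refine mem_normalizer_pComponent hK.2 (cj_eq_self ?_).le
    exact Subgroup.centralizer_le_normalizer _ (Subgroup.mem_comap.1 ha)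
  refine Subgroup.mem_normalizer_iff.2 fun y => ⟨fun hy => ?_, fun hy => ?_⟩
  · exact (Subgroup.mem_normalizer_iff.1 h1 ⟨y, hK.1 hy⟩).1 hy
  · have hyC : y ∈ Subgroup.centralizer ({x} : Set G) := by
      have := mul_mem (mul_mem (inv_mem a.2) (hK.1 hy)) a.2
      simpa [mul_assoc] using this
    exact (Subgroup.mem_normalizer_iff.1 h1 ⟨y, hyC⟩).2 hy

/-- Fixed points of a p-group centralising a p-component modulo the core cover it; their p-layer. -/
theorem fixed_pLayer {x : G} {K : Subgroup G}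
    (hK : Cfsg.IsPComponentOf p K (Subgroup.centralizer ({x} : Set G))) {T : Subgroup G}
    (hT : IsPGroup p T) (hTD : T ≤ Cfsg.centralizerOfPComponent p x K) :
    Cfsg.IsPComponentOf p (Cfsg.pLayerOf p (K ⊓ Subgroup.centralizer (T : Set G)))
        (Subgroup.centralizer ({x} : Set G) ⊓ Subgroup.centralizer (T : Set G)) ∧
      Cfsg.pLayerOf p (K ⊓ Subgroup.centralizer (T : Set G)) ≤ K ∧
      (∀ k ∈ K, ∃ i ∈ Cfsg.pLayerOf p (K ⊓ Subgroup.centralizer (T : Set G)),
        i⁻¹ * k ∈ Cfsg.centralizerPPrimeCore p x) ∧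
      Nonempty (↥(Cfsg.pLayerOf p (K ⊓ Subgroup.centralizer (T : Set G))) ⧸
        Cfsg.pPrimeCore p ↥(Cfsg.pLayerOf p (K ⊓ Subgroup.centralizer (T : Set G))) ≃* ↥K ⧸ Cfsg.pPrimeCore p ↥K) := by
  obtain ⟨hKC, hKsn, hKq⟩ := pcompOf_iff.1 hK
  obtain ⟨K₀, hK₀⟩ : ∃ K₀, K₀ = K ⊓ Subgroup.centralizer (T : Set G) := ⟨_, rfl⟩
  rw [← hK₀]
  have hK₀K : K₀ ≤ K := hK₀ ▸ inf_le_left
  -- `O(K)` is the trace of the core
  have hcore : ∀ k : K, k ∈ Cfsg.pPrimeCore p ↥K ↔ (k : G) ∈ Cfsg.centralizerPPrimeCore p x := by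
    intro k
    have h1 := pcore_inf (p := p) hKsn
    rw [← pPrimeCore_map_equiv (Subgroup.subgroupOfEquivOfLe hKC)]
    constructor
    · rintro ⟨j, hj, rfl⟩
      exact ⟨j, (h1.symm ▸ hj : j ∈ (Cfsg.pPrimeCore p _).subgroupOf _), rfl⟩
    · rintro ⟨c, hc, he⟩
      have hcK : c ∈ K.subgroupOf (Subgroup.centralizer ({x} : Set G)) := by
        show (c : G) ∈ K
        have he' : (c : G) = k := he
        rw [he']; exact k.2
      refine ⟨⟨c, hcK⟩, ?_, Subtype.ext he⟩
      rw [SetLike.mem_coe, ← h1]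
      exact hc
  obtain ⟨O, hO⟩ : ∃ O, O = (Cfsg.pPrimeCore p ↥K).map K.subtype := ⟨_, rfl⟩
  have hOco : (Nat.card O).Coprime p := by
    rw [hO, Solv.card_map_subtype]; exact card_pPrimeCore_coprime p _
  have hTn : T ≤ Subgroup.normalizer (K : Set G) := hTD.trans (d_le_normalizer hK)
  have hTO : T ≤ Subgroup.normalizer (O : Set G) := fun t ht => mem_normalizer_of_cj_le (by
    rw [hO]
    rintro _ ⟨_, ⟨k, hk, rfl⟩, rfl⟩
    refine ⟨⟨t * k * t⁻¹, (Subgroup.mem_normalizer_iff.1 (hTn ht) _).1 k.2⟩, (hcore _).2 ?_, rfl⟩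
    exact (Subgroup.mem_normalizer_iff.1 (Subgroup.le_normalizer.trans (normalizer_le_core x)
      (centralizerOfPComponent_le x K (hTD ht))) _).1 ((hcore k).1 hk))
  obtain ⟨j, hj⟩ := IsPGroup.iff_card.1 hT
  have hco : (Nat.card T).Coprime (Nat.card O) := hj ▸ hOco.symm.pow_left j
  have hcov : ∀ k ∈ K, ∃ c ∈ K₀, k⁻¹ * c ∈ O := by
    intro k hk
    obtain ⟨d, hd, hn⟩ := Solv.exists_fixed_in_coset T O hTO hco
      (Or.inl (haveI := hT.isNilpotent; inferInstance)) (x := k) (fun a ha => by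
        rw [hO]
        refine ⟨⟨k⁻¹ * (a * k * a⁻¹), mul_mem (inv_mem hk) ((Subgroup.mem_normalizer_iff.1 (hTn ha) k).1 hk)⟩,
          (hcore _).2 ?_, rfl⟩
        have h := ((mem_centralizerOfPComponent hKC).1 (hTD ha)).2 k hk
        have h2 := (Subgroup.mem_normalizer_iff.1 (Subgroup.le_normalizer.trans (normalizer_le_core x)
          (inv_mem (hKC hk))) _).1 h
        rw [commutatorElement_def] at h2
        convert h2 using 1
        group)
    refine ⟨k * d, ?_, by rwa [inv_mul_cancel_left]⟩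
    have hdK : d ∈ K := by rw [hO] at hd; exact Subgroup.map_subtype_le _ hd
    rw [hK₀]
    refine Subgroup.mem_inf.2 ⟨mul_mem hk hdK, Subgroup.mem_centralizer_iff.2 fun a ha => ?_⟩
    have h1 : ⁅k * d, a⁆ ∈ T := by
      rw [commutatorElement_def]
      exact mul_mem ((Subgroup.mem_normalizer_iff.1 hn a).1 ha) (inv_mem ha)
    have h2 : ⁅k * d, a⁆ ∈ Cfsg.centralizerPPrimeCore p x := by
      rw [← commutatorElement_inv]
      exact inv_mem (((mem_centralizerOfPComponent hKC).1 (hTD ha)).2 _ (mul_mem hk hdK))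
    have h3 : ⁅k * d, a⁆ = 1 := by
      rw [← orderOf_eq_one_iff]
      refine Nat.eq_one_of_dvd_coprimes ((card_core_coprime x).symm.pow_left j) ?_ ?_ (a := p ^ j)
      · rw [← hj, ← Subgroup.orderOf_mk _ h1]; exact orderOf_dvd_natCard _
      · rw [← Subgroup.orderOf_mk _ h2]; exact orderOf_dvd_natCard _
    exact (commutatorElement_eq_one_iff_mul_comm.1 h3).symm
  -- the quotient of K₀
  let f : K₀ →* ↥K ⧸ Cfsg.pPrimeCore p ↥K := (QuotientGroup.mk' _).comp (Subgroup.inclusion hK₀K)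
  have hfs : Function.Surjective f := fun q => by
    induction q using QuotientGroup.induction_on with
    | _ k =>
      obtain ⟨c, hc, hcd⟩ := hcov k k.2
      refine ⟨⟨c, hc⟩, QuotientGroup.eq.2 ?_⟩
      rw [hO] at hcd
      obtain ⟨d, hd, hde⟩ := hcd
      have := inv_mem hd
      rw [show d = k⁻¹ * Subgroup.inclusion hK₀K ⟨c, hc⟩ from Subtype.ext hde] at this
      simpa using this
  have hker : f.ker = Cfsg.pPrimeCore p ↥K₀ := by
    refine le_antisymm (le_pPrimeCore ?_) fun c hc => ?_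
    · refine (card_pPrimeCore_coprime p ↥K).coprime_dvd_left ?_
      rw [← Subgroup.card_map_of_injective (f := Subgroup.inclusion hK₀K) (Subgroup.inclusion_injective _)]
      refine Subgroup.card_dvd_of_le ?_
      rintro _ ⟨c, hc, rfl⟩
      exact (QuotientGroup.eq_one_iff _).1 hc
    · haveI : ((Cfsg.pPrimeCore p ↥K₀).map f).Normal := (inferInstance : (Cfsg.pPrimeCore p ↥K₀).Normal).map f hfs
      have h : (Cfsg.pPrimeCore p ↥K₀).map f ≤ ⊥ := by
        rw [← pPrimeCore_quotient_eq_bot (p := p) (G := ↥K)]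
        exact le_pPrimeCore ((card_pPrimeCore_coprime p ↥K₀).coprime_dvd_left (Subgroup.card_map_dvd _ f))
      exact MonoidHom.mem_ker.2 (Subgroup.mem_bot.1 (h ⟨c, hc, rfl⟩))
  have e₀ : ↥K₀ ⧸ Cfsg.pPrimeCore p ↥K₀ ≃* ↥K ⧸ Cfsg.pPrimeCore p ↥K :=
    (QuotientGroup.quotientMulEquivOfEq hker.symm).trans (QuotientGroup.quotientKerEquivOfSurjective f hfs)
  obtain ⟨hI, hIcov⟩ := pLayer_of_qs (p := p) (Local.isQuasisimple_congr e₀.symm hKq.1)
  have hIdef : Cfsg.pLayerOf p K₀ = (Cfsg.pLayer p ↥K₀).map K₀.subtype := rfl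
  have hIsub : (Cfsg.pLayerOf p K₀).subgroupOf K₀ = Cfsg.pLayer p ↥K₀ := by
    rw [hIdef, Subgroup.subgroupOf, Subgroup.comap_map_eq_self_of_injective K₀.subtype_injective]
  have hIK : Cfsg.IsPComponentOf p (Cfsg.pLayerOf p K₀) K₀ := ⟨Subgroup.map_subtype_le _, hIsub.symm ▸ hI⟩
  have hK₀C : K₀ ≤ Subgroup.centralizer ({x} : Set G) ⊓ Subgroup.centralizer (T : Set G) :=
    le_inf (hK₀K.trans hKC) (hK₀ ▸ inf_le_right)
  have hsn : (K₀.subgroupOf (Subgroup.centralizer ({x} : Set G) ⊓ Subgroup.centralizer (T : Set G))).IsSubnormal := by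
    have := hKsn.comap (Subgroup.inclusion (inf_le_left :
      Subgroup.centralizer ({x} : Set G) ⊓ Subgroup.centralizer (T : Set G) ≤ _))
    convert this using 1
    ext y
    rw [hK₀]
    exact ⟨fun h => (Subgroup.mem_inf.1 h).1, fun h => Subgroup.mem_inf.2 ⟨h, (Subgroup.mem_inf.1 y.2).2⟩⟩
  refine ⟨pcompOf_trans hIK hK₀C hsn, (Subgroup.map_subtype_le _).trans hK₀K, fun k hk => ?_, ⟨?_⟩⟩
  · obtain ⟨c, hc, hcd⟩ := hcov k hk
    obtain ⟨i, hi, o, ho, hio⟩ := Subgroup.mem_sup_of_normal_right.1 (hIcov ▸ Subgroup.mem_top (⟨c, hc⟩ : K₀))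
    refine ⟨i, ⟨i, hi, rfl⟩, ?_⟩
    rw [hO] at hcd
    obtain ⟨d, hd, hde⟩ := hcd
    have ho' : Subgroup.inclusion hK₀K o ∈ Cfsg.pPrimeCore p ↥K :=
      (QuotientGroup.eq_one_iff _).1 (MonoidHom.mem_ker.1 (hker.symm ▸ ho : o ∈ f.ker))
    have h1 := mul_mem ((hcore _).1 ho') (inv_mem ((hcore d).1 hd))
    have hio' : (i : G) * o = c := congrArg Subtype.val hio
    have hde' : (d : G) = k⁻¹ * c := hde
    rw [hde', Subgroup.coe_inclusion] at h1
    rwa [show (i : G)⁻¹ * k = (o : G) * (k⁻¹ * c)⁻¹ by rw [← hio']; group]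
  · obtain ⟨-, hIsn, -⟩ := pcompOf_iff.1 hIK
    let f₂ : ↥(Cfsg.pLayerOf p K₀) →* ↥K₀ ⧸ Cfsg.pPrimeCore p ↥K₀ :=
      (QuotientGroup.mk' _).comp (Subgroup.inclusion hIK.1)
    have h2s : Function.Surjective f₂ := fun q => by
      induction q using QuotientGroup.induction_on with
      | _ c =>
        obtain ⟨i, hi, o, ho, rfl⟩ := Subgroup.mem_sup_of_normal_right.1 (hIcov ▸ Subgroup.mem_top c)
        exact ⟨⟨i, i, hi, rfl⟩, QuotientGroup.eq.2 (by
          show i⁻¹ * (i * o) ∈ _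
          rwa [inv_mul_cancel_left])⟩
    have h2k : f₂.ker = Cfsg.pPrimeCore p ↥(Cfsg.pLayerOf p K₀) := by
      refine le_antisymm (le_pPrimeCore ?_) fun c hc => ?_
      · refine (card_pPrimeCore_coprime p ↥K₀).coprime_dvd_left ?_
        rw [← Subgroup.card_map_of_injective (f := Subgroup.inclusion hIK.1) (Subgroup.inclusion_injective _)]
        refine Subgroup.card_dvd_of_le ?_
        rintro _ ⟨c, hc, rfl⟩
        exact (QuotientGroup.eq_one_iff _).1 hc
      · haveI : ((Cfsg.pPrimeCore p ↥(Cfsg.pLayerOf p K₀)).map f₂).Normal :=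
          (inferInstance : (Cfsg.pPrimeCore p ↥(Cfsg.pLayerOf p K₀)).Normal).map f₂ h2s
        have h : (Cfsg.pPrimeCore p ↥(Cfsg.pLayerOf p K₀)).map f₂ ≤ ⊥ := by
          rw [← pPrimeCore_quotient_eq_bot (p := p) (G := ↥K₀)]
          exact le_pPrimeCore ((card_pPrimeCore_coprime p _).coprime_dvd_left (Subgroup.card_map_dvd _ f₂))
        exact MonoidHom.mem_ker.2 (Subgroup.mem_bot.1 (h ⟨c, hc, rfl⟩))
    exact ((QuotientGroup.quotientMulEquivOfEq h2k.symm).trans
      (QuotientGroup.quotientKerEquivOfSurjective f₂ h2s)).trans e₀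
where
  card_core_coprime (x : G) : (Nat.card (Cfsg.centralizerPPrimeCore p x)).Coprime p := by
    rw [Cfsg.centralizerPPrimeCore, Solv.card_map_subtype]; exact card_pPrimeCore_coprime p _
  normalizer_le_core (x : G) : Subgroup.normalizer ((Subgroup.centralizer ({x} : Set G) : Subgroup G) : Set G) ≤
      Subgroup.normalizer ((Cfsg.centralizerPPrimeCore p x : Subgroup G) : Set G) :=
    LocBal.normalizer_le_map_core _

end Cfsg.Agent.PComp
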