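import Cfsg.Agent.Lib.Fusion.PStableQuotient
import Cfsg.Agent.Lib.Fusion.StableSections

/-!
# `p`-stability does not see the `p'`-core
-/

set_option autoImplicit false
set_option linter.style.haveILetI false

open scoped commutatorElement
open Cfsg

universe u

namespace Cfsg.Agent.Fusion

variable {G : Type u} [Group G] [Finite G] {p : ℕ} [hp : Fact p.Prime]

omit [Finite G] in
theorem map_mem_normalizer {H : Type*} [Group H] [Finite H] (f : G →* H) {P : Subgroup G} {n : G}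
    (hn : n ∈ Subgroup.normalizer (P : Set G)) : f n ∈ Subgroup.normalizer (P.map f : Set H) := by
  refine mem_normalizer_of_cj_le ?_
  rintro _ ⟨_, ⟨x, hx, rfl⟩, rfl⟩
  exact ⟨n * x * n⁻¹, (Subgroup.mem_normalizer_iff.1 hn x).1 hx, by simp⟩

/-- The `p`-core of the automizer of a `p`-subgroup is seen modulo a normal `p'`-subgroup. -/
theorem automizer_quot_iff {K : Subgroup G} [K.Normal] (hK : (Nat.card K).Coprime p) {P : Subgroup G}
    (hP : IsPGroup p P) {g : G} (hg : g ∈ Subgroup.normalizer (P : Set G)) :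
    (QuotientGroup.mk (s := (Subgroup.centralizer (P : Set G)).subgroupOf
        (Subgroup.normalizer (P : Set G))) (⟨g, hg⟩ : ↥(Subgroup.normalizer (P : Set G)))) ∈
      pCore p _ ↔
    (QuotientGroup.mk (s := (Subgroup.centralizer (P.map (QuotientGroup.mk' K) : Set (G ⧸ K))).subgroupOf
        (Subgroup.normalizer (P.map (QuotientGroup.mk' K) : Set (G ⧸ K))))
        (⟨QuotientGroup.mk' K g, map_mem_normalizer _ hg⟩ :
          ↥(Subgroup.normalizer (P.map (QuotientGroup.mk' K) : Set (G ⧸ K))))) ∈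
      pCore p _ := by
  rw [mem_pCore_automizer_iff, mem_pCore_automizer_iff]
  set π := QuotientGroup.mk' K
  constructor
  · rintro ⟨D, hDN, hND, hDp, hgD⟩
    refine ⟨D.map π, ?_, ?_, ?_, ⟨g, hgD, rfl⟩⟩
    · rintro _ ⟨d, hd, rfl⟩
      exact map_mem_normalizer π (hDN hd)
    · intro y hy
      obtain ⟨n, hn, rfl⟩ := exists_lift_normalizer hK hP hy
      exact map_mem_normalizer π (hND hn)
    · rintro _ ⟨d, hd, rfl⟩
      obtain ⟨k, hk⟩ := hDp d hd
      refine ⟨k, Subgroup.mem_centralizer_iff.2 ?_⟩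
      rintro _ ⟨x, hx, rfl⟩
      rw [← map_pow, ← map_mul, ← map_mul, Subgroup.mem_centralizer_iff.1 hk x hx]
  · rintro ⟨D, hDN, hND, hDp, hgD⟩
    refine ⟨D.comap π ⊓ Subgroup.normalizer (P : Set G), inf_le_right, fun n hn => ?_, ?_, hgD, hg⟩
    · refine mem_normalizer_of_cj_le ?_
      rintro _ ⟨x, ⟨hxD, hxN⟩, rfl⟩
      refine ⟨?_, mul_mem (mul_mem hn hxN) (Subgroup.inv_mem _ hn)⟩
      have h1 := (Subgroup.mem_normalizer_iff.1 (hND (map_mem_normalizer π hn)) (π x)).1 hxD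
      simpa using h1
    · rintro d ⟨hdD, hdN⟩
      obtain ⟨k, hk⟩ := hDp _ hdD
      refine ⟨k, Subgroup.mem_centralizer_iff.2 fun x hx => ?_⟩
      have h2 : π (d ^ p ^ k * x * (d ^ p ^ k)⁻¹) = π x := by
        have h3 := Subgroup.mem_centralizer_iff.1 hk (π x) ⟨x, hx, rfl⟩
        rw [map_mul, map_mul, map_inv, map_pow, ← h3, mul_inv_cancel_right]
      have h4 := injOn_mk_of_coprime hK hP
        ((Subgroup.mem_normalizer_iff.1 (pow_mem hdN _) x).1 hx) hx h2
      rw [mul_inv_eq_iff_eq_mul] at h4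
      exact h4.symm

theorem isPStable_iff_quotient (hO : pCore p G ≠ ⊥) :
    IsPStable p G ↔ IsPStable p (G ⧸ pPrimeCore p G) := by
  set K := pPrimeCore p G
  set π := QuotientGroup.mk' K
  have hK : (Nat.card K).Coprime p := card_pPrimeCore_coprime p G
  have hπ : Function.Surjective π := QuotientGroup.mk'_surjective K
  have hO' : pCore p (G ⧸ K) ≠ ⊥ := by
    intro h
    haveI : ((pCore p G).map π).Normal := Subgroup.Normal.map inferInstance _ hπ
    have h2 : (pCore p G).map π ≤ ⊥ := h ▸ le_pCore ((isPGroup_pCore p G).map π)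
    rw [le_bot_iff, Subgroup.map_eq_bot_iff, QuotientGroup.ker_mk'] at h2
    exact hO (le_bot_iff.1 ((le_inf h2 le_rfl).trans (coprime_inf_pGroup hK (isPGroup_pCore p G)).le))
  constructor
  · intro hs
    refine ⟨hs.1, hO', fun A P hA hP hAP _ hn hq => ?_⟩
    have hb : pPrimeCore p (G ⧸ K) = ⊥ := pPrimeCore_quotient_eq_bot
    haveI : P.Normal := by rw [hb, bot_sup_eq] at hn; exact hn
    rintro _ ⟨⟨a, ha⟩, haA, rfl⟩
    have h1 := isPStableOn_quotient_of_isPStable hs P hP a (by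
      rw [eq_bot_iff, ← hq]
      have hz : Subgroup.zpowers a ≤ A := Subgroup.zpowers_le.2 haA
      exact Subgroup.commutator_mono (Subgroup.commutator_mono le_rfl hz) hz)
    refine (mem_pCore_automizer_iff P a ha).2
      ⟨(pCore p ((G ⧸ K) ⧸ Subgroup.centralizer (P : Set (G ⧸ K)))).comap (QuotientGroup.mk' _), ?_, ?_,
        fun d hd => ?_, h1⟩
    · rw [Subgroup.normalizer_eq_top]; exact le_top
    · exact le_of_le_of_eq le_top (Subgroup.normalizer_eq_top _).symm
    · obtain ⟨k, hk⟩ := isPGroup_pCore p _ ⟨_, hd⟩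
      exact ⟨k, (QuotientGroup.eq_one_iff _).1 (by simpa using congrArg Subtype.val hk)⟩
  · intro hs
    refine ⟨hs.1, hO, fun A P hA hP hAP hPle hn hq => ?_⟩
    rintro _ ⟨⟨a, ha⟩, haA, rfl⟩
    refine (automizer_quot_iff hK hP ha).2 ?_
    refine hs.2.2 (A.map π) (P.map π) (hA.map π) (hP.map π) ?_ ?_ ?_ ?_
      ⟨⟨π a, map_mem_normalizer π ha⟩, ⟨a, haA, rfl⟩, rfl⟩
    · rintro _ ⟨b, hb, rfl⟩ _ ⟨z, hz, rfl⟩
      exact ⟨b * z * b⁻¹, hAP b hb z hz, by simp⟩
    · refine le_trans ?_ (fun y hy => le_pCore (p := p) (N := (pCore p (G ⧸ K)).map (QuotientGroup.mk' _)) ((isPGroup_pCore p _).map _) ⟨y, hy, rfl⟩)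
      exact (Subgroup.map_mono hPle).trans (Subgroup.map_comap_le _ _)
    · have h1 : pPrimeCore p (G ⧸ K) ⊔ P.map π = (K ⊔ P).map π := by
        rw [pPrimeCore_quotient_eq_bot, bot_sup_eq, Subgroup.map_sup, QuotientGroup.map_mk'_self, bot_sup_eq]
      rw [h1]
      exact hn.map π hπ
    · rw [← Subgroup.map_commutator, ← Subgroup.map_commutator, hq, Subgroup.map_bot]

end Cfsg.Agent.Fusion
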