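import Mathlib

set_option autoImplicit false

namespace Cfsg.Agent.PiClassCount

open Classical in
/-- `n` has all prime divisors in `π`. -/
def PiNum (π : Set ℕ) (n : ℕ) : Prop := ∀ q : ℕ, q.Prime → q ∣ n → q ∈ π

/-- `n` has no prime divisor in `π`. -/
def CoPiNum (π : Set ℕ) (n : ℕ) : Prop := ∀ q : ℕ, q.Prime → q ∣ n → q ∉ π

theorem coprime {π : Set ℕ} {a b : ℕ} (ha : PiNum π a) (hb : CoPiNum π b) : a.Coprime b :=
  Nat.coprime_of_dvd fun q hq h1 h2 => hb q hq h2 (ha q hq h1)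

theorem piNum_mul {π : Set ℕ} {a b : ℕ} (ha : PiNum π a) (hb : PiNum π b) : PiNum π (a * b) :=
  fun q hq h => (hq.dvd_mul.mp h).elim (ha q hq) (hb q hq)

theorem coPiNum_mul {π : Set ℕ} {a b : ℕ} (ha : CoPiNum π a) (hb : CoPiNum π b) :
    CoPiNum π (a * b) := fun q hq h => (hq.dvd_mul.mp h).elim (ha q hq) (hb q hq)

theorem exists_split (π : Set ℕ) (n : ℕ) :
    0 < n → ∃ a b : ℕ, a * b = n ∧ PiNum π a ∧ CoPiNum π b := by
  induction n using Nat.recOnPosPrimePosCoprime with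
  | zero => simp
  | one =>
    intro _
    exact ⟨1, 1, rfl, fun q hq h => absurd h hq.not_dvd_one,
      fun q hq h => absurd h hq.not_dvd_one⟩
  | prime_pow p k hp _ =>
    intro _
    by_cases h : p ∈ π
    · refine ⟨p ^ k, 1, mul_one _, fun q hq hd => ?_, fun q hq hd => absurd hd hq.not_dvd_one⟩
      rwa [(Nat.prime_dvd_prime_iff_eq hq hp).mp (hq.dvd_of_dvd_pow hd)]
    · refine ⟨1, p ^ k, one_mul _, fun q hq hd => absurd hd hq.not_dvd_one, fun q hq hd => ?_⟩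
      rwa [(Nat.prime_dvd_prime_iff_eq hq hp).mp (hq.dvd_of_dvd_pow hd)]
  | coprime a b ha hb _ iha ihb =>
    intro _
    obtain ⟨a₁, b₁, h1, hp1, hc1⟩ := iha (by omega)
    obtain ⟨a₂, b₂, h2, hp2, hc2⟩ := ihb (by omega)
    exact ⟨a₁ * a₂, b₁ * b₂, by rw [← h1, ← h2]; ring, piNum_mul hp1 hp2, coPiNum_mul hc1 hc2⟩

variable {G : Type*} [Group G] [Finite G]

theorem exists_decomp (π : Set ℕ) (N : Subgroup G) {n : G} (hn : n ∈ N) :
    ∃ u v : G, u * v = n ∧ u ∈ N ∧ v ∈ N ∧ PiNum π (orderOf u) ∧ CoPiNum π (orderOf v) ∧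
      (∀ x : G, Commute x n → Commute x u ∧ Commute x v) := by
  obtain ⟨a, b, hab, ha, hb⟩ := exists_split π (orderOf n) (orderOf_pos n)
  have hc : Nat.Coprime a b := coprime ha hb
  have hbez := Nat.gcd_eq_gcd_ab a b
  rw [hc.gcd_eq_one, Nat.cast_one] at hbez
  refine ⟨n ^ ((b : ℤ) * Nat.gcdB a b), n ^ ((a : ℤ) * Nat.gcdA a b), ?_, N.zpow_mem hn _,
    N.zpow_mem hn _, ?_, ?_, fun x hx => ⟨hx.zpow_right _, hx.zpow_right _⟩⟩
  · rw [← zpow_add, add_comm, ← hbez, zpow_one]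
  · intro q hq hd
    refine ha q hq (hd.trans (orderOf_dvd_of_pow_eq_one ?_))
    rw [← zpow_natCast, ← zpow_mul,
      show (b : ℤ) * Nat.gcdB a b * (a : ℤ) = ((a * b : ℕ) : ℤ) * Nat.gcdB a b by push_cast; ring,
      zpow_mul, zpow_natCast, hab, pow_orderOf_eq_one, one_zpow]
  · intro q hq hd
    refine hb q hq (hd.trans (orderOf_dvd_of_pow_eq_one ?_))
    rw [← zpow_natCast, ← zpow_mul,
      show (a : ℤ) * Nat.gcdA a b * (b : ℤ) = ((a * b : ℕ) : ℤ) * Nat.gcdA a b by push_cast; ring,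
      zpow_mul, zpow_natCast, hab, pow_orderOf_eq_one, one_zpow]

theorem eq_of_mul_eq {π : Set ℕ} {x x' v v' : G} (hx : PiNum π (orderOf x))
    (hx' : PiNum π (orderOf x')) (hv : CoPiNum π (orderOf v)) (hv' : CoPiNum π (orderOf v'))
    (hc : Commute x v) (hc' : Commute x' v') (h : x * v = x' * v') : x = x' ∧ v = v' := by
  have hco : Nat.Coprime (orderOf x * orderOf x') (orderOf v * orderOf v') :=
    coprime (piNum_mul hx hx') (coPiNum_mul hv hv')
  obtain ⟨e, he1, he0⟩ := Nat.chineseRemainder hco 1 0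
  have key : ∀ y w : G, Commute y w → orderOf y ∣ orderOf x * orderOf x' →
      orderOf w ∣ orderOf v * orderOf v' → (y * w) ^ e = y := by
    intro y w hyw hy hw
    rw [hyw.mul_pow]
    have h1 : y ^ e = y := by
      conv_rhs => rw [← pow_one y]
      exact pow_eq_pow_iff_modEq.mpr (Nat.ModEq.of_dvd hy he1)
    have h2 : w ^ e = 1 :=
      orderOf_dvd_iff_pow_eq_one.mp (hw.trans (Nat.modEq_zero_iff_dvd.mp he0))
    rw [h1, h2, mul_one]
  have e1 := key x v hc (dvd_mul_right _ _) (dvd_mul_right _ _)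
  have e2 := key x' v' hc' (dvd_mul_left _ _) (dvd_mul_left _ _)
  have hxx : x = x' := by rw [← e1, h, e2]
  subst hxx
  exact ⟨rfl, mul_left_cancel h⟩

/-- The pairs `(x, n)` with `x` a π-element of the coset `g N`, `n ∈ N`, commuting. -/
abbrev Pairs (π : Set ℕ) (N : Subgroup G) (g : G) : Type _ :=
  {p : G × G // PiNum π (orderOf p.1) ∧ g⁻¹ * p.1 ∈ N ∧ p.2 ∈ N ∧ Commute p.1 p.2}

theorem pairs_card_le (π : Set ℕ) (N : Subgroup G) (g : G) :
    Nat.card (Pairs π N g) ≤ Nat.card (Pairs π N 1) := by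
  classical
  haveI : Fintype G := Fintype.ofFinite G
  have hd : ∀ p : Pairs π N g, ∃ u v : G, u * v = p.1.2 ∧ u ∈ N ∧ v ∈ N ∧
      PiNum π (orderOf u) ∧ CoPiNum π (orderOf v) ∧
      (∀ x : G, Commute x p.1.2 → Commute x u ∧ Commute x v) :=
    fun p => exists_decomp π N p.2.2.2.1
  choose u v huv hu hv hpu hcv hcomm using hd
  -- the coset `g N ∩ C(a)` is either empty or in bijection with `N ∩ C(a)`
  let A := {q : G × G // PiNum π (orderOf q.1) ∧ q.1 ∈ N ∧ g⁻¹ * q.2 ∈ N ∧ Commute q.1 q.2}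
  have h1 : Nat.card (Pairs π N g) ≤ Nat.card A := by
    refine Nat.card_le_card_of_injective (fun p => ⟨(u p, p.1.1 * v p), hpu p, hu p, ?_, ?_⟩) ?_
    · show g⁻¹ * (p.1.1 * v p) ∈ N
      rw [← mul_assoc]
      exact N.mul_mem p.2.2.1 (hv p)
    · show Commute (u p) (p.1.1 * v p)
      have a : Commute (u p) p.1.1 := ((hcomm p p.1.1 p.2.2.2.2).1).symm
      have b : Commute (u p) (v p) :=
        (hcomm p (u p) ((hcomm p p.1.2 (Commute.refl _)).1.symm)).2
      exact a.mul_right b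
    · intro p p' hpp
      have hv' := congrArg Subtype.val hpp
      have e1 : u p = u p' := congrArg Prod.fst hv'
      have e2 : p.1.1 * v p = p'.1.1 * v p' := congrArg Prod.snd hv'
      obtain ⟨ex, ev⟩ := eq_of_mul_eq p.2.1 p'.2.1 (hcv p) (hcv p')
        (hcomm p p.1.1 p.2.2.2.2).2 (hcomm p' p'.1.1 p'.2.2.2.2).2 e2
      apply Subtype.ext
      refine Prod.ext ex ?_
      rw [← huv p, ← huv p', e1, ev]
  refine h1.trans ?_
  have hsel : ∀ a : G, ∃ c : G, ∀ y : G, g⁻¹ * y ∈ N → Commute a y →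
      g⁻¹ * c ∈ N ∧ Commute a c := by
    intro a
    by_cases h : ∃ y : G, g⁻¹ * y ∈ N ∧ Commute a y
    · obtain ⟨c, hc⟩ := h
      exact ⟨c, fun _ _ _ => hc⟩
    · exact ⟨1, fun y h1 h2 => absurd ⟨y, h1, h2⟩ h⟩
  choose c hc using hsel
  refine Nat.card_le_card_of_injective
    (fun q : A => (⟨(q.1.1, (c q.1.1)⁻¹ * q.1.2), q.2.1, ?_, ?_, ?_⟩ : Pairs π N 1)) ?_
  · show (1 : G)⁻¹ * q.1.1 ∈ N
    simpa using q.2.2.1
  · show (c q.1.1)⁻¹ * q.1.2 ∈ N
    have h2 := N.mul_mem (N.inv_mem (hc q.1.1 q.1.2 q.2.2.2.1 q.2.2.2.2).1) q.2.2.2.1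
    simpa [mul_assoc] using h2
  · show Commute q.1.1 ((c q.1.1)⁻¹ * q.1.2)
    exact ((hc q.1.1 q.1.2 q.2.2.2.1 q.2.2.2.2).2.inv_right).mul_right q.2.2.2.2
  · intro q q' h
    have hv' := congrArg Subtype.val h
    dsimp only at hv'
    obtain ⟨e1, e2⟩ := Prod.mk.injEq _ _ _ _ ▸ hv'
    apply Subtype.ext
    refine Prod.ext e1 ?_
    rw [e1] at e2
    exact mul_left_cancel e2

/-- π-elements of the coset `g N`. -/
abbrev CosetPi (π : Set ℕ) (N : Subgroup G) (g : G) : Type _ :=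
  {x : G // PiNum π (orderOf x) ∧ g⁻¹ * x ∈ N}

/-- `N`-conjugacy on π-elements of a coset of `N`. -/
@[reducible] def conjAction (π : Set ℕ) (N : Subgroup G) [hN : N.Normal] (g : G) :
    MulAction N (CosetPi π N g) where
  smul n x := ⟨(n : G) * x.1 * (n : G)⁻¹, by
    refine ⟨?_, ?_⟩
    · have : orderOf ((n : G) * x.1 * (n : G)⁻¹) = orderOf x.1 :=
        (MulAut.conj (n : G)).orderOf_eq x.1
      rw [this]
      exact x.2.1
    · have h1 : g⁻¹ * (n : G) * g ∈ N := by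
        simpa using hN.conj_mem n n.2 g⁻¹
      have h2 := N.mul_mem (N.mul_mem h1 x.2.2) (N.inv_mem n.2)
      simpa [mul_assoc] using h2⟩
  one_smul x := Subtype.ext (show ((1 : N) : G) * x.1 * ((1 : N) : G)⁻¹ = x.1 by simp)
  mul_smul m n x := Subtype.ext
    (show ((m * n : N) : G) * x.1 * ((m * n : N) : G)⁻¹
      = (m : G) * ((n : G) * x.1 * (n : G)⁻¹) * (m : G)⁻¹ by simp [mul_assoc])

/-- The orbits of `N` on the π-elements of `g N`. -/
abbrev Orbits (π : Set ℕ) (N : Subgroup G) [N.Normal] (g : G) : Type _ :=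
  Quotient (@MulAction.orbitRel N (CosetPi π N g) _ (conjAction π N g))

theorem card_orbits_mul (π : Set ℕ) (N : Subgroup G) [N.Normal] (g : G) :
    Nat.card (Orbits π N g) * Nat.card N = Nat.card (Pairs π N g) := by
  classical
  haveI : Fintype G := Fintype.ofFinite G
  letI := conjAction π N g
  haveI : ∀ a : N, Fintype (MulAction.fixedBy (CosetPi π N g) a) := fun a => Fintype.ofFinite _
  haveI : Fintype (Orbits π N g) := Fintype.ofFinite _
  haveI : Fintype N := Fintype.ofFinite _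
  have h := MulAction.sum_card_fixedBy_eq_card_orbits_mul_card_group N (CosetPi π N g)
  simp only [Nat.card_eq_fintype_card]
  rw [← h, ← Fintype.card_sigma]
  apply Fintype.card_congr
  refine Equiv.ofBijective (fun s => ⟨(s.2.1.1, (s.1 : G)), s.2.1.2.1, s.2.1.2.2, s.1.2, ?_⟩)
    ⟨?_, ?_⟩
  · have h2 : (s.1 : G) * s.2.1.1 * (s.1 : G)⁻¹ = s.2.1.1 := congrArg Subtype.val s.2.2
    exact (eq_mul_of_mul_inv_eq h2).symm
  · rintro ⟨a, x, hx⟩ ⟨b, y, hy⟩ hab
    have hv' := congrArg Subtype.val hab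
    dsimp only at hv'
    obtain ⟨e1, e2⟩ := Prod.mk.injEq _ _ _ _ ▸ hv'
    obtain rfl : a = b := Subtype.ext e2
    obtain rfl : x = y := Subtype.ext e1
    rfl
  · rintro ⟨⟨x, n⟩, h1, h2, h3, h4⟩
    refine ⟨⟨⟨n, h3⟩, ⟨⟨x, h1, h2⟩, Subtype.ext ?_⟩⟩, rfl⟩
    show n * x * n⁻¹ = x
    rw [← h4.eq, mul_inv_cancel_right]

theorem card_orbits_le (π : Set ℕ) (N : Subgroup G) [N.Normal] (g : G) :
    Nat.card (Orbits π N g) ≤ Nat.card (Orbits π N 1) := by
  have h := pairs_card_le π N g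
  rw [← card_orbits_mul, ← card_orbits_mul] at h
  exact Nat.le_of_mul_le_mul_right h Nat.card_pos

end Cfsg.Agent.PiClassCount
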