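import Cfsg.Agent.Lib.Fusion.QdSection

/-!
# A natural `SL₂(p)`-module inside a module with a quadratic pair
-/

set_option autoImplicit false

open Matrix
open scoped commutatorElement

universe u

namespace Cfsg.Agent.Fusion

/-- A quadratic pair not generating a `p`-group on an elementary abelian subgroup has a natural module of `SL₂(p)`
inside, realized by elements of the generated group. -/
theorem exists_natural_of_quadratic_pair {G : Type u} [Group G] [Finite G] {p : ℕ} [Fact p.Prime]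
    (hp2 : p ≠ 2) (V H : Subgroup G) (hV : Cfsg.IsElementaryAbelian p V)
    (hHV : H ≤ Subgroup.normalizer (V : Set G)) {x y : G} (hx : x ∈ H) (hy : y ∈ H)
    (hqx : ∀ v ∈ V, ⁅⁅v, x⁆, x⁆ = 1) (hqy : ∀ v ∈ V, ⁅⁅v, y⁆, y⁆ = 1)
    (hpg : ∃ g ∈ Subgroup.closure ({x, y} : Set G),
      ∀ j : ℕ, g ^ p ^ j ∉ Subgroup.centralizer (V : Set G)) :
    ∃ W : (Fin 2 → ZMod p) → G, Function.Injective W ∧ (∀ a b, W (a + b) = W a * W b) ∧ (∀ a, W a ∈ V) ∧
      ∀ R : Matrix.SpecialLinearGroup (Fin 2) (ZMod p), ∃ l ∈ Subgroup.closure ({x, y} : Set G),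
        ∀ c, l * W c * l⁻¹ = W (R.1 *ᵥ c) := by
  classical
  obtain ⟨n, co, A, θ, hco, hcoadd, hcoA, ⟨a, b, hθx, hθy, hne⟩, C, hC0, hC⟩ :=
    exists_quadratic_data V H hV hHV hx hy hqx hqy hpg
  haveI : CharP (AlgebraicClosure (ZMod p)) p :=
    charP_of_injective_algebraMap (algebraMap (ZMod p) (AlgebraicClosure (ZMod p))).injective p
  haveI : Finite θ.range := Finite.of_surjective θ.rangeRestrict θ.rangeRestrict_surjective
  obtain ⟨M, hM, hMg⟩ := Dickson.exists_containsStd p hp2 θ.range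
    ⟨_, ⟨_, rfl⟩, _, ⟨_, rfl⟩, hθx, hθy, hne⟩
  have hstd : Function.Injective
      ((Dickson.conjEquiv M hM).toMonoidHom.comp (Dickson.stdMap (F := AlgebraicClosure (ZMod p)) p)) :=
    (Dickson.conjEquiv M hM).injective.comp fun u v huv => Subtype.ext (Matrix.ext fun i j =>
      (ZMod.castHom dvd_rfl (AlgebraicClosure (ZMod p))).injective
        (congrFun (congrFun (congrArg Subtype.val huv) i) j))
  set emb := (Dickson.conjEquiv M hM).toMonoidHom.comp
    (Dickson.stdMap (F := AlgebraicClosure (ZMod p)) p)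
  set eqv := MonoidHom.ofInjective hstd
  set L := emb.range.comap θ with hL
  set σ : L →* Matrix.SpecialLinearGroup (Fin 2) (ZMod p) :=
    eqv.symm.toMonoidHom.comp (θ.subgroupComap emb.range) with hσ
  have hσθ : ∀ l : L, emb (σ l) = θ l.1 := fun l =>
    congrArg Subtype.val (eqv.apply_symm_apply ((θ.subgroupComap emb.range) l))
  have hσs : Function.Surjective σ := fun R => by
    obtain ⟨l, hl⟩ := hMg R
    have hlL : l ∈ L := ⟨R, hl.symm⟩
    refine ⟨⟨l, hlL⟩, hstd ?_⟩
    exact (hσθ ⟨l, hlL⟩).trans hl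
  have hMu : IsUnit M.det := isUnit_iff_ne_zero.2 hM
  obtain ⟨C', hC'0, hC'⟩ := exists_descent (p := p) (fun l : L => A l.1) (fun l : L => (σ l).1)
    (C * M⁻¹) (fun h0 => hC0 (by
      have := congrArg (fun X => X * M) h0
      simpa [Matrix.mul_assoc, Matrix.nonsing_inv_mul _ hMu] using this))
    (fun l => by
      have hcast : (Dickson.stdMap (F := AlgebraicClosure (ZMod p)) p (σ l)).1 =
          (σ l).1.map (algebraMap (ZMod p) (AlgebraicClosure (ZMod p))) := by
        show (σ l).1.map (ZMod.castHom dvd_rfl _) = _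
        rw [Subsingleton.elim (algebraMap (ZMod p) (AlgebraicClosure (ZMod p)))
          (ZMod.castHom dvd_rfl _)]
      have h1 : (θ l.1).1 = M⁻¹ * (σ l).1.map (algebraMap (ZMod p) (AlgebraicClosure (ZMod p))) * M := by
        rw [← hcast, ← hσθ l]; rfl
      rw [← Matrix.mul_assoc, hC l.1, h1, Matrix.mul_assoc, Matrix.mul_assoc, Matrix.mul_assoc,
        Matrix.mul_assoc, Matrix.mul_nonsing_inv _ hMu, Matrix.mul_one])
  have hinj := natural_intertwiner_injective (fun l : L => A l.1) σ hσs C' hC'0 hC'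
  set e := Equiv.ofBijective co hco
  let W : (Fin 2 → ZMod p) → G := fun c => (e.symm (C' *ᵥ c) : G)
  refine ⟨W, fun c d h => hinj (e.symm.injective (Subtype.ext h)), fun c d => ?_, fun c => (e.symm _).2,
    fun R => ?_⟩
  · show (e.symm (C' *ᵥ (c + d)) : G) = (e.symm (C' *ᵥ c) : G) * (e.symm (C' *ᵥ d) : G)
    rw [← Subgroup.coe_mul]
    refine congrArg Subtype.val (e.injective ?_)
    rw [e.apply_symm_apply, mulVec_add]
    show _ = co _
    rw [hcoadd]
    exact (congrArg₂ (· + ·) (e.apply_symm_apply _) (e.apply_symm_apply _)).symm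
  · obtain ⟨l', rfl⟩ := hσs R
    refine ⟨(l'.1 : G), l'.1.2, fun c => ?_⟩
    show (l'.1 : G) * (e.symm (C' *ᵥ c) : G) * (l'.1 : G)⁻¹ = (e.symm (C' *ᵥ ((σ l').1 *ᵥ c)) : G)
    have hlH : (l'.1 : G) ∈ H :=
      ((Subgroup.closure_le _).2 (by rintro z (rfl | rfl) <;> assumption) :
        Subgroup.closure ({x, y} : Set G) ≤ H) l'.1.2
    set v := e.symm (C' *ᵥ c)
    set w : V := ⟨(l'.1 : G) * v * (l'.1 : G)⁻¹,
      (Subgroup.mem_normalizer_iff.1 (hHV hlH) (v : G)).1 v.2⟩
    have h2 : e w = C' *ᵥ ((σ l').1 *ᵥ c) := by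
      show co w = _
      rw [hcoA l'.1 v w rfl, show co v = C' *ᵥ c from e.apply_symm_apply _, mulVec_mulVec, hC' l',
        ← mulVec_mulVec]
    rw [← h2, e.symm_apply_apply]

end Cfsg.Agent.Fusion
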