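import Cfsg.Agent.Lib.Fusion.WeakClosedElements

/-!
Powers of central elements that the normalizer of a functor value centralizes, in a constrained group whose
functor has quadratic elements.
-/

set_option autoImplicit false

open scoped commutatorElement

universe u

namespace Cfsg.Agent.Fusion

open Cfsg Cfsg.Agent.Local.FS

/-- An element acting quadratically on a normal abelian `p`-subgroup containing the centre of a Sylow subgroup
centralizes the `p`-th powers. -/
theorem commute_pow_of_quadratic {p : ℕ} [Fact p.Prime] {L : Type u} [Group L] [Finite L] (T : Sylow p L)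
    {V : Subgroup L} [V.Normal] (hVT : V ≤ (T : Subgroup L)) (hVab : ∀ a ∈ V, ∀ b ∈ V, a * b = b * a)
    (hgen : V = Subgroup.normalClosure {z | z ∈ (T : Subgroup L) ∧ ∀ t ∈ (T : Subgroup L), t * z = z * t})
    {a : L} (hquad : ∀ w ∈ V, a * (a * w * a⁻¹ * w⁻¹) = a * w * a⁻¹ * w⁻¹ * a) :
    ∀ v ∈ V, a * v ^ p = v ^ p * a := by
  have hp : p.Prime := Fact.out
  have hVp : IsPGroup p V := T.2.to_le hVT
  set C₀ := Subgroup.centralizer (V : Set L)
  haveI : C₀.Normal := Subgroup.normal_centralizer (H := V)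
  set π := QuotientGroup.mk' C₀
  have hπs : Function.Surjective π := QuotientGroup.mk'_surjective C₀
  have hmem : ∀ {l : L}, π l = 1 ↔ l ∈ C₀ := fun {l} => QuotientGroup.eq_one_iff l
  -- the core of the image is trivial
  have hcore : pCore p (L ⧸ C₀) = ⊥ := by
    set K₁ := (pCore p (L ⧸ C₀)).comap π
    obtain ⟨T', hT'⟩ := (sylIn_map_mk (N := C₀) (sylIn_top T)).exists_sylow
    have hle : ∀ l ∈ K₁, ∀ z ∈ {z | z ∈ (T : Subgroup L) ∧ ∀ t ∈ (T : Subgroup L), t * z = z * t},
        l * z = z * l := fun l hl z hz => by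
      obtain ⟨t, ht, he⟩ : π l ∈ (T : Subgroup L).map π := hT' ▸ pCore_le_sylow T' hl
      have hk : t⁻¹ * l ∈ C₀ := QuotientGroup.eq.1 he
      have hzV : z ∈ V := hgen.ge (Subgroup.subset_normalClosure hz)
      have h3 : Commute (t * (t⁻¹ * l)) z := (show Commute t z from hz.2 t ht).mul_left
        (Subgroup.mem_centralizer_iff.1 hk z hzV).symm
      rw [mul_inv_cancel_left] at h3
      exact h3.eq
    have h2 : K₁ ≤ C₀ := by
      rw [Subgroup.le_centralizer_iff, hgen]
      exact Subgroup.normalClosure_le_normal fun z hz => Subgroup.mem_centralizer_iff.2 fun l hl => hle l hl z hz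
    rw [eq_bot_iff]
    intro y hy
    obtain ⟨l, rfl⟩ := hπs y
    exact Subgroup.mem_bot.2 (hmem.2 (h2 hy))
  -- the elements of order `p`
  set E : Subgroup L :=
    { carrier := {v | v ∈ V ∧ v ^ p = 1}
      one_mem' := ⟨one_mem _, one_pow _⟩
      mul_mem' := fun {a b} ha hb => ⟨mul_mem ha.1 hb.1, by
        rw [(show Commute a b from hVab a ha.1 b hb.1).mul_pow, ha.2, hb.2, one_mul]⟩
      inv_mem' := fun {a} ha => ⟨inv_mem ha.1, by rw [inv_pow, ha.2, inv_one]⟩ } with hEdef
  haveI hEn : E.Normal := ⟨fun v hv g => ⟨(inferInstance : V.Normal).conj_mem v hv.1 g, by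
    rw [conj_pow, hv.2, mul_one, mul_inv_cancel]⟩⟩
  have hEC : Subgroup.centralizer (E : Set L) ≤ C₀ := by
    haveI : (Subgroup.centralizer (E : Set L)).Normal := Subgroup.normal_centralizer (H := E)
    haveI : ((Subgroup.centralizer (E : Set L)).map π).Normal := Subgroup.Normal.map inferInstance _ hπs
    have hp' : IsPGroup p ((Subgroup.centralizer (E : Set L)).map π) := by
      rintro ⟨_, l, hl, rfl⟩
      obtain ⟨i, j, hj, hij⟩ := Nat.exists_eq_pow_mul_and_not_dvd (orderOf_pos l).ne' p hp.ne_one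
      refine ⟨i, Subtype.ext ?_⟩
      show π l ^ p ^ i = 1
      rw [← map_pow]
      refine hmem.2 (Subgroup.mem_centralizer_iff.2 fun v hv => ?_)
      refine (commute_of_coprime_fixed_omega hVp hVab (y := l ^ p ^ i) (by rw [Subgroup.normalizer_eq_top]; trivial)
        hj (fun w _ => by rw [← pow_mul, ← hij, pow_orderOf_eq_one, one_mul, mul_one]) (fun w hw hwp => ?_) v hv).symm
      exact (Subgroup.mem_centralizer_iff.1 (Subgroup.pow_mem _ hl _) w ⟨hw, hwp⟩).symm
    intro l hl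
    have h1 := le_pCore (p := p) hp' (Subgroup.mem_map_of_mem π hl)
    rw [hcore, Subgroup.mem_bot] at h1
    exact hmem.1 h1
  have hiter : ∀ v ∈ V, ∀ i : ℕ, a ^ i * v * (a ^ i)⁻¹ = (a * v * a⁻¹ * v⁻¹) ^ i * v := by
    intro v hv i
    set d := a * v * a⁻¹ * v⁻¹ with hd
    have hdc : Commute a d := hquad v hv
    induction i with
    | zero => simp
    | succ i hi =>
      calc a ^ (i + 1) * v * (a ^ (i + 1))⁻¹ = a * (a ^ i * v * (a ^ i)⁻¹) * a⁻¹ := by rw [pow_succ']; group
        _ = a * d ^ i * v * a⁻¹ := by rw [hi]; group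
        _ = d ^ i * (a * v * a⁻¹ * v⁻¹) * v := by rw [(hdc.pow_right i).eq]; group
        _ = d ^ (i + 1) * v := by rw [← hd, pow_succ]
  have hap : a ^ p ∈ C₀ := by
    refine hEC (Subgroup.mem_centralizer_iff.2 fun v hv => ?_)
    have hdE : a * v * a⁻¹ * v⁻¹ ∈ E := E.mul_mem (hEn.conj_mem v hv a) (E.inv_mem hv)
    have h1 := hiter v hv.1 p
    rw [hdE.2, one_mul, mul_inv_eq_iff_eq_mul] at h1
    exact h1.symm
  intro v hv
  set d := a * v * a⁻¹ * v⁻¹ with hd
  have hdV : d ∈ V := V.mul_mem ((inferInstance : V.Normal).conj_mem v hv a) (V.inv_mem hv)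
  have h1 := hiter v hv p
  rw [← Subgroup.mem_centralizer_iff.1 hap v hv, mul_inv_cancel_right] at h1
  have h2 : d ^ p = 1 := right_eq_mul.1 h1
  have h3 : a * v * a⁻¹ = d * v := by rw [hd]; group
  have h4 : a * v ^ p * a⁻¹ = v ^ p := by
    rw [← conj_pow, h3, (show Commute d v from hVab d hdV v hv).mul_pow, h2, one_mul]
  exact mul_inv_eq_iff_eq_mul.1 h4

variable {p : ℕ} [Fact p.Prime] {W : ∀ (Q : Type u) [Group Q], Subgroup Q}

/-- In a constrained group, a power of a central element of a Sylow subgroup centralized by the normalizer of the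
functor value is central, if the functor has quadratic elements. -/
theorem fixed_of_quadratic (hW : IsCharPFunctor.{u} p W)
    (hq : ∀ (G : Type u) [Group G] [Finite G] (P : Sylow p G), ¬ (inducedFunctor W (P : Subgroup G)).Normal →
      ∃ g : G, g ∈ (P : Subgroup G) ∧ g ∉ pCore p G ∧
        ⁅⁅(Subgroup.center ↥(pCore p G)).map (pCore p G).subtype, Subgroup.zpowers g⁆, Subgroup.zpowers g⁆ = ⊥) :
    ∀ (n : ℕ) (L : Type u) [Group L] [Finite L] (T : Sylow p L) (z : L), Nat.card L ≤ n →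
    Subgroup.centralizer ((pCore p L : Subgroup L) : Set L) ≤ pCore p L → z ∈ (T : Subgroup L) →
    (∀ t ∈ (T : Subgroup L), t * z = z * t) →
    (∀ g ∈ Subgroup.normalizer (inducedFunctor W (T : Subgroup L) : Set L), g * z ^ p = z ^ p * g) →
    ∀ g : L, g * z ^ p = z ^ p * g := by
  intro n
  induction n using Nat.strong_induction_on with
  | _ n ihn =>
  intro L _ _ T z hn hc hzT hzc hloc g
  by_cases hnor : (inducedFunctor W (T : Subgroup L)).Normal
  · exact hloc g (by haveI := hnor; rw [Subgroup.normalizer_eq_top]; exact Subgroup.mem_top g)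
  obtain ⟨a, haT, haQ, haz⟩ := hq L T hnor
  set Q := pCore p L
  have hQT : Q ≤ (T : Subgroup L) := pCore_le_sylow T
  set ZT : Set L := {z | z ∈ (T : Subgroup L) ∧ ∀ t ∈ (T : Subgroup L), t * z = z * t} with hZT
  haveI : (Q ⊓ Subgroup.centralizer (Q : Set L)).Normal :=
    Subgroup.normal_inf_normal Q (Subgroup.centralizer (Q : Set L))
  have hzZ : ZT ⊆ (Q ⊓ Subgroup.centralizer (Q : Set L) : Subgroup L) := fun w hw => by
    have h1 : w ∈ Subgroup.centralizer (Q : Set L) := Subgroup.mem_centralizer_iff.2 fun q hq => hw.2 q (hQT hq)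
    exact ⟨hc h1, h1⟩
  set V := Subgroup.normalClosure ZT with hVdef
  have hVZ : V ≤ Q ⊓ Subgroup.centralizer (Q : Set L) := Subgroup.normalClosure_le_normal hzZ
  have hVab : ∀ a ∈ V, ∀ b ∈ V, a * b = b * a := fun a ha b hb =>
    Subgroup.mem_centralizer_iff.1 (hVZ hb).2 a (hVZ ha).1
  have hquad : ∀ w ∈ V, a * (a * w * a⁻¹ * w⁻¹) = a * w * a⁻¹ * w⁻¹ * a := by
    intro w hw
    have hwZ : w ∈ (Subgroup.center ↥Q).map Q.subtype :=
      ⟨⟨w, (hVZ hw).1⟩, Subgroup.mem_center_iff.2 fun q =>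
        Subtype.ext (Subgroup.mem_centralizer_iff.1 (hVZ hw).2 q q.2), rfl⟩
    have h1 : ⁅⁅w, a⁆, a⁆ = 1 := Subgroup.mem_bot.1 (haz ▸ Subgroup.commutator_mem_commutator
      (Subgroup.commutator_mem_commutator hwZ (Subgroup.mem_zpowers a)) (Subgroup.mem_zpowers a))
    have h2 : Commute ⁅w, a⁆⁻¹ a := (commutatorElement_eq_one_iff_commute.1 h1).inv_left
    rw [commutatorElement_inv, commutatorElement_def] at h2
    exact h2.symm.eq
  have haV := commute_pow_of_quadratic T (fun v hv => hQT (hVZ hv).1) hVab rfl hquad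
  haveI hC'n : (Subgroup.centralizer {y | ∃ v ∈ V, v ^ p = y}).Normal := ⟨fun c hc' g =>
    Subgroup.mem_centralizer_iff.2 fun y ⟨v, hv, hy⟩ => by
      have h1 := Subgroup.mem_centralizer_iff.1 hc' _
        ⟨g⁻¹ * v * g, by simpa using (inferInstance : V.Normal).conj_mem v hv g⁻¹, rfl⟩
      rw [← hy, show v ^ p = g * (g⁻¹ * v * g) ^ p * g⁻¹ by rw [← conj_pow]; congr 1; group]
      calc g * (g⁻¹ * v * g) ^ p * g⁻¹ * (g * c * g⁻¹) = g * ((g⁻¹ * v * g) ^ p * c) * g⁻¹ := by group
        _ = g * (c * (g⁻¹ * v * g) ^ p) * g⁻¹ := by rw [h1]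
        _ = g * c * g⁻¹ * (g * (g⁻¹ * v * g) ^ p * g⁻¹) := by group⟩
  set C := Subgroup.centralizer {y | ∃ v ∈ V, v ^ p = y}
  have haC : a ∈ C := Subgroup.mem_centralizer_iff.2 fun y ⟨v, hv, hy⟩ => hy ▸ (haV v hv).symm
  have hQC : Q ≤ C := fun q hq => Subgroup.mem_centralizer_iff.2 fun y ⟨v, hv, hy⟩ =>
    hy ▸ ((show Commute q v from Subgroup.mem_centralizer_iff.1 (hVZ hv).2 q hq).pow_right p).symm.eq
  set D := (T : Subgroup L) ⊓ C
  have hsyl : SylIn p D C := (sylIn_top T).inf_normal le_top (by rw [Subgroup.normalizer_eq_top])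
  obtain ⟨c, hcC, hcg⟩ := frattini_conj hsyl (H := ⊤) (by rw [Subgroup.normalizer_eq_top]) (Subgroup.mem_top g)
  set H := Subgroup.normalizer (D : Set L)
  have hTH : (T : Subgroup L) ≤ H := fun t ht =>
    mem_normalizer_of_cj_le (le_inf ((cj_mono inf_le_left t).trans (cj_eq_self_of_mem ht).le)
      ((cj_mono inf_le_right t).trans (cj_of_normal C t).le))
  have hHtop : H ≠ ⊤ := fun h => by
    haveI := Subgroup.normalizer_eq_top_iff.1 h
    exact haQ (le_pCore (T.2.to_le inf_le_left) (show a ∈ D from ⟨haT, haC⟩))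
  have hlt : Nat.card H < n := lt_of_lt_of_le (lt_of_le_of_ne (Subgroup.card_le_card_group H)
    fun h => hHtop (Subgroup.eq_top_of_card_eq H h)) hn
  have hpc : Q.subgroupOf H ≤ pCore p H := le_pCore ((isPGroup_pCore p L).comap_subtype)
  have hQH : Q ≤ H := hQT.trans hTH
  have hmap : ((T.subtype hTH : Subgroup H)).map H.subtype = (T : Subgroup L) := by
    rw [Sylow.coe_subtype, Subgroup.map_subgroupOf_eq_of_le hTH]
  have h := ihn _ hlt H (T.subtype hTH) ⟨z, hTH hzT⟩ le_rfl
    (fun y hy => hpc (Subgroup.mem_subgroupOf.2 (hc (Subgroup.mem_centralizer_iff.2 fun q hq => by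
      exact congrArg Subtype.val (Subgroup.mem_centralizer_iff.1 hy ⟨q, hQH hq⟩ (hpc (Subgroup.mem_subgroupOf.2 hq)))))))
    hzT (fun t ht => Subtype.ext (hzc t ht))
    (fun y hy => Subtype.ext (hloc y (by
      have h1 := Subgroup.le_normalizer_map H.subtype ⟨y, hy, rfl⟩
      rwa [← inducedFunctor_map_of_injOn hW H.subtype H.subtype_injective.injOn (T.subtype hTH).2, hmap] at h1)))
    ⟨c * g, hcg⟩
  have h' : c * g * z ^ p = z ^ p * (c * g) := congrArg Subtype.val h
  have hzpc : c⁻¹ * z ^ p = z ^ p * c⁻¹ := (Subgroup.mem_centralizer_iff.1 (C.inv_mem hcC) (z ^ p)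
    ⟨z, Subgroup.subset_normalClosure ⟨hzT, hzc⟩, rfl⟩).symm
  calc g * z ^ p = c⁻¹ * (c * g * z ^ p) := by group
    _ = c⁻¹ * z ^ p * (c * g) := by rw [h']; group
    _ = z ^ p * c⁻¹ * (c * g) := by rw [hzpc]
    _ = z ^ p * g := by group

end Cfsg.Agent.Fusion
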