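import Cfsg.Agent.Lib.Fusion.QuasiDihedralSub

/-!
# Maximal subgroups of quasidihedral groups
-/

set_option autoImplicit false
set_option linter.style.haveILetI false
set_option linter.unusedSectionVars false

open scoped commutatorElement

namespace Cfsg.Agent.Fusion

variable {S : Type*} [Group S] [Finite S]

namespace QDData

variable {n : ℕ} (D : QDData S n)

theorem coatom_idx {H : Subgroup S} (D : QDData S n) (hH : IsCoatom H) : H.index = 2 := by
  haveI : Fact (Nat.Prime 2) := ⟨Nat.prime_two⟩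
  exact Solv.coatom_index D.isPGroup hH

theorem coatom_of_index {H : Subgroup S} (hH : H.index = 2) : IsCoatom H := by
  refine ⟨fun h => by rw [h, Subgroup.index_top] at hH; omega, fun K hK => ?_⟩
  have hd := Subgroup.index_dvd_of_le hK.le
  rw [hH, Nat.dvd_prime Nat.prime_two] at hd
  rcases hd with h | h
  · exact Subgroup.index_eq_one.1 h
  · refine absurd (Subgroup.eq_of_le_of_card_ge hK.le ?_) hK.ne
    have h1 := H.card_mul_index
    have h2 := K.card_mul_index
    rw [hH] at h1; rw [h] at h2; omega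

theorem coatom_cases {M' : Subgroup S} (hM : IsCoatom M') :
    M' = Subgroup.zpowers D.x ∨ M' = D.M 1 ∨ M' = D.M 0 := by
  have hidx : M'.index = 2 := D.coatom_idx hM
  have hsq : ∀ s : S, s * s ∈ M' := fun s => Subgroup.mul_self_mem_of_index_two hidx s
  have heq : ∀ K : Subgroup S, K ≤ M' → K.index = 2 → K = M' := fun K hK hKi => by
    refine Subgroup.eq_of_le_of_card_ge hK ?_
    have h1 := K.card_mul_index
    have h2 := M'.card_mul_index
    rw [hKi] at h1; rw [hidx] at h2; omega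
  by_cases hx : D.x ∈ M'
  · exact Or.inl (heq _ (Subgroup.zpowers_le.2 hx) D.index_zpowers).symm
  have hrot : ∀ i : ℤ, Even i → D.x ^ i ∈ M' := fun i hi => by
    obtain ⟨k, rfl⟩ := hi
    rw [zpow_add]; exact hsq _
  by_cases hy : D.y ∈ M'
  · refine Or.inr (Or.inr (heq _ ?_ (D.card_M 0).2).symm)
    rintro s (⟨i, hi, rfl⟩ | ⟨i, hi, rfl⟩)
    · exact hrot i hi
    · rw [sub_zero] at hi; exact mul_mem (hrot i hi) hy
  · refine Or.inr (Or.inl (heq _ ?_ (D.card_M 1).2).symm)
    rintro s (⟨i, hi, rfl⟩ | ⟨i, hi, rfl⟩)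
    · exact hrot i hi
    · have hxy : D.x * D.y ∈ M' := (Subgroup.mul_mem_iff_of_index_two hidx).2 (iff_of_false hx hy)
      rw [show D.x ^ i * D.y = D.x ^ (i - 1) * (D.x * D.y) by group]
      exact mul_mem (hrot _ hi) hxy

theorem frattini_eq : frattini S = Subgroup.zpowers (D.x ^ (2 : ℤ)) := by
  refine le_antisymm (fun s hs => ?_) ?_
  · have h1 := frattini_le_coatom (coatom_of_index D.index_zpowers) hs
    have h2 := frattini_le_coatom (coatom_of_index (D.card_M 0).2) hs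
    obtain ⟨j, rfl⟩ := Subgroup.mem_zpowers_iff.1 h1
    rcases h2 with ⟨i, hi, he⟩ | ⟨i, -, he⟩
    · rw [he]
      obtain ⟨k, rfl⟩ := hi
      rw [← two_mul, zpow_mul]
      exact Subgroup.zpow_mem_zpowers _ _
    · exact absurd he.symm (D.refl_ne_rot i j)
  · rw [Subgroup.zpowers_le, frattini, Order.radical]
    simp only [Subgroup.mem_iInf]
    intro M' hM
    rw [zpow_two]
    exact Subgroup.mul_self_mem_of_index_two (D.coatom_idx hM) _

theorem commutator_eq : commutator S = Subgroup.zpowers (D.x ^ (2 : ℤ)) := by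
  refine le_antisymm ((Solv.commutator_le_frattini_pgroup D.isPGroup).trans D.frattini_eq.le) ?_
  obtain ⟨a, b, hab⟩ := D.half_coprime
  rw [Subgroup.zpowers_le]
  have h1 : D.x ^ (D.h - 2) ∈ commutator S := by
    have h2 := Subgroup.commutator_mem_commutator (Subgroup.mem_top D.y) (Subgroup.mem_top (D.x ^ (1 : ℤ)))
    rw [commutatorElement_def, D.y_mul_zpow, mul_inv_cancel_right, ← zpow_neg, ← zpow_add,
      show (D.h - 1) * 1 + -1 = D.h - 2 by ring] at h2
    exact h2
  rw [show D.x ^ (2 : ℤ) = (D.x ^ (D.h - 2)) ^ (-a) by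
    rw [← zpow_mul, D.zpow_eq_iff, D.h_eq]
    exact ⟨-2 * b, by linear_combination 2 * hab⟩]
  exact zpow_mem h1 _

theorem orderOf_x_sq : orderOf (D.x ^ (2 : ℤ)) = 2 ^ (n - 1) := by
  have := D.hn
  rw [zpow_ofNat, orderOf_pow_of_dvd two_ne_zero (D.ox ▸ dvd_pow_self 2 (by omega)), D.ox]
  conv_lhs => rw [show n = (n - 1) + 1 by omega, pow_succ]
  exact Nat.mul_div_cancel _ two_pos

theorem M_one_not_commutative : ∃ a b : D.M 1, a * b ≠ b * a := by
  refine ⟨⟨_, D.rot_mem_M (i := 2) ⟨1, rfl⟩⟩, ⟨_, D.refl_mem_M (i := 1) (e := 1) (by simp)⟩, fun h => ?_⟩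
  have h1 : Commute (D.x ^ (2 : ℤ)) (D.x ^ (1 : ℤ) * D.y) := congrArg Subtype.val h
  rcases (D.commute_refl_iff 1 _).1 h1 with h' | h' | h' | h'
  · rw [D.zpow_eq_one_iff] at h'
    have := Int.le_of_dvd two_pos h'
    have h4 : (2 : ℤ) ^ 2 ≤ 2 ^ n := pow_le_pow_right₀ one_le_two (by have := D.hn; omega)
    linarith
  · rw [z, D.zpow_eq_iff, ← D.two_h] at h'
    obtain ⟨c, hc⟩ := h'
    rw [D.h_eq] at hc
    have h4 : (4 : ℤ) ∣ 2 := ⟨(2 : ℤ) ^ (n - 3) * (1 - 2 * c), by linarith⟩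
    norm_num at h4
  · exact D.refl_ne_rot 1 2 h'.symm
  · rw [z, ← mul_assoc, ← zpow_add] at h'
    exact D.refl_ne_rot _ 2 h'.symm

theorem M_one_quaternion : Nonempty (D.M 1 ≃* QuaternionGroup (2 ^ (n - 2))) := by
  haveI : Fact (Nat.Prime 2) := ⟨Nat.prime_two⟩
  have hu : Solv.UniqueOrderP 2 (D.M 1) := by
    have key : ∀ s : D.M 1, s ^ 2 = 1 → s ≠ 1 → (s : S) = D.z := by
      intro s hs hs1
      have h2 : orderOf (s : S) = 2 := orderOf_eq_prime (by rw [← SubmonoidClass.coe_pow, hs]; rfl)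
        fun h => hs1 (Subtype.ext h)
      rcases D.invol_cases h2 with h | ⟨i, hi, h⟩
      · exact h
      · exfalso
        rcases s.2 with ⟨j, -, hj⟩ | ⟨j, hj, hj'⟩
        · exact D.refl_ne_rot i j (h.symm.trans hj)
        · rw [h, mul_left_inj, D.zpow_eq_iff, ← D.two_h] at hj'
          obtain ⟨c, hc⟩ := hj'
          rw [mul_assoc] at hc
          generalize D.h * c = w at hc
          obtain ⟨d, rfl⟩ := hi
          obtain ⟨e, he⟩ := hj
          omega
    intro a b ha hb hb1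
    by_cases ha1 : a = 1
    · rw [ha1]; exact one_mem _
    · rw [show a = b from Subtype.ext ((key a ha ha1).trans (key b hb hb1).symm)]
      exact Subgroup.mem_zpowers b
  rcases Solv.cyclic_or_quaternion (D.isPGroup.to_subgroup (D.M 1)) hu with hc | ⟨-, k, ⟨e⟩⟩
  · obtain ⟨a, b, hab⟩ := D.M_one_not_commutative
    obtain ⟨g, hg⟩ := hc.exists_generator
    obtain ⟨i, rfl⟩ := Subgroup.mem_zpowers_iff.1 (hg a)
    obtain ⟨j, rfl⟩ := Subgroup.mem_zpowers_iff.1 (hg b)
    exact absurd ((Commute.refl g).zpow_zpow i j).eq hab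
  · have hc := Nat.card_congr e.toEquiv
    haveI : NeZero (2 ^ k : ℕ) := ⟨pow_ne_zero _ two_ne_zero⟩
    rw [(D.card_M 1).1, Nat.card_eq_fintype_card, QuaternionGroup.card, show (4 : ℕ) = 2 ^ 2 by norm_num,
      ← pow_add] at hc
    have hk : k = n - 2 := by have := Nat.pow_right_injective (le_refl 2) hc; omega
    exact ⟨hk ▸ e⟩

theorem M_zero_eq_closure :
    D.M 0 = Subgroup.closure ({D.y, D.y * D.x ^ (2 : ℤ)} : Set S) := by
  refine le_antisymm ?_ ((Subgroup.closure_le _).2 ?_)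
  · set K := Subgroup.closure ({D.y, D.y * D.x ^ (2 : ℤ)} : Set S)
    have hy : D.y ∈ K := Subgroup.subset_closure (by simp)
    have hyx : D.y * D.x ^ (2 : ℤ) ∈ K := Subgroup.subset_closure (by simp)
    have hrot : ∀ i : ℤ, Even i → D.x ^ i ∈ K := fun i hi => by
      obtain ⟨k, rfl⟩ := hi
      rw [← two_mul, zpow_mul]
      refine zpow_mem ?_ k
      have := mul_mem (inv_mem hy) hyx
      rwa [inv_mul_cancel_left] at this
    rintro s (⟨i, hi, rfl⟩ | ⟨i, hi, rfl⟩)
    · exact hrot i hi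
    · rw [sub_zero] at hi; exact mul_mem (hrot i hi) hy
  · have hy : D.y ∈ D.M 0 := by
      have := D.refl_mem_M (i := 0) (e := 0) (by simp)
      rwa [zpow_zero, one_mul] at this
    rintro s (rfl | rfl)
    · exact hy
    · exact mul_mem hy (D.rot_mem_M ⟨1, rfl⟩)

theorem M_zero_dihedral : Nonempty (D.M 0 ≃* DihedralGroup (2 ^ (n - 1))) := by
  have hox := D.orderOf_x_sq
  have hv : orderOf (D.y * D.x ^ (2 : ℤ)) = 2 := by
    rw [D.y_mul_zpow]; exact D.refl_orderOf_even ⟨D.h - 1, by ring⟩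
  have hne : D.y ≠ D.y * D.x ^ (2 : ℤ) := fun h => by
    rw [left_eq_mul] at h
    rw [h, orderOf_one] at hox
    exact absurd hox (Nat.one_lt_pow (by have := D.hn; omega) (by norm_num)).ne
  obtain ⟨e⟩ := closure_pair_equiv_dihedral D.oy hv hne
  rw [show D.y * (D.y * D.x ^ (2 : ℤ)) = D.x ^ (2 : ℤ) by rw [← mul_assoc, D.yy, one_mul], hox] at e
  exact ⟨(MulEquiv.subgroupCongr D.M_zero_eq_closure).trans e⟩

theorem closure_invol : Subgroup.closure {s : S | orderOf s = 2} = D.M 0 := by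
  refine le_antisymm ((Subgroup.closure_le _).2 fun s hs => ?_) ?_
  · rcases D.invol_cases hs with rfl | ⟨i, hi, rfl⟩
    · exact D.rot_mem_M (by rw [D.h_eq]; exact ⟨2 * (2 : ℤ) ^ (n - 3), by ring⟩)
    · exact D.refl_mem_M (by simpa using hi)
  · rw [D.M_zero_eq_closure, Subgroup.closure_le]
    rintro s (rfl | rfl)
    · exact Subgroup.subset_closure D.oy
    · refine Subgroup.subset_closure ?_
      show orderOf (D.y * D.x ^ (2 : ℤ)) = 2
      rw [D.y_mul_zpow]; exact D.refl_orderOf_even ⟨D.h - 1, by ring⟩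

include D in
theorem normal_cases (N : Subgroup S) [N.Normal] (hN : N ≠ ⊤) :
    IsCoatom N ∨ (IsCyclic N ∧ N ≤ commutator S) := by
  by_cases hle : N ≤ Subgroup.zpowers D.x
  · by_cases hle2 : N ≤ Subgroup.zpowers (D.x ^ (2 : ℤ))
    · exact Or.inr ⟨isCyclic_of_injective (Subgroup.inclusion hle) (Subgroup.inclusion_injective hle),
        hle2.trans D.commutator_eq.ge⟩
    · left
      suffices N = Subgroup.zpowers D.x by rw [this]; exact coatom_of_index D.index_zpowers
      obtain ⟨s, hs, hs2⟩ := SetLike.not_le_iff_exists.1 hle2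
      obtain ⟨j, rfl⟩ := Subgroup.mem_zpowers_iff.1 (hle hs)
      obtain ⟨k, rfl⟩ : Odd j := by
        by_contra hj
        obtain ⟨k, rfl⟩ := Int.not_odd_iff_even.1 hj
        exact hs2 (by rw [← two_mul, zpow_mul]; exact Subgroup.zpow_mem_zpowers _ _)
      refine le_antisymm hle (Subgroup.zpowers_le.2 ?_)
      obtain ⟨a, b, hab⟩ : IsCoprime (2 * k + 1) ((2 : ℤ) ^ n) := IsCoprime.pow_right ⟨1, -k, by ring⟩
      rw [show D.x = (D.x ^ (2 * k + 1)) ^ a by
        conv_lhs => rw [← zpow_one D.x]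
        rw [← zpow_mul, D.zpow_eq_iff]
        exact ⟨-b, by linear_combination hab⟩]
      exact zpow_mem hs a
  · left
    obtain ⟨s, hs, hsx⟩ := SetLike.not_le_iff_exists.1 hle
    obtain ⟨i, rfl | rfl⟩ := D.exists_form s
    · exact absurd (Subgroup.zpow_mem_zpowers _ _) hsx
    obtain ⟨e, he⟩ : ∃ e : ℤ, e = i := ⟨i, rfl⟩
    have hsub : D.M e ≤ N := by
      have hrefl : ∀ k : ℤ, Even (k - i) → D.x ^ k * D.y ∈ N := fun k hk => by
        obtain ⟨j, hj⟩ := D.conj_same_parity hk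
        rw [← hj]; exact Subgroup.Normal.conj_mem inferInstance _ hs _
      rintro t (⟨j, hj, rfl⟩ | ⟨j, hj, rfl⟩)
      · have h1 := mul_mem (hrefl (j + i) (by simpa using hj)) (inv_mem hs)
        rwa [show D.x ^ (j + i) * D.y * (D.x ^ i * D.y)⁻¹ = D.x ^ j by group] at h1
      · exact hrefl j (he ▸ hj)
    have hc := coatom_of_index (D.card_M e).2
    rcases hsub.eq_or_lt with h | h
    · exact h ▸ hc
    · exact absurd (hc.2 N h) hN

end QDData

end Cfsg.Agent.Fusion
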