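import Cfsg.Agent.Lib.Fusion.FusionIndex
import Cfsg.Agent.Lib.Fusion.QuasiDihedralSub
import Cfsg.Agent.Lib.Fusion.QuasiDihedralMax

/-!
# Fusion in a group with quasidihedral Sylow 2-subgroups
-/

set_option autoImplicit false
set_option linter.unusedSectionVars false
set_option linter.style.haveILetI false

namespace Cfsg.Agent.Fusion

open Cfsg

theorem isKleinFour_of_card_sq {H : Type*} [Group H] (hc : Nat.card H = 4)
    (hsq : ∀ w : H, w * w = 1) : IsKleinFour H := by
  refine ⟨hc, ?_⟩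
  haveI : Finite H := Nat.finite_of_card_ne_zero (by omega)
  refine ((Nat.dvd_prime Nat.prime_two).1
    (Monoid.exponent_dvd_of_forall_pow_eq_one fun w => by rw [sq, hsq])).resolve_left fun h1 => ?_
  haveI := Monoid.exp_eq_one_iff.1 h1
  rw [Nat.card_unique] at hc
  omega

theorem zpowers_eq_two {G : Type*} [Group G] {a b : G} (ha : orderOf a = 2)
    (h : Subgroup.zpowers a = Subgroup.zpowers b) (hb : orderOf b = 2) : a = b := by
  obtain ⟨k, hk⟩ := Subgroup.mem_zpowers_iff.1 (h ▸ Subgroup.mem_zpowers a)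
  rw [← hk, ← zpow_mod_orderOf, hb]
  rcases Int.emod_two_eq k with e | e
  · exfalso
    rw [← zpow_mod_orderOf, hb] at hk
    push_cast at hk
    rw [e, zpow_zero] at hk
    rw [← hk, orderOf_one] at ha
    omega
  · push_cast; rw [e, zpow_one]

theorem cj_zpowers {G : Type*} [Group G] (a g : G) :
    cj (Subgroup.zpowers a) g = Subgroup.zpowers (g * a * g⁻¹) := by
  show (Subgroup.zpowers a).map _ = _
  rw [MonoidHom.map_zpowers]; rfl

theorem conj_eq_or_inv {G : Type*} [Group G] {a b : G} (ha : orderOf a = 4) (hb : orderOf b = 4)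
    (h : Subgroup.zpowers a = Subgroup.zpowers b) : a = b ∨ a = b⁻¹ := by
  obtain ⟨k, hk⟩ := Subgroup.mem_zpowers_iff.1 (h ▸ Subgroup.mem_zpowers a)
  have hk' : a = b ^ (k % 4) := by rw [← hk, ← zpow_mod_orderOf b, hb]; rfl
  rcases (show k % 4 = 0 ∨ k % 4 = 1 ∨ k % 4 = 2 ∨ k % 4 = 3 by omega) with e | e | e | e <;> rw [e] at hk'
  · rw [hk', zpow_zero, orderOf_one] at ha; omega
  · exact Or.inl (by rw [hk', zpow_one])
  · exfalso
    have : orderOf a ∣ 2 := orderOf_dvd_of_pow_eq_one (by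
      rw [hk', show (b ^ (2 : ℤ)) ^ 2 = b ^ 4 by group, ← hb, pow_orderOf_eq_one])
    rw [ha] at this; omega
  · refine Or.inr (eq_inv_of_mul_eq_one_left ?_)
    rw [hk', ← zpow_add_one, show (3 : ℤ) + 1 = ((4 : ℕ) : ℤ) by norm_num, zpow_natCast, ← hb,
      pow_orderOf_eq_one]

variable {G : Type*} [Group G] [Finite G] {S : Sylow 2 G} {n : ℕ} (D : QDData (S : Subgroup G) n)

namespace QDData

theorem exists_T_data {i : ℤ} (hi : Even i) :
    let T := (Subgroup.centralizer ({D.x ^ i * D.y} : Set ↥(S : Subgroup G))).map (S : Subgroup G).subtype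
    let N := Subgroup.normalizer (T : Set G)
    ((Subgroup.centralizer (T : Set G)).relIndex N = 2 ∨ (Subgroup.centralizer (T : Set G)).relIndex N = 6) ∧
      ((Subgroup.centralizer (T : Set G)).relIndex N = 6 →
        ∃ a : G, Odd (orderOf a) ∧ a * (D.z : G) * a⁻¹ = ((D.x ^ i * D.y : ↥(S : Subgroup G)) : G)) ∧
      (IsConj ((D.x ^ i * D.y : ↥(S : Subgroup G)) : G) (D.z : G) →
        (Subgroup.centralizer (T : Set G)).relIndex N = 6) := by
  intro T N
  haveI : Fact (Nat.Prime 2) := ⟨Nat.prime_two⟩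
  set u : ↥(S : Subgroup G) := D.x ^ i * D.y with hu
  have hu2 : orderOf u = 2 := D.refl_orderOf_even hi
  have hz2 : orderOf D.z = 2 := D.orderOf_z
  have huz : u ≠ D.z := D.refl_ne_rot i D.h
  have hmem : ∀ s : ↥(S : Subgroup G), (s : G) ∈ T ↔ (s = 1 ∨ s = D.z ∨ s = u ∨ s = D.z * u) := by
    intro s
    rw [← D.commute_refl_iff i s]
    constructor
    · rintro ⟨s', hs', he⟩
      obtain rfl : s' = s := Subtype.ext he
      exact Subgroup.mem_centralizer_singleton_iff.1 hs'
    · exact fun h => ⟨s, Subgroup.mem_centralizer_singleton_iff.2 h, rfl⟩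
  have hzu : D.z * u ≠ 1 ∧ D.z * u ≠ D.z ∧ D.z * u ≠ u := by
    refine ⟨fun h => huz ?_, fun h => ?_, fun h => D.z_ne_one (mul_eq_right.1 h)⟩
    · rw [eq_inv_of_mul_eq_one_right h, invol_inv hz2]
    · have : u = 1 := mul_eq_left.1 h
      rw [this, orderOf_one] at hu2; omega
  have hzu2 : orderOf (D.z * u) = 2 := orderOf_eq_prime (by
    rw [(show Commute D.z u from D.z_central u).mul_pow, sq, sq, D.z_mul_z, invol_mul_self hu2,
      one_mul]) hzu.1
  let M : Fin 3 → Subgroup G :=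
    ![Subgroup.zpowers (D.z : G), Subgroup.zpowers (u : G), Subgroup.zpowers ((D.z * u : ↥(S : Subgroup G)) : G)]
  let e : Fin 3 → ↥(S : Subgroup G) := ![D.z, u, D.z * u]
  have hMe : ∀ j, M j = Subgroup.zpowers ((e j : G)) := fun j => by fin_cases j <;> rfl
  have he2 : ∀ j, orderOf ((e j : G)) = 2 := fun j => by
    rw [Subgroup.orderOf_coe]; fin_cases j <;> assumption
  have heT : ∀ j, ((e j : G)) ∈ T := fun j => (hmem _).2 (by fin_cases j <;> simp [e])
  have hcl : ∀ w ∈ T, orderOf w = 2 → ∃ j, w = (e j : G) := by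
    rintro w hw hw2
    obtain ⟨s, -, rfl⟩ := id hw
    rcases (hmem s).1 hw with rfl | rfl | rfl | rfl
    · simp at hw2
    · exact ⟨0, rfl⟩
    · exact ⟨1, rfl⟩
    · exact ⟨2, rfl⟩
  have hMinj : Function.Injective M := by
    intro a b hab
    rw [hMe, hMe] at hab
    have h := Subtype.ext (zpowers_eq_two (he2 a) hab (he2 b))
    have hu1 : u ≠ 1 := fun h1 => by rw [h1, orderOf_one] at hu2; omega
    fin_cases a <;> fin_cases b <;> simp [e] at h ⊢ <;> first
      | exact huz h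
      | exact huz h.symm
      | exact hu1 h
      | exact hu1 h.symm
      | exact D.z_ne_one h
      | exact D.z_ne_one h.symm
  have hst : ∀ a ∈ N, ∀ j, ∃ k, cj (M j) a = M k := by
    intro a ha j
    obtain ⟨k, hk⟩ := hcl (a * (e j : G) * a⁻¹) ((Subgroup.mem_normalizer_iff.1 ha _).1 (heT j))
      (by rw [show a * (e j : G) * a⁻¹ = MulAut.conj a (e j : G) from rfl, MulEquiv.orderOf_eq, he2 j])
    exact ⟨k, by rw [hMe, cj_zpowers, hk, ← hMe]⟩
  have hKN : Subgroup.centralizer (T : Set G) ≤ N := fun a ha =>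
    mem_normalizer_of_cj_le fun w hw => by
      have h1 := Subgroup.mem_centralizer_iff.1 ha _ (mem_cj.1 hw)
      rw [show w = a⁻¹ * w * a by
        calc w = a * (a⁻¹ * w * a) * a⁻¹ := by group
          _ = a⁻¹ * w * a := by rw [← h1, mul_inv_cancel_right]]
      exact mem_cj.1 hw
  have hker : ∀ a ∈ N, a ∈ Subgroup.centralizer (T : Set G) ↔ ∀ j, cj (M j) a = M j := by
    intro a _
    constructor
    · intro ha j
      rw [hMe, cj_zpowers, ← Subgroup.mem_centralizer_iff.1 ha _ (heT j), mul_inv_cancel_right]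
    · intro ha
      refine Subgroup.mem_centralizer_iff.2 fun w hw => ?_
      by_cases hw1 : w = 1
      · simp [hw1]
      obtain ⟨s, -, rfl⟩ := id hw
      obtain ⟨j, hj⟩ : ∃ j, (s : G) = (e j : G) := by
        rcases (hmem s).1 hw with rfl | rfl | rfl | rfl
        · simp at hw1
        · exact ⟨0, rfl⟩
        · exact ⟨1, rfl⟩
        · exact ⟨2, rfl⟩
      have h1 := ha j
      rw [hMe, cj_zpowers] at h1
      have h2 := zpowers_eq_two (by
        rw [show a * (e j : G) * a⁻¹ = MulAut.conj a (e j : G) from rfl, MulEquiv.orderOf_eq, he2 j])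
        h1 (he2 j)
      show (s : G) * a = a * s
      rw [hj]
      exact (mul_inv_eq_iff_eq_mul.1 h2).symm
  have hsu : D.x ^ D.q * u * (D.x ^ D.q)⁻¹ = D.z * u := by
    rw [hu, D.conj_refl, z, ← mul_assoc, ← zpow_add, mul_left_inj, D.zpow_eq_iff]
    refine ⟨(2 : ℤ) ^ (n - 3), ?_⟩
    rw [D.two_sub_h, ← D.two_q, ← D.four_q, D.q_eq]
    ring
  have hsT : ((D.x ^ D.q : ↥(S : Subgroup G)) : G) ∈ N := by
    refine mem_normalizer_of_cj_le fun w hw => ?_
    obtain ⟨b, hb, rfl⟩ := hw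
    obtain ⟨s', -, rfl⟩ := id hb
    show (((D.x ^ D.q) * s' * (D.x ^ D.q)⁻¹ : ↥(S : Subgroup G)) : G) ∈ T
    refine (hmem _).2 ?_
    have hzc : D.x ^ D.q * D.z * (D.x ^ D.q)⁻¹ = D.z := by
      rw [← (D.z_central (D.x ^ D.q)).eq, mul_inv_cancel_right]
    rcases (hmem s').1 hb with rfl | rfl | rfl | rfl
    · simp
    · exact Or.inr (Or.inl hzc)
    · exact Or.inr (Or.inr (Or.inr hsu))
    · refine Or.inr (Or.inr (Or.inl ?_))
      rw [show D.x ^ D.q * (D.z * u) * (D.x ^ D.q)⁻¹ =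
        (D.x ^ D.q * D.z * (D.x ^ D.q)⁻¹) * (D.x ^ D.q * u * (D.x ^ D.q)⁻¹) by group, hzc, hsu,
        ← mul_assoc, D.z_mul_z, one_mul]
  obtain ⟨hA, hB, hC⟩ := three_action hMinj hst hKN hker hsT (by
      show cj (Subgroup.zpowers (D.z : G)) _ = Subgroup.zpowers (D.z : G)
      rw [cj_zpowers, ← Subgroup.coe_mul, ← Subgroup.coe_inv, ← Subgroup.coe_mul,
        ← (D.z_central (D.x ^ D.q)).eq, mul_inv_cancel_right])
    (by
      show cj (Subgroup.zpowers (u : G)) _ = Subgroup.zpowers ((D.z * u : ↥(S : Subgroup G)) : G)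
      rw [cj_zpowers, ← Subgroup.coe_mul, ← Subgroup.coe_inv, ← Subgroup.coe_mul, hsu])
  refine ⟨hA, fun h6 => ?_, fun hc => ?_⟩
  · obtain ⟨a, -, ha, h0, -, -⟩ := hC h6
    refine ⟨a, ha, ?_⟩
    refine zpowers_eq_two ?_ (by rw [← cj_zpowers]; exact h0) (he2 1)
    rw [show a * (D.z : G) * a⁻¹ = MulAut.conj a (D.z : G) from rfl, MulEquiv.orderOf_eq]
    exact he2 0
  · refine hA.resolve_left fun h2 => ?_
    obtain ⟨g, hg⟩ := isConj_iff.1 hc
    -- move `T` back into the Sylow subgroup inside the centraliser of `z`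
    have hSC : SylIn 2 (S : Subgroup G) (Subgroup.centralizer ({(D.z : G)} : Set G)) :=
      (sylIn_top S).mono (fun s hs => Subgroup.mem_centralizer_singleton_iff.2
        (congrArg Subtype.val (D.z_central (⟨s, hs⟩ : ↥(S : Subgroup G))).eq.symm)) le_top
    have hTS : T ≤ (S : Subgroup G) := Subgroup.map_subtype_le _
    have hTab : ∀ w ∈ T, w * (u : G) = u * w := by
      rintro _ ⟨w, hw, rfl⟩
      exact congrArg Subtype.val (Subgroup.mem_centralizer_singleton_iff.1 hw)
    have hgT : cj T g ≤ Subgroup.centralizer ({(D.z : G)} : Set G) := by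
      rintro _ ⟨w, hw, rfl⟩
      rw [Subgroup.mem_centralizer_singleton_iff]
      show g * w * g⁻¹ * (D.z : G) = (D.z : G) * (g * w * g⁻¹)
      rw [← hg]
      calc g * w * g⁻¹ * (g * (u : G) * g⁻¹) = g * (w * u) * g⁻¹ := by group
        _ = g * (u * w) * g⁻¹ := by rw [hTab w hw]
        _ = _ := by group
    obtain ⟨c, hc, hcS⟩ := hSC.conj_le (isPGroup_cj (S.isPGroup'.to_le hTS) g) hgT
    rw [cj_cj] at hcS
    set T'' := (cj T (c * g)).subgroupOf (S : Subgroup G) with hT''
    have hT4 : IsKleinFour T'' := by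
      refine isKleinFour_of_card_sq ?_ ?_
      · rw [hT'', Nat.card_congr (Subgroup.subgroupOfEquivOfLe hcS).toEquiv, card_cj,
          Subgroup.card_map_of_injective (S : Subgroup G).subtype_injective, D.card_centralizer_refl]
      · intro w
        obtain ⟨b, hb, hbe⟩ : ((w : ↥(S : Subgroup G)) : G) ∈ cj T (c * g) := w.2
        obtain ⟨b', -, rfl⟩ := id hb
        apply Subtype.ext; apply Subtype.ext
        show ((w : ↥(S : Subgroup G)) : G) * ((w : ↥(S : Subgroup G)) : G) = 1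
        rw [← hbe, ← map_mul, ← map_one (MulAut.conj (c * g)).toMonoidHom]
        congr 1
        show ((b' * b' : ↥(S : Subgroup G)) : G) = 1
        rw [← Subgroup.coe_one (S : Subgroup G), Subtype.coe_inj]
        rcases (hmem b').1 hb with rfl | rfl | rfl | rfl
        · rw [one_mul]
        · exact D.z_mul_z
        · exact invol_mul_self hu2
        · exact invol_mul_self hzu2
    obtain ⟨k, hk, hTk⟩ := D.four_eq hT4
    obtain ⟨j, hj⟩ := D.conj_same_parity (i := k) (k := i) (hi.sub hk)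
    have hN : ((D.x ^ j : ↥(S : Subgroup G)) : G) * (c * g) ∈ N := by
      refine mem_normalizer_iff_cj.2 ?_
      rw [← cj_cj, ← Subgroup.map_subgroupOf_eq_of_le hcS, ← hT'', hTk]
      show ((Subgroup.centralizer _).map (S : Subgroup G).subtype).map _ = T
      rw [Subgroup.map_map,
        show (MulAut.conj ((D.x ^ j : ↥(S : Subgroup G)) : G)).toMonoidHom.comp (S : Subgroup G).subtype =
          (S : Subgroup G).subtype.comp (MulAut.conj (D.x ^ j)).toMonoidHom from MonoidHom.ext fun _ => rfl,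
        ← Subgroup.map_map, map_centralizer_singleton, hj]
    have h0 := (hB h2 _ hN).1
    have hu' : ((D.x ^ j : ↥(S : Subgroup G)) : G) * (c * g) * (u : G) *
        (((D.x ^ j : ↥(S : Subgroup G)) : G) * (c * g))⁻¹ = (D.z : G) := by
      have hc' : c * (D.z : G) = (D.z : G) * c := Subgroup.mem_centralizer_singleton_iff.1 hc
      calc _ = ((D.x ^ j : ↥(S : Subgroup G)) : G) * (c * (g * (u : G) * g⁻¹) * c⁻¹) *
            ((D.x ^ j : ↥(S : Subgroup G)) : G)⁻¹ := by group
        _ = ((D.x ^ j : ↥(S : Subgroup G)) : G) * (D.z : G) * ((D.x ^ j : ↥(S : Subgroup G)) : G)⁻¹ := by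
            rw [hg, hc', mul_inv_cancel_right]
        _ = ((D.x ^ j * D.z * (D.x ^ j)⁻¹ : ↥(S : Subgroup G)) : G) := rfl
        _ = D.z := by rw [← (D.z_central (D.x ^ j)).eq, mul_inv_cancel_right]
    have h1 : cj (M 1) (((D.x ^ j : ↥(S : Subgroup G)) : G) * (c * g)) = M 0 := by
      show cj (Subgroup.zpowers (u : G)) _ = Subgroup.zpowers (D.z : G)
      rw [cj_zpowers, hu']
    have := hMinj (cj_cj_inv (M 0) _ ▸ (congrArg (fun L => cj L (((D.x ^ j : ↥(S : Subgroup G)) : G) * (c * g))⁻¹)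
      (h0.trans h1.symm)).trans (cj_cj_inv (M 1) _) : M 0 = M 1)
    exact absurd this (by decide)

theorem exists_Q_data {i : ℤ} (hi : Odd i) (eq8 : D.quat i ≃* QuaternionGroup 2) :
    let Q := (D.quat i).map (S : Subgroup G).subtype
    let N := Subgroup.normalizer (Q : Set G)
    ((Q ⊔ Subgroup.centralizer (Q : Set G)).relIndex N = 2 ∨
        (Q ⊔ Subgroup.centralizer (Q : Set G)).relIndex N = 6) ∧
      ((Q ⊔ Subgroup.centralizer (Q : Set G)).relIndex N = 6 →
        ∃ a : G, Odd (orderOf a) ∧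
          cj (Subgroup.zpowers ((D.x ^ D.q : ↥(S : Subgroup G)) : G)) a =
            Subgroup.zpowers ((D.x ^ i * D.y : ↥(S : Subgroup G)) : G) ∧
          cj (Subgroup.zpowers ((D.x ^ i * D.y : ↥(S : Subgroup G)) : G)) a =
            Subgroup.zpowers ((D.x ^ D.q * (D.x ^ i * D.y) : ↥(S : Subgroup G)) : G)) ∧
      (IsConj ((D.x ^ i * D.y : ↥(S : Subgroup G)) : G) ((D.x ^ D.q : ↥(S : Subgroup G)) : G) →
        (Q ⊔ Subgroup.centralizer (Q : Set G)).relIndex N = 6) := by
  intro Q N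
  haveI : Fact (Nat.Prime 2) := ⟨Nat.prime_two⟩
  set v : ↥(S : Subgroup G) := D.x ^ i * D.y with hv
  set w : ↥(S : Subgroup G) := D.x ^ D.q with hw
  have hw4 : orderOf w = 4 := D.orderOf_a
  have hv4 : orderOf v = 4 := D.refl_orderOf_odd hi
  have hwv : ∀ k : ℤ, w ^ k * v = D.x ^ (D.q * k + i) * D.y := fun k => by
    rw [hw, hv, ← zpow_mul, ← mul_assoc, ← zpow_add]
  have hwv4 : orderOf (w * v) = 4 := by
    rw [show w * v = w ^ (1 : ℤ) * v by rw [zpow_one], hwv]
    refine D.refl_orderOf_odd ?_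
    rw [mul_one, D.q_eq]
    exact (Even.add_odd ⟨(2 : ℤ) ^ (n - 3), by ring⟩ hi)
  have hv2 : v * v = D.z := by rw [hv, D.refl_sq, D.h_mul_odd hi]
  have hwv2 : (w * v) * (w * v) = D.z := by
    rw [show w * v = w ^ (1 : ℤ) * v by rw [zpow_one], hwv, D.refl_sq, D.h_mul_odd]
    rw [mul_one, D.q_eq]
    exact (Even.add_odd ⟨(2 : ℤ) ^ (n - 3), by ring⟩ hi)
  have hw2 : w ^ (2 : ℤ) = D.z := by rw [hw, ← zpow_mul, mul_comm, D.two_q]; rfl
  have hww : w * w = D.z := by rw [← hw2, zpow_two]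
  let e : Fin 3 → ↥(S : Subgroup G) := ![w, v, w * v]
  have he4 : ∀ j, orderOf ((e j : G)) = 4 := fun j => by
    rw [Subgroup.orderOf_coe]; fin_cases j <;> assumption
  let M : Fin 3 → Subgroup G := fun j => Subgroup.zpowers ((e j : G))
  have hclass : ∀ s ∈ D.quat i, orderOf s = 4 → ∃ j, s = e j ∨ s = (e j)⁻¹ := by
    intro s hs h4
    rcases (D.quat_mem s).1 hs with ⟨k, rfl⟩ | ⟨k, rfl⟩
    · refine ⟨0, ?_⟩
      rw [zpow_mul, ← hw, ← zpow_mod_orderOf, hw4]
      rcases (show k % 4 = 0 ∨ k % 4 = 1 ∨ k % 4 = 2 ∨ k % 4 = 3 by omega) with e' | e' | e' | e'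
      · exfalso
        rw [zpow_mul, ← hw, ← zpow_mod_orderOf, hw4] at h4
        push_cast at h4; rw [e', zpow_zero, orderOf_one] at h4; omega
      · push_cast; rw [e', zpow_one]; exact Or.inl rfl
      · exfalso
        rw [zpow_mul, ← hw, ← zpow_mod_orderOf, hw4] at h4
        push_cast at h4; rw [e', hw2, D.orderOf_z] at h4; omega
      · push_cast; rw [e']
        refine Or.inr (eq_inv_of_mul_eq_one_left ?_)
        show w ^ (3 : ℤ) * w = 1
        rw [← zpow_add_one, show (3 : ℤ) + 1 = ((4 : ℕ) : ℤ) by norm_num, zpow_natCast, ← hw4,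
          pow_orderOf_eq_one]
    · rw [zpow_mul, ← hw, ← hv]
      rcases Int.even_or_odd k with ⟨l, rfl⟩ | ⟨l, rfl⟩
      · refine ⟨1, ?_⟩
        rw [← two_mul, zpow_mul, hw2, ← zpow_mod_orderOf, D.orderOf_z]
        rcases Int.emod_two_eq l with e' | e' <;> push_cast <;> rw [e']
        · exact Or.inl (by rw [zpow_zero, one_mul]; rfl)
        · refine Or.inr (eq_inv_of_mul_eq_one_left ?_)
          show D.z ^ (1 : ℤ) * v * v = 1
          rw [zpow_one, mul_assoc, hv2, D.z_mul_z]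
      · refine ⟨2, ?_⟩
        rw [zpow_add, zpow_one, zpow_mul, hw2, ← zpow_mod_orderOf, D.orderOf_z, mul_assoc]
        rcases Int.emod_two_eq l with e' | e' <;> push_cast <;> rw [e']
        · exact Or.inl (by rw [zpow_zero, one_mul]; rfl)
        · refine Or.inr (eq_inv_of_mul_eq_one_left ?_)
          show D.z ^ (1 : ℤ) * (w * v) * (w * v) = 1
          rw [zpow_one, mul_assoc D.z, hwv2, D.z_mul_z]
  have heQ : ∀ j, e j ∈ D.quat i := fun j => by
    fin_cases j
    · exact Subgroup.mem_sup_left (Subgroup.mem_zpowers _)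
    · exact Subgroup.mem_sup_right (Subgroup.mem_zpowers _)
    · exact mul_mem (Subgroup.mem_sup_left (Subgroup.mem_zpowers _))
        (Subgroup.mem_sup_right (Subgroup.mem_zpowers _))
  have heG : ∀ j, ((e j : G)) ∈ Q := fun j => ⟨e j, heQ j, rfl⟩
  have hne : ∀ a b, e a = e b ∨ e a = (e b)⁻¹ → a = b := by
    have hr : ∀ a : ℤ, D.x ^ a ≠ v ∧ D.x ^ a ≠ w * v := by
      intro a
      refine ⟨(D.refl_ne_rot i a).symm, ?_⟩
      rw [show w * v = w ^ (1 : ℤ) * v by rw [zpow_one], hwv]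
      exact (D.refl_ne_rot _ a).symm
    have h1 : w ≠ v ∧ w ≠ v⁻¹ ∧ w ≠ w * v ∧ w ≠ (w * v)⁻¹ := by
      refine ⟨(hr _).1, fun h => ?_, (hr _).2, fun h => ?_⟩
      · exact (hr (-D.q)).1 (by rw [zpow_neg, ← hw, h, inv_inv])
      · exact (hr (-D.q)).2 (by rw [zpow_neg, ← hw]; exact inv_eq_iff_eq_inv.2 h)
    have h2 : v ≠ w * v ∧ v ≠ (w * v)⁻¹ := by
      refine ⟨fun h => ?_, fun h => ?_⟩
      · rw [eq_comm, mul_eq_right] at h; rw [h, orderOf_one] at hw4; omega
      · have h3 : w * D.z = 1 := by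
          calc w * D.z = (w * v) * v := by rw [mul_assoc, hv2]
            _ = (w * v) * (w * v)⁻¹ := congrArg (fun t => (w * v) * t) h
            _ = 1 := mul_inv_cancel _
        rw [eq_inv_of_mul_eq_one_left h3, invol_inv D.orderOf_z, D.orderOf_z] at hw4
        omega
    have hsymm : ∀ p q : ↥(S : Subgroup G), (p ≠ q ∧ p ≠ q⁻¹) → ¬ (q = p ∨ q = p⁻¹) := by
      rintro p q ⟨hp, hp'⟩ (h | h)
      · exact hp h.symm
      · exact hp' (by rw [h, inv_inv])
    intro a b hab
    fin_cases a <;> fin_cases b <;> simp only [e] at hab <;> first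
      | rfl
      | exact absurd hab (not_or.2 ⟨h1.1, h1.2.1⟩)
      | exact absurd hab (not_or.2 ⟨h1.2.2.1, h1.2.2.2⟩)
      | exact absurd hab (not_or.2 ⟨h2.1, h2.2⟩)
      | exact absurd hab (hsymm _ _ ⟨h1.1, h1.2.1⟩)
      | exact absurd hab (hsymm _ _ ⟨h1.2.2.1, h1.2.2.2⟩)
      | exact absurd hab (hsymm _ _ ⟨h2.1, h2.2⟩)
  have hMinj : Function.Injective M := fun a b hab => hne a b <| by
    rcases conj_eq_or_inv (he4 a) (he4 b) hab with h | h
    · exact Or.inl (Subtype.ext h)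
    · exact Or.inr (Subtype.ext h)
  have hMinv : ∀ (s : ↥(S : Subgroup G)) j, s = e j ∨ s = (e j)⁻¹ → Subgroup.zpowers (s : G) = M j := by
    rintro s j (rfl | rfl)
    · rfl
    · rw [Subgroup.coe_inv, Subgroup.zpowers_inv]
  have hst : ∀ a ∈ N, ∀ j, ∃ k, cj (M j) a = M k := by
    intro a ha j
    obtain ⟨s, hs, hse⟩ : a * (e j : G) * a⁻¹ ∈ Q := (Subgroup.mem_normalizer_iff.1 ha _).1 (heG j)
    have hse' : (s : G) = a * (e j : G) * a⁻¹ := hse
    obtain ⟨k, hk⟩ := hclass s hs (by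
      rw [← Subgroup.orderOf_coe, hse', show a * (e j : G) * a⁻¹ = MulAut.conj a (e j : G) from rfl,
        MulEquiv.orderOf_eq, he4 j])
    exact ⟨k, by rw [cj_zpowers, ← hse', hMinv s k hk]⟩
  have hKN : Q ⊔ Subgroup.centralizer (Q : Set G) ≤ N := sup_le Subgroup.le_normalizer fun a ha =>
    mem_normalizer_of_cj_le fun b hb => by
      have h1 := Subgroup.mem_centralizer_iff.1 ha _ (mem_cj.1 hb)
      rw [show b = a⁻¹ * b * a by
        calc b = a * (a⁻¹ * b * a) * a⁻¹ := by group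
          _ = a⁻¹ * b * a := by rw [← h1, mul_inv_cancel_right]]
      exact mem_cj.1 hb
  have hvw : v * w * v⁻¹ = w⁻¹ := by rw [hv, hw, D.conj_a, zpow_neg]
  have hwinv : w * v * w⁻¹ = v⁻¹ := by
    have h1 : v * w = w⁻¹ * v := mul_inv_eq_iff_eq_mul.1 hvw
    have h2 : v * w⁻¹ = w * v := by
      rw [mul_inv_eq_iff_eq_mul, mul_assoc, h1, mul_inv_cancel_left]
    rw [← h2, mul_assoc]
    refine eq_inv_of_mul_eq_one_left ?_
    rw [show v * (w⁻¹ * w⁻¹) * v = v * (w * w)⁻¹ * v by group,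
      hww, invol_inv D.orderOf_z, mul_assoc,
      (D.z_central v).eq, ← mul_assoc, hv2, D.z_mul_z]
  have hker : ∀ a ∈ N, a ∈ Q ⊔ Subgroup.centralizer (Q : Set G) ↔ ∀ j, cj (M j) a = M j := by
    intro a _
    constructor
    · intro ha j
      have h1 : Q ⊔ Subgroup.centralizer (Q : Set G) ≤ Subgroup.normalizer (M j : Set G) := by
        refine sup_le ?_ fun b hb => mem_normalizer_iff_cj.2 ?_
        · rw [show Q = Subgroup.closure {(w : G), (v : G)} by
            show (D.quat i).map _ = _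
            rw [QDData.quat, ← hw, ← hv, Subgroup.map_sup, MonoidHom.map_zpowers, MonoidHom.map_zpowers,
              Subgroup.zpowers_eq_closure, Subgroup.zpowers_eq_closure, ← Subgroup.closure_union]
            rfl, Subgroup.closure_le]
          have hcj : ∀ p q : ↥(S : Subgroup G), ∀ k, (p * q * p⁻¹ = e k ∨ p * q * p⁻¹ = (e k)⁻¹) →
              Subgroup.zpowers (q : G) = M k → (p : G) ∈ Subgroup.normalizer (M k : Set G) := by
            intro p q k hk hq
            rw [mem_normalizer_iff_cj]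
            conv_lhs => rw [← hq]
            rw [cj_zpowers]
            exact hMinv (p * q * p⁻¹) k hk
          have hwwv : w * (w * v) * w⁻¹ = (w * v)⁻¹ := by
            refine eq_inv_of_mul_eq_one_left ?_
            calc w * (w * v) * w⁻¹ * (w * v) = w * (w * (v * v)) := by group
              _ = 1 := by
                rw [hv2, ← mul_assoc, hww, D.z_mul_z]
          have hvwv : v * (w * v) * v⁻¹ = (w * v)⁻¹ := by
            refine eq_inv_of_mul_eq_one_left ?_
            calc v * (w * v) * v⁻¹ * (w * v) = (v * w) * (w * v) := by group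
              _ = w⁻¹ * v * (w * v) := by rw [mul_inv_eq_iff_eq_mul.1 hvw]
              _ = w⁻¹ * (v * w) * v := by group
              _ = w⁻¹ * (w⁻¹ * (v * v)) := by rw [mul_inv_eq_iff_eq_mul.1 hvw]; group
              _ = 1 := by
                rw [hv2, ← mul_assoc, show w⁻¹ * w⁻¹ = (w * w)⁻¹ by group,
                  hww, inv_mul_cancel]
          rintro b (rfl | rfl) <;> fin_cases j
          · exact hcj w w 0 (Or.inl (mul_inv_cancel_right _ _)) rfl
          · exact hcj w v 1 (Or.inr hwinv) rfl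
          · exact hcj w (w * v) 2 (Or.inr hwwv) rfl
          · exact hcj v w 0 (Or.inr hvw) rfl
          · exact hcj v v 1 (Or.inl (mul_inv_cancel_right _ _)) rfl
          · exact hcj v (w * v) 2 (Or.inr hvwv) rfl
        · rw [cj_zpowers, ← Subgroup.mem_centralizer_iff.1 hb _ (heG j), mul_inv_cancel_right]
      exact cj_eq_self (h1 ha)
    · intro ha
      have h1 : ∀ j, a * (e j : G) * a⁻¹ = (e j : G) ∨ a * (e j : G) * a⁻¹ = (e j : G)⁻¹ := by
        intro j
        have := ha j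
        rw [cj_zpowers] at this
        exact conj_eq_or_inv (by
          rw [show a * (e j : G) * a⁻¹ = MulAut.conj a (e j : G) from rfl, MulEquiv.orderOf_eq, he4 j])
          (he4 j) this
      have hvwG : (v : G) * w * (v : G)⁻¹ = (w : G)⁻¹ := congrArg Subtype.val hvw
      have hwvG : (w : G) * v * (w : G)⁻¹ = (v : G)⁻¹ := congrArg Subtype.val hwinv
      -- adjust by an element of `Q`
      obtain ⟨q, hq, hqw, hqv⟩ : ∃ q ∈ Q, q * a * (w : G) * (q * a)⁻¹ = w ∧
          q * a * (v : G) * (q * a)⁻¹ = v := by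
        have hd : ∀ q b : G, q * a * b * (q * a)⁻¹ = q * (a * b * a⁻¹) * q⁻¹ := fun q b => by group
        simp only [hd]
        rcases h1 0 with p0 | p0 <;> rcases h1 1 with p1 | p1 <;>
          change a * (w : G) * a⁻¹ = _ at p0 <;> change a * (v : G) * a⁻¹ = _ at p1 <;> rw [p0, p1]
        · exact ⟨1, one_mem _, by simp [e], by simp [e]⟩
        · refine ⟨w, heG 0, by simp [e], ?_⟩
          show (w : G) * (v : G)⁻¹ * (w : G)⁻¹ = v
          rw [← inv_inj, mul_inv_rev, mul_inv_rev, inv_inv, inv_inv, ← mul_assoc, hwvG]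
        · refine ⟨v, heG 1, ?_, by simp [e]⟩
          show (v : G) * (w : G)⁻¹ * (v : G)⁻¹ = w
          rw [← inv_inj, mul_inv_rev, mul_inv_rev, inv_inv, inv_inv, ← mul_assoc, hvwG]
        · refine ⟨(w : G) * v, mul_mem (heG 0) (heG 1), ?_, ?_⟩
          · show (w : G) * v * (w : G)⁻¹ * ((w : G) * v)⁻¹ = w
            calc _ = (w : G) * ((v : G) * w * (v : G)⁻¹)⁻¹ * (w : G)⁻¹ := by group
              _ = w := by rw [hvwG]; group
          · show (w : G) * v * (v : G)⁻¹ * ((w : G) * v)⁻¹ = v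
            calc _ = ((w : G) * v * (w : G)⁻¹)⁻¹ := by group
              _ = v := by rw [hwvG, inv_inv]
      have hqa : q * a ∈ Subgroup.centralizer (Q : Set G) := by
        have hle : Q ≤ Subgroup.centralizer ({q * a} : Set G) := by
          show (D.quat i).map _ ≤ _
          rw [QDData.quat, Subgroup.map_sup, MonoidHom.map_zpowers, MonoidHom.map_zpowers, sup_le_iff,
            Subgroup.zpowers_le, Subgroup.zpowers_le, Subgroup.mem_centralizer_singleton_iff,
            Subgroup.mem_centralizer_singleton_iff]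
          exact ⟨(mul_inv_eq_iff_eq_mul.1 hqw).symm, (mul_inv_eq_iff_eq_mul.1 hqv).symm⟩
        exact Subgroup.mem_centralizer_iff.2 fun b hb => Subgroup.mem_centralizer_singleton_iff.1 (hle hb)
      rw [show a = q⁻¹ * (q * a) by group]
      exact mul_mem (Subgroup.mem_sup_left (inv_mem hq)) (Subgroup.mem_sup_right hqa)
  -- the element of `S` swapping the two outer subgroups
  obtain ⟨m, hm⟩ : ∃ m : ℤ, m = (2 : ℤ) ^ (n - 3) := ⟨_, rfl⟩
  obtain ⟨p, hp⟩ : ∃ p : ℤ, p = 1 - 2 * m := ⟨_, rfl⟩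
  have hsv : D.x ^ m * v * (D.x ^ m)⁻¹ = w ^ p * v := by
    rw [hwv, hv, D.conj_refl, mul_left_inj, D.zpow_eq_iff]
    refine ⟨0, ?_⟩
    rw [D.two_sub_h, D.q_eq, hp, ← hm]
    ring
  have hsw : D.x ^ m * w * (D.x ^ m)⁻¹ = w := by
    rw [hw, ((Commute.refl D.x).zpow_zpow m D.q).eq, mul_inv_cancel_right]
  have hquat : D.quat i = (D.quat i).map (MulAut.conj (D.x ^ m)).toMonoidHom := by
    refine (Subgroup.eq_of_le_of_card_ge ?_ (by
      rw [Subgroup.card_map_of_injective (MulAut.conj (D.x ^ m)).injective])).symm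
    rw [QDData.quat, Subgroup.map_sup, MonoidHom.map_zpowers, MonoidHom.map_zpowers, sup_le_iff,
      Subgroup.zpowers_le, Subgroup.zpowers_le]
    refine ⟨?_, ?_⟩
    · show D.x ^ m * w * (D.x ^ m)⁻¹ ∈ D.quat i
      rw [hsw]; exact heQ 0
    · show D.x ^ m * v * (D.x ^ m)⁻¹ ∈ D.quat i
      rw [hsv]; exact mul_mem (zpow_mem (heQ 0) _) (heQ 1)
  have hsN : ((D.x ^ m : ↥(S : Subgroup G)) : G) ∈ N := by
    refine mem_normalizer_iff_cj.2 ?_
    show ((D.quat i).map (S : Subgroup G).subtype).map _ = (D.quat i).map (S : Subgroup G).subtype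
    conv_rhs => rw [hquat]
    rw [Subgroup.map_map, Subgroup.map_map]
    congr 1
  have hs1 : cj (M 1) ((D.x ^ m : ↥(S : Subgroup G)) : G) = M 2 := by
    rw [cj_zpowers, ← Subgroup.coe_inv, ← Subgroup.coe_mul, ← Subgroup.coe_mul]
    refine hMinv _ 2 ?_
    show D.x ^ m * v * (D.x ^ m)⁻¹ = w * v ∨ D.x ^ m * v * (D.x ^ m)⁻¹ = (w * v)⁻¹
    rw [hsv]
    rcases Int.even_or_odd ((p - 1) / 2) with ⟨c, hc⟩ | ⟨c, hc⟩
    · left
      rw [show p = 2 * (2 * c) + 1 by omega, zpow_add_one, zpow_mul, hw2, ← zpow_mod_orderOf,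
        D.orderOf_z]
      push_cast
      rw [Int.mul_emod_right, zpow_zero, one_mul]
    · right
      refine eq_inv_of_mul_eq_one_left ?_
      rw [show p = 2 * (2 * c + 1) + 1 by omega, zpow_add_one, zpow_mul, hw2, ← zpow_mod_orderOf,
        D.orderOf_z]
      push_cast
      rw [show (2 * c + 1) % 2 = 1 by omega, zpow_one, mul_assoc D.z w v, mul_assoc D.z, hwv2,
        D.z_mul_z]
  obtain ⟨hA, hB, hC⟩ := three_action hMinj hst hKN hker hsN (by
    rw [cj_zpowers, ← Subgroup.coe_inv, ← Subgroup.coe_mul, ← Subgroup.coe_mul]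
    exact hMinv _ 0 (Or.inl hsw)) hs1
  refine ⟨hA, fun h6 => ?_, fun hc => ?_⟩
  · obtain ⟨a, -, ha, h0, h1, -⟩ := hC h6
    exact ⟨a, ha, h0, h1⟩
  · refine hA.resolve_left fun h2 => ?_
    obtain ⟨g, hg⟩ := isConj_iff.1 hc
    have hSC : SylIn 2 (S : Subgroup G) (Subgroup.normalizer (M 0 : Set G)) := by
      refine (sylIn_top S).mono (fun b hb => mem_normalizer_iff_cj.2 ?_) le_top
      rw [cj_zpowers]
      refine hMinv (⟨b, hb⟩ * w * (⟨b, hb⟩ : ↥(S : Subgroup G))⁻¹) 0 ?_
      obtain ⟨k, hk | hk⟩ := D.exists_form (⟨b, hb⟩ : ↥(S : Subgroup G)) <;> rw [hk]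
      · left; rw [hw, ((Commute.refl D.x).zpow_zpow k D.q).eq, mul_inv_cancel_right]; rfl
      · right; show _ = w⁻¹; rw [hw, D.conj_a, zpow_neg]
    have hQS : Q ≤ (S : Subgroup G) := Subgroup.map_subtype_le _
    have hgQ : cj Q g ≤ Subgroup.normalizer (M 0 : Set G) := by
      intro b hb
      have h1 : g⁻¹ * b * g ∈ Subgroup.normalizer (M 1 : Set G) := by
        rw [mem_normalizer_iff_cj]
        exact (hker _ (Subgroup.le_normalizer (mem_cj.1 hb))).1 (Subgroup.mem_sup_left (mem_cj.1 hb)) 1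
      have h2 : M 0 = cj (M 1) g := by
        show Subgroup.zpowers (w : G) = cj (Subgroup.zpowers (v : G)) g
        rw [cj_zpowers, hg]
      rw [h2, ← cj_normalizer]
      exact mem_cj.2 h1
    obtain ⟨c, hcN, hcS⟩ := hSC.conj_le (isPGroup_cj (S.isPGroup'.to_le hQS) g) hgQ
    rw [cj_cj] at hcS
    set Q'' := (cj Q (c * g)).subgroupOf (S : Subgroup G) with hQ''
    obtain ⟨eQ⟩ : Nonempty (Q'' ≃* D.quat i) :=
      ⟨((Subgroup.subgroupOfEquivOfLe hcS).trans
        (Subgroup.equivMapOfInjective Q (MulAut.conj (c * g)).toMonoidHom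
          (MulAut.conj (c * g)).injective).symm).trans
        (Subgroup.equivMapOfInjective (D.quat i) (S : Subgroup G).subtype
          (S : Subgroup G).subtype_injective).symm⟩
    obtain ⟨k, hk, hQk⟩ := D.quat_eq (eQ.trans eq8)
    obtain ⟨j, hj⟩ := D.conj_same_parity (i := k) (k := i) (hi.sub_odd hk)
    have hN : ((D.x ^ j : ↥(S : Subgroup G)) : G) * (c * g) ∈ N := by
      refine mem_normalizer_iff_cj.2 ?_
      rw [← cj_cj, ← Subgroup.map_subgroupOf_eq_of_le hcS, ← hQ'', hQk]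
      show ((D.quat k).map (S : Subgroup G).subtype).map _ = Q
      rw [Subgroup.map_map,
        show (MulAut.conj ((D.x ^ j : ↥(S : Subgroup G)) : G)).toMonoidHom.comp (S : Subgroup G).subtype =
          (S : Subgroup G).subtype.comp (MulAut.conj (D.x ^ j)).toMonoidHom from MonoidHom.ext fun _ => rfl,
        ← Subgroup.map_map, D.quat_map]
      rw [show D.quat (k + (2 - D.h) * j) = D.quat i by
        rw [QDData.quat, QDData.quat, ← D.conj_refl, hj]]
    have h0 := (hB h2 _ hN).1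
    have h1 : cj (M 1) (((D.x ^ j : ↥(S : Subgroup G)) : G) * (c * g)) = M 0 := by
      rw [← cj_cj, ← cj_cj]
      rw [show cj (M 1) g = M 0 by
        show cj (Subgroup.zpowers (v : G)) g = Subgroup.zpowers (w : G)
        rw [cj_zpowers, hg], cj_eq_self hcN]
      rw [cj_zpowers, ← Subgroup.coe_inv, ← Subgroup.coe_mul, ← Subgroup.coe_mul]
      refine hMinv _ 0 (Or.inl ?_)
      show D.x ^ j * w * (D.x ^ j)⁻¹ = w
      rw [hw, ((Commute.refl D.x).zpow_zpow j D.q).eq, mul_inv_cancel_right]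
    have := hMinj (Subgroup.map_injective (MulAut.conj
      (((D.x ^ j : ↥(S : Subgroup G)) : G) * (c * g))).injective (h0.trans h1.symm))
    exact absurd this (by decide)

end QDData

end Cfsg.Agent.Fusion
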