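import Mathlib
import Cfsg.Prelude.Def_PLocal
import Cfsg.Agent.Lib.Perm.NilpFrattini

/-!
# Hall's power structure of regular p-groups from the first power condition
-/

set_option autoImplicit false
set_option linter.style.haveILetI false

open scoped commutatorElement

namespace Cfsg.Agent.Fusion

variable {G : Type*} [Group G] [Finite G] {p : ℕ}

/-- The weak first power condition. -/
def WeakPowerOne (p : ℕ) (G : Type*) [Group G] : Prop :=
  ∀ a b : G, ∃ c ∈ Cfsg.powerClosure p 1 ⁅Subgroup.closure ({a, b} : Set G), Subgroup.closure ({a, b} : Set G)⁆,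
    (a * b) ^ p = a ^ p * b ^ p * c

omit [Finite G] in
theorem comm_pair_eq_bot {a b : G} (h : a * b = b * a) :
    ⁅Subgroup.closure ({a, b} : Set G), Subgroup.closure ({a, b} : Set G)⁆ = ⊥ := by
  rw [Subgroup.commutator_eq_bot_iff_le_centralizer, Subgroup.centralizer_closure, Subgroup.closure_le]
  rintro x (rfl | rfl) y (rfl | rfl)
  exacts [rfl, h.symm, h, rfl]

/-- the `p`-th powers of every subgroup are closed under products, and the derived part is a single power. -/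
theorem power_one_closed [Fact p.Prime] (hG : IsPGroup p G) (hW : WeakPowerOne p G) :
    ∀ (N : ℕ) (H : Subgroup G), Nat.card H = N → ∀ a ∈ H, ∀ b ∈ H,
      (∃ c ∈ ⁅Subgroup.closure ({a, b} : Set G), Subgroup.closure ({a, b} : Set G)⁆,
        (a * b) ^ p = a ^ p * b ^ p * c ^ p) ∧ ∃ z ∈ H, a ^ p * b ^ p = z ^ p := by
  intro N
  induction N using Nat.strong_induction_on with
  | _ N IH =>
  intro H hN a ha b hb
  obtain ⟨K, hK⟩ : ∃ K, K = Subgroup.closure ({a, b} : Set G) := ⟨_, rfl⟩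
  rw [← hK]
  have haK : a ∈ K := hK ▸ Subgroup.subset_closure (Or.inl rfl)
  have hbK : b ∈ K := hK ▸ Subgroup.subset_closure (Or.inr rfl)
  have hKH : K ≤ H := hK ▸ (Subgroup.closure_le _).2 (by rintro g (rfl | rfl) <;> assumption)
  by_cases hlt : Nat.card K < N
  · obtain ⟨h1, z, hz, h2⟩ := IH _ hlt K rfl a haK b hbK
    rw [← hK] at h1
    exact ⟨h1, z, hKH hz, h2⟩
  by_cases hab : a * b = b * a
  · exact ⟨⟨1, one_mem _, by rw [one_pow, mul_one, (show Commute a b from hab).mul_pow]⟩,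
      a * b, mul_mem ha hb, ((show Commute a b from hab).mul_pow p).symm⟩
  have hcard : Nat.card K = N := le_antisymm (hN ▸ Subgroup.card_le_of_le hKH) (not_lt.1 hlt)
  haveI : Group.IsNilpotent K := (hG.to_subgroup K).isNilpotent
  obtain ⟨L, hL⟩ : ∃ L : Subgroup K, L = Subgroup.zpowers (⟨a * b, mul_mem haK hbK⟩ : K) ⊔ commutator K :=
    ⟨_, rfl⟩
  have hLne : L ≠ ⊤ := by
    intro h
    have h1 : Subgroup.zpowers (⟨a * b, mul_mem haK hbK⟩ : K) = ⊤ :=
      frattini_nongenerating (eq_top_iff.2 (h ▸ hL ▸ sup_le_sup_left Perm.commutator_le_frattini _))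
    obtain ⟨i, hi⟩ := Subgroup.mem_zpowers_iff.1 (h1 ▸ Subgroup.mem_top (⟨a, haK⟩ : K) :)
    obtain ⟨j, hj⟩ := Subgroup.mem_zpowers_iff.1 (h1 ▸ Subgroup.mem_top (⟨b, hbK⟩ : K) :)
    have hi' : (a * b) ^ i = a := congrArg Subtype.val hi
    have hj' : (a * b) ^ j = b := congrArg Subtype.val hj
    have hc : Commute ((a * b) ^ i) ((a * b) ^ j) := (Commute.refl _).zpow_zpow i j
    rw [hi', hj'] at hc
    exact hab hc.eq
  have hDL : (commutator K).map K.subtype ≤ L.map K.subtype :=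
    Subgroup.map_mono (hL ▸ le_sup_right)
  rw [Subgroup.map_subtype_commutator] at hDL
  have hLlt : Nat.card (L.map K.subtype) < N := by
    rw [Subgroup.card_map_of_injective K.subtype_injective, ← hcard]
    exact lt_of_le_of_ne (Nat.le_of_dvd Nat.card_pos (Subgroup.card_subgroup_dvd_card L))
      fun h => hLne (Subgroup.eq_top_of_card_eq L h)
  have hDlt : Nat.card (⁅K, K⁆ : Subgroup G) < N := lt_of_le_of_lt (Subgroup.card_le_of_le hDL) hLlt
  obtain ⟨c, hc, he⟩ := hW a b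
  rw [← hK] at hc
  have hall : ∀ w ∈ Cfsg.powerClosure p 1 ⁅K, K⁆, ∃ d ∈ ⁅K, K⁆, w = d ^ p := by
    intro w hw
    induction hw using Subgroup.closure_induction with
    | mem x hx => obtain ⟨d, hd, rfl⟩ := hx; exact ⟨d, hd, by rw [pow_one]⟩
    | one => exact ⟨1, one_mem _, (one_pow p).symm⟩
    | mul x y _ _ hx hy =>
      obtain ⟨d, hd, rfl⟩ := hx
      obtain ⟨e, hd', rfl⟩ := hy
      obtain ⟨-, z, hz, hze⟩ := IH _ hDlt _ rfl d hd e hd'
      exact ⟨z, hz, hze⟩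
    | inv x _ hx =>
      obtain ⟨d, hd, rfl⟩ := hx
      exact ⟨d⁻¹, inv_mem hd, (inv_pow d p).symm⟩
  obtain ⟨d, hd, rfl⟩ := hall c hc
  refine ⟨⟨d, hd, he⟩, ?_⟩
  obtain ⟨-, z, hz, hze⟩ := IH _ hLlt _ rfl (a * b)
    ⟨_, hL ▸ Subgroup.mem_sup_left (Subgroup.mem_zpowers _), rfl⟩ d⁻¹ (inv_mem (hDL hd))
  refine ⟨z, hKH (Subgroup.map_subtype_le L hz), ?_⟩
  rw [← hze, he, inv_pow, mul_inv_cancel_right]

/-- The set of `p ^ n`-th powers in `H` is a subgroup. -/
def PowerClosed (p n : ℕ) (G : Type*) [Group G] : Prop :=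
  ∀ H : Subgroup G, ∀ a ∈ H, ∀ b ∈ H, ∃ z ∈ H, a ^ p ^ n * b ^ p ^ n = z ^ p ^ n

/-- The single power form of the `n`-th power condition. -/
def PowerCond (p n : ℕ) (G : Type*) [Group G] : Prop :=
  ∀ a b : G, ∃ c ∈ ⁅Subgroup.closure ({a, b} : Set G), Subgroup.closure ({a, b} : Set G)⁆,
    (a * b) ^ p ^ n = a ^ p ^ n * b ^ p ^ n * c ^ p ^ n

omit [Finite G] in
/-- the set of powers as a subgroup. -/
theorem exists_powers {n : ℕ} (hC : PowerClosed p n G) (H : Subgroup G) :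
    ∃ W : Subgroup G, (W : Set G) = {y | ∃ x ∈ H, y = x ^ p ^ n} :=
  ⟨{ carrier := {y | ∃ x ∈ H, y = x ^ p ^ n}
     one_mem' := ⟨1, one_mem H, (one_pow _).symm⟩
     mul_mem' := by
      rintro _ _ ⟨x, hx, rfl⟩ ⟨y, hy, rfl⟩
      exact hC H x hx y hy
     inv_mem' := by
      rintro _ ⟨x, hx, rfl⟩
      exact ⟨x⁻¹, inv_mem hx, (inv_pow _ _).symm⟩ }, rfl⟩

omit [Finite G] in
theorem comm_pow_mem {n : ℕ} (hC : PowerClosed p n G) (hP : PowerCond p n G) (H : Subgroup G)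
    {x y : G} (hx : x ∈ H) (hy : y ∈ H) : ∃ u ∈ ⁅H, H⁆, ⁅x ^ p ^ n, y⁆ = u ^ p ^ n := by
  obtain ⟨e, he, hee⟩ := hP x (y * x⁻¹ * y⁻¹)
  have hle : Subgroup.closure ({x, y * x⁻¹ * y⁻¹} : Set G) ≤ H :=
    (Subgroup.closure_le H).2 (by
      rintro g (rfl | rfl)
      exacts [hx, mul_mem (mul_mem hy (inv_mem hx)) (inv_mem hy)])
  have hxz : x * (y * x⁻¹ * y⁻¹) ∈ ⁅H, H⁆ := by
    have := Subgroup.commutator_mem_commutator hx hy
    rwa [commutatorElement_def, mul_assoc, mul_assoc, ← mul_assoc y] at this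
  obtain ⟨u, hu, hue⟩ := hC ⁅H, H⁆ _ hxz e⁻¹ (inv_mem (Subgroup.commutator_mono hle hle he))
  refine ⟨u, hu, ?_⟩
  rw [← hue, hee, inv_pow, mul_inv_cancel_right, conj_pow, commutatorElement_def, inv_pow]
  group

/-- All power conditions follow from the first. -/
theorem power_all [Fact p.Prime] (hG : IsPGroup p G) (hW : WeakPowerOne p G) :
    ∀ n : ℕ, PowerClosed p n G ∧ PowerCond p n G := by
  have h1 : ∀ H : Subgroup G, ∀ a ∈ H, ∀ b ∈ H, ∃ z ∈ H, a ^ p * b ^ p = z ^ p := fun H a ha b hb =>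
    (power_one_closed hG hW _ H rfl a ha b hb).2
  intro n
  induction n with
  | zero =>
    exact ⟨fun H a ha b hb => ⟨a * b, mul_mem ha hb, by simp⟩, fun a b => ⟨1, one_mem _, by simp⟩⟩
  | succ n ih =>
    obtain ⟨hC, hP⟩ := ih
    refine ⟨fun H a ha b hb => ?_, fun a b => ?_⟩
    · obtain ⟨W, hW'⟩ := exists_powers hC H
      obtain ⟨z, hz, hze⟩ := h1 W (a ^ p ^ n) (hW' ▸ ⟨a, ha, rfl⟩ : a ^ p ^ n ∈ (W : Set G))
        (b ^ p ^ n) (hW' ▸ ⟨b, hb, rfl⟩ : b ^ p ^ n ∈ (W : Set G))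
      obtain ⟨x, hx, rfl⟩ := (hW' ▸ hz : z ∈ {y | ∃ x ∈ H, y = x ^ p ^ n})
      exact ⟨x, hx, by rw [pow_succ, pow_mul, pow_mul, pow_mul, hze]⟩
    · obtain ⟨K, hK⟩ : ∃ K, K = Subgroup.closure ({a, b} : Set G) := ⟨_, rfl⟩
      rw [← hK]
      have haK : a ∈ K := hK ▸ Subgroup.subset_closure (Or.inl rfl)
      have hbK : b ∈ K := hK ▸ Subgroup.subset_closure (Or.inr rfl)
      obtain ⟨c, hc, hce⟩ := hP a b
      rw [← hK] at hc
      obtain ⟨W, hW'⟩ := exists_powers hC ⁅K, K⁆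
      have hmem : ∀ g, g ∈ W ↔ ∃ x ∈ ⁅K, K⁆, g = x ^ p ^ n := fun g => Set.ext_iff.1 hW' g
      have hder : ∀ x ∈ K, ∀ y ∈ K, ∀ g ∈ ⁅Subgroup.closure ({x ^ p ^ n, y} : Set G),
          Subgroup.closure ({x ^ p ^ n, y} : Set G)⁆, g ∈ W := by
        intro x hx y hy g hg
        obtain ⟨u, hu, hue⟩ := comm_pow_mem hC hP K hx hy
        -- the quotient by the normal closure in `K` of `W` is abelian on these generators
        have hWn : ∀ k ∈ K, ∀ w ∈ W, k * w * k⁻¹ ∈ W := by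
          intro k hk w hw
          obtain ⟨v, hv, rfl⟩ := (hmem w).1 hw
          refine (hmem _).2 ⟨k * v * k⁻¹, ?_, by rw [conj_pow]⟩
          have hn : K ≤ Subgroup.normalizer (⁅K, K⁆ : Subgroup G) :=
            (Subgroup.commutator_le_self K).trans Subgroup.le_normalizer |> fun _ => by
              intro t ht
              exact Subgroup.mem_normalizer_iff.2 fun s => by
                have key : ∀ t ∈ K, ∀ s ∈ ⁅K, K⁆, t * s * t⁻¹ ∈ ⁅K, K⁆ := by
                  intro t ht s hs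
                  have h : (MulAut.conj t).toMonoidHom s ∈ (⁅K, K⁆).map (MulAut.conj t).toMonoidHom :=
                    Subgroup.mem_map_of_mem _ hs
                  rw [Subgroup.map_commutator] at h
                  refine Subgroup.commutator_mono ?_ ?_ h <;>
                  · rintro _ ⟨r, hr, rfl⟩
                    exact mul_mem (mul_mem ht hr) (inv_mem ht)
                refine ⟨key t ht s, fun h => ?_⟩
                have := key t⁻¹ (inv_mem ht) _ h
                simpa [mul_assoc] using this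
          exact (Subgroup.mem_normalizer_iff.1 (hn hk) v).1 hv
        let N : Subgroup K := W.subgroupOf K
        haveI : N.Normal := ⟨fun w hw k => hWn k k.2 w hw⟩
        have hxK : x ^ p ^ n ∈ K := pow_mem hx _
        have hcl : Subgroup.closure ({x ^ p ^ n, y} : Set G) =
            (Subgroup.closure ({⟨x ^ p ^ n, hxK⟩, ⟨y, hy⟩} : Set K)).map K.subtype := by
          rw [MonoidHom.map_closure, Set.image_pair]; rfl
        rw [hcl, ← Subgroup.map_commutator] at hg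
        obtain ⟨g', hg', rfl⟩ := hg
        have hcomm : QuotientGroup.mk' N ⟨x ^ p ^ n, hxK⟩ * QuotientGroup.mk' N ⟨y, hy⟩ =
            QuotientGroup.mk' N ⟨y, hy⟩ * QuotientGroup.mk' N ⟨x ^ p ^ n, hxK⟩ := by
          rw [← commutatorElement_eq_one_iff_mul_comm, ← map_commutatorElement]
          refine (QuotientGroup.eq_one_iff _).2 ?_
          show ⁅x ^ p ^ n, y⁆ ∈ W
          exact (hmem _).2 ⟨u, hu, hue⟩
        have hb : (⁅Subgroup.closure ({⟨x ^ p ^ n, hxK⟩, ⟨y, hy⟩} : Set K),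
            Subgroup.closure ({⟨x ^ p ^ n, hxK⟩, ⟨y, hy⟩} : Set K)⁆).map (QuotientGroup.mk' N) = ⊥ := by
          rw [Subgroup.map_commutator, MonoidHom.map_closure, Set.image_pair]
          exact comm_pair_eq_bot hcomm
        rw [Subgroup.map_eq_bot_iff, QuotientGroup.ker_mk'] at hb
        exact hb hg'
      obtain ⟨d1, hd1, he1⟩ := (power_one_closed hG hW _ ⊤ rfl (a ^ p ^ n * b ^ p ^ n) trivial (c ^ p ^ n) trivial).1
      obtain ⟨d2, hd2, he2⟩ := (power_one_closed hG hW _ ⊤ rfl (a ^ p ^ n) trivial (b ^ p ^ n) trivial).1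
      have hd2W : d2 ∈ W := hder a haK (b ^ p ^ n) (pow_mem hbK _) d2 hd2
      have hcK : c ∈ K := Subgroup.commutator_le_self K hc
      have hd1W : d1 ∈ W := by
        refine hder c hcK (a ^ p ^ n * b ^ p ^ n) (mul_mem (pow_mem haK _) (pow_mem hbK _)) d1 ?_
        rw [Set.pair_comm]
        exact hd1
      obtain ⟨z1, hz1, hze1⟩ := h1 W d2 hd2W (c ^ p ^ n) ((hmem _).2 ⟨c, hc, rfl⟩)
      obtain ⟨z2, hz2, hze2⟩ := h1 W z1 hz1 d1 hd1W
      obtain ⟨u, hu, rfl⟩ := (hmem z2).1 hz2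
      refine ⟨u, hu, ?_⟩
      rw [pow_succ, pow_mul, pow_mul, pow_mul, pow_mul, hce, he1, he2, ← hze2, ← hze1]
      simp only [mul_assoc]

omit [Finite G] in
theorem weakPowerOne_of_regular (h : Cfsg.IsRegularPGroup p G) : WeakPowerOne p G := fun a b => by
  obtain ⟨c, hc, he⟩ := h.2 a b 1
  exact ⟨c, hc, by simpa using he⟩

omit [Finite G] in
theorem regular_of_powerCond (hG : IsPGroup p G) (h : ∀ n, PowerCond p n G) :
    Cfsg.IsRegularPGroup p G :=
  ⟨hG, fun a b n => by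
    obtain ⟨c, hc, he⟩ := h n a b
    exact ⟨c ^ p ^ n, Subgroup.subset_closure ⟨c, hc, rfl⟩, he⟩⟩

end Cfsg.Agent.Fusion
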