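import Cfsg.Agent.Lib.Fusion.KInf

/-!
# Glauberman's replacement
-/

set_option autoImplicit false

open scoped commutatorElement

namespace Cfsg.Agent.Fusion

variable {S : Type*} [Group S] [Finite S]

/-- The replacement of `A` by `b`. -/
def replSub (A : Subgroup S) (b : S) : Subgroup S :=
  (A ⊓ A.map (MulAut.conj (b⁻¹)).toMonoidHom) ⊔
    Subgroup.closure {g : S | ∃ a ∈ A, g = a * b⁻¹ * a⁻¹ * b}

theorem exists_normalizing_normalizer [Group.IsNilpotent S] (B : Subgroup S) [B.Normal]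
    (A : Subgroup S) (hnot : ¬ B ≤ Subgroup.normalizer (A : Set S)) :
    ∃ b ∈ B, b ∈ Subgroup.normalizer ((Subgroup.normalizer (A : Set S)) : Set S) ∧
      b ∉ Subgroup.normalizer (A : Set S) := by
  set N := Subgroup.normalizer (A : Set S)
  obtain ⟨b, hbB, hbN, hb⟩ := exists_fixed_mod (N := N) (C := B) (Q := N)
    (by rw [Subgroup.normalizer_eq_top]; exact le_top) hnot
  have hfwd : ∀ n ∈ N, b * n * b⁻¹ ∈ N := fun n hn => by
    rw [show b * n * b⁻¹ = ⁅b, n⁆ * n by rw [commutatorElement_def]; group]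
    exact mul_mem (hb n hn) hn
  have hle : N.map (MulAut.conj b).toMonoidHom ≤ N := by
    rintro _ ⟨n, hn, rfl⟩; exact hfwd n hn
  have heq := Subgroup.eq_of_le_of_card_ge hle (le_of_eq
    (Nat.card_congr (N.equivMapOfInjective _ (MulAut.conj b).injective).toEquiv))
  refine ⟨b, hbB, ?_, hbN⟩
  rw [Subgroup.mem_normalizer_iff]
  intro n
  refine ⟨hfwd n, fun hn => ?_⟩
  obtain ⟨z, hz, he⟩ := heq.ge hn
  rwa [show n = z from mul_left_cancel (mul_right_cancel he.symm)]

section Repl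

variable {p : ℕ} [hp : Fact p.Prime] (hS : IsPGroup p S) {B : Subgroup S} [B.Normal]
  (hB2 : p = 2 → IsMulCommutative B) {A : Subgroup S} (hA : IsMulCommutative A)
  (hBA : ⁅B, B⁆ ≤ A) {b : S} (hb : b ∈ B)
  (hbN : b ∈ Subgroup.normalizer ((Subgroup.normalizer (A : Set S)) : Set S))
  (hbA : b ∉ Subgroup.normalizer (A : Set S))

include hA in
omit [Finite S] in
theorem repl_comm {x y : S} (hx : x ∈ A) (hy : y ∈ A) : x * y = y * x :=
  congrArg Subtype.val (hA.1.1 ⟨x, hx⟩ ⟨y, hy⟩)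

include hS hB2 hA hBA hb hbN hbA in
/-- The properties of the replacement. -/
theorem replSub_spec :
    Nat.card (replSub A b) = Nat.card A ∧ IsMulCommutative (replSub A b) ∧
      ⁅B, B⁆ ≤ replSub A b ∧ A ⊓ B < replSub A b ⊓ B ∧ replSub A b ⊓ B < B ∧
      A ≤ Subgroup.normalizer (replSub A b : Set S) ∧
      replSub A b ≤ Subgroup.normalizer (A : Set S) ∧
      b ∈ Subgroup.normalizer (replSub A b : Set S) ∧
      Subgroup.normalizer (A : Set S) < Subgroup.normalizer (replSub A b : Set S) ∧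
      (p ≠ 2 → Monoid.exponent (replSub A b) ∣ Monoid.exponent A) ∧
      replSub A b ≤ A ⊔ A.map (MulAut.conj (b⁻¹)).toMonoidHom := by
  classical
  haveI : Group.IsNilpotent S := hS.isNilpotent
  set N := Subgroup.normalizer (A : Set S) with hNdef
  set A' := A.map (MulAut.conj (b⁻¹)).toMonoidHom with hA'
  set D := A ⊓ A' with hD
  have hmemA' : ∀ x, x ∈ A' ↔ b * x * b⁻¹ ∈ A := fun x => by
    rw [hA', Subgroup.mem_map_equiv, MulAut.conj_symm_apply, inv_inv]
  have hσ : ∀ {x}, x ∈ A → b⁻¹ * x * b ∈ A' := fun {x} hx => by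
    rw [hmemA', show b * (b⁻¹ * x * b) * b⁻¹ = x by group]; exact hx
  have hAN : A ≤ N := Subgroup.le_normalizer
  have hA'N : A' ≤ N := fun x hx =>
    (Subgroup.mem_normalizer_iff.1 hbN x).2 (hAN ((hmemA' x).1 hx))
  have hbN' : ∀ n ∈ N, b⁻¹ * n * b ∈ N := fun n hn => by
    refine (Subgroup.mem_normalizer_iff.1 hbN _).2 ?_
    rw [show b * (b⁻¹ * n * b) * b⁻¹ = n by group]; exact hn
  have hNconj : ∀ n ∈ N, ∀ x ∈ A', n * x * n⁻¹ ∈ A' := by
    intro n hn x hx
    rw [hmemA'] at hx ⊢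
    have hn' : b * n * b⁻¹ ∈ N := (Subgroup.mem_normalizer_iff.1 hbN n).1 hn
    rw [show b * (n * x * n⁻¹) * b⁻¹ = (b * n * b⁻¹) * (b * x * b⁻¹) * (b * n * b⁻¹)⁻¹ by group]
    exact (Subgroup.mem_normalizer_iff.1 hn' _).1 hx
  have hNconjA : ∀ n ∈ N, ∀ x ∈ A, n * x * n⁻¹ ∈ A := fun n hn x hx =>
    (Subgroup.mem_normalizer_iff.1 hn x).1 hx
  have hBB : ⁅B, B⁆ ≤ D := by
    refine le_inf hBA fun x hx => (hmemA' x).2 ?_
    exact hBA ((inferInstance : (⁅B, B⁆ : Subgroup S).Normal).conj_mem x hx b)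
  have hA'comm : ∀ {x y}, x ∈ A' → y ∈ A' → x * y = y * x := by
    intro x y hx hy
    have h := repl_comm hA ((hmemA' x).1 hx) ((hmemA' y).1 hy)
    calc x * y = b⁻¹ * (b * x * b⁻¹ * (b * y * b⁻¹)) * b := by group
      _ = b⁻¹ * (b * y * b⁻¹ * (b * x * b⁻¹)) * b := by rw [h]
      _ = y * x := by group
  set M := A ⊔ A' with hM
  have hMN : M ≤ N := sup_le hAN hA'N
  have hcross : ∀ {x y}, x ∈ A → y ∈ A' → ⁅x, y⁆ ∈ D := by
    intro x y hx hy
    refine ⟨?_, ?_⟩
    · show ⁅x, y⁆ ∈ A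
      rw [commutatorElement_def, mul_assoc x, mul_assoc x]
      refine mul_mem hx ?_
      exact hNconjA y (hA'N hy) _ (inv_mem hx)
    · show ⁅x, y⁆ ∈ A'
      rw [commutatorElement_def]
      exact mul_mem (hNconj x (hAN hx) y hy) (inv_mem hy)
  have hDc : ∀ {d}, d ∈ D → ∀ {m}, m ∈ M → d * m = m * d := by
    intro d hd m hm
    have hle : M ≤ Subgroup.centralizer {d} := sup_le
      (fun x hx => Subgroup.mem_centralizer_singleton_iff.2 (repl_comm hA hx hd.1))
      (fun x hx => Subgroup.mem_centralizer_singleton_iff.2 (hA'comm hx hd.2))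
    exact (Subgroup.mem_centralizer_singleton_iff.1 (hle hm)).symm
  have hDM : D ≤ M := inf_le_left.trans le_sup_left
  -- the generators
  let g : S → S := fun a => a * b⁻¹ * a⁻¹ * b
  have hgdef : ∀ a, g a = a * (b⁻¹ * a⁻¹ * b) := fun a => by simp only [g]; group
  have hgM : ∀ a ∈ A, g a ∈ M := fun a ha => by
    rw [hgdef]
    exact mul_mem (Subgroup.mem_sup_left ha) (Subgroup.mem_sup_right (hσ (inv_mem ha)))
  have hgB : ∀ a, g a ∈ B := fun a => by
    simp only [g]
    exact mul_mem ((inferInstance : B.Normal).conj_mem _ (inv_mem hb) a) hb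
  have hgg : ∀ a ∈ A, ∀ a' ∈ A, g a * g a' = g (a * a') * ⁅b⁻¹ * a⁻¹ * b, a'⁆ := by
    intro a ha a' ha'
    have hd : ⁅a', b⁻¹ * a⁻¹ * b⁆⁻¹ ∈ D := inv_mem (hcross ha' (hσ (inv_mem ha)))
    rw [commutatorElement_inv] at hd
    have hc := hA'comm (hσ (inv_mem ha)) (hσ (inv_mem ha'))
    set u := b⁻¹ * a⁻¹ * b
    set u' := b⁻¹ * a'⁻¹ * b
    set d := ⁅u, a'⁆ with hd'
    calc g a * g a' = a * (u * a') * u' := by rw [hgdef, hgdef]; simp only [u, u']; group
      _ = a * (d * (a' * u)) * u' := by rw [hd', commutatorElement_def]; group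
      _ = a * d * (a' * (u * u')) := by group
      _ = a * (d * (a' * (u * u'))) := by group
      _ = a * ((a' * (u * u')) * d) := by
          rw [hDc hd (mul_mem (Subgroup.mem_sup_left ha')
            (Subgroup.mem_sup_right (mul_mem (hσ (inv_mem ha)) (hσ (inv_mem ha')))))]
      _ = (a * a') * (u' * u) * d := by rw [hc]; group
      _ = g (a * a') * d := by rw [hgdef]; simp only [u, u']; group
  have hDσ : ∀ x ∈ D, b⁻¹ * x * b ∈ D := by
    intro x hx
    have hgA' : g x ∈ A' := by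
      rw [hgdef]; exact mul_mem hx.2 (hσ (inv_mem hx.1))
    have hgA : g x ∈ A := by
      have h2 : ⁅b⁻¹, g x⁆ * g x ∈ A' :=
        mul_mem (hBB (Subgroup.commutator_mem_commutator (inv_mem hb) (hgB x))).2 hgA'
      rw [show ⁅b⁻¹, g x⁆ * g x = b⁻¹ * g x * b by rw [commutatorElement_def]; group, hmemA',
        show b * (b⁻¹ * g x * b) * b⁻¹ = g x by group] at h2
      exact h2
    refine ⟨?_, hσ hx.1⟩
    show b⁻¹ * x * b ∈ A
    have e : b⁻¹ * x * b = (g x)⁻¹ * x := by rw [hgdef]; group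
    rw [e]
    exact mul_mem (inv_mem hgA) hx.1
  let σh : S ≃* S := MulAut.conj (b⁻¹)
  have hσh : ∀ x, σh x = b⁻¹ * x * b := fun x => by simp [σh]
  have hCcomm : ∀ a ∈ A, ∀ a' ∈ A, g a * g a' = g a' * g a := by
    intro a ha a' ha'
    rcases eq_or_ne p 2 with h2 | h2
    · exact congrArg Subtype.val ((hB2 h2).1.1 ⟨g a, hgB a⟩ ⟨g a', hgB a'⟩)
    -- commutator identities in the group generated by `A` and its image
    have hfm : ∀ x ∈ A, ∀ y ∈ A, ⁅x, g y⁆ ∈ D := fun x hx y hy => by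
      have e : ⁅x, g y⁆ = ⁅x, y⁆ * (y * ⁅x, b⁻¹ * y⁻¹ * b⁆ * y⁻¹) := by
        rw [hgdef]; simp only [commutatorElement_def]; group
      have h1 : ⁅x, y⁆ = 1 := commutatorElement_eq_one_iff_mul_comm.2 (repl_comm hA hx hy)
      rw [e, h1, one_mul, ← hDc (hcross hx (hσ (inv_mem hy))) (Subgroup.mem_sup_left hy),
        mul_inv_cancel_right]
      exact hcross hx (hσ (inv_mem hy))
    have key : ∀ x ∈ A, ∀ y ∈ A, σh ⁅x, g y⁆ = ⁅g x, g y⁆⁻¹ * ⁅x, g y⁆ := by
      intro x hx y hy
      set k := ⁅b⁻¹, g y⁆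
      have hk : k ∈ D := hBB (Subgroup.commutator_mem_commutator (inv_mem hb) (hgB y))
      have e1 : σh (g y) = k * g y := by
        rw [hσh]; simp only [k, commutatorElement_def]; group
      set x' := σh x with hx'
      have hx'A : x' ∈ A' := by rw [hx', hσh]; exact hσ hx
      have hkx : k * x' = x' * k := hDc hk (Subgroup.mem_sup_right hx'A)
      have hsig : σh ⁅x, g y⁆ = ⁅x', g y⁆ := by
        rw [map_commutatorElement, e1]
        have hxgM : ⁅x', g y⁆ ∈ M := by
          rw [commutatorElement_def]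
          exact mul_mem (mul_mem (mul_mem (Subgroup.mem_sup_right hx'A) (hgM y hy))
            (inv_mem (Subgroup.mem_sup_right hx'A))) (inv_mem (hgM y hy))
        have hkk : k * ⁅x', g y⁆ * k⁻¹ = ⁅x', g y⁆ := by
          rw [hDc hk hxgM, mul_inv_cancel_right]
        rw [← hx', show ⁅x', k * g y⁆ = ⁅x', k⁆ * (k * ⁅x', g y⁆ * k⁻¹) by
          simp only [commutatorElement_def]; group, hkk,
          commutatorElement_eq_one_iff_mul_comm.2 hkx.symm, one_mul]
      have hgx : g x = x * x'⁻¹ := by rw [hgdef, hx', hσh]; group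
      have hf := hfm x hx y hy
      have hxM : x ∈ M := Subgroup.mem_sup_left hx
      have hx'M : x' ∈ M := Subgroup.mem_sup_right hx'A
      have hc : ⁅x', g y⁆ ∈ D := by
        rw [hgdef y]
        have e : ⁅x', y * (b⁻¹ * y⁻¹ * b)⁆ = ⁅x', y⁆ * (y * ⁅x', b⁻¹ * y⁻¹ * b⁆ * y⁻¹) := by
          simp only [commutatorElement_def]; group
        rw [e, commutatorElement_eq_one_iff_mul_comm.2 (hA'comm hx'A (hσ (inv_mem hy))), mul_one,
          mul_inv_cancel, mul_one, ← commutatorElement_inv]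
        exact inv_mem (hcross hy hx'A)
      have e2 : ⁅g x, g y⁆ = ⁅x, g y⁆ * ⁅x', g y⁆⁻¹ := by
        rw [hgx, show ⁅x * x'⁻¹, g y⁆ = x * (x'⁻¹ * ⁅x', g y⁆⁻¹ * x') * x⁻¹ * ⁅x, g y⁆ by
          simp only [commutatorElement_def]; group]
        rw [show x'⁻¹ * ⁅x', g y⁆⁻¹ * x' = ⁅x', g y⁆⁻¹ by
          rw [mul_assoc, hDc (inv_mem hc) hx'M, inv_mul_cancel_left]]
        rw [show x * ⁅x', g y⁆⁻¹ * x⁻¹ = ⁅x', g y⁆⁻¹ by
          rw [← hDc (inv_mem hc) hxM, mul_inv_cancel_right]]
        exact (hDc hf (hDM (inv_mem hc))).symm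
      rw [hsig, e2, mul_inv_rev, inv_inv, inv_mul_cancel_right]
    set f₁ := ⁅a, g a'⁆ with hf₁
    set f₂ := ⁅a', g a⁆ with hf₂
    set c := ⁅g a, g a'⁆ with hc
    have hf₁D : f₁ ∈ D := hfm a ha a' ha'
    have hf₂D : f₂ ∈ D := hfm a' ha' a ha
    have hk₁ : σh f₁ = c⁻¹ * f₁ := key a ha a' ha'
    have hk₂ : σh f₂ = c * f₂ := by rw [key a' ha' a ha, hc, commutatorElement_inv]
    have hrel : c = f₁ * f₂⁻¹ := by
      have hgcom : ∀ x ∈ A, ∀ y ∈ A, ⁅x, g y⁆ = ⁅x, b⁻¹ * y⁻¹ * b⁆ := fun x hx y hy => by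
        have e : ⁅x, g y⁆ = ⁅x, y⁆ * (y * ⁅x, b⁻¹ * y⁻¹ * b⁆ * y⁻¹) := by
          rw [hgdef]; simp only [commutatorElement_def]; group
        rw [e, commutatorElement_eq_one_iff_mul_comm.2 (repl_comm hA hx hy), one_mul,
          ← hDc (hcross hx (hσ (inv_mem hy))) (Subgroup.mem_sup_left hy), mul_inv_cancel_right]
      set u := b⁻¹ * a⁻¹ * b with hu
      set u' := b⁻¹ * a'⁻¹ * b with hu'
      have h1 : f₁ = ⁅a, u'⁆ := hgcom a ha a' ha'
      have h2 : f₂ = ⁅a', u⁆ := hgcom a' ha' a ha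
      have hu'M : u' ∈ M := Subgroup.mem_sup_right (hσ (inv_mem ha'))
      have h3 : ⁅u, g a'⁆ = f₂⁻¹ := by
        rw [h2, hgdef a', show ⁅u, a' * u'⁆ = ⁅u, a'⁆ * (a' * ⁅u, u'⁆ * a'⁻¹) by
          simp only [commutatorElement_def]; group,
          commutatorElement_eq_one_iff_mul_comm.2
            (hA'comm (hσ (inv_mem ha)) (hσ (inv_mem ha'))), mul_one, mul_inv_cancel, mul_one,
          commutatorElement_inv]
      rw [hc, hgdef a, show ⁅a * u, g a'⁆ = a * ⁅u, g a'⁆ * a⁻¹ * ⁅a, g a'⁆ by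
        simp only [commutatorElement_def]; group, h3,
        ← hDc (inv_mem hf₂D) (Subgroup.mem_sup_left ha), mul_inv_cancel_right, ← hf₁]
      exact hDc (inv_mem hf₂D) (hDM hf₁D)
    have hcD : c ∈ D := by rw [hrel]; exact mul_mem hf₁D (inv_mem hf₂D)
    have hσc : σh c = c⁻¹ := by
      have hcomm : c⁻¹ * f₁ = f₁ * c⁻¹ := hDc (inv_mem hcD) (hDM hf₁D)
      calc σh c = c⁻¹ * f₁ * (c * f₂)⁻¹ := by
            conv_lhs => rw [hrel]
            rw [map_mul, map_inv, hk₁, hk₂]
        _ = f₁ * c⁻¹ * (c * f₂)⁻¹ := by rw [hcomm]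
        _ = f₁ * (c⁻¹ * f₂⁻¹) * c⁻¹ := by group
        _ = f₁ * (f₂⁻¹ * c⁻¹) * c⁻¹ := by rw [hDc (inv_mem hcD) (hDM (inv_mem hf₂D))]
        _ = c⁻¹ := by rw [← mul_assoc, ← hrel]; group
    obtain ⟨m, hm⟩ := hS b⁻¹
    have hodd : Odd (p ^ m) := ((hp.out).eq_two_or_odd'.resolve_left h2).pow
    have hiter : ∀ i : ℕ, (b⁻¹) ^ i * c * ((b⁻¹) ^ i)⁻¹ = if Even i then c else c⁻¹ := by
      intro i
      induction i with
      | zero => simp
      | succ i ih =>
        rw [pow_succ', show b⁻¹ * b⁻¹ ^ i * c * (b⁻¹ * b⁻¹ ^ i)⁻¹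
          = σh (b⁻¹ ^ i * c * (b⁻¹ ^ i)⁻¹) by rw [hσh]; group, ih]
        by_cases hi : Even i
        · rw [if_pos hi, if_neg (by simp [Nat.even_add_one, hi]), hσc]
        · rw [if_neg hi, if_pos (by simp [Nat.even_add_one, hi]), map_inv, hσc, inv_inv]
    have hcinv : c = c⁻¹ := by
      have := hiter (p ^ m)
      rwa [hm, one_mul, inv_one, mul_one, if_neg (Nat.not_even_iff_odd.2 hodd)] at this
    obtain ⟨j, hj⟩ := hS c
    have hc2 : c ^ 2 = 1 := by
      rw [sq]
      nth_rewrite 1 [hcinv]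
      exact inv_mul_cancel c
    have : orderOf c = 1 := Nat.eq_one_of_dvd_coprimes
      (((Nat.coprime_primes hp.out Nat.prime_two).2 h2).pow_left j)
      (orderOf_dvd_of_pow_eq_one hj) (orderOf_dvd_of_pow_eq_one hc2)
    exact commutatorElement_eq_one_iff_mul_comm.1 (orderOf_eq_one_iff.1 this)
  set C := Subgroup.closure {x : S | ∃ a ∈ A, x = a * b⁻¹ * a⁻¹ * b} with hC
  set R := replSub A b with hR
  have hCM : C ≤ M := (Subgroup.closure_le _).2 (by rintro _ ⟨a, ha, rfl⟩; exact hgM a ha)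
  have hRM : R ≤ M := sup_le hDM hCM
  have hgR : ∀ a ∈ A, g a ∈ R := fun a ha =>
    Subgroup.mem_sup_right (Subgroup.subset_closure ⟨a, ha, rfl⟩)
  have hgen : R ≤ Subgroup.closure ((D : Set S) ∪ g '' A) := by
    refine sup_le (fun x hx => Subgroup.subset_closure (Or.inl hx)) ((Subgroup.closure_le _).2 ?_)
    rintro _ ⟨a, ha, rfl⟩
    exact Subgroup.subset_closure (Or.inr ⟨a, ha, rfl⟩)
  have hRcomm : IsMulCommutative R := by
    have hS' : ∀ x ∈ ((D : Set S) ∪ g '' A), ∀ y ∈ ((D : Set S) ∪ g '' A), x * y = y * x := by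
      rintro x (hx | ⟨a, ha, rfl⟩) y (hy | ⟨a', ha', rfl⟩)
      · exact hDc hx (hDM hy)
      · exact hDc hx (hgM a' ha')
      · exact (hDc hy (hgM a ha)).symm
      · exact hCcomm a ha a' ha'
    haveI := Subgroup.isMulCommutative_closure hS'
    refine ⟨⟨fun x y => Subtype.ext ?_⟩⟩
    exact (congrArg Subtype.val
      (mul_comm' (⟨x.1, hgen x.2⟩ : Subgroup.closure ((D : Set S) ∪ g '' A)) ⟨y.1, hgen y.2⟩) :)
  have hform : ∀ r ∈ R, ∃ a ∈ A, ∃ d ∈ D, r = g a * d := by
    intro r hr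
    have hle : R ≤ ({ carrier := {r | ∃ a ∈ A, ∃ d ∈ D, r = g a * d}
                      one_mem' := ⟨1, one_mem _, 1, one_mem _, by simp [g]⟩
                      mul_mem' := by
                        rintro _ _ ⟨x, hx, d, hd, rfl⟩ ⟨y, hy, e, he, rfl⟩
                        refine ⟨x * y, mul_mem hx hy, ⁅b⁻¹ * x⁻¹ * b, y⁆ * (d * e), ?_, ?_⟩
                        · refine mul_mem ?_ (mul_mem hd he)
                          rw [← commutatorElement_inv]
                          exact inv_mem (hcross hy (hσ (inv_mem hx)))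
                        · rw [← mul_assoc (g (x * y)), ← hgg x hx y hy]
                          calc g x * d * (g y * e) = g x * (d * g y) * e := by group
                            _ = g x * (g y * d) * e := by rw [hDc hd (hgM y hy)]
                            _ = g x * g y * (d * e) := by group
                      inv_mem' := by
                        rintro _ ⟨x, hx, d, hd, rfl⟩
                        have hd' : ⁅b⁻¹ * x⁻¹ * b, x⁻¹⁆ ∈ D := by
                          rw [← commutatorElement_inv]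
                          exact inv_mem (hcross (inv_mem hx) (hσ (inv_mem hx)))
                        have hinv : g x * (g x⁻¹ * ⁅b⁻¹ * x⁻¹ * b, x⁻¹⁆⁻¹) = 1 := by
                          rw [← mul_assoc, hgg x hx x⁻¹ (inv_mem hx), mul_inv_cancel_right]
                          simp [g]
                        refine ⟨x⁻¹, inv_mem hx, ⁅b⁻¹ * x⁻¹ * b, x⁻¹⁆⁻¹ * d⁻¹,
                          mul_mem (inv_mem hd') (inv_mem hd), ?_⟩
                        rw [← mul_assoc, ← inv_eq_of_mul_eq_one_right hinv, mul_inv_rev]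
                        exact hDc (inv_mem hd) (inv_mem (hgM x hx)) } : Subgroup S) := by
      refine sup_le (fun d hd => ⟨1, one_mem _, d, hd, by simp [g]⟩) ((Subgroup.closure_le _).2 ?_)
      rintro _ ⟨a, ha, rfl⟩
      exact ⟨a, ha, 1, one_mem _, by simp [g]⟩
    exact hle hr
  have hA'card : Nat.card A' = Nat.card A :=
    Nat.card_congr (A.equivMapOfInjective _ (MulAut.conj (b⁻¹)).injective).toEquiv.symm
  have hcard : Nat.card R = Nat.card A := by
    set DR := D.subgroupOf R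
    haveI : DR.Normal := ⟨fun d hd r => by
      have e : (r : S) * (d : S) * (r : S)⁻¹ = d :=
        mul_inv_eq_of_eq_mul (hDc hd (hRM r.2)).symm
      show ((r * d * r⁻¹ : R) : S) ∈ D
      rw [Subgroup.coe_mul, Subgroup.coe_mul, Subgroup.coe_inv, e]
      exact hd⟩
    let θ : A →* R ⧸ DR :=
      MonoidHom.mk' (fun a => QuotientGroup.mk ⟨g a, hgR a a.2⟩) (fun x y => by
        rw [← QuotientGroup.mk_mul]
        refine QuotientGroup.eq.2 (Subgroup.mem_subgroupOf.2 ?_)
        show (g ((x : S) * y))⁻¹ * (g x * g y) ∈ D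
        rw [hgg x x.2 y y.2, inv_mul_cancel_left, ← commutatorElement_inv]
        exact inv_mem (hcross y.2 (hσ (inv_mem x.2))))
    have hθ : Function.Surjective θ := by
      intro q
      induction q using QuotientGroup.induction_on with
      | H r =>
        obtain ⟨a, ha, d, hd, he⟩ := hform r r.2
        refine ⟨⟨a, ha⟩, QuotientGroup.eq.2 (Subgroup.mem_subgroupOf.2 ?_)⟩
        show (g a)⁻¹ * (r : S) ∈ D
        rwa [he, inv_mul_cancel_left]
    have hker : θ.ker = D.subgroupOf A := by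
      ext x
      rw [MonoidHom.mem_ker, Subgroup.mem_subgroupOf]
      refine (QuotientGroup.eq_one_iff _).trans (Subgroup.mem_subgroupOf.trans ?_)
      show g x ∈ D ↔ (x : S) ∈ D
      constructor
      · intro hx
        refine ⟨x.2, ?_⟩
        have e : (x : S) = g x * (b⁻¹ * (x : S) * b) := by rw [hgdef]; group
        rw [e]
        exact mul_mem hx.2 (hσ x.2)
      · intro hx
        rw [hgdef]
        exact mul_mem hx (hDσ _ (inv_mem hx))
    have h1 := θ.ker.index_mul_card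
    have h2 := DR.index_mul_card
    rw [Subgroup.index_ker, θ.range_eq_top.2 hθ, Subgroup.card_top, hker,
      Nat.card_congr (Subgroup.subgroupOfEquivOfLe (inf_le_left : D ≤ A)).toEquiv] at h1
    have hDR : Nat.card DR = Nat.card D :=
      Nat.card_congr (Subgroup.subgroupOfEquivOfLe (le_sup_left : D ≤ R)).toEquiv
    rw [hDR] at h2
    rw [← h1, ← h2]
    rfl
  have hxD : ∀ x ∈ A ⊓ B, x ∈ D := by
    intro x hx
    refine ⟨hx.1, (hmemA' x).2 ?_⟩
    rw [show b * x * b⁻¹ = ⁅b, x⁆ * x by rw [commutatorElement_def]; group]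
    exact mul_mem (hBA (Subgroup.commutator_mem_commutator hb hx.2)) hx.1
  have hnormR : ∀ n, (∀ d ∈ D, n * d * n⁻¹ ∈ R) → (∀ a ∈ A, n * g a * n⁻¹ ∈ R) →
      n ∈ Subgroup.normalizer (R : Set S) := by
    intro n h1 h2
    have hle : R.map (MulAut.conj n).toMonoidHom ≤ R := by
      rw [Subgroup.map_le_iff_le_comap]
      exact sup_le (fun d hd => h1 d hd)
        ((Subgroup.closure_le _).2 (by rintro _ ⟨a, ha, rfl⟩; exact h2 a ha))
    have heq := Subgroup.eq_of_le_of_card_ge hle (le_of_eq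
      (Nat.card_congr (R.equivMapOfInjective _ (MulAut.conj n).injective).toEquiv))
    rw [Subgroup.mem_normalizer_iff]
    intro y
    constructor
    · exact fun hy => heq.le ⟨y, hy, rfl⟩
    · intro hy
      obtain ⟨z, hz, he⟩ := heq.ge hy
      rwa [show y = z from mul_left_cancel (mul_right_cancel he.symm)]
  have hANR : A ≤ Subgroup.normalizer (R : Set S) := by
    intro n hn
    refine hnormR n (fun d hd => ?_) fun a ha => ?_
    · rw [← hDc hd (Subgroup.mem_sup_left hn), mul_inv_cancel_right]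
      exact Subgroup.mem_sup_left hd
    · have e : n * g a * n⁻¹ = ⁅n, g a⁆ * g a := by rw [commutatorElement_def]; group
      rw [e]
      refine mul_mem (Subgroup.mem_sup_left ?_) (hgR a ha)
      have e2 : ⁅n, g a⁆ = ⁅n, a⁆ * (a * ⁅n, b⁻¹ * a⁻¹ * b⁆ * a⁻¹) := by
        rw [hgdef]; simp only [commutatorElement_def]; group
      rw [e2, commutatorElement_eq_one_iff_mul_comm.2 (repl_comm hA hn ha), one_mul,
        ← hDc (hcross hn (hσ (inv_mem ha))) (Subgroup.mem_sup_left ha), mul_inv_cancel_right]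
      exact hcross hn (hσ (inv_mem ha))
  have hbinv : b⁻¹ ∈ Subgroup.normalizer (R : Set S) := by
    refine hnormR _ (fun d hd => ?_) fun a ha => ?_
    · rw [inv_inv]; exact Subgroup.mem_sup_left (hDσ d hd)
    · rw [inv_inv, show b⁻¹ * g a * b = ⁅b⁻¹, g a⁆ * g a by rw [commutatorElement_def]; group]
      exact mul_mem (Subgroup.mem_sup_left
        (hBB (Subgroup.commutator_mem_commutator (inv_mem hb) (hgB a)))) (hgR a ha)
  have hbR : b ∈ Subgroup.normalizer (R : Set S) := inv_inv b ▸ inv_mem hbinv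
  have hNR : N ≤ Subgroup.normalizer (R : Set S) := by
    intro n hn
    refine hnormR n (fun d hd => Subgroup.mem_sup_left
      ⟨hNconjA n hn d hd.1, hNconj n hn d hd.2⟩) fun a ha => ?_
    set a' := n * a * n⁻¹
    have ha' : a' ∈ A := hNconjA n hn a ha
    set k := ⁅b, n⁆
    have hkB : k ∈ B := by
      show b * n * b⁻¹ * n⁻¹ ∈ B
      rw [show b * n * b⁻¹ * n⁻¹ = b * (n * b⁻¹ * n⁻¹) by group]
      exact mul_mem hb ((inferInstance : B.Normal).conj_mem _ (inv_mem hb) n)
    have hkN : k ∈ N := by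
      show b * n * b⁻¹ * n⁻¹ ∈ N
      exact mul_mem ((Subgroup.mem_normalizer_iff.1 hbN n).1 hn) (inv_mem hn)
    have hkD : ⁅k, a'⁆ ∈ D := by
      refine hxD _ ⟨?_, ?_⟩
      · show ⁅k, a'⁆ ∈ A
        rw [commutatorElement_def]; exact mul_mem (hNconjA k hkN a' ha') (inv_mem ha')
      · show ⁅k, a'⁆ ∈ B
        rw [commutatorElement_def, mul_assoc, mul_assoc, ← mul_assoc a']
        exact mul_mem hkB ((inferInstance : B.Normal).conj_mem _ (inv_mem hkB) a')
    have e : n * g a * n⁻¹ = g a' * (a'⁻¹ * a') * ((b⁻¹ * a' * b) * (b⁻¹ * (⁅k, a'⁆ * a')⁻¹ * b)) := by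
      simp only [g, a', k, commutatorElement_def]; group
    rw [e, inv_mul_cancel, mul_one]
    refine mul_mem (hgR a' ha') (Subgroup.mem_sup_left ?_)
    rw [show b⁻¹ * a' * b * (b⁻¹ * (⁅k, a'⁆ * a')⁻¹ * b) = b⁻¹ * ⁅k, a'⁆⁻¹ * b by group]
    exact hDσ _ (inv_mem hkD)
  refine ⟨hcard, hRcomm, hBB.trans le_sup_left, ?_, ?_, hANR, hRM.trans hMN, hbR,
    lt_of_le_of_ne hNR fun h => hbA (h.ge hbR), fun h2 => ?_, hRM⟩
  · refine lt_of_le_of_ne (le_inf (fun x hx => Subgroup.mem_sup_left (hxD x hx)) inf_le_right)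
      fun h => hbA ?_
    have hle : A.map σh.toMonoidHom ≤ A := by
      rintro _ ⟨a, ha, rfl⟩
      have hga : g a ∈ A ⊓ B := h.ge ⟨hgR a ha, hgB a⟩
      show σh a ∈ A
      rw [hσh, show b⁻¹ * a * b = (g a)⁻¹ * a by rw [hgdef]; group]
      exact mul_mem (inv_mem hga.1) ha
    have heq : A' = A := Subgroup.eq_of_le_of_card_ge hle hA'card.ge
    rw [Subgroup.mem_normalizer_iff]
    intro x
    show x ∈ A ↔ b * x * b⁻¹ ∈ A
    rw [← hmemA', heq]
  · exact lt_of_le_of_ne inf_le_right fun h => hbA (hMN (hRM (h.ge hb).1))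
  · refine Monoid.exponent_dvd_of_forall_pow_eq_one fun r => Subtype.ext ?_
    obtain ⟨a, ha, d, hd, he⟩ := hform r r.2
    set E := Monoid.exponent A
    show (r : S) ^ E = 1
    have hApow : ∀ x ∈ A, x ^ E = 1 := fun x hx =>
      congrArg Subtype.val (Monoid.pow_exponent_eq_one (⟨x, hx⟩ : A))
    set u := b⁻¹ * a⁻¹ * b with hu
    have huA' : u ∈ A' := hσ (inv_mem ha)
    have huE : u ^ E = 1 := by
      rw [hu, show b⁻¹ * a⁻¹ * b = b⁻¹ * a⁻¹ * b⁻¹⁻¹ by rw [inv_inv], conj_pow, inv_pow,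
        hApow a ha]
      group
    set δ := ⁅u, a⁆ with hδ
    have hδD : δ ∈ D := by
      rw [hδ, ← commutatorElement_inv]; exact inv_mem (hcross ha huA')
    have hcδ : ∀ m ∈ M, δ * m = m * δ := fun m hm => hDc hδD hm
    have hpow : ∀ n : ℕ, (a * u) ^ n = a ^ n * u ^ n * δ ^ (n * (n - 1) / 2) := by
      intro n
      induction n with
      | zero => simp
      | succ n ih =>
        have hua : ∀ i : ℕ, u ^ i * a = a * u ^ i * δ ^ i := by
          intro i
          induction i with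
          | zero => simp
          | succ i ih =>
            have hc1 : δ * u = u * δ := hcδ u (Subgroup.mem_sup_right huA')
            have hc2 : u ^ i * δ = δ * u ^ i :=
              (hcδ _ (Subgroup.mem_sup_right (pow_mem huA' i))).symm
            calc u ^ (i + 1) * a = u ^ i * (δ * a * u) := by
                  rw [pow_succ, hδ, commutatorElement_def]; group
              _ = u ^ i * (a * δ * u) := by rw [hcδ a (Subgroup.mem_sup_left ha)]
              _ = (u ^ i * a) * (δ * u) := by group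
              _ = a * u ^ i * (δ ^ i * (u * δ)) := by rw [ih, hc1]; group
              _ = a * u ^ i * ((u * δ) * δ ^ i) := by
                  rw [(hDc (pow_mem hδD i) (mul_mem (Subgroup.mem_sup_right huA') (hDM hδD)))]
              _ = a * u ^ (i + 1) * δ ^ (i + 1) := by rw [pow_succ u, pow_succ' δ]; group
        have htri : (n + 1) * (n + 1 - 1) / 2 = n + n * (n - 1) / 2 := by
          rw [← Finset.sum_range_id_mul_two (n + 1), Nat.mul_div_cancel _ two_pos,
            ← Finset.sum_range_id_mul_two n, Nat.mul_div_cancel _ two_pos, Finset.sum_range_succ,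
            add_comm]
        calc (a * u) ^ (n + 1) = a ^ n * u ^ n * (δ ^ (n * (n - 1) / 2) * (a * u)) := by
              rw [pow_succ, ih]; group
          _ = a ^ n * u ^ n * ((a * u) * δ ^ (n * (n - 1) / 2)) := by
              rw [hDc (pow_mem hδD _) (mul_mem (Subgroup.mem_sup_left ha) (Subgroup.mem_sup_right huA'))]
          _ = a ^ n * (u ^ n * a) * u * δ ^ (n * (n - 1) / 2) := by group
          _ = a ^ n * a * u ^ n * (δ ^ n * u) * δ ^ (n * (n - 1) / 2) := by rw [hua n]; group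
          _ = a ^ n * a * u ^ n * (u * δ ^ n) * δ ^ (n * (n - 1) / 2) := by
              rw [hDc (pow_mem hδD n) (Subgroup.mem_sup_right huA')]
          _ = a ^ (n + 1) * u ^ (n + 1) * δ ^ ((n + 1) * (n + 1 - 1) / 2) := by
              rw [htri, pow_succ, pow_succ u, pow_add δ]; group
    have hEodd : Odd E := by
      obtain ⟨i, hi⟩ := IsPGroup.iff_card.1 (hS.to_subgroup A)
      exact Odd.of_dvd_nat ((hp.out.eq_two_or_odd'.resolve_left h2).pow)
        (hi ▸ (Group.exponent_dvd_nat_card : E ∣ Nat.card A))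
    have hdiv : E ∣ E * (E - 1) / 2 := by
      obtain ⟨t, ht⟩ := hEodd
      rw [show E - 1 = 2 * t by omega, show E * (2 * t) = E * t * 2 by ring,
        Nat.mul_div_cancel _ two_pos]
      exact Dvd.intro t rfl
    obtain ⟨t, ht⟩ := hdiv
    rw [he, (show Commute (g a) d from (hDc hd (hgM a ha)).symm).mul_pow, hApow d hd.1, mul_one,
      hgdef, ← hu, hpow, hApow a ha, huE, ht, pow_mul, hApow δ hδD.1]
    simp

end Repl

end Cfsg.Agent.Fusion
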