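import Mathlib
import Cfsg.Prelude.Def_RootSubgroups
import Cfsg.Agent.Lib.Solv.Zipper

/-!
# Sets of root involutions: isolated vertices and components of the odd graph
-/

set_option autoImplicit false

namespace Cfsg.Agent.RootInvol

open Cfsg

universe u

variable {G : Type u} [Group G] {D : Set G}

theorem mul_self (hD : IsRootInvolutionSet D) {d : G} (hd : d ∈ D) : d * d = 1 := by
  rw [← pow_two, ← hD.orderOf_eq d hd, pow_orderOf_eq_one]

theorem inv_eq (hD : IsRootInvolutionSet D) {d : G} (hd : d ∈ D) : d⁻¹ = d :=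
  inv_eq_of_mul_eq_one_right (mul_self hD hd)

theorem ne_one (hD : IsRootInvolutionSet D) {d : G} (hd : d ∈ D) : d ≠ 1 := fun h => by
  have := hD.orderOf_eq d hd
  rw [h, orderOf_one] at this
  omega

/-- Two members multiply to an involution or `1` only if they commute. -/
theorem commute_of_sq (hD : IsRootInvolutionSet D) {a b : G} (ha : a ∈ D) (hb : b ∈ D)
    (h : a * b * (a * b) = 1) : Commute a b := by
  have h1 := inv_eq_of_mul_eq_one_right h
  rw [mul_inv_rev, inv_eq hD ha, inv_eq hD hb] at h1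
  exact h1.symm

theorem orderOf_swap (a b : G) : orderOf (a * b) = orderOf (b * a) := by
  have : b * a = a⁻¹ * (a * b) * a⁻¹⁻¹ := by group
  rw [this]
  exact (MulEquiv.orderOf_eq (MulAut.conj a⁻¹) (a * b)).symm

theorem not_commute_of_adj (hD : IsRootInvolutionSet D) {a b : G} (h : OddAdj D a b) :
    ¬ Commute a b := by
  intro hc
  obtain ⟨ha, hb, hne, hodd⟩ := h
  have h2 : (a * b) ^ 2 = 1 := by
    rw [hc.mul_pow, pow_two, pow_two, mul_self hD ha, mul_self hD hb, one_mul]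
  rcases (Nat.dvd_prime Nat.prime_two).1 (orderOf_dvd_of_pow_eq_one h2) with h3 | h3
  · rw [orderOf_eq_one_iff, mul_eq_one_iff_eq_inv, inv_eq hD hb] at h3
    exact hne h3
  · rw [h3] at hodd
    exact Nat.not_odd_iff_even.2 even_two hodd

theorem adj_symm {a b : G} (h : OddAdj D a b) : OddAdj D b a :=
  ⟨h.2.1, h.1, h.2.2.1.symm, by rw [orderOf_swap]; exact h.2.2.2⟩

theorem adj_conj (hD : IsRootInvolutionSet D) (g : G) {a b : G} (h : OddAdj D a b) :
    OddAdj D (g * a * g⁻¹) (g * b * g⁻¹) := by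
  refine ⟨hD.conj_mem a h.1 g, hD.conj_mem b h.2.1 g, fun e => h.2.2.1 ?_, ?_⟩
  · exact mul_left_cancel (mul_right_cancel e)
  · rw [show g * a * g⁻¹ * (g * b * g⁻¹) = MulAut.conj g (a * b) by simp [mul_assoc],
      MulEquiv.orderOf_eq]
    exact h.2.2.2

theorem reach_symm {a b : G} (h : Relation.ReflTransGen (OddAdj D) a b) :
    Relation.ReflTransGen (OddAdj D) b a := by
  induction h with
  | refl => exact .refl
  | tail _ h1 ih => exact (Relation.ReflTransGen.single (adj_symm h1)).trans ih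

theorem component_eq {a b : G} (h : Relation.ReflTransGen (OddAdj D) a b) :
    elemComponentOf (OddAdj D) D a = elemComponentOf (OddAdj D) D b := by
  ext x
  exact ⟨fun hx => ⟨hx.1, (reach_symm h).trans hx.2⟩, fun hx => ⟨hx.1, h.trans hx.2⟩⟩

theorem exists_adj_of_component {a : G}
    (h : ∃ a' ∈ elemComponentOf (OddAdj D) D a, a' ≠ a) : ∃ x, OddAdj D a x := by
  obtain ⟨a', ⟨-, hr⟩, hne⟩ := h
  rcases Relation.ReflTransGen.cases_head hr with rfl | ⟨x, hx, -⟩
  · exact absurd rfl hne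
  · exact ⟨x, hx⟩

theorem not_isolated_iff {a : G} (ha : a ∈ D) :
    ¬ IsIsolatedElem (OddAdj D) D a ↔ ∃ x, OddAdj D a x := by
  constructor
  · intro h
    simp only [IsIsolatedElem, ha, true_and, not_forall, not_and_or, not_not] at h
    obtain ⟨b, hb | hb⟩ := h
    · exact ⟨b, hb⟩
    · exact ⟨b, adj_symm hb⟩
  · rintro ⟨x, hx⟩ ⟨-, h⟩
    exact (h x).1 hx

theorem isolated_conj (hD : IsRootInvolutionSet D) (g : G) {w : G}
    (hw : IsIsolatedElem (OddAdj D) D w) : IsIsolatedElem (OddAdj D) D (g * w * g⁻¹) := by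
  have hw' := hD.conj_mem w hw.1 g
  by_contra h
  obtain ⟨x, hx⟩ := (not_isolated_iff hw').1 h
  refine (not_isolated_iff hw.1).2 ⟨g⁻¹ * x * g⁻¹⁻¹, ?_⟩ hw
  simpa [mul_assoc] using adj_conj hD g⁻¹ hx

theorem isolated_mem_pCore [Finite G] (hD : IsRootInvolutionSet D) {w : G}
    (hw : IsIsolatedElem (OddAdj D) D w) : w ∈ pCore 2 G := by
  by_contra hO
  obtain ⟨h, hh1, hodd, hinv⟩ := Solv.exists_odd_inverted (hD.orderOf_eq w hw.1) hO
  obtain ⟨m, hm⟩ := hodd
  -- the square root of `h`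
  set k := h ^ (m + 1) with hk
  have hkk : k * k = h := by
    rw [hk, ← pow_add, show m + 1 + (m + 1) = orderOf h + 1 by omega, pow_succ,
      pow_orderOf_eq_one, one_mul]
  have hkw : w * k⁻¹ * w⁻¹ = k := by
    rw [hk, ← inv_pow, ← conj_pow, show w * h⁻¹ * w⁻¹ = h from ?_]
    rw [show w * h⁻¹ * w⁻¹ = (w * h * w⁻¹)⁻¹ by group, hinv, inv_inv]
  have hw'' : k * w * k⁻¹ = h * w := by
    rw [mul_assoc, show w * k⁻¹ = w * k⁻¹ * w⁻¹ * w by group, hkw, ← mul_assoc, hkk]
  have hwd := hD.conj_mem w hw.1 k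
  rw [hw''] at hwd
  refine (hw.2 (h * w)).1 ⟨hw.1, hwd, fun e => hh1 (mul_eq_right.1 e.symm), ?_⟩
  rw [show w * (h * w) = h⁻¹ from by rw [← mul_assoc, ← hinv, inv_eq hD hw.1], orderOf_inv]
  exact ⟨m, hm⟩

theorem closure_isolated_le [Finite G] (hD : IsRootInvolutionSet D) :
    Subgroup.closure {w | IsIsolatedElem (OddAdj D) D w} ≤ pCore 2 G :=
  (Subgroup.closure_le _).2 fun _ hw => isolated_mem_pCore hD hw

theorem not_adj_of_mem_pGroup_normal {N : Subgroup G} [N.Normal] (hN : IsPGroup 2 N) {a b : G}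
    (hD : IsRootInvolutionSet D) (ha : a ∈ N) : ¬ OddAdj D a b := by
  intro h
  have hm : (a * b) ^ 2 ∈ N := by
    rw [pow_two, show a * b * (a * b) = a * (b * a * b⁻¹) * (b * b) by group,
      mul_self hD h.2.1, mul_one]
    exact mul_mem ha (Subgroup.Normal.conj_mem ‹_› a ha b)
  obtain ⟨k, hk⟩ := hN ⟨_, hm⟩
  have hk' : (a * b) ^ (2 ^ (k + 1)) = 1 := by
    rw [pow_succ, mul_comm, pow_mul]
    exact congrArg Subtype.val hk
  obtain ⟨i, -, hi⟩ := (Nat.dvd_prime_pow Nat.prime_two).1 (orderOf_dvd_of_pow_eq_one hk')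
  have hodd := h.2.2.2
  rw [hi] at hodd
  rcases Nat.eq_zero_or_pos i with rfl | hi0
  · rw [pow_zero, orderOf_eq_one_iff, mul_eq_one_iff_eq_inv, inv_eq hD h.2.1] at hi
    exact h.2.2.1 hi
  · exact Nat.not_odd_iff_even.2 (Nat.even_pow.2 ⟨even_two, by omega⟩) hodd

/-- The main step: if `a` and `e` commute, their product lies in `D`, and `e` has a neighbour,
then `a` or `a e` lies in the component of `e`. -/
theorem reach_or_reach (hD : IsRootInvolutionSet D) {a e y : G} (ha : a ∈ D) (hc : a * e ∈ D)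
    (hae : Commute a e) (hy : OddAdj D e y) :
    Relation.ReflTransGen (OddAdj D) e a ∨ Relation.ReflTransGen (OddAdj D) e (a * e) := by
  by_cases hreach : Relation.ReflTransGen (OddAdj D) e a
  · exact Or.inl hreach
  refine Or.inr ?_
  obtain ⟨he, hyD, hey, hodd⟩ := id hy
  set ρ := e * y with hρ
  obtain ⟨m, hm⟩ := id hodd
  have heρ : e * ρ * e⁻¹ = ρ⁻¹ := by
    rw [hρ, inv_eq hD he, ← mul_assoc, mul_self hD he, one_mul, mul_inv_rev, inv_eq hD he,
      inv_eq hD hyD]
  have heρn : ∀ j : ℕ, e * ρ ^ j * e⁻¹ = (ρ ^ j)⁻¹ := fun j => by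
    rw [← conj_pow, heρ, inv_pow]
  -- `a` commutes with all its conjugates by powers of `ρ`
  have hcomm : ∀ i : ℕ, Commute a (ρ ^ i * a * (ρ ^ i)⁻¹) := by
    intro i
    set j := i * (m + 1) with hj
    have hij : ρ ^ i = ρ ^ j * ρ ^ j := by
      rw [← pow_add, hj, show i * (m + 1) + i * (m + 1) = orderOf ρ * i + i by rw [hm]; ring,
        pow_add, pow_mul, pow_orderOf_eq_one, one_pow, one_mul]
    set z := ρ ^ j * e * (ρ ^ j)⁻¹ with hz
    have hzD : z ∈ D := hD.conj_mem e he _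
    have hz2 : z = ρ ^ i * e := by
      rw [hz, hij, ← heρn j]
      rw [show ρ ^ j * e * (e * ρ ^ j * e⁻¹) = ρ ^ j * (e * e) * ρ ^ j * e⁻¹ by group,
        mul_self hD he, mul_one, inv_eq hD he]
    have hzt : ρ ^ i * a * (ρ ^ i)⁻¹ = z * a * z⁻¹ := by
      rw [hz2, mul_inv_rev, show ρ ^ i * e * a * (e⁻¹ * (ρ ^ i)⁻¹) =
        ρ ^ i * (e * a * e⁻¹) * (ρ ^ i)⁻¹ by group, hae.symm.eq, mul_inv_cancel_right]
    have hez : Relation.ReflTransGen (OddAdj D) e z := by
      by_cases h : z = e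
      · rw [h]
      · refine Relation.ReflTransGen.single ⟨he, hzD, Ne.symm h, ?_⟩
        rw [hz2, show e * (ρ ^ i * e) = e * ρ ^ i * e⁻¹ * (e * e) by group, mul_self hD he,
          mul_one, heρn, orderOf_inv]
        exact hodd.of_dvd_nat (orderOf_pow_dvd i)
    rw [hzt]
    rcases hD.pair a ha z hzD with h | h | ⟨-, h⟩
    · rw [← h, mul_inv_cancel_right]
    · by_cases haz : a = z
      · rw [← haz, mul_inv_cancel_right]
      · exact absurd (hez.trans (Relation.ReflTransGen.single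
          (adj_symm ⟨ha, hzD, haz, h⟩))) hreach
    · refine commute_of_sq hD ha (hD.conj_mem a ha z) ?_
      rw [inv_eq hD hzD, show a * (z * a * z) = (a * z) ^ 2 by rw [pow_two]; simp only [mul_assoc]]
      exact mul_self hD h
  have hcomm2 : ∀ i j : ℕ, Commute (ρ ^ i * a * (ρ ^ i)⁻¹) (ρ ^ j * a * (ρ ^ j)⁻¹) := by
    have : ∀ i k : ℕ, Commute (ρ ^ i * a * (ρ ^ i)⁻¹) (ρ ^ (i + k) * a * (ρ ^ (i + k))⁻¹) := by
      intro i k
      have h := Commute.map (hcomm k) (MulAut.conj (ρ ^ i)).toMonoidHom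
      simp only [MulEquiv.coe_toMonoidHom, MulAut.conj_apply] at h
      rwa [show ρ ^ i * (ρ ^ k * a * (ρ ^ k)⁻¹) * (ρ ^ i)⁻¹ =
        ρ ^ (i + k) * a * (ρ ^ (i + k))⁻¹ by rw [pow_add]; group] at h
    intro i j
    rcases le_total i j with h | h
    · obtain ⟨k, rfl⟩ := Nat.exists_eq_add_of_le h; exact this i k
    · obtain ⟨k, rfl⟩ := Nat.exists_eq_add_of_le h; exact (this j k).symm
  have hprod : ∀ n : ℕ, ∃ P : G, (a * ρ) ^ n = P * ρ ^ n ∧ P * P = 1 ∧
      ∀ i, Commute P (ρ ^ i * a * (ρ ^ i)⁻¹) := by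
    intro n
    induction n with
    | zero => exact ⟨1, by simp, one_mul 1, fun i => Commute.one_left _⟩
    | succ n ih =>
      obtain ⟨P, h1, h2, h3⟩ := ih
      refine ⟨P * (ρ ^ n * a * (ρ ^ n)⁻¹), ?_, ?_, fun i => (h3 i).mul_left (hcomm2 n i)⟩
      · rw [pow_succ, h1, pow_succ]; group
      · rw [(h3 n).symm.mul_mul_mul_comm, h2, one_mul,
          show ρ ^ n * a * (ρ ^ n)⁻¹ * (ρ ^ n * a * (ρ ^ n)⁻¹) = ρ ^ n * (a * a) * (ρ ^ n)⁻¹ by group,
          mul_self hD ha, mul_one, mul_inv_cancel]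
  obtain ⟨P, hP1, hP2, -⟩ := hprod (orderOf ρ)
  rw [pow_orderOf_eq_one, mul_one] at hP1
  have hcy : a * e * y = a * ρ := mul_assoc a e y
  have hord : orderOf (a * e * y) ∣ orderOf ρ * 2 := by
    rw [hcy]
    apply orderOf_dvd_of_pow_eq_one
    rw [pow_mul, hP1, pow_two, hP2]
  have hnc : ¬ Commute (a * e) y := by
    intro hcm
    have hce : Commute (a * e) e := hae.mul_left (Commute.refl e)
    have hcρ : Commute (a * e) ρ := hce.mul_right hcm
    have hay : a * y = a * e * ρ := by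
      rw [hρ, mul_assoc a e (e * y), ← mul_assoc e e y, mul_self hD he, one_mul]
    have hρ1 : orderOf ρ ≠ 1 := by
      intro h
      rw [orderOf_eq_one_iff, hρ, mul_eq_one_iff_eq_inv, inv_eq hD hyD] at h
      exact hey h
    have ho : orderOf (a * y) = 2 * orderOf ρ := by
      rw [hay, hcρ.orderOf_mul_eq_mul_orderOf_of_coprime, hD.orderOf_eq _ hc]
      rw [hD.orderOf_eq _ hc]
      exact hodd.coprime_two_left
    rcases hD.pair a ha y hyD with h | h | ⟨h, -⟩
    · have h2 : (a * y) ^ 2 = 1 := by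
        rw [Commute.mul_pow (show Commute a y from h), pow_two, pow_two, mul_self hD ha,
          mul_self hD hyD, one_mul]
      have h3 := orderOf_dvd_of_pow_eq_one h2
      rw [ho] at h3
      have h4 := Nat.le_of_dvd (by norm_num) h3
      omega
    · rw [ho] at h
      exact Nat.not_odd_iff_even.2 (even_two_mul _) h
    · rw [ho] at h
      omega
  rcases hD.pair (a * e) hc y hyD with h | h | ⟨h, -⟩
  · exact absurd h hnc
  · refine (Relation.ReflTransGen.single hy).tail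
      (adj_symm ⟨hc, hyD, fun e' => hnc (by rw [e']), h⟩)
  · rw [h] at hord
    omega

/-- Product partners lie in the same component or are isolated. -/
theorem reach_of_productPartner (hD : IsRootInvolutionSet D) {a e : G} (ha : a ∈ D)
    (hna : ∃ x, OddAdj D a x) (he : e ∈ productPartners D a)
    (hne : ∃ y, OddAdj D e y) : Relation.ReflTransGen (OddAdj D) a e := by
  obtain ⟨⟨heD, hcm, hne'⟩, hea⟩ := he
  obtain ⟨x, hx⟩ := hna
  obtain ⟨y, hy⟩ := hne
  have hea' : a * e ∈ D := by rwa [← hcm]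
  rcases reach_or_reach hD ha hea' (show Commute a e from hcm.symm) hy with h | h
  · exact reach_symm h
  rcases reach_or_reach hD heD hea (show Commute e a from hcm) hx with h' | h'
  · exact h'
  · rw [hcm] at h'
    exact h'.trans (reach_symm h)

theorem commutator_mem_or_reach (hD : IsRootInvolutionSet D) {a b : G} (ha : a ∈ D) (hb : b ∈ D)
    (hna : ∃ x, OddAdj D a x) (hnb : ∃ x, OddAdj D b x) :
    Relation.ReflTransGen (OddAdj D) a b ∨ a * b * a⁻¹ * b⁻¹ = 1 ∨
      IsIsolatedElem (OddAdj D) D (a * b * a⁻¹ * b⁻¹) := by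
  rcases hD.pair a ha b hb with h | h | ⟨h4, hc⟩
  · exact Or.inr (Or.inl (by rw [h]; group))
  · by_cases hab : a = b
    · exact Or.inl (hab ▸ .refl)
    · exact Or.inl (Relation.ReflTransGen.single ⟨ha, hb, hab, h⟩)
  have hcomm : a * b * a⁻¹ * b⁻¹ = (a * b) ^ 2 := by
    rw [inv_eq hD ha, inv_eq hD hb, pow_two, mul_assoc (a * b) a b]
  rw [hcomm]
  by_cases hiso : IsIsolatedElem (OddAdj D) D ((a * b) ^ 2)
  · exact Or.inr (Or.inr hiso)
  refine Or.inl ?_
  have hcn := (not_isolated_iff hc).1 hiso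
  have hside : ∀ a b : G, a ∈ D → b ∈ D → orderOf (a * b) = 4 → (a * b) ^ 2 ∈ D →
      (∃ x, OddAdj D a x) → (∃ x, OddAdj D ((a * b) ^ 2) x) →
      Relation.ReflTransGen (OddAdj D) a ((a * b) ^ 2) := by
    intro a b ha hb h4 hc hna hcn
    have h44 : (a * b) ^ 4 = 1 := h4 ▸ pow_orderOf_eq_one (a * b)
    have e1 : (a * b) ^ 2 * a = a * (a * b) ^ 2 := by
      have : ((a * b) ^ 2)⁻¹ = (b * a) ^ 2 := by
        rw [← inv_pow, mul_inv_rev, inv_eq hD ha, inv_eq hD hb]
      rw [inv_eq hD hc] at this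
      conv_rhs => rw [this]
      simp only [pow_two, mul_assoc]
    have e2 : (a * b) ^ 2 * a = b * a * b⁻¹ := by
      rw [e1, inv_eq hD hb, pow_two,
        show a * (a * b * (a * b)) = a * a * (b * a * b) by simp only [mul_assoc],
        mul_self hD ha, one_mul]
    refine reach_of_productPartner hD ha hna ⟨⟨hc, e1, fun e => ?_⟩, e2 ▸ hD.conj_mem a ha b⟩ hcn
    rw [e, mul_self hD ha] at e2
    exact ne_one hD (hD.conj_mem a ha b) e2.symm
  have h1 := hside a b ha hb h4 hc hna hcn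
  have e : (b * a) ^ 2 = (a * b) ^ 2 := by
    rw [← inv_eq hD hc, ← inv_pow, mul_inv_rev, inv_eq hD ha, inv_eq hD hb]
  have h2 := hside b a hb ha (by rwa [orderOf_swap]) (by rwa [e]) hnb (by rwa [e])
  rw [e] at h2
  exact h1.trans (reach_symm h2)

end Cfsg.Agent.RootInvol
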