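import Cfsg.Agent.Lib.Fusion.RootInvolutionsSimple

/-!
# Members of a root involution set with the same odd partners commute with the same members
-/

set_option autoImplicit false

namespace Cfsg.Agent.RootInvol

open Cfsg

universe u

variable {G : Type u} [Group G] {D : Set G}

/-- Three involutions satisfying the relations of the affine Weyl group of type `C₂` have
trivial product as soon as the product has odd order. -/
theorem eq_one_of_affine {e f y : G} (he : e * e = 1) (hf : f * f = 1) (hy : y * y = 1)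
    (hef : Commute e f) (h1 : (e * y) ^ 4 = 1) (h2 : (f * y) ^ 4 = 1)
    (hodd : Odd (orderOf (e * f * y))) : e * f * y = 1 := by
  have hie : e⁻¹ = e := inv_eq_of_mul_eq_one_right he
  have hif : f⁻¹ = f := inv_eq_of_mul_eq_one_right hf
  have hiy : y⁻¹ = y := inv_eq_of_mul_eq_one_right hy
  have four : ∀ a b : G, a⁻¹ = a → b⁻¹ = b → (a * b) ^ 4 = 1 →
      a * b * a * b = b * a * b * a := fun a b ha hb h => by
    have h' : (a * b * a * b) * (a * b * a * b) = 1 := by
      rw [← h, pow_succ, pow_succ, pow_succ, pow_one]; simp only [mul_assoc]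
    have := inv_eq_of_mul_eq_one_right h'
    simp only [mul_inv_rev, ha, hb] at this
    rw [← this]; simp only [mul_assoc]
  have hA := four e y hie hiy h1
  have hB := four f y hif hiy h2
  have hfef : f * e * f = e := by rw [← hef.eq, mul_assoc, hf, mul_one]
  set w := e * f * y with hw
  set t := f * y * e * (f * y * e) with ht
  have hkey : w * t = t⁻¹ * w := by
    have l : w * t = e * y * f * (y * e * y * e) := by
      calc w * t = e * (f * y * f * y) * (e * f) * y * e := by rw [hw, ht]; group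
        _ = e * y * f * y * (f * f) * e * y * e := by rw [hB, hef.eq]; group
        _ = _ := by rw [hf]; group
    have r : t⁻¹ * w = e * y * f * (e * y * e * y) := by
      calc t⁻¹ * w = e * y * f * e * y * (f * e * f) * y := by
            rw [hw, ht]; simp only [mul_inv_rev, hie, hif, hiy, mul_assoc]
        _ = _ := by rw [hfef]; group
    rw [l, r, hA]
  have hconj : w * t * w⁻¹ = t⁻¹ := by rw [hkey]; group
  have hconj' : w * t⁻¹ * w⁻¹ = t := by
    rw [← conj_inv, hconj, inv_inv]
  have hc2 : Commute (w ^ 2) t := by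
    have : w * (w * t * w⁻¹) * w⁻¹ = t := by rw [hconj, hconj']
    calc w ^ 2 * t = w * (w * t * w⁻¹) * w⁻¹ * (w * w) := by rw [pow_two]; group
      _ = t * w ^ 2 := by rw [this, pow_two]
  obtain ⟨m, hm⟩ := hodd
  have hwp : (w ^ 2) ^ (m + 1) = w := by
    rw [← pow_mul, show 2 * (m + 1) = orderOf w + 1 by omega, pow_succ, pow_orderOf_eq_one,
      one_mul]
  have hc : Commute w t := by
    have := hc2.pow_left (m + 1)
    rwa [hwp] at this
  have htt : t⁻¹ = t := by rw [← hconj, hc.eq, mul_inv_cancel_right]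
  have htw : t = e * w ^ 2 * e := by
    rw [ht, hw, pow_two]
    calc f * y * e * (f * y * e) = (e * e) * (f * y * e * (f * y * e)) := by rw [he, one_mul]
      _ = _ := by group
  have hw4 : w ^ 4 = 1 := by
    have h' : t * t = 1 := by nth_rewrite 1 [← htt]; exact inv_mul_cancel t
    rw [htw, show e * w ^ 2 * e * (e * w ^ 2 * e) = e * w ^ 2 * (e * e) * w ^ 2 * e by group,
      he, mul_one] at h'
    calc w ^ 4 = (e * e) * (w ^ 2 * w ^ 2) * (e * e) := by
          rw [he, one_mul, mul_one, ← pow_add]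
      _ = e * (e * w ^ 2 * w ^ 2 * e) * e := by group
      _ = 1 := by rw [h', mul_one, he]
  have hd : orderOf w ∣ 4 := orderOf_dvd_of_pow_eq_one hw4
  have h5 : orderOf w ≤ 4 := Nat.le_of_dvd (by norm_num) hd
  rw [← orderOf_eq_one_iff]
  rcases Nat.eq_zero_or_pos m with rfl | hm0
  · omega
  · have hm1 : m = 1 := by omega
    rw [hm, hm1] at hd
    norm_num at hd

theorem eq_of_pow_four_odd (hD : IsRootInvolutionSet D) {a b : G} (hb : b ∈ D)
    (h : (a * b) ^ 4 = 1) (hodd : Odd (orderOf (a * b))) : a = b := by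
  have hd : orderOf (a * b) ∣ 2 ^ 2 := orderOf_dvd_of_pow_eq_one h
  obtain ⟨i, -, hi⟩ := (Nat.dvd_prime_pow Nat.prime_two).1 hd
  rw [hi] at hodd
  have h' : i = 0 := by
    by_contra h'
    exact Nat.not_odd_iff_even.2 (Nat.even_pow.2 ⟨even_two, h'⟩) hodd
  rw [h', pow_zero, orderOf_eq_one_iff, mul_eq_one_iff_eq_inv, inv_eq hD hb] at hi
  exact hi

theorem pow_four_or_odd (hD : IsRootInvolutionSet D) {a b : G} (ha : a ∈ D) (hb : b ∈ D) :
    (a * b) ^ 4 = 1 ∨ Odd (orderOf (a * b)) := by
  rcases hD.pair a ha b hb with h | h | ⟨h, -⟩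
  · left
    rw [Commute.mul_pow (show Commute a b from h), pow_mul a 2 2, pow_mul b 2 2, pow_two a,
      pow_two b, mul_self hD ha, mul_self hD hb, one_pow, one_mul]
  · exact Or.inr h
  · left
    rw [← h, pow_orderOf_eq_one]

theorem pow_four_swap {a b : G} (h : (a * b) ^ 4 = 1) : (b * a) ^ 4 = 1 := by
  rw [show b * a = a⁻¹ * (a * b) * a⁻¹⁻¹ by group, conj_pow, h]; group

theorem pow_four_conj {a b k : G} (h : (a * b) ^ 4 = 1) :
    (k * a * k⁻¹ * (k * b * k⁻¹)) ^ 4 = 1 := by
  rw [show k * a * k⁻¹ * (k * b * k⁻¹) = k * (a * b) * k⁻¹ by group, conj_pow, h]; group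

theorem not_mem_odd_of_commute (hD : IsRootInvolutionSet D) {a b : G} (ha : a ∈ D)
    (h : Commute a b) : b ∉ oddPartners D a := fun hb =>
  not_commute_of_adj hD ⟨ha, hb.1, hb.2.1.symm, hb.2.2⟩ h

theorem pow_four_of_not_mem (hD : IsRootInvolutionSet D) {a b : G} (ha : a ∈ D) (hb : b ∈ D)
    (h : b ∉ oddPartners D a) : (a * b) ^ 4 = 1 := by
  rcases pow_four_or_odd hD ha hb with h' | h'
  · exact h'
  · by_cases hab : b = a
    · rw [hab, mul_self hD ha, one_pow]
    · exact absurd ⟨hb, hab, h'⟩ h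

theorem not_mem_of_pow_four (hD : IsRootInvolutionSet D) {a b : G}
    (h : (a * b) ^ 4 = 1) : b ∉ oddPartners D a := fun hb =>
  hb.2.1 (eq_of_pow_four_odd hD hb.1 h hb.2.2).symm

theorem commute_conj_of_pow_four (hD : IsRootInvolutionSet D) {a b : G} (ha : a ∈ D) (hb : b ∈ D)
    (h : (a * b) ^ 4 = 1) : Commute a (b * a * b⁻¹) := by
  refine commute_of_sq hD ha (hD.conj_mem a ha b) ?_
  rw [inv_eq hD hb, ← h, pow_succ, pow_succ, pow_succ, pow_one]
  simp only [mul_assoc]

theorem sq_eq_mul_conj (hD : IsRootInvolutionSet D) (a : G) {b : G} (hb : b ∈ D) :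
    (a * b) ^ 2 = a * (b * a * b⁻¹) := by
  rw [inv_eq hD hb, pow_two]; simp only [mul_assoc]

theorem sq_mem_of_pow_four (hD : IsRootInvolutionSet D) {a b : G} (ha : a ∈ D) (hb : b ∈ D)
    (h : (a * b) ^ 4 = 1) (hnc : ¬ Commute a b) : (a * b) ^ 2 ∈ D := by
  rcases hD.pair a ha b hb with h' | h' | ⟨-, h'⟩
  · exact absurd h' hnc
  · exact absurd (eq_of_pow_four_odd hD hb h h' ▸ Commute.refl a) hnc
  · exact h'

/-- On a line `a, b, a b` no member is in odd relation with exactly one point. -/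
theorem pow_four_line (hD : IsRootInvolutionSet D) {a b t : G} (ha : a ∈ D) (hb : b ∈ D)
    (hab : Commute a b) (hc : a * b ∈ D) (ht : t ∈ D) (h1 : (a * t) ^ 4 = 1)
    (h2 : (b * t) ^ 4 = 1) : (a * b * t) ^ 4 = 1 := by
  rcases pow_four_or_odd hD hc ht with h | h
  · exact h
  · rw [eq_one_of_affine (mul_self hD ha) (mul_self hD hb) (mul_self hD ht) hab h1 h2 h, one_pow]

/-- A member commuting with a point of a line is in no odd relation with the other points. -/
theorem pow_four_of_commute (hD : IsRootInvolutionSet D) {a b t : G} (ha : a ∈ D) (hb : b ∈ D)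
    (hab : Commute a b) (hc : a * b ∈ D) (ht : t ∈ D) (hta : Commute t a) :
    (b * t) ^ 4 = 1 := by
  rcases pow_four_or_odd hD hb ht with h | h
  · exact h
  have hcm : Commute a (b * t) := hab.mul_right hta.symm
  have ho : orderOf (a * b * t) = 2 * orderOf (b * t) := by
    rw [mul_assoc, hcm.orderOf_mul_eq_mul_orderOf_of_coprime, hD.orderOf_eq a ha]
    rw [hD.orderOf_eq a ha]
    exact h.coprime_two_left
  obtain ⟨m, hm⟩ := id h
  suffices orderOf (b * t) = 1 by rw [orderOf_eq_one_iff.1 this, one_pow]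
  rcases hD.pair (a * b) hc t ht with h' | h' | ⟨h', -⟩
  · have h2 : (a * b * t) ^ 2 = 1 := by
      rw [Commute.mul_pow (show Commute (a * b) t from h'), pow_two, pow_two, mul_self hD hc,
        mul_self hD ht, one_mul]
    have := Nat.le_of_dvd (by norm_num) (orderOf_dvd_of_pow_eq_one h2)
    omega
  · exact absurd (ho ▸ h') (Nat.not_odd_iff_even.2 (even_two_mul _))
  · omega

/-! ### Conjugation -/

theorem mem_odd_conj (hD : IsRootInvolutionSet D) (k d t : G) :
    t ∈ oddPartners D (k * d * k⁻¹) ↔ k⁻¹ * t * k ∈ oddPartners D d := by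
  have e1 : t = k * (k⁻¹ * t * k) * k⁻¹ := by group
  have e2 : orderOf (k * d * k⁻¹ * t) = orderOf (d * (k⁻¹ * t * k)) := by
    rw [show k * d * k⁻¹ * t = MulAut.conj k (d * (k⁻¹ * t * k)) by
      rw [MulAut.conj_apply]; group, MulEquiv.orderOf_eq]
  constructor
  · rintro ⟨h1, h2, h3⟩
    refine ⟨by simpa [mul_assoc] using hD.conj_mem t h1 k⁻¹, fun e => h2 ?_, e2 ▸ h3⟩
    rw [e1, e]
  · rintro ⟨h1, h2, h3⟩
    refine ⟨e1 ▸ hD.conj_mem _ h1 k, fun e => h2 ?_, e2 ▸ h3⟩
    rw [e]; group

theorem odd_congr (hD : IsRootInvolutionSet D) (k : G) {a b : G}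
    (h : oddPartners D a = oddPartners D b) :
    oddPartners D (k * a * k⁻¹) = oddPartners D (k * b * k⁻¹) := by
  ext t
  rw [mem_odd_conj hD, mem_odd_conj hD, h]

theorem odd_stab_of_commute (hD : IsRootInvolutionSet D) {k a b : G} (hka : Commute k a)
    (h : oddPartners D a = oddPartners D b) :
    oddPartners D (k * b * k⁻¹) = oddPartners D b := by
  rw [← odd_congr hD k h, hka.eq, mul_inv_cancel_right, h]

variable [Finite G]

theorem odd_eq_of_subset (hD : IsRootInvolutionSet D) (hc : IsConnectedSet (OddAdj D) D)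
    {a b : G} (ha : a ∈ D) (hb : b ∈ D) (h : oddPartners D a ⊆ oddPartners D b) :
    oddPartners D a = oddPartners D b := by
  obtain ⟨k, rfl⟩ := conj_of_connected hD hc ha hb
  refine Set.eq_of_subset_of_ncard_le h (le_of_eq ?_) (Set.toFinite _)
  have : oddPartners D (k * a * k⁻¹) = MulAut.conj k '' oddPartners D a := by
    ext t
    rw [mem_odd_conj hD]
    constructor
    · exact fun ht => ⟨_, ht, by rw [MulAut.conj_apply]; group⟩
    · rintro ⟨s, hs, rfl⟩
      rw [MulAut.conj_apply]
      simpa [mul_assoc] using hs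
  rw [this, Set.ncard_image_of_injective _ (MulAut.conj k).injective]

omit [Finite G] in
/-- A member fixing the odd partners of `p` is in no odd relation with `p`. -/
theorem pow_four_of_stab (hD : IsRootInvolutionSet D) {p x : G} (hp : p ∈ D) (hx : x ∈ D)
    (h : oddPartners D (x * p * x⁻¹) = oddPartners D p) : (p * x) ^ 4 = 1 := by
  have h1 : p ∉ oddPartners D (x * p * x⁻¹) := by
    rw [h]; exact fun hh => hh.2.1 rfl
  have h2 := pow_four_of_not_mem hD (hD.conj_mem p hp x) hp h1
  rcases pow_four_or_odd hD hp hx with h4 | ho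
  · exact h4
  rw [inv_eq hD hx, show x * p * x * p = (x * p) ^ 2 by rw [pow_two]; simp only [mul_assoc],
    ← pow_mul] at h2
  have h3 : orderOf (p * x) ∣ 2 ^ 3 := by
    rw [orderOf_swap]; exact orderOf_dvd_of_pow_eq_one h2
  obtain ⟨i, -, hi⟩ := (Nat.dvd_prime_pow Nat.prime_two).1 h3
  rw [hi] at ho
  have h' : i = 0 := by
    by_contra h'
    exact Nat.not_odd_iff_even.2 (Nat.even_pow.2 ⟨even_two, h'⟩) ho
  rw [h', pow_zero, orderOf_eq_one_iff] at hi
  rw [hi, one_pow]

theorem odd_sq_eq (hD : IsRootInvolutionSet D) (hc : IsConnectedSet (OddAdj D) D)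
    {p x : G} (hp : p ∈ D) (hx : x ∈ D) (h : oddPartners D (x * p * x⁻¹) = oddPartners D p)
    (hnc : ¬ Commute p x) :
    (p * x) ^ 2 ∈ D ∧ oddPartners D ((p * x) ^ 2) = oddPartners D p := by
  have h4 := pow_four_of_stab hD hp hx h
  have hg := sq_mem_of_pow_four hD hp hx h4 hnc
  refine ⟨hg, odd_eq_of_subset hD hc hg hp fun t ht => ?_⟩
  by_contra htp
  have hp' := hD.conj_mem p hp x
  refine not_mem_of_pow_four hD ?_ ht
  rw [sq_eq_mul_conj hD p hx] at hg ⊢
  exact pow_four_line hD hp hp' (commute_conj_of_pow_four hD hp hx h4) hg ht.1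
    (pow_four_of_not_mem hD hp ht.1 htp) (pow_four_of_not_mem hD hp' ht.1 (h ▸ htp))

theorem commute_of_odd_eq (hD : IsRootInvolutionSet D) (hc : IsConnectedSet (OddAdj D) D)
    {p q : G} (hp : p ∈ D) (hq : q ∈ D) (h : oddPartners D p = oddPartners D q) :
    Commute p q := by
  by_contra hnc
  set P : Set G := {r | r ∈ D ∧ oddPartners D r = oddPartners D p} with hP
  have hpP : p ∈ P := ⟨hp, rfl⟩
  have hqP : q ∈ P := ⟨hq, h.symm⟩
  set W := Subgroup.closure P with hW
  have hst : ∀ r ∈ P, oddPartners D (r * p * r⁻¹) = oddPartners D p := fun r hr =>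
    odd_stab_of_commute hD (Commute.refl r) hr.2
  have hstW : ∀ w ∈ W, oddPartners D (w * p * w⁻¹) = oddPartners D p := by
    intro w hw
    induction hw using Subgroup.closure_induction with
    | mem r hr => exact hst r hr
    | one => simp
    | mul u v _ _ hu hv =>
      rw [show u * v * p * (u * v)⁻¹ = u * (v * p * v⁻¹) * u⁻¹ by group, odd_congr hD u hv, hu]
    | inv u _ hu =>
      have := odd_congr hD u⁻¹ hu
      rw [show u⁻¹ * (u * p * u⁻¹) * u⁻¹⁻¹ = p by group] at this
      exact this.symm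
  have hconj : ∀ k : G, oddPartners D (k * p * k⁻¹) = oddPartners D p →
      ∀ r ∈ P, k * r * k⁻¹ ∈ P := fun k hk r hr =>
    ⟨hD.conj_mem r hr.1 k, by rw [odd_congr hD k hr.2, hk]⟩
  have hPW : P ⊆ (W : Set G) := Subgroup.subset_closure
  have hpq : ∀ a ∈ P, ∀ b ∈ P, (a * b) ^ 4 = 1 ∧ (¬ Commute a b → (a * b) ^ 2 ∈ P) := by
    intro a ha b hb
    have hs : oddPartners D (b * a * b⁻¹) = oddPartners D a := by
      rw [odd_congr hD b ha.2, hst b hb, ha.2]
    refine ⟨pow_four_of_stab hD ha.1 hb.1 hs, fun hab => ?_⟩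
    obtain ⟨h1, h2⟩ := odd_sq_eq hD hc ha.1 hb.1 hs hab
    exact ⟨h1, h2.trans ha.2⟩
  -- `W` is a `2`-group: every member of `P` is isolated in `W`
  set P' : Set W := Subtype.val ⁻¹' P with hP'
  have hgen : Subgroup.closure P' = ⊤ := Subgroup.closure_closure_coe_preimage
  have hD' : IsRootInvolutionSet P' := by
    refine ⟨fun d hd => ?_, hgen, fun d hd g => ?_, fun a ha b hb => ?_⟩
    · rw [← Subgroup.orderOf_coe]; exact hD.orderOf_eq _ hd.1
    · exact hconj g (hstW g g.2) d hd
    · by_cases hab : Commute (a : G) (b : G)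
      · exact Or.inl (Subtype.ext hab)
      · rcases hD.pair _ ha.1 _ hb.1 with h' | h' | ⟨h4, -⟩
        · exact absurd h' hab
        · exact Or.inr (Or.inl (by rw [← Subgroup.orderOf_coe]; exact h'))
        · exact Or.inr (Or.inr ⟨by rw [← Subgroup.orderOf_coe]; exact h4,
            (hpq _ ha _ hb).2 hab⟩)
  have hW2 : IsPGroup 2 W := by
    have h1 : pCore 2 W = ⊤ := by
      rw [eq_top_iff, ← hgen, Subgroup.closure_le]
      intro a ha
      refine isolated_mem_pCore hD' ⟨ha, fun b => ⟨fun hab => ?_, fun hab => ?_⟩⟩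
      all_goals
        refine hab.2.2.1 (Subtype.ext (eq_of_pow_four_odd hD ?_ (hpq _ ?_ _ ?_).1 ?_))
      all_goals
        first
          | exact hab.2.1.1
          | exact hab.1
          | exact hab.2.1
          | (have := hab.2.2.2; rwa [← Subgroup.orderOf_coe] at this)
    intro w
    obtain ⟨k, hk⟩ := Fusion.isPGroup_pCore 2 W ⟨w, h1 ▸ Subgroup.mem_top w⟩
    exact ⟨k, congrArg Subtype.val hk⟩
  haveI : Fact (Nat.Prime 2) := ⟨Nat.prime_two⟩
  haveI : Group.IsNilpotent W := hW2.isNilpotent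
  -- every member of `P` is a commutator
  obtain ⟨hg, hgp⟩ : (p * q) ^ 2 ∈ P := (hpq p hpP q hqP).2 hnc
  have hgc : (p * q) ^ 2 ∈ ⁅W, W⁆ := by
    rw [show (p * q) ^ 2 = p * q * p⁻¹ * q⁻¹ by
      rw [inv_eq hD hp, inv_eq hD hq, pow_two]; simp only [mul_assoc]]
    exact Subgroup.commutator_mem_commutator (hPW hpP) (hPW hqP)
  have hWW : W ≤ ⁅W, W⁆ := by
    rw [hW, Subgroup.closure_le]
    intro r hr
    obtain ⟨k, hk⟩ := conj_of_connected hD hc hg hr.1
    have hkp : oddPartners D (k * p * k⁻¹) = oddPartners D p := by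
      rw [← odd_congr hD k hgp, hk, hr.2]
    have hmap : W.map (MulAut.conj k).toMonoidHom ≤ W := by
      rw [hW, MonoidHom.map_closure, Subgroup.closure_le]
      rintro _ ⟨s, hs, rfl⟩
      exact Subgroup.subset_closure (hconj k hkp s hs)
    have := (Subgroup.commutator_mono hmap hmap)
      ((Subgroup.map_commutator W W (MulAut.conj k).toMonoidHom) ▸ Subgroup.mem_map_of_mem _ hgc)
    rw [← hk]
    exact this
  have hperf : commutator W = ⊤ := by
    apply Subgroup.map_injective W.subtype_injective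
    rw [Subgroup.map_subtype_commutator, ← MonoidHom.range_eq_map, Subgroup.range_subtype]
    exact le_antisymm (Subgroup.commutator_le_self W) hWW
  obtain ⟨n, hn⟩ := (inferInstance : Group.IsSolvable W).solvable
  have : ∀ j, derivedSeries W j = ⊤ := fun j => by
    induction j with
    | zero => rfl
    | succ j ih => rw [derivedSeries_succ, ih]; exact hperf
  rw [this] at hn
  have hp1 : (⟨p, hPW hpP⟩ : W) ∈ (⊥ : Subgroup W) := hn ▸ Subgroup.mem_top _
  exact ne_one hD hp (congrArg Subtype.val (Subgroup.mem_bot.1 hp1))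

/-- A member fixing the class of `p`, but moving `p`, commutes with no odd partner of `p`. -/
theorem not_commute_of_stab (hD : IsRootInvolutionSet D) (hc : IsConnectedSet (OddAdj D) D)
    {p x y : G} (hp : p ∈ D) (hx : x ∈ D) (h : oddPartners D (x * p * x⁻¹) = oddPartners D p)
    (hnc : ¬ Commute p x) (hy : y ∈ oddPartners D p) : ¬ Commute y x := by
  intro hyx
  obtain ⟨hg, hgp⟩ := odd_sq_eq hD hc hp hx h hnc
  have h4 := pow_four_of_stab hD hp hx h
  have hgx : Commute x ((p * x) ^ 2) := by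
    have hh : x * ((p * x) ^ 2) * x⁻¹ = ((p * x) ^ 2)⁻¹ := by
      rw [← conj_pow, show x * (p * x) * x⁻¹ = (p * x)⁻¹ by
        rw [mul_inv_rev, inv_eq hD hx, inv_eq hD hp,
          show x * (p * x) * x = x * p * (x * x) by simp only [mul_assoc], mul_self hD hx,
          mul_one], inv_pow]
    rw [inv_eq hD hg] at hh
    exact mul_inv_eq_iff_eq_mul.1 hh
  have hc' : x * (p * x) ^ 2 ∈ D := by
    rw [hgx.eq, show (p * x) ^ 2 * x = p * x * p⁻¹ by
      rw [pow_two, inv_eq hD hp, show p * x * (p * x) * x = p * x * p * (x * x) by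
        simp only [mul_assoc], mul_self hD hx, mul_one]]
    exact hD.conj_mem x hx p
  exact not_mem_of_pow_four hD (pow_four_of_commute hD hx hg hgx hc' hy.1 hyx) (hgp ▸ hy)

end Cfsg.Agent.RootInvol
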