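import Cfsg.Agent.Lib.Fusion.RootInvolutionsClasses

/-!
# Equal odd partners give equal commuting members
-/

set_option autoImplicit false

namespace Cfsg.Agent.RootInvol

open Cfsg

universe u

variable {G : Type u} [Group G] [Finite G] {D : Set G}

theorem commute_of_commute_of_odd_eq (hD : IsRootInvolutionSet D)
    (hc : IsConnectedSet (OddAdj D) D) {d e x : G} (hd : d ∈ D) (he : e ∈ D)
    (hde : oddPartners D d = oddPartners D e) (hx : x ∈ D) (hxd : Commute x d) :
    Commute x e := by
  by_contra hxe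
  have hnc : ¬ Commute e x := fun h => hxe h.symm
  have hstab : oddPartners D (x * e * x⁻¹) = oddPartners D e := odd_stab_of_commute hD hxd hde
  set g := (e * x) ^ 2 with hgdef
  obtain ⟨hg, hge⟩ : g ∈ D ∧ oddPartners D g = oddPartners D e :=
    odd_sq_eq hD hc he hx hstab hnc
  have hxx := mul_self hD hx
  have hgg := mul_self hD hg
  have hN : ∀ z ∈ oddPartners D e, ¬ Commute z x := fun z hz =>
    not_commute_of_stab hD hc he hx hstab hnc hz
  have h4ex := pow_four_of_stab hD he hx hstab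
  have hex : g * x = e * x * e⁻¹ := by
    rw [hgdef, pow_two, inv_eq hD he, show e * x * (e * x) * x = e * x * e * (x * x) by
      simp only [mul_assoc], hxx, mul_one]
  have hgx : Commute g x := by
    refine commute_of_sq hD hg hx ?_
    rw [hex]
    exact mul_self hD (hD.conj_mem x hx e)
  have hgfix : g * x * g⁻¹ = x := by rw [hgx.eq, mul_inv_cancel_right]
  have hge' : Commute e g := commute_of_odd_eq hD hc he hg hge.symm
  obtain ⟨y, hy, hyx⟩ : ∃ y ∈ oddPartners D e, y ∉ oddPartners D x := by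
    by_contra h
    push Not at h
    exact hnc (commute_of_odd_eq hD hc he hx (odd_eq_of_subset hD hc he hx h))
  have hyg : y ∈ oddPartners D g := hge ▸ hy
  have hyD := hy.1
  set ρ := y * g with hρ
  have hodd : Odd (orderOf ρ) := by rw [hρ, orderOf_swap]; exact hyg.2.2
  obtain ⟨m, hm⟩ := id hodd
  have hρg : g * ρ * g⁻¹ = ρ⁻¹ := by
    rw [hρ, inv_eq hD hg, mul_inv_rev, inv_eq hD hg, inv_eq hD hyD,
      show g * (y * g) * g = g * y * (g * g) by simp only [mul_assoc], hgg, mul_one]
  have hgzp : ∀ i : ℤ, g * ρ ^ i * g⁻¹ = ρ ^ (-i) := fun i => by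
    rw [← conj_zpow, hρg, inv_zpow, zpow_neg]
  have hper : ρ ^ ((2 * m + 1 : ℕ) : ℤ) = 1 := by rw [zpow_natCast, ← hm, pow_orderOf_eq_one]
  set z : ℤ → G := fun i => ρ ^ i * g with hzdef
  set X : ℤ → G := fun i => ρ ^ i * x * (ρ ^ i)⁻¹ with hXdef
  have hXD : ∀ i, X i ∈ D := fun i => hD.conj_mem x hx _
  have hX0 : X 0 = x := by simp [X]
  have hz1 : z 1 = y := by
    simp only [z, zpow_one, hρ, mul_assoc, hgg, mul_one]
  have hXconj : ∀ a b : ℤ, ρ ^ a * X b * (ρ ^ a)⁻¹ = X (a + b) := fun a b => by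
    simp only [X, zpow_add]; group
  have hgX : ∀ a : ℤ, g * X a * g⁻¹ = X (-a) := fun a => by
    calc g * X a * g⁻¹ = (g * ρ ^ a * g⁻¹) * (g * x * g⁻¹) * (g * ρ ^ a * g⁻¹)⁻¹ := by
          simp only [X]; group
      _ = _ := by rw [hgfix, hgzp]
  have hzX : ∀ c a : ℤ, z c * X a * (z c)⁻¹ = X (c - a) := fun c a => by
    calc z c * X a * (z c)⁻¹ = ρ ^ c * (g * X a * g⁻¹) * (ρ ^ c)⁻¹ := by simp only [z]; group
      _ = _ := by rw [hgX, hXconj, sub_eq_add_neg]
  have hzD : ∀ i, z i ∈ D := by
    intro i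
    have e1 : z i = ρ ^ ((m + 1 : ℤ) * i) * g * (ρ ^ ((m + 1 : ℤ) * i))⁻¹ := by
      have e2 : g * (ρ ^ ((m + 1 : ℤ) * i))⁻¹ = ρ ^ ((m + 1 : ℤ) * i) * g := by
        rw [← mul_inv_eq_iff_eq_mul, ← zpow_neg, hgzp, neg_neg]
      rw [mul_assoc, e2, ← mul_assoc, ← zpow_add,
        show (m + 1 : ℤ) * i + (m + 1 : ℤ) * i = ((2 * m + 1 : ℕ) : ℤ) * i + i by push_cast; ring,
        zpow_add, zpow_mul, hper, one_zpow, one_mul]
    rw [e1]
    exact hD.conj_mem g hg _
  have hzA : ∀ i : ℤ, ρ ^ i ≠ 1 → z i ∈ oddPartners D e := by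
    intro i hi
    rw [← hge]
    refine ⟨hzD i, fun h => hi (mul_eq_right.1 (show ρ ^ i * g = g from h)), ?_⟩
    have e1 : g * z i = ρ ^ (-i) := by
      rw [← hgzp, inv_eq hD hg]; simp only [z, mul_assoc]
    rw [e1]
    refine hodd.of_dvd_nat (orderOf_dvd_of_pow_eq_one ?_)
    rw [← zpow_natCast, ← zpow_mul, mul_comm, zpow_mul, hm, hper, one_zpow]
  -- `M i`: `z i` is in no odd relation with `x`
  set M : ℤ → Prop := fun i => (z i * x) ^ 4 = 1 with hMdef
  have hM0 : M 0 := by
    show (z 0 * x) ^ 4 = 1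
    simp only [z, zpow_zero, one_mul]
    exact (pow_four_or_odd hD hg hx).elim id fun h => by
      rcases hD.pair g hg x hx with _ | _ | _ <;>
        rw [hgx.mul_pow, pow_mul g 2 2, pow_mul x 2 2, pow_two g, pow_two x, hgg, hxx, one_pow,
          one_mul]
  have hM1 : M 1 := by
    show (z 1 * x) ^ 4 = 1
    rw [hz1]
    exact pow_four_swap (pow_four_of_not_mem hD hx hyD hyx)
  have hMneg : ∀ i, M i → M (-i) := by
    intro i h
    show (z (-i) * x) ^ 4 = 1
    rw [show z (-i) = g * z i * g⁻¹ by simp only [z]; rw [← hgzp]; group, ← hgfix]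
    exact pow_four_conj h
  have hshift : ∀ {c a : ℤ}, M (c - 2 * a) → (z c * X a) ^ 4 = 1 := by
    intro c a h
    have hz : ρ ^ a * z (c - 2 * a) * (ρ ^ a)⁻¹ = z c := by
      simp only [z]
      rw [show ρ ^ a * (ρ ^ (c - 2 * a) * g) * (ρ ^ a)⁻¹ =
        ρ ^ a * ρ ^ (c - 2 * a) * (g * ρ ^ (-a) * g⁻¹) * g by rw [zpow_neg]; group, hgzp,
        ← zpow_add, ← zpow_add]
      ring_nf
    have := pow_four_conj (k := ρ ^ a) (show (z (c - 2 * a) * x) ^ 4 = 1 from h)
    rwa [hz] at this
  have hXzx : ∀ i : ℤ, z i * x * (z i)⁻¹ = X i := fun i => by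
    have := hzX i 0
    rwa [hX0, sub_zero] at this
  have hcomm : ∀ i, M i → Commute x (X i) := fun i h => by
    rw [← hXzx]
    exact commute_conj_of_pow_four hD hx (hzD i) (pow_four_swap h)
  have hline : ∀ i, M i → ρ ^ i ≠ 1 → x * X i ∈ D := fun i h hi => by
    rw [← hXzx, ← sq_eq_mul_conj hD x (hzD i)]
    exact sq_mem_of_pow_four hD hx (hzD i) (pow_four_swap h)
      fun hcm => hN _ (hzA i hi) hcm.symm
  have hρ1 : ρ ^ (1 : ℤ) ≠ 1 := by
    rw [zpow_one, hρ, Ne, mul_eq_one_iff_eq_inv, inv_eq hD hg]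
    exact hyg.2.1
  have hM2 : M 2 := by
    show (z 2 * x) ^ 4 = 1
    have hz2 : y * g * y⁻¹ = z 2 := by
      simp only [z, zpow_two, hρ]
      rw [inv_eq hD hyD, show y * g * (y * g) * g = y * g * y * (g * g) by simp only [mul_assoc],
        hgg, mul_one]
    have hX1 : y * X 1 * y⁻¹ = x := by
      rw [← hz1, hzX, show (1 : ℤ) - 1 = 0 from rfl, hX0]
    set h := x * X 1 with hh
    have hhD : h ∈ D := hline 1 hM1 hρ1
    have hxh : Commute x h := (Commute.refl x).mul_right (hcomm 1 hM1)
    have hX : x * h = X 1 := by rw [hh, ← mul_assoc, hxx, one_mul]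
    have hhg : (h * g) ^ 4 = 1 := by
      rcases pow_four_or_odd hD hhD hg with h' | h'
      · exact h'
      · by_cases hgh : h = g
        · rw [hgh, hgg, one_pow]
        · exfalso
          have : h ∈ oddPartners D g := ⟨hhD, hgh, by rwa [orderOf_swap]⟩
          exact hN h (hge ▸ this) hxh.symm
    have h3 := pow_four_line hD hx hhD hxh (hX ▸ hXD 1) hg
      (pow_four_swap (by
        rw [hgx.mul_pow, pow_mul g 2 2, pow_mul x 2 2, pow_two g, pow_two x, hgg, hxx, one_pow,
          one_mul])) hhg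
    rw [hX] at h3
    have := pow_four_conj (k := y) h3
    rw [hX1, hz2] at this
    exact pow_four_swap this
  have hMnat : ∀ K : ℕ, M K ∧ M (K + 1) := by
    intro K
    induction K with
    | zero => exact ⟨hM0, by simpa using hM1⟩
    | succ K ih =>
      refine ⟨by simpa [add_comm] using ih.2, ?_⟩
      rw [Nat.cast_succ, show ((K : ℤ) + 1 + 1) = K + 2 by ring]
      by_cases h1 : ρ ^ ((K : ℤ) + 1) = 1
      · show (z ((K : ℤ) + 2) * x) ^ 4 = 1
        rw [show z ((K : ℤ) + 2) = z 1 by
          simp only [z]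
          rw [show (K : ℤ) + 2 = (K + 1) + 1 by ring, zpow_add _ ((K : ℤ) + 1), h1, one_mul]]
        exact hM1
      by_cases h0 : ρ ^ (K : ℤ) = 1
      · show (z ((K : ℤ) + 2) * x) ^ 4 = 1
        rw [show z ((K : ℤ) + 2) = z 2 by simp only [z]; rw [zpow_add, h0, one_mul]]
        exact hM2
      set c : ℤ := (K : ℤ) + 2 with hcdef
      have hcK : Commute (X 1) (X ((K : ℤ) + 1)) := by
        have := (hcomm _ ih.1).map (MulAut.conj (ρ ^ (1 : ℤ))).toMonoidHom
        simp only [MulEquiv.coe_toMonoidHom, MulAut.conj_apply] at this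
        rw [hXconj, add_comm 1 (K : ℤ)] at this
        exact this
      have hxK := hcomm _ ih.2
      have hx1 := hcomm _ hM1
      have hbD : x * X 1 ∈ D := hline 1 hM1 hρ1
      have hcD : x * X ((K : ℤ) + 1) ∈ D := hline _ ih.2 h1
      have haD : X 1 * X ((K : ℤ) + 1) ∈ D := by
        have := hD.conj_mem _ (hline _ ih.1 h0) (ρ ^ (1 : ℤ))
        rw [show ρ ^ (1 : ℤ) * (x * X K) * (ρ ^ (1 : ℤ))⁻¹ =
          (ρ ^ (1 : ℤ) * x * (ρ ^ (1 : ℤ))⁻¹) * (ρ ^ (1 : ℤ) * X K * (ρ ^ (1 : ℤ))⁻¹) by group,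
          hXconj, add_comm 1 (K : ℤ)] at this
        exact this
      have hab : X 1 * X ((K : ℤ) + 1) * (x * X 1) = x * X ((K : ℤ) + 1) := by
        calc X 1 * X ((K : ℤ) + 1) * (x * X 1) = X ((K : ℤ) + 1) * (X 1 * x) * X 1 := by
              rw [hcK.eq]; group
          _ = X ((K : ℤ) + 1) * x * (X 1 * X 1) := by rw [← hx1.eq]; group
          _ = _ := by rw [mul_self hD (hXD 1), mul_one, ← hxK.eq]
      have hzc : Commute (z c) (X 1 * X ((K : ℤ) + 1)) := by
        refine mul_inv_eq_iff_eq_mul.1 ?_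
        rw [show z c * (X 1 * X ((K : ℤ) + 1)) * (z c)⁻¹ =
          (z c * X 1 * (z c)⁻¹) * (z c * X ((K : ℤ) + 1) * (z c)⁻¹) by group, hzX, hzX,
          show c - 1 = (K : ℤ) + 1 by omega, show c - ((K : ℤ) + 1) = 1 by omega, hcK.eq]
      have hbz := pow_four_of_commute hD haD hbD
        ((hx1.symm.mul_left hxK.symm).mul_right ((Commute.refl (X 1)).mul_left hcK.symm))
        (hab ▸ hcD) (hzD c) hzc
      have h1z : (X 1 * z c) ^ 4 = 1 := by
        refine pow_four_swap (hshift ?_)
        rw [show c - 2 * 1 = (K : ℤ) by omega]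
        exact ih.1
      have hfin : X 1 * (x * X 1) = x := by
        rw [← mul_assoc, ← hx1.eq, mul_assoc, mul_self hD (hXD 1), mul_one]
      have h3 := pow_four_line hD (hXD 1) hbD (hx1.symm.mul_right (Commute.refl _))
        (hfin.symm ▸ hx) (hzD c) h1z hbz
      rw [hfin] at h3
      exact pow_four_swap h3
  have hM : ∀ i : ℤ, M i := by
    intro i
    rcases Int.eq_nat_or_neg i with ⟨k, rfl | rfl⟩
    · exact (hMnat k).1
    · exact hMneg _ (hMnat k).1
  have hXX : ∀ a b, Commute (X a) (X b) := by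
    intro a b
    have := (hcomm (b - a) (hM _)).map (MulAut.conj (ρ ^ a)).toMonoidHom
    simp only [MulEquiv.coe_toMonoidHom, MulAut.conj_apply] at this
    rw [hXconj, show a + (b - a) = b by ring] at this
    exact this
  have hxX : ∀ a, Commute x (X a) := fun a => hcomm a (hM a)
  have hstep : ∀ i : ℤ, ρ ^ i ≠ 1 → Commute e ((x * X i) * g * (x * X i)⁻¹) ∧
      Commute e ((x * X i) * e * (x * X i)⁻¹) := by
    intro i hi
    set h := x * X i with hh
    have hhD : h ∈ D := hline i (hM i) hi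
    have hhx : Commute h x := (Commute.refl x).mul_left (hxX i).symm
    have hghg : g * h * g⁻¹ = x * X (-i) := by
      rw [hh, show g * (x * X i) * g⁻¹ = (g * x * g⁻¹) * (g * X i * g⁻¹) by group, hgfix, hgX]
    have hhh : Commute (g * h * g⁻¹) h := by
      rw [hghg, hh]
      exact ((Commute.refl x).mul_right (hxX i)).mul_left
        ((hxX (-i)).symm.mul_right (hXX (-i) i))
    have hgr : Commute g (h * g * h⁻¹) := by
      refine commute_of_sq hD hg (hD.conj_mem g hg h) ?_
      have e1 : g * (h * g * h⁻¹) = g * h * g⁻¹ * h := by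
        rw [inv_eq hD hhD, inv_eq hD hg]; simp only [mul_assoc]
      rw [e1, hhh.symm.mul_mul_mul_comm, mul_self hD (hD.conj_mem h hhD g), mul_self hD hhD,
        one_mul]
    have heh : (e * h) ^ 4 = 1 := by
      refine pow_four_of_not_mem hD he hhD fun hmem => hN h hmem ?_
      exact hhx
    have hehc := commute_conj_of_pow_four hD he hhD heh
    refine ⟨?_, hehc⟩
    set r := h * g * h⁻¹ with hr
    by_contra hre
    have hrD : r ∈ D := hD.conj_mem g hg h
    have hrs : oddPartners D (r * e * r⁻¹) = oddPartners D e :=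
      odd_stab_of_commute hD hgr.symm hge
    have hes : oddPartners D (e * r * e⁻¹) = oddPartners D r :=
      odd_stab_of_commute hD hehc (odd_congr hD h hge).symm
    obtain ⟨hs, h1⟩ := odd_sq_eq hD hc he hrD hrs hre
    obtain ⟨-, h2⟩ := odd_sq_eq hD hc hrD he hes fun hh' => hre hh'.symm
    have hsw : (r * e) ^ 2 = (e * r) ^ 2 := by
      rw [← inv_eq hD hs, ← inv_pow, mul_inv_rev, inv_eq hD hrD, inv_eq hD he]
    rw [hsw, h1] at h2
    exact hre (commute_of_odd_eq hD hc he hrD h2)
  -- the averaged conjugate of `x`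
  have hind : ∀ k : ℕ, ∃ v : G, x * v ∈ D ∧ Commute v e ∧ (∀ a, Commute v (X a)) ∧
      Commute v g ∧ ρ * (x * v) * ρ⁻¹ = x * v * X (-k) * X (k + 1) := by
    intro k
    induction k with
    | zero =>
      refine ⟨1, by simpa using hx, Commute.one_left _, fun _ => Commute.one_left _,
        Commute.one_left _, ?_⟩
      rw [mul_one, Nat.cast_zero, neg_zero, hX0, hxx, one_mul, zero_add]
      simp [X]
    | succ k ih =>
      obtain ⟨v, hvD, hve, hvX, hvg, hvρ⟩ := ih
      set j : ℤ := ((k + 1 : ℕ) : ℤ) with hj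
      set U := X j * X (-j) with hU
      have hUX : ∀ a, Commute U (X a) := fun a => (hXX j a).mul_left (hXX (-j) a)
      have hUg : Commute g U := by
        refine mul_inv_eq_iff_eq_mul.1 ?_
        rw [hU, show g * (X j * X (-j)) * g⁻¹ = (g * X j * g⁻¹) * (g * X (-j) * g⁻¹) by group,
          hgX, hgX, neg_neg, (hXX (-j) j).eq]
      have hρU : ρ * U * ρ⁻¹ = X (j + 1) * X (1 - j) := by
        rw [hU, show ρ * (X j * X (-j)) * ρ⁻¹ =
          (ρ ^ (1 : ℤ) * X j * (ρ ^ (1 : ℤ))⁻¹) * (ρ ^ (1 : ℤ) * X (-j) * (ρ ^ (1 : ℤ))⁻¹) by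
            group, hXconj, hXconj, add_comm 1 j, sub_eq_add_neg]
      obtain ⟨hUD, hUe⟩ : x * (v * U) ∈ D ∧ Commute U e := by
        by_cases hρj : ρ ^ j = 1
        · have h1 : X j = x := by simp [X, hρj]
          have h2 : X (-j) = x := by simp [X, zpow_neg, hρj]
          rw [hU, h1, h2, hxx, mul_one]
          exact ⟨hvD, Commute.one_left _⟩
        obtain ⟨her, hee⟩ := hstep j hρj
        set h := x * X j with hh
        have hhD : h ∈ D := hline j (hM j) hρj
        have hhx : Commute h x := (Commute.refl x).mul_left (hxX j).symm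
        have hvx : Commute v x := hX0 ▸ hvX 0
        have hvh : Commute v h := hvx.mul_right (hvX j)
        set r := h * g * h⁻¹ with hr
        have hghg : g * h * g⁻¹ = x * X (-j) := by
          rw [hh, show g * (x * X j) * g⁻¹ = (g * x * g⁻¹) * (g * X j * g⁻¹) by group, hgfix, hgX]
        have hrg : r * g = U := by
          rw [hr, inv_eq hD hhD, show h * g * h * g = h * (g * h * g⁻¹) by
            rw [inv_eq hD hg]; simp only [mul_assoc], hghg, hh, hU]
          rw [(hxX j).symm.mul_mul_mul_comm, hxx, one_mul]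
        refine ⟨?_, by rw [← hrg]; exact her.symm.mul_left hge'.symm⟩
        set w := e * (h * e * h⁻¹) with hw
        have hwv : w * v * w⁻¹ = v := by
          have : Commute v w := hve.mul_right ((hvh.mul_right hve).mul_right hvh.inv_right)
          rw [← this.eq, mul_inv_cancel_right]
        have hwx : w * x * w⁻¹ = x * (r * g) := by
          have he1 : h * e * h⁻¹ * x * (h * e * h⁻¹)⁻¹ = r * x := by
            calc h * e * h⁻¹ * x * (h * e * h⁻¹)⁻¹ = h * e * (h⁻¹ * x * h) * e⁻¹ * h⁻¹ := by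
                  group
              _ = h * (e * x * e⁻¹) * h⁻¹ := by
                  rw [show h⁻¹ * x * h = x by rw [mul_assoc, hhx.symm.eq, inv_mul_cancel_left]]
                  group
              _ = r * (h * x * h⁻¹) := by rw [← hex, hr]; group
              _ = _ := by rw [hhx.eq, mul_inv_cancel_right]
          calc w * x * w⁻¹ = e * (h * e * h⁻¹ * x * (h * e * h⁻¹)⁻¹) * e⁻¹ := by
                rw [hw]; group
            _ = (e * r * e⁻¹) * (e * x * e⁻¹) := by rw [he1]; group
            _ = r * (g * x) := by rw [her.eq, mul_inv_cancel_right, hex]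
            _ = _ := by
              rw [← mul_assoc, hrg]
              exact (hX0 ▸ hUX 0).eq
        have := hD.conj_mem _ hvD w
        rw [show w * (x * v) * w⁻¹ = (w * x * w⁻¹) * (w * v * w⁻¹) by group, hwv, hwx, hrg,
          mul_assoc, ← ((hvX j).mul_right (hvX (-j))).eq] at this
        exact this
      refine ⟨v * U, hUD, hve.mul_left hUe, fun a => (hvX a).mul_left (hUX a),
        hvg.mul_left hUg.symm, ?_⟩
      have e1 : (k : ℤ) + 1 = j := by rw [hj]; push_cast; ring
      have e2 : -(k : ℤ) = 1 - j := by omega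
      rw [show ρ * (x * (v * U)) * ρ⁻¹ = (ρ * (x * v) * ρ⁻¹) * (ρ * U * ρ⁻¹) by group, hvρ, hρU,
        e1, e2]
      calc x * v * X (1 - j) * X j * (X (j + 1) * X (1 - j))
          = x * v * X (1 - j) * X j * (X (1 - j) * X (j + 1)) := by rw [(hXX (j + 1) (1 - j)).eq]
        _ = x * v * X (1 - j) * (X j * X (1 - j)) * X (j + 1) := by group
        _ = x * v * (X (1 - j) * X (1 - j)) * X j * X (j + 1) := by
            rw [(hXX j (1 - j)).eq]; group
        _ = x * v * X j * (X (-j) * X (-j)) * X (j + 1) := by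
            rw [mul_self hD (hXD _), mul_self hD (hXD _)]; group
        _ = _ := by rw [hU]; group
  obtain ⟨v, hC, hve, -, hvg, hvρ⟩ := hind m
  have hXm : X (-(m : ℤ)) = X (m + 1) := by
    simp only [X]
    rw [show (m : ℤ) + 1 = -(m : ℤ) + ((2 * m + 1 : ℕ) : ℤ) by push_cast; ring, zpow_add, hper,
      mul_one]
  rw [hXm, mul_assoc _ (X _), mul_self hD (hXD _), mul_one] at hvρ
  have hCg : Commute g (x * v) := hgx.mul_right hvg.symm
  have hCy : Commute (x * v) y := by
    rw [← hz1]
    have : Commute ρ (x * v) := mul_inv_eq_iff_eq_mul.1 hvρ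
    simp only [z, zpow_one]
    exact (this.mul_left hCg).symm
  have hCe : ¬ Commute e (x * v) := fun h => hnc (by
    have := h.mul_right hve.symm.inv_right
    rwa [mul_inv_cancel_right] at this)
  exact not_commute_of_stab hD hc he hC (odd_stab_of_commute hD hCg.symm hge) hCe hy hCy.symm

/-- Members in the same class commute with the same members and have the same odd partners. -/
theorem commutingMembers_eq_iff (hD : IsRootInvolutionSet D) (hc : IsConnectedSet (OddAdj D) D)
    {d e : G} (hd : d ∈ D) (he : e ∈ D) :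
    commutingMembers D d = commutingMembers D e ↔ oddPartners D d = oddPartners D e := by
  constructor
  · intro h
    have hmem : ∀ {a b : G}, a ∈ D → b ∈ D → commutingMembers D a = commutingMembers D b →
        ∀ x ∈ oddPartners D a, x ∈ oddPartners D b := by
      intro a b ha hb h x hx
      by_contra hxb
      have h4 := pow_four_of_not_mem hD hb hx.1 hxb
      have h1 : x * b * x⁻¹ ∈ commutingMembers D a := by
        rw [h]
        exact ⟨hD.conj_mem b hb x, (commute_conj_of_pow_four hD hb hx.1 h4).symm.eq⟩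
      have h2 : x * a * x⁻¹ ∈ commutingMembers D a := by
        rw [h]
        refine ⟨hD.conj_mem a ha x, ?_⟩
        have h' : Commute (x * (x * b * x⁻¹) * x⁻¹) (x * a * x⁻¹) :=
          (show Commute (x * b * x⁻¹) a from h1.2).map (MulAut.conj x).toMonoidHom
        rw [show x * (x * b * x⁻¹) * x⁻¹ = x * x * b * (x * x)⁻¹ by group, mul_self hD hx.1,
          one_mul, inv_one, mul_one] at h'
        exact h'.symm.eq
      have h3 : Commute a (x * a * x⁻¹) := (show Commute (x * a * x⁻¹) a from h2.2).symm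
      refine hx.2.1 (eq_of_pow_four_odd hD hx.1 ?_ hx.2.2).symm
      have h5 : a * (x * a * x⁻¹) = (a * x) ^ 2 := (sq_eq_mul_conj hD a hx.1).symm
      calc (a * x) ^ 4 = ((a * x) ^ 2) ^ 2 := by rw [← pow_mul]
        _ = 1 := by
          rw [← h5, h3.mul_pow, pow_two, pow_two, mul_self hD ha,
            mul_self hD (hD.conj_mem a ha x), one_mul]
    exact Set.Subset.antisymm (hmem hd he h) (hmem he hd h.symm)
  · intro h
    ext x
    exact ⟨fun hx => ⟨hx.1, (commute_of_commute_of_odd_eq hD hc hd he h hx.1 hx.2).eq⟩,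
      fun hx => ⟨hx.1, (commute_of_commute_of_odd_eq hD hc he hd h.symm hx.1 hx.2).eq⟩⟩

end Cfsg.Agent.RootInvol

namespace Cfsg.Agent.RootInvol

open Cfsg

universe u

variable {G : Type u} [Group G] {D : Set G}

theorem commuting_union_four (hD : IsRootInvolutionSet D) {d : G} (hd : d ∈ D) :
    commutingMembers D d ∪ fourPartners D d = D \ oddPartners D d := by
  ext x
  constructor
  · rintro (⟨hx, h⟩ | ⟨hx, h⟩)
    · exact ⟨hx, not_mem_odd_of_commute hD hd (show Commute x d from h).symm⟩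
    · refine ⟨hx, fun hA => ?_⟩
      have := hA.2.2
      rw [h] at this
      exact absurd this (by decide)
  · rintro ⟨hx, hA⟩
    rcases hD.pair d hd x hx with h | h | ⟨h, -⟩
    · exact Or.inl ⟨hx, h.symm⟩
    · by_cases hxd : x = d
      · exact Or.inl ⟨hx, by rw [hxd]⟩
      · exact absurd ⟨hx, hxd, h⟩ hA
    · exact Or.inr ⟨hx, h⟩

theorem union_eq_iff (hD : IsRootInvolutionSet D) {d e : G} (hd : d ∈ D) (he : e ∈ D) :
    commutingMembers D d ∪ fourPartners D d = commutingMembers D e ∪ fourPartners D e ↔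
      oddPartners D d = oddPartners D e := by
  rw [commuting_union_four hD hd, commuting_union_four hD he]
  refine ⟨fun h => ?_, fun h => by rw [h]⟩
  rw [← Set.sdiff_sdiff_cancel_left (fun x hx => hx.1 : oddPartners D d ⊆ D),
    ← Set.sdiff_sdiff_cancel_left (fun x hx => hx.1 : oddPartners D e ⊆ D), h]

end Cfsg.Agent.RootInvol
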