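import Cfsg.Agent.Lib.Fusion.RootInvolutions
import Cfsg.Agent.Lib.Fusion.Cores
import Cfsg.Prelude.Def_QuasithinSetup

/-!
# Connected sets of root involutions with a commuting product in the set
-/

set_option autoImplicit false

namespace Cfsg.Agent.RootInvol

open Cfsg

universe u

variable {G : Type u} [Group G] {D : Set G}

theorem exists_conj_of_adj (hD : IsRootInvolutionSet D) {a b : G} (h : OddAdj D a b) :
    ∃ k : G, k * b * k⁻¹ = a := by
  obtain ⟨ha, hb, -, ⟨m, hm⟩⟩ := h
  refine ⟨(a * b) ^ (m + 1), ?_⟩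
  have hb' : b * (a * b) * b⁻¹ = (a * b)⁻¹ := by
    rw [mul_inv_rev, inv_eq hD hb, inv_eq hD ha, mul_assoc b (a * b) b, mul_assoc a b b,
      mul_self hD hb, mul_one]
  have h1 : b * (a * b) ^ (m + 1) * b⁻¹ = ((a * b) ^ (m + 1))⁻¹ := by
    rw [← conj_pow, hb', inv_pow]
  rw [← h1, show (a * b) ^ (m + 1) * b * (b * (a * b) ^ (m + 1) * b⁻¹) =
    (a * b) ^ (m + 1) * (b * b) * (a * b) ^ (m + 1) * b⁻¹ by group, mul_self hD hb, mul_one,
    ← pow_add, show m + 1 + (m + 1) = orderOf (a * b) + 1 by omega, pow_succ, pow_orderOf_eq_one,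
    one_mul, mul_inv_cancel_right]

theorem conj_of_connected (hD : IsRootInvolutionSet D) (hc : IsConnectedSet (OddAdj D) D)
    {a b : G} (ha : a ∈ D) (hb : b ∈ D) : ∃ g : G, g * a * g⁻¹ = b := by
  have h := hc a ha b hb
  induction h with
  | refl => exact ⟨1, by simp⟩
  | @tail x y _ hxy ih =>
    obtain ⟨g, hg⟩ := ih hxy.1
    obtain ⟨k, hk⟩ := exists_conj_of_adj hD (adj_symm hxy)
    exact ⟨k * g, by rw [← hk, ← hg]; group⟩

/-- The commutators of a normal subgroup avoiding `D` with a member of `D` lie in `O₂`. -/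
theorem commutator_mem_pCore [Finite G] (hD : IsRootInvolutionSet D)
    {K : Subgroup G} [hK : K.Normal] (hdis : ∀ d ∈ D, d ∉ K)
    {a b : G} (ha : a ∈ D) (hb : b ∈ D) (hab : Commute a b) (hc : a * b ∈ D)
    {k : G} (hk : k ∈ K) : k * a * k⁻¹ * a⁻¹ ∈ pCore 2 G := by
  have hkey : ∀ b : G, b ∈ D → b * a ∈ D → ∀ l ∈ K, Commute b (l * a * l⁻¹) := by
    intro b hb hba l hl
    set z := l * a * l⁻¹ with hz
    have hzD : z ∈ D := hD.conj_mem a ha l
    have hmk : ∀ x, (QuotientGroup.mk' K) x = 1 ↔ x ∈ K := fun x => by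
      rw [← MonoidHom.mem_ker, QuotientGroup.ker_mk']
    have hzm : QuotientGroup.mk' K z = QuotientGroup.mk' K a := by
      rw [hz, map_mul, map_mul, (hmk l).2 hl, map_inv, (hmk l).2 hl]; simp
    have hbz : QuotientGroup.mk' K (b * z) = QuotientGroup.mk' K (b * a) := by
      rw [map_mul, hzm, map_mul]
    rcases hD.pair b hb z hzD with h | h | ⟨-, h⟩
    · exact h
    · obtain ⟨m, hm⟩ := h
      exfalso
      refine hdis _ hba ((hmk _).1 ?_)
      have h1 : QuotientGroup.mk' K ((b * z) ^ (2 * m + 1)) = 1 := by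
        rw [← hm, pow_orderOf_eq_one, map_one]
      rw [map_pow, hbz, ← map_pow, pow_succ, pow_mul, pow_two, mul_self hD hba, one_pow,
        one_mul] at h1
      exact h1
    · exfalso
      refine hdis _ h ((hmk _).1 ?_)
      rw [map_pow, hbz, ← map_pow, pow_two, mul_self hD hba, map_one]
  have hcomm : ∀ l ∈ K, Commute a (l * a * l⁻¹) := by
    intro l hl
    have hba : b * a ∈ D := by rwa [← hab.eq]
    have h1 := hkey b hb hba l hl
    have h2 := hkey (a * b) hc (by
      rw [hab.eq, mul_assoc, mul_self hD ha, mul_one]; exact hb) l hl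
    have h3 := h2.mul_left h1
    rwa [mul_assoc, mul_self hD hb, mul_one] at h3
  set T : Set G := {x | ∃ l ∈ K, x = l * a * l⁻¹} with hT
  have hTc : ∀ x ∈ T, ∀ y ∈ T, Commute x y := by
    rintro _ ⟨l, hl, rfl⟩ _ ⟨l', hl', rfl⟩
    have h := Commute.map (hcomm (l⁻¹ * l') (mul_mem (inv_mem hl) hl')) (MulAut.conj l).toMonoidHom
    simp only [MulEquiv.coe_toMonoidHom, MulAut.conj_apply] at h
    rwa [show l * (l⁻¹ * l' * a * (l⁻¹ * l')⁻¹) * l⁻¹ = l' * a * l'⁻¹ by group] at h
  set A := Subgroup.closure T with hA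
  have hAC : A ≤ Subgroup.centralizer T := by
    rw [hA, Subgroup.closure_le]
    exact fun x hx => Subgroup.mem_centralizer_iff.2 fun y hy => (hTc y hy x hx).eq
  have hA2 : ∀ x ∈ A, x * x = 1 := by
    intro x hx
    induction hx using Subgroup.closure_induction with
    | mem x hx =>
      obtain ⟨l, -, rfl⟩ := hx
      exact mul_self hD (hD.conj_mem a ha l)
    | one => exact one_mul 1
    | mul x y hx hy h1 h2 =>
      have hxy : Commute y x := by
        have : A ≤ Subgroup.centralizer {x} := by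
          rw [hA, Subgroup.closure_le]
          intro t ht
          exact Subgroup.mem_centralizer_singleton_iff.2
            (Subgroup.mem_centralizer_iff.1 (hAC hx) t ht)
        exact Subgroup.mem_centralizer_singleton_iff.1 (this hy)
      rw [hxy.mul_mul_mul_comm, h1, h2, one_mul]
    | inv x _ h1 => rw [← mul_inv_rev, h1, inv_one]
  have hAconj : ∀ g ∈ K, ∀ x ∈ A, g * x * g⁻¹ ∈ A := by
    intro g hg x hx
    induction hx using Subgroup.closure_induction with
    | mem x hx =>
      obtain ⟨l, hl, rfl⟩ := hx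
      exact Subgroup.subset_closure ⟨g * l, mul_mem hg hl, by group⟩
    | one => simp [A]
    | mul x y _ _ h1 h2 =>
      rw [show g * (x * y) * g⁻¹ = g * x * g⁻¹ * (g * y * g⁻¹) by group]
      exact mul_mem h1 h2
    | inv x _ h1 =>
      rw [show g * x⁻¹ * g⁻¹ = (g * x * g⁻¹)⁻¹ by group]
      exact inv_mem h1
  haveI : (A.subgroupOf K).Normal := ⟨fun x hx g => hAconj g g.2 x hx⟩
  have hp : IsPGroup 2 (A.subgroupOf K) := fun x =>
    ⟨1, Subtype.ext (Subtype.ext (by
      rw [pow_one, pow_two]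
      exact hA2 _ x.2))⟩
  have hle := Fusion.le_pCore (N := A.subgroupOf K) hp
  haveI := Fusion.pCore_characteristic (p := 2) (G := K)
  have hle2 : (pCore 2 K).map K.subtype ≤ pCore 2 G :=
    Fusion.le_pCore ((Fusion.isPGroup_pCore 2 K).map K.subtype)
  have hmemK : k * a * k⁻¹ * a⁻¹ ∈ K := by
    rw [show k * a * k⁻¹ * a⁻¹ = k * (a * k⁻¹ * a⁻¹) by group]
    exact mul_mem hk (hK.conj_mem _ (inv_mem hk) a)
  have hmemA : k * a * k⁻¹ * a⁻¹ ∈ A :=
    mul_mem (Subgroup.subset_closure ⟨k, hk, rfl⟩)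
      (inv_mem (Subgroup.subset_closure ⟨1, one_mem K, by simp⟩))
  exact hle2 ⟨⟨_, hmemK⟩, hle hmemA, rfl⟩

theorem normal_top_or_le [Finite G] (hD : IsRootInvolutionSet D)
    (hc : IsConnectedSet (OddAdj D) D) (hDD : (D ∩ commutingProducts D).Nonempty)
    (K : Subgroup G) [hK : K.Normal] : K = ⊤ ∨ K ≤ twoZCore G := by
  by_cases hdis : ∀ d ∈ D, d ∉ K
  · refine Or.inr ?_
    obtain ⟨c, hcD, a, ha, b, hb, hab, -, rfl⟩ := hDD
    intro k hk
    rw [twoZCore, Subgroup.mem_comap, Subgroup.mem_center_iff]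
    intro q
    obtain ⟨g, rfl⟩ := QuotientGroup.mk'_surjective (pCore 2 G) q
    have hg : g ∈ Subgroup.closure D := by rw [hD.generates]; trivial
    induction hg using Subgroup.closure_induction with
    | mem d hd =>
      obtain ⟨g, rfl⟩ := conj_of_connected hD hc ha hd
      have h := commutator_mem_pCore hD hdis ha hb hab hcD (hK.conj_mem k hk g⁻¹)
      have h2 := (inferInstance : (pCore 2 G).Normal).conj_mem _ h g
      rw [show g * (g⁻¹ * k * g⁻¹⁻¹ * a * (g⁻¹ * k * g⁻¹⁻¹)⁻¹ * a⁻¹) * g⁻¹ =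
        k * (g * a * g⁻¹) * k⁻¹ * (g * a * g⁻¹)⁻¹ by group, ← QuotientGroup.eq_one_iff] at h2
      simp only [QuotientGroup.mk'_apply]
      simp only [QuotientGroup.mk_mul, QuotientGroup.mk_inv, mul_inv_eq_one] at h2
      rw [mul_inv_eq_iff_eq_mul] at h2
      exact h2.symm
    | one => simp
    | mul x y _ _ h1 h2 => rw [map_mul, mul_assoc, h2, ← mul_assoc, h1, mul_assoc]
    | inv x _ h1 =>
      rw [map_inv]
      exact ((Commute.inv_left (show Commute (QuotientGroup.mk' _ x) _ from h1))).eq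
  · push Not at hdis
    obtain ⟨d, hd, hdK⟩ := hdis
    refine Or.inl (eq_top_iff.2 ?_)
    rw [← hD.generates, Subgroup.closure_le]
    intro e he
    obtain ⟨g, rfl⟩ := conj_of_connected hD hc hd he
    exact hK.conj_mem d hdK g

theorem exists_adj [Finite G] (hc : IsConnectedSet (OddAdj D) D) {a b : G} (ha : a ∈ D)
    (hb : b ∈ D) (hne : b ≠ a) : ∃ x, OddAdj D a x :=
  exists_adj_of_component ⟨b, ⟨hb, hc a ha b hb⟩, hne⟩

theorem solvableRadical_eq [Finite G] (hD : IsRootInvolutionSet D)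
    (hc : IsConnectedSet (OddAdj D) D) (hDD : (D ∩ commutingProducts D).Nonempty) :
    solvableRadical G = twoZCore G ∧ IsSimpleGroup (G ⧸ twoZCore G) := by
  haveI : Fact (Nat.Prime 2) := ⟨Nat.prime_two⟩
  obtain ⟨c, hcD, a, ha, b, hb, hab, hab1, rfl⟩ := id hDD
  have hne : b ≠ a := fun h => hab1 (by rw [h, mul_self hD ha])
  obtain ⟨x, hx⟩ := exists_adj hc ha hb hne
  have hxQ : a * x ∉ pCore 2 G := by
    intro h
    obtain ⟨k, hk⟩ := Fusion.isPGroup_pCore 2 G ⟨_, h⟩
    have hk' : (a * x) ^ (2 ^ k) = 1 := congrArg Subtype.val hk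
    obtain ⟨i, -, hi⟩ := (Nat.dvd_prime_pow Nat.prime_two).1 (orderOf_dvd_of_pow_eq_one hk')
    have hodd := hx.2.2.2
    rw [hi] at hodd
    rcases Nat.eq_zero_or_pos i with rfl | hi0
    · rw [pow_zero, orderOf_eq_one_iff, mul_eq_one_iff_eq_inv, inv_eq hD hx.2.1] at hi
      exact hx.2.2.1 hi
    · exact Nat.not_odd_iff_even.2 (Nat.even_pow.2 ⟨even_two, by omega⟩) hodd
  have hcomm_not : ¬ commutator G ≤ pCore 2 G := by
    intro h
    have h1 : a * x * a⁻¹ * x⁻¹ ∈ pCore 2 G :=
      h (Subgroup.commutator_mem_commutator (Subgroup.mem_top a) (Subgroup.mem_top x))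
    rw [inv_eq hD ha, inv_eq hD hx.2.1, mul_assoc (a * x) a x, ← pow_two] at h1
    obtain ⟨m, hm⟩ := hx.2.2.2
    refine hxQ ?_
    have h2 := pow_mem h1 (m + 1)
    rwa [← pow_mul, show 2 * (m + 1) = orderOf (a * x) + 1 by omega, pow_succ, pow_orderOf_eq_one,
      one_mul] at h2
  set Q := pCore 2 G
  haveI hQs : Group.IsNilpotent Q := (Fusion.isPGroup_pCore 2 G).isNilpotent
  have hne_top : twoZCore G ≠ ⊤ := by
    intro h
    refine hcomm_not ?_
    rw [_root_.commutator_def, Subgroup.commutator_le]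
    intro y _ z _
    rw [commutatorElement_def, ← QuotientGroup.eq_one_iff]
    have hy : QuotientGroup.mk' Q z ∈ Subgroup.center (G ⧸ Q) :=
      Subgroup.mem_comap.1 (show z ∈ twoZCore G by rw [h]; trivial)
    have h2 : Commute (y : G ⧸ Q) (z : G ⧸ Q) := Subgroup.mem_center_iff.1 hy _
    simp only [QuotientGroup.mk_mul, QuotientGroup.mk_inv]
    rw [h2.eq]
    group
  have hsolvZ : Group.IsSolvable (twoZCore G) := by
    let f : twoZCore G →* Subgroup.center (G ⧸ Q) :=
      ((QuotientGroup.mk' Q).comp (twoZCore G).subtype).codRestrict _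
        (fun z => Subgroup.mem_comap.1 z.2)
    have hker : ∀ z : f.ker, ((z : twoZCore G) : G) ∈ Q := fun z => by
      have := congrArg Subtype.val z.2
      exact (QuotientGroup.eq_one_iff _).1 this
    haveI : Group.IsSolvable f.ker :=
      solvable_of_solvable_injective (f := (((twoZCore G).subtype.comp f.ker.subtype).codRestrict Q
        hker)) (fun u v h => Subtype.ext (Subtype.ext
          (show ((u : twoZCore G) : G) = (v : twoZCore G) from congrArg (fun w : Q => (w : G)) h)))
    haveI : Group.IsSolvable (Subgroup.center (G ⧸ Q)) :=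
      isSolvable_of_comm fun u v => Subtype.ext (Subgroup.mem_center_iff.1 v.2 u)
    exact solvable_of_ker_le_range f.ker.subtype f (by rw [Subgroup.range_subtype])
  have htopns : ¬ Group.IsSolvable G := by
    intro hs
    haveI := hs
    rcases normal_top_or_le hD hc hDD (commutator G) with h | h
    · obtain ⟨n, hn⟩ := hs.solvable
      have : ∀ j, derivedSeries G j = ⊤ := fun j => by
        induction j with
        | zero => rfl
        | succ j ih => rw [derivedSeries_succ, ih]; exact h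
      rw [this] at hn
      exact hxQ (by
        have : a * x ∈ (⊥ : Subgroup G) := hn ▸ Subgroup.mem_top _
        rw [Subgroup.mem_bot.1 this]
        exact one_mem _)
    · refine hxQ ?_
      have h1 : a * x * a⁻¹ * x⁻¹ ∈ twoZCore G :=
        h (Subgroup.commutator_mem_commutator (Subgroup.mem_top a) (Subgroup.mem_top x))
      rw [inv_eq hD ha, inv_eq hD hx.2.1, mul_assoc (a * x) a x, ← pow_two] at h1
      obtain ⟨m, hm⟩ := hx.2.2.2
      have h2 := pow_mem h1 (m + 1)
      rw [← pow_mul, show 2 * (m + 1) = orderOf (a * x) + 1 by omega, pow_succ, pow_orderOf_eq_one,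
        one_mul] at h2
      have h3 : Commute ((a : G) : G ⧸ Q) ((a * x : G) : G ⧸ Q) :=
        Subgroup.mem_center_iff.1 (Subgroup.mem_comap.1 h2) _
      have h4 : a * (a * x) * a⁻¹ * (a * x)⁻¹ ∈ Q := by
        rw [← QuotientGroup.eq_one_iff]
        simp only [QuotientGroup.mk_mul, QuotientGroup.mk_inv] at h3 ⊢
        rw [h3.eq]; group
      have hinv : a * (a * x) * a⁻¹ = (a * x)⁻¹ := by
        rw [← mul_assoc, mul_self hD ha, one_mul, mul_inv_rev, inv_eq hD hx.2.1]
      rw [hinv, ← mul_inv_rev, inv_mem_iff, ← pow_two] at h4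
      have h5 := pow_mem h4 (m + 1)
      rwa [← pow_mul, show 2 * (m + 1) = orderOf (a * x) + 1 by omega, pow_succ, pow_orderOf_eq_one,
        one_mul] at h5
  refine ⟨le_antisymm (sSup_le ?_) (le_sSup ⟨inferInstance, hsolvZ⟩), ?_⟩
  · rintro N ⟨hN, hNs⟩
    rcases normal_top_or_le hD hc hDD N with h | h
    · subst h
      exact absurd (solvable_of_surjective (f := (⊤ : Subgroup G).subtype)
        (fun g => ⟨⟨g, trivial⟩, rfl⟩)) htopns
    · exact h
  · haveI : Nontrivial (G ⧸ twoZCore G) := QuotientGroup.nontrivial_iff.2 hne_top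
    refine ⟨fun N hN => ?_⟩
    have e := Subgroup.map_comap_eq_self_of_surjective (QuotientGroup.mk'_surjective (twoZCore G)) N
    haveI := hN.comap (QuotientGroup.mk' (twoZCore G))
    rcases normal_top_or_le hD hc hDD (N.comap (QuotientGroup.mk' (twoZCore G))) with h | h
    · right
      rw [← e, h, Subgroup.map_top_of_surjective _ (QuotientGroup.mk'_surjective _)]
    · left
      rw [← e, eq_bot_iff, Subgroup.map_le_iff_le_comap, MonoidHom.comap_bot, QuotientGroup.ker_mk']
      exact h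

end Cfsg.Agent.RootInvol
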