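import Cfsg.Agent.Lib.Fusion.RootInvolutionsSameClass

/-!
# A line of root involutions with different classes sees a product of order three
-/

set_option autoImplicit false

namespace Cfsg.Agent.RootInvol

open Cfsg

universe u

variable {G : Type u} [Group G] {D : Set G}

theorem false_of_two_mul (hD : IsRootInvolutionSet D) {s t v w : G} (hs : s ∈ D) (ht : t ∈ D)
    (h : s * t = v * w) (hvw : Commute v w) (hv : orderOf v = 2) (hw : Odd (orderOf w))
    (hw1 : w ≠ 1) : False := by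
  have h1 : orderOf w ≠ 1 := fun e => hw1 (orderOf_eq_one_iff.1 e)
  have ho : orderOf (s * t) = 2 * orderOf w := by
    rw [h, hvw.orderOf_mul_eq_mul_orderOf_of_coprime, hv]
    rw [hv]
    exact hw.coprime_two_left
  obtain ⟨m, hm⟩ := hw
  rcases hD.pair s hs t ht with h' | h' | ⟨h', -⟩
  · have h2 : (s * t) ^ 2 = 1 := by
      rw [Commute.mul_pow (show Commute s t from h'), pow_two, pow_two, mul_self hD hs,
        mul_self hD ht, one_mul]
    have h3 := Nat.le_of_dvd (by norm_num) (orderOf_dvd_of_pow_eq_one h2)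
    omega
  · exact absurd (ho ▸ h') (Nat.not_odd_iff_even.2 (even_two_mul _))
  · omega

theorem sq_mul_eq (hD : IsRootInvolutionSet D) {a h : G} (ha : a ∈ D) (hh : h ∈ D) :
    (a * h) ^ 2 * h = a * h * a⁻¹ := by
  rw [inv_eq hD ha, pow_two, show a * h * (a * h) * h = a * h * a * (h * h) by
    simp only [mul_assoc], mul_self hD hh, mul_one]

theorem commute_sq_right (hD : IsRootInvolutionSet D) {a h : G} (hh : h ∈ D) (ha : a ∈ D)
    (h4 : (a * h) ^ 4 = 1) : Commute ((a * h) ^ 2) h := by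
  rw [sq_eq_mul_conj hD a hh]
  have h1 := commute_conj_of_pow_four hD ha hh h4
  refine mul_inv_eq_iff_eq_mul.1 ?_ |> Commute.symm
  rw [show h * (a * (h * a * h⁻¹)) * h⁻¹ = (h * a * h⁻¹) * (h * h * a * (h * h)⁻¹) by group,
    mul_self hD hh, one_mul, inv_one, mul_one, h1.eq]

theorem commute_sq_left (hD : IsRootInvolutionSet D) {a h : G} (hh : h ∈ D) (ha : a ∈ D)
    (h4 : (a * h) ^ 4 = 1) : Commute ((a * h) ^ 2) a := by
  rw [sq_eq_mul_conj hD a hh]
  exact (Commute.refl a).mul_left (commute_conj_of_pow_four hD ha hh h4).symm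

variable [Finite G]

theorem exists_sq_eq (hD : IsRootInvolutionSet D) {a b : G} (ha : a ∈ D) (hb : b ∈ D)
    (hba : Commute b a) (hc : b * a ∈ D)
    (hA : ∃ y ∈ oddPartners D a, y ∉ oddPartners D b) :
    ∃ d ∈ D, ¬ Commute a d ∧ (a * d) ^ 4 = 1 ∧ (a * d) ^ 2 = b := by
  obtain ⟨y, hy, hyb⟩ := hA
  have hyD := hy.1
  let B : Set G := {b | b ∈ D ∧ Commute b a ∧ b * a ∈ D ∧ (b * y) ^ 4 = 1}
  have hny : ∀ b ∈ B, ¬ Commute y b := fun b ⟨hb, hba, hc, _⟩ h =>
    not_mem_of_pow_four hD (pow_four_of_commute hD hb ha hba hc hyD h) hy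
  have hh : ∀ b ∈ B, (b * y) ^ 2 ∈ D ∧ Commute ((b * y) ^ 2) y ∧ Commute ((b * y) ^ 2) b ∧
      (a * (b * y) ^ 2) ^ 4 = 1 ∧ ¬ Commute a ((b * y) ^ 2) := by
    intro b hbB
    obtain ⟨hb, hba, hc, h4⟩ := id hbB
    have hD' := sq_mem_of_pow_four hD hb hyD h4 fun h => hny b hbB h.symm
    have hl := commute_sq_left hD hyD hb h4
    have hr := commute_sq_right hD hyD hb h4
    refine ⟨hD', hr, hl, pow_four_of_commute hD hb ha hba hc hD' hl, fun hcm => ?_⟩
    set h := (b * y) ^ 2 with hdef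
    have e1 : y * b * y⁻¹ = b * h := by
      rw [hdef, sq_eq_mul_conj hD b hyD, ← mul_assoc b b, mul_self hD hb, one_mul]
    have e2 : a * b * a⁻¹ = b := by rw [← hba.eq, mul_inv_cancel_right]
    have e3 : a * h * a⁻¹ = h := by rw [hcm.eq, mul_inv_cancel_right]
    have e4 : y * h * y⁻¹ = h := by rw [← hr.eq, mul_inv_cancel_right]
    have e5 : a * y * b * (a * y)⁻¹ = b * h := by
      rw [show a * y * b * (a * y)⁻¹ = a * (y * b * y⁻¹) * a⁻¹ by group, e1,
        show a * (b * h) * a⁻¹ = (a * b * a⁻¹) * (a * h * a⁻¹) by group, e2, e3]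
    have e6 : Commute ((a * y) ^ 2) b := by
      refine mul_inv_eq_iff_eq_mul.1 ?_
      rw [show (a * y) ^ 2 * b * ((a * y) ^ 2)⁻¹ = a * (y * (a * y * b * (a * y)⁻¹) * y⁻¹) * a⁻¹ by
        rw [pow_two]; group, e5,
        show y * (b * h) * y⁻¹ = (y * b * y⁻¹) * (y * h * y⁻¹) by group, e1, e4, mul_assoc b h h,
        mul_self hD hD', mul_one, e2]
    obtain ⟨m, hm⟩ := hy.2.2
    have e7 := e6.pow_left (m + 1)
    rw [← pow_mul, show 2 * (m + 1) = orderOf (a * y) + 1 by omega, pow_succ, pow_orderOf_eq_one,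
      one_mul] at e7
    have e8 := hba.symm.mul_left e7
    rw [← mul_assoc, mul_self hD ha, one_mul] at e8
    exact hny b hbB e8
  let φ : G → G := fun b => (a * (b * y) ^ 2) ^ 2
  have hmap : Set.MapsTo φ B B := by
    intro b hbB
    obtain ⟨hhD, hhy, -, h4, hnc⟩ := hh b hbB
    have hu := sq_mem_of_pow_four hD ha hhD h4 hnc
    have hl := commute_sq_left hD hhD ha h4
    have hr := commute_sq_right hD hhD ha h4
    refine ⟨hu, hl, ?_, ?_⟩
    · show (a * (b * y) ^ 2) ^ 2 * a ∈ D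
      rw [sq_eq_mul_conj hD a hhD, (commute_conj_of_pow_four hD ha hhD h4).eq, mul_assoc,
        mul_self hD ha, mul_one]
      exact hD.conj_mem a ha _
    · refine pow_four_of_commute hD hhD hu hr.symm ?_ hyD hhy.symm
      rw [← hr.eq, sq_mul_eq hD ha hhD]
      exact hD.conj_mem _ hhD a
  have hinj : Set.InjOn φ B := by
    intro b hbB b' hbB' heq
    obtain ⟨hhD, hhy, hhb, h4, hnc⟩ := hh b hbB
    obtain ⟨hhD', hhy', hhb', h4', hnc'⟩ := hh b' hbB'
    obtain ⟨hb, hba, hc, hb4⟩ := id hbB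
    obtain ⟨hb', hba', hc', hb4'⟩ := id hbB'
    set h := (b * y) ^ 2 with hdef
    set h' := (b' * y) ^ 2 with hdef'
    set u := (a * h) ^ 2 with hudef
    have hu' : u = (a * h') ^ 2 := heq
    have hu : u ∈ D := sq_mem_of_pow_four hD ha hhD h4 hnc
    have hua : Commute u a := commute_sq_left hD hhD ha h4
    have hub : Commute u b' := by
      rw [hu']
      exact ((hba'.mul_right hhb'.symm).pow_right 2).symm
    have huh' : Commute u h' := by rw [hu']; exact commute_sq_right hD hhD' ha h4'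
    set f := b * b' with hf
    have hfa : Commute f a := hba.mul_left hba'
    have conj1 : ∀ b : G, b ∈ D → (y * b * y⁻¹) = b * (b * y) ^ 2 := fun b hb => by
      rw [sq_eq_mul_conj hD b hyD, ← mul_assoc b b, mul_self hD hb, one_mul]
    have hcy : Commute a (y * f * y⁻¹) := by
      rw [hf, show y * (b * b') * y⁻¹ = (y * b * y⁻¹) * (y * b' * y⁻¹) by group, conj1 b hb,
        conj1 b' hb', ← hdef, ← hdef']
      refine mul_inv_eq_iff_eq_mul.1 ?_
      have eh : a * h * a⁻¹ = u * h := (sq_mul_eq hD ha hhD).symm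
      have eh' : a * h' * a⁻¹ = u * h' := by rw [hu']; exact (sq_mul_eq hD ha hhD').symm
      have eb : a * b * a⁻¹ = b := by rw [← hba.eq, mul_inv_cancel_right]
      have eb' : a * b' * a⁻¹ = b' := by rw [← hba'.eq, mul_inv_cancel_right]
      have huh : Commute u h := commute_sq_right hD hhD ha h4
      calc a * (b * h * (b' * h')) * a⁻¹
          = (a * b * a⁻¹) * (a * h * a⁻¹) * ((a * b' * a⁻¹) * (a * h' * a⁻¹)) := by group
        _ = b * (h * u) * (b' * (u * h')) := by rw [eh, eh', eb, eb', huh.eq]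
        _ = b * h * (u * b') * (u * h') := by group
        _ = b * h * b' * (u * u) * h' := by rw [hub.eq]; group
        _ = _ := by rw [mul_self hD hu, mul_one]; group
    have hfy : Commute f y := by
      have h1 : Commute f (y⁻¹ * a * y) := by
        have := hcy.map (MulAut.conj y⁻¹).toMonoidHom
        simp only [MulEquiv.coe_toMonoidHom, MulAut.conj_apply] at this
        rw [show y⁻¹ * (y * f * y⁻¹) * y⁻¹⁻¹ = f by group,
          show y⁻¹ * a * y⁻¹⁻¹ = y⁻¹ * a * y by group] at this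
        exact this.symm
      have h2 : Commute f ((a * y) ^ 2) := by
        rw [sq_eq_mul_conj hD a hyD, inv_eq hD hyD]
        rw [inv_eq hD hyD] at h1
        exact hfa.mul_right h1
      obtain ⟨m, hm⟩ := hy.2.2
      have h3 := h2.pow_right (m + 1)
      rw [← pow_mul, show 2 * (m + 1) = orderOf (a * y) + 1 by omega, pow_succ, pow_orderOf_eq_one,
        one_mul] at h3
      have h4 := hfa.mul_right h3
      rwa [← mul_assoc, mul_self hD ha, one_mul] at h4
    have hcodd : ∀ b ∈ B, Odd (orderOf (a * b * y)) ∧ a * b * y ≠ 1 ∧ a * b ∈ D := by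
      rintro b ⟨hb, hba, hc, hb4⟩
      have hc' : a * b ∈ D := hba.eq ▸ hc
      refine ⟨(pow_four_or_odd hD hc' hyD).resolve_left fun h' => ?_, fun h' => ?_, hc'⟩
      · refine not_mem_of_pow_four hD ?_ hy
        have hfin : b * (a * b) = a := by
          rw [← mul_assoc, hba.eq, mul_assoc, mul_self hD hb, mul_one]
        have := pow_four_line hD hb hc' (hba.mul_right (Commute.refl b)) (hfin.symm ▸ ha) hyD hb4
          h'
        rwa [hfin] at this
      · rw [mul_eq_one_iff_eq_inv, inv_eq hD hyD] at h'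
        exact not_mem_odd_of_commute hD ha (h' ▸ (Commute.refl a).mul_right hba.symm) hy
    have hbb : Commute b b' := by
      by_contra hncb
      rcases hD.pair b hb b' hb' with h' | h' | ⟨h4b, hg⟩
      · exact hncb h'
      · have hfh : Commute f h := by
          refine mul_inv_eq_iff_eq_mul.1 ?_ |> Commute.symm
          rw [hdef, pow_two, show b * y * (b * y) * f * (b * y * (b * y))⁻¹ =
            b * (y * (b * (y * f * y⁻¹) * b⁻¹) * y⁻¹) * b⁻¹ by group, ← hfy.eq,
            mul_inv_cancel_right]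
          have ef : b * f * b⁻¹ = f⁻¹ := by
            rw [hf, mul_inv_rev, inv_eq hD hb, inv_eq hD hb', ← mul_assoc, mul_self hD hb, one_mul]
          rw [ef, hfy.symm.inv_right.eq, mul_inv_cancel_right, ← conj_inv, ef, inv_inv]
        refine false_of_two_mul hD hb' (hD.conj_mem b hb y) (v := h) (w := f⁻¹) ?_
          hfh.symm.inv_right (hD.orderOf_eq h hhD) (by rwa [orderOf_inv]) (fun e => hncb ?_)
        · rw [conj1 b hb, ← hdef, hfh.symm.inv_right.eq, hf, mul_inv_rev, inv_eq hD hb,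
            inv_eq hD hb']
          group
        · rw [inv_eq_one, hf, mul_eq_one_iff_eq_inv, inv_eq hD hb'] at e
          rw [e]
      · obtain ⟨hodd, hne, hab⟩ := hcodd b hbB
        set g := (b * b') ^ 2 with hgdef
        have hga : Commute g a := hfa.pow_left 2
        have hgy : Commute g y := hfy.pow_left 2
        have hgb : Commute g b :=
          commute_sq_left hD hb' hb (by rw [← h4b, pow_orderOf_eq_one])
        refine false_of_two_mul hD (hD.conj_mem _ hab b') hyD (v := g) (w := a * b * y) ?_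
          ((hga.mul_right hgb).mul_right hgy) (hD.orderOf_eq g hg) hodd hne
        have e : g * b = b * (b' * b * b'⁻¹) * b := by rw [hgdef, sq_eq_mul_conj hD b hb']
        rw [show b' * (a * b) * b'⁻¹ = (b' * a * b'⁻¹) * (b' * b * b'⁻¹) by group, hba'.eq,
          mul_inv_cancel_right,
          show b' * b * b'⁻¹ = g * b by
            rw [hgb.eq, hgdef, sq_eq_mul_conj hD b hb', ← mul_assoc b b, mul_self hD hb, one_mul]]
        rw [← mul_assoc a g b, ← hga.eq]
        group
    by_contra hne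
    obtain ⟨hodd, hne', hab⟩ := hcodd b' hbB'
    obtain ⟨-, -, hab0⟩ := hcodd b hbB
    have hf2 : f * f = 1 := by
      rw [hf, hbb.symm.mul_mul_mul_comm, mul_self hD hb, mul_self hD hb', one_mul]
    have hf1 : f ≠ 1 := fun e => hne (by
      rwa [hf, mul_eq_one_iff_eq_inv, inv_eq hD hb'] at e)
    refine false_of_two_mul hD hab0 hyD (v := f) (w := a * b' * y) ?_
      ((hfa.mul_right (hbb.mul_left (Commute.refl b'))).mul_right hfy) ?_ hodd hne'
    · rw [hf, ← mul_assoc, ← mul_assoc, (show Commute (b * b') a from hfa).eq,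
        show a * (b * b') * b' = a * b * (b' * b') by group, mul_self hD hb', mul_one]
    · exact orderOf_eq_prime (by rw [pow_two, hf2]) hf1
  have hb' : b ∈ B := ⟨hb, hba, hc, pow_four_of_not_mem hD hb hyD hyb⟩
  have himg : φ '' B = B := Set.eq_of_subset_of_ncard_le hmap.image_subset
    (Set.ncard_image_of_injOn hinj).ge (Set.toFinite _)
  obtain ⟨b₁, hb₁, heq⟩ := (Set.ext_iff.1 himg b).2 hb'
  obtain ⟨hhD, -, -, h4, hnc⟩ := hh b₁ hb₁
  exact ⟨_, hhD, hnc, h4, heq⟩

theorem exists_order_three (hD : IsRootInvolutionSet D) (hc : IsConnectedSet (OddAdj D) D)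
    {a b : G} (ha : a ∈ D) (hb : b ∈ productPartners D a)
    (hbE : b ∉ sameCommutingClass D a) : ∃ x ∈ fourPartners D b, orderOf (a * x) = 3 := by
  obtain ⟨⟨hbD, hba : Commute b a, -⟩, hbaD⟩ := hb
  have hw : ∀ {p q : G}, p ∈ D → q ∈ D → commutingMembers D p ≠ commutingMembers D q →
      ∃ y ∈ oddPartners D p, y ∉ oddPartners D q := by
    intro p q hp hq h
    by_contra h'
    push Not at h'
    exact h ((commutingMembers_eq_iff hD hc hp hq).2 (odd_eq_of_subset hD hc hp hq h'))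
  obtain ⟨d, hd, had, h4, hsq⟩ :=
    exists_sq_eq hD ha hbD hba hbaD (hw ha hbD fun h => hbE ⟨hbD, h⟩)
  have hbd : Commute b d := hsq ▸ commute_sq_right hD hd ha h4
  have hadb : a * d * a⁻¹ = b * d := by rw [← hsq, sq_mul_eq hD ha hd]
  have hdb : Commute d b := hbd.symm
  have hdbD : d * b ∈ D := by rw [hdb.eq, ← hadb]; exact hD.conj_mem d hd a
  obtain ⟨x, hx, hxb, hx4, hxsq⟩ := exists_sq_eq hD hbD hd hdb hdbD (hw hbD hd fun h => had (by
    have h1 : a ∈ commutingMembers D b := ⟨ha, hba.symm.eq⟩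
    rw [h] at h1
    exact h1.2))
  refine ⟨x, ⟨hx, ?_⟩, ?_⟩
  · haveI : Fact (Nat.Prime 2) := ⟨Nat.prime_two⟩
    exact orderOf_eq_prime_pow (p := 2) (n := 1) (by
      rw [pow_one, hxsq]; exact ne_one hD hd) hx4
  have hxdc : Commute d x := hxsq ▸ commute_sq_right hD hx hbD hx4
  have hxb' : x * b * x⁻¹ = b * d := by
    rw [← hxsq, sq_eq_mul_conj hD b hx, ← mul_assoc b b, mul_self hD hbD, one_mul]
  have hxd' : x * d * x⁻¹ = d := by rw [← hxdc.eq, mul_inv_cancel_right]
  have hab' : a * b * a⁻¹ = b := by rw [← hba.eq, mul_inv_cancel_right]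
  set τ := a * x with hτ
  have t1 : τ * b * τ⁻¹ = d := by
    rw [hτ, show a * x * b * (a * x)⁻¹ = a * (x * b * x⁻¹) * a⁻¹ by group, hxb',
      show a * (b * d) * a⁻¹ = (a * b * a⁻¹) * (a * d * a⁻¹) by group, hab', hadb, ← mul_assoc,
      mul_self hD hbD, one_mul]
  have t2 : τ * d * τ⁻¹ = b * d := by
    rw [hτ, show a * x * d * (a * x)⁻¹ = a * (x * d * x⁻¹) * a⁻¹ by group, hxd', hadb]
  have t3 : τ * (b * d) * τ⁻¹ = b := by
    rw [show τ * (b * d) * τ⁻¹ = (τ * b * τ⁻¹) * (τ * d * τ⁻¹) by group, t1, t2, hbd.eq,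
      ← mul_assoc, mul_self hD hd, one_mul]
  have hodd : Odd (orderOf τ) := by
    refine (pow_four_or_odd hD ha hx).resolve_left fun h => ?_
    have h1 : τ ^ 4 * b * (τ ^ 4)⁻¹ = b := by rw [hτ, h]; group
    rw [show τ ^ 4 * b * (τ ^ 4)⁻¹ = τ * (τ * (τ * (τ * b * τ⁻¹) * τ⁻¹) * τ⁻¹) * τ⁻¹ by
      rw [pow_succ, pow_succ, pow_succ, pow_one]; group, t1, t2, t3, t1] at h1
    refine hD.orderOf_eq _ hdbD |> fun h2 => ?_
    rw [h1, mul_self hD hbD, orderOf_one] at h2
    omega
  have hσd : Commute d (τ ^ 3) := by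
    refine (mul_inv_eq_iff_eq_mul.1 ?_).symm
    rw [show τ ^ 3 * d * (τ ^ 3)⁻¹ = τ * (τ * (τ * d * τ⁻¹) * τ⁻¹) * τ⁻¹ by
      rw [pow_succ, pow_succ, pow_one]; group, t2, t3, t1]
  have h31 : τ ^ 3 = 1 := by
    by_contra h31
    refine false_of_two_mul hD (hD.conj_mem a ha τ) (hD.conj_mem x hx b) ?_ hσd
      (hD.orderOf_eq d hd) (hodd.of_dvd_nat (orderOf_pow_dvd 3)) h31
    have e1 : b * x * b⁻¹ = x * d := by
      rw [inv_eq hD hbD, ← hxdc.eq, ← hxsq, pow_two,
        show b * x * (b * x) * x = b * x * b * (x * x) by simp only [mul_assoc], mul_self hD hx,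
        mul_one]
    have e2 : τ * a * τ⁻¹ = a * x * a * x * a := by
      rw [hτ, mul_inv_rev, inv_eq hD hx, inv_eq hD ha]; simp only [mul_assoc]
    rw [e1, e2, hσd.eq, hτ, pow_succ, pow_succ, pow_one]
    simp only [mul_assoc]
  refine orderOf_eq_prime (hp := ⟨Nat.prime_three⟩) h31 fun h => hxb ?_
  rw [hτ, mul_eq_one_iff_eq_inv, inv_eq hD hx] at h
  rw [← h]
  exact hba

end Cfsg.Agent.RootInvol
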