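import Cfsg.Agent.Lib.Fusion.RootInvolutionsThree

/-!
# The subgroup of the isolated commuting members of a root involution

For a member `p` of a class `D` of root involutions, `W D p` is the set of members commuting with
`p` which are in no odd relation with a member commuting with `p`. This file gives its calculus:
squares `cm u v = (u v)²`, the predicates `Cen`, `Two`, `Three`, `Four`, the subgroup `Gam`, and
the homomorphisms `τ ↦ cm z τ` between the groups `E(t)` and `E(p)`.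
-/

set_option autoImplicit false

namespace Cfsg.Agent.RootStructure

open Cfsg Cfsg.Agent.RootInvol

universe u

variable {G : Type u} [Group G]

/-! ### Squares of products of involutions -/

/-- The square `(u v)²`; for involutions it is the commutator of `u` and `v`. -/
def cm (u v : G) : G := u * v * (u * v)

theorem inv_of_sq {u : G} (h : u * u = 1) : u⁻¹ = u := inv_eq_of_mul_eq_one_right h

theorem cm_eq_conj (u : G) {v : G} (hv : v * v = 1) : cm u v = u * (v * u * v⁻¹) := by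
  rw [inv_of_sq hv, cm]; simp only [mul_assoc]

theorem conj_eq {u v : G} (hu : u * u = 1) (hv : v * v = 1) : v * u * v⁻¹ = u * cm u v := by
  rw [cm_eq_conj u hv, ← mul_assoc u u, hu, one_mul]

theorem cm_eq_one {u v : G} (hu : u * u = 1) (hv : v * v = 1) (h : Commute u v) : cm u v = 1 := by
  rw [cm, h.symm.mul_mul_mul_comm, hu, hv, one_mul]

theorem commute_of_cm {u v : G} (hu : u * u = 1) (hv : v * v = 1) (h : cm u v = 1) :
    Commute u v := by
  have h1 := conj_eq hu hv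
  rw [h, mul_one] at h1
  exact (mul_inv_eq_iff_eq_mul.1 h1).symm

theorem cm_one_left {v : G} (hv : v * v = 1) : cm 1 v = 1 := by rw [cm, one_mul, hv]

theorem cm_one_right {u : G} (hu : u * u = 1) : cm u 1 = 1 := by rw [cm, mul_one, hu]

theorem cm_inv {u v : G} (hu : u * u = 1) (hv : v * v = 1) : (cm u v)⁻¹ = cm v u := by
  rw [cm, cm, mul_inv_rev, mul_inv_rev, inv_of_sq hu, inv_of_sq hv]

theorem cm_conj (k u v : G) : k * cm u v * k⁻¹ = cm (k * u * k⁻¹) (k * v * k⁻¹) := by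
  simp only [cm]; group

theorem conj_fix {k x : G} (h : Commute k x) : k * x * k⁻¹ = x := by
  rw [h.eq, mul_inv_cancel_right]

theorem sq_mul {u v : G} (hu : u * u = 1) (hv : v * v = 1) (h : Commute u v) :
    u * v * (u * v) = 1 := cm_eq_one hu hv h

theorem sq_conj (k : G) {u : G} (hu : u * u = 1) : k * u * k⁻¹ * (k * u * k⁻¹) = 1 := by
  rw [show k * u * k⁻¹ * (k * u * k⁻¹) = k * (u * u) * k⁻¹ by group, hu]; group

theorem cm_mul_left {z z' w : G} (hz : z * z = 1) (hz' : z' * z' = 1) (hw : w * w = 1)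
    (hc : Commute z z') (h : Commute (cm z w) z') : cm (z * z') w = cm z w * cm z' w := by
  rw [cm_eq_conj _ hw, show w * (z * z') * w⁻¹ = (w * z * w⁻¹) * (w * z' * w⁻¹) by group,
    conj_eq hz hw, conj_eq hz' hw]
  calc z * z' * (z * cm z w * (z' * cm z' w))
      = (z * z') * z * (cm z w * z') * cm z' w := by group
    _ = z' * (z * z) * (z' * cm z w) * cm z' w := by rw [h.eq, hc.eq]; group
    _ = (z' * z') * cm z w * cm z' w := by rw [hz]; group
    _ = _ := by rw [hz', one_mul]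

theorem cm_mul_right {z x x' : G} (hz : z * z = 1) (hx : x * x = 1) (hx' : x' * x' = 1)
    (hc : Commute x x') (h : Commute (cm z x') x) : cm z (x * x') = cm z x * cm z x' := by
  rw [cm_eq_conj _ (sq_mul hx hx' hc),
    show x * x' * z * (x * x')⁻¹ = x * (x' * z * x'⁻¹) * x⁻¹ by group, conj_eq hz hx',
    show x * (z * cm z x') * x⁻¹ = (x * z * x⁻¹) * (x * cm z x' * x⁻¹) by group, conj_fix h.symm,
    conj_eq hz hx, ← mul_assoc, ← mul_assoc, hz, one_mul]

/-! ### The sets and predicates -/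

/-- The members commuting with `p` without an odd partner among the members commuting with `p`. -/
def W (D : Set G) (p : G) : Set G :=
  {w | w ∈ D ∧ Commute w p ∧ ∀ v ∈ D, Commute v p → (w * v) ^ 4 = 1}

/-- `p` and `q` commute with the same members. -/
def SC (D : Set G) (p q : G) : Prop := commutingMembers D p = commutingMembers D q

/-- A member of the set, or `1`. -/
def W1 (S : Set G) (k : G) : Prop := k ∈ S ∨ k = 1

/-- `k` centralizes the set. -/
def Cen (S : Set G) (k : G) : Prop := ∀ u ∈ S, Commute k u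

/-- All commutators of `k` with the set are central in it. -/
def Two (S : Set G) (k : G) : Prop := ∀ u ∈ S, Cen S (cm k u)

/-- All commutators of `k` with the set satisfy `Two`. -/
def Three (S : Set G) (k : G) : Prop := ∀ u ∈ S, Two S (cm k u)

/-- All commutators of `k` with the set satisfy `Three`. -/
def Four (S : Set G) (k : G) : Prop := ∀ u ∈ S, Three S (cm k u)

/-- The subgroup generated by the commutators inside the set. -/
def Gam (S : Set G) : Subgroup G := Subgroup.closure {z | ∃ u ∈ S, ∃ v ∈ S, z = cm u v}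

/-- A member of the set in the commutator subgroup, with all commutators central. -/
def RR (S : Set G) (z : G) : Prop := z ∈ S ∧ Two S z ∧ z ∈ Gam S

/-- The hypotheses on the class of root involutions. -/
structure Hyp (D : Set G) : Prop where
  root : IsRootInvolutionSet D
  conn : IsConnectedSet (OddAdj D) D
  same : ∀ d ∈ D, (sameCommutingSubgroup D d : Set G) = sameCommutingClass D d ∪ {1}

theorem not_cen {S : Set G} {z : G} (h : ¬ Cen S z) : ∃ u ∈ S, ¬ Commute z u := by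
  by_contra hh
  push Not at hh
  exact h hh

theorem cen_one (S : Set G) : Cen S 1 := fun _ _ => Commute.one_left _

theorem Cen.mul {S : Set G} {a b : G} (ha : Cen S a) (hb : Cen S b) : Cen S (a * b) :=
  fun u hu => (ha u hu).mul_left (hb u hu)

theorem Cen.commute1 {S : Set G} {k u : G} (hk : Cen S k) (hu : W1 S u) : Commute k u := by
  rcases hu with hu | rfl
  · exact hk u hu
  · exact Commute.one_right _

theorem cm_mem_gam {S : Set G} {u v : G} (hu : u ∈ S) (hv : v ∈ S) : cm u v ∈ Gam S :=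
  Subgroup.subset_closure ⟨u, hu, v, hv, rfl⟩

theorem W_subset {D : Set G} {p w : G} (hw : w ∈ W D p) : w ∈ D := hw.1

variable {D : Set G}

theorem SC.commute_iff {p q v : G} (h : SC D p q) (hv : v ∈ D) : Commute v p ↔ Commute v q := by
  have h' := Set.ext_iff.1 h v
  exact ⟨fun hh => (h'.1 ⟨hv, hh⟩).2, fun hh => (h'.2 ⟨hv, hh⟩).2⟩

theorem W_eq {p q : G} (h : SC D p q) : W D p = W D q := by
  ext w
  exact ⟨fun ⟨h1, h2, h3⟩ => ⟨h1, (h.commute_iff h1).1 h2, fun v hv hvq =>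
      h3 v hv ((h.commute_iff hv).2 hvq)⟩,
    fun ⟨h1, h2, h3⟩ => ⟨h1, (h.commute_iff h1).2 h2, fun v hv hvp =>
      h3 v hv ((h.commute_iff hv).1 hvp)⟩⟩

theorem W_conj (hD : IsRootInvolutionSet D) {k p q w : G} (hk : k * p * k⁻¹ = q)
    (hw : w ∈ W D p) : k * w * k⁻¹ ∈ W D q := by
  subst hk
  refine ⟨hD.conj_mem w hw.1 k, hw.2.1.map (MulAut.conj k).toMonoidHom, fun v hv hvq => ?_⟩
  have h1 : Commute (k⁻¹ * v * k⁻¹⁻¹) p := by
    have := hvq.map (MulAut.conj k⁻¹).toMonoidHom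
    simp only [MulEquiv.coe_toMonoidHom, MulAut.conj_apply] at this
    rwa [show k⁻¹ * (k * p * k⁻¹) * k⁻¹⁻¹ = p by group] at this
  have h2 := pow_four_conj (k := k) (hw.2.2 _ (hD.conj_mem v hv k⁻¹) h1)
  rwa [show k * (k⁻¹ * v * k⁻¹⁻¹) * k⁻¹ = v by group] at h2

theorem conj_back {k p q : G} (hk : k * p * k⁻¹ = q) : k⁻¹ * q * k⁻¹⁻¹ = p := by
  rw [← hk]; group

theorem SC_conj (hD : IsRootInvolutionSet D) (k : G) {a b : G} (h : SC D a b) :
    SC D (k * a * k⁻¹) (k * b * k⁻¹) := by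
  have key : ∀ {a b v : G}, SC D a b → v ∈ D → Commute v (k * a * k⁻¹) →
      Commute v (k * b * k⁻¹) := by
    intro a b v h hv hva
    have h1 := hva.map (MulAut.conj k⁻¹).toMonoidHom
    simp only [MulEquiv.coe_toMonoidHom, MulAut.conj_apply] at h1
    rw [show k⁻¹ * (k * a * k⁻¹) * k⁻¹⁻¹ = a by group] at h1
    have h2 := ((h.commute_iff (hD.conj_mem v hv k⁻¹)).1 h1).map (MulAut.conj k).toMonoidHom
    simp only [MulEquiv.coe_toMonoidHom, MulAut.conj_apply] at h2
    rwa [show k * (k⁻¹ * v * k⁻¹⁻¹) * k⁻¹ = v by group] at h2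
  ext v
  exact ⟨fun ⟨hv, h'⟩ => ⟨hv, key h hv h'⟩, fun ⟨hv, h'⟩ => ⟨hv, key h.symm hv h'⟩⟩

theorem cen_conj (hD : IsRootInvolutionSet D) {k p q z : G} (hk : k * p * k⁻¹ = q)
    (hz : Cen (W D p) z) : Cen (W D q) (k * z * k⁻¹) := by
  intro u hu
  have h := (hz _ (W_conj hD (conj_back hk) hu)).map (MulAut.conj k).toMonoidHom
  simp only [MulEquiv.coe_toMonoidHom, MulAut.conj_apply] at h
  rwa [show k * (k⁻¹ * u * k⁻¹⁻¹) * k⁻¹ = u by group] at h

theorem two_conj (hD : IsRootInvolutionSet D) {k p q z : G} (hk : k * p * k⁻¹ = q)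
    (hz : Two (W D p) z) : Two (W D q) (k * z * k⁻¹) := by
  intro u hu
  have h := cen_conj hD hk (hz _ (W_conj hD (conj_back hk) hu))
  rwa [cm_conj, show k * (k⁻¹ * u * k⁻¹⁻¹) * k⁻¹ = u by group] at h

theorem gam_conj (hD : IsRootInvolutionSet D) {k p q z : G} (hk : k * p * k⁻¹ = q)
    (hz : z ∈ Gam (W D p)) : k * z * k⁻¹ ∈ Gam (W D q) := by
  have h : (Gam (W D p)).map (MulAut.conj k).toMonoidHom ≤ Gam (W D q) := by
    rw [Gam, MonoidHom.map_closure, Subgroup.closure_le]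
    rintro _ ⟨_, ⟨u, hu, v, hv, rfl⟩, rfl⟩
    rw [MulEquiv.coe_toMonoidHom, MulAut.conj_apply, cm_conj]
    exact cm_mem_gam (W_conj hD hk hu) (W_conj hD hk hv)
  exact h (Subgroup.mem_map_of_mem _ hz)

theorem rr_conj (hD : IsRootInvolutionSet D) {k p q z z' : G} (hk : k * p * k⁻¹ = q)
    (hz : RR (W D p) z) (hz' : k * z * k⁻¹ = z') : RR (W D q) z' :=
  hz' ▸ ⟨W_conj hD hk hz.1, two_conj hD hk hz.2.1, gam_conj hD hk hz.2.2⟩

section

variable (h : Hyp D)
include h

theorem msq {u : G} (hu : u ∈ D) : u * u = 1 := mul_self h.root hu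

theorem w1_sq {p u : G} (hu : W1 (W D p) u) : u * u = 1 := by
  rcases hu with hu | rfl
  · exact msq h hu.1
  · exact one_mul 1

theorem self_mem_W {p : G} (hp : p ∈ D) : p ∈ W D p := by
  refine ⟨hp, Commute.refl p, fun v hv hvp => ?_⟩
  rw [hvp.symm.mul_pow, pow_mul p 2 2, pow_mul v 2 2, pow_two p, pow_two v, msq h hp, msq h hv,
    one_pow, one_mul]

theorem X_subset_W {p e : G} (hp : p ∈ D) (he : e ∈ D) (hep : Commute e p) (hD : e * p ∈ D) :
    e ∈ W D p :=
  ⟨he, hep, fun v hv hvp => pow_four_of_commute h.root hp he hep.symm (hep.eq ▸ hD) hv hvp⟩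

theorem w_pow_four {p u v : G} (hu : u ∈ W D p) (hv : v ∈ W D p) : (u * v) ^ 4 = 1 :=
  hu.2.2 v hv.1 hv.2.1

theorem W_line {p u v : G} (hu : u ∈ W D p) (hv : v ∈ W D p) (huv : Commute u v)
    (hD : u * v ∈ D) : u * v ∈ W D p :=
  ⟨hD, hu.2.1.mul_left hv.2.1, fun t ht htp =>
    pow_four_line h.root hu.1 hv.1 huv hD ht (hu.2.2 t ht htp) (hv.2.2 t ht htp)⟩

theorem conj_mem_W {p u v : G} (hu : u ∈ W D p) (hv : W1 (W D p) v) :
    v * u * v⁻¹ ∈ W D p := by
  refine W_conj h.root (conj_fix ?_) hu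
  rcases hv with hv | rfl
  · exact hv.2.1
  · exact Commute.one_left _

theorem cm_w1 {p u v : G} (hu : W1 (W D p) u) (hv : W1 (W D p) v) :
    W1 (W D p) (cm u v) := by
  rcases hu with hu | rfl
  swap
  · exact Or.inr (cm_one_left (w1_sq h hv))
  rcases hv with hv | rfl
  swap
  · exact Or.inr (cm_one_right (msq h hu.1))
  by_cases hc : Commute u v
  · exact Or.inr (cm_eq_one (msq h hu.1) (msq h hv.1) hc)
  have h4 := w_pow_four h hu hv
  have hD := sq_mem_of_pow_four h.root hu.1 hv.1 h4 hc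
  refine Or.inl ?_
  rw [cm_eq_conj u (msq h hv.1)]
  rw [sq_eq_mul_conj h.root u hv.1] at hD
  exact W_line h hu (conj_mem_W h hu (Or.inl hv))
    (commute_conj_of_pow_four h.root hu.1 hv.1 h4) hD

theorem cm_mem_W {p u v : G} (hu : u ∈ W D p) (hv : v ∈ W D p) (hne : cm u v ≠ 1) :
    cm u v ∈ W D p :=
  (cm_w1 h (Or.inl hu) (Or.inl hv)).resolve_right hne

theorem cm_swap {p u v : G} (hu : W1 (W D p) u) (hv : W1 (W D p) v) : cm v u = cm u v := by
  rw [← cm_inv (w1_sq h hu) (w1_sq h hv), inv_of_sq (w1_sq h (cm_w1 h hu hv))]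

theorem commute_cm_left {p u v : G} (hu : u ∈ W D p) (hv : W1 (W D p) v) :
    Commute (cm u v) u := by
  rcases hv with hv | rfl
  · have := commute_sq_left h.root hv.1 hu.1 (w_pow_four h hu hv)
    rwa [pow_two] at this
  · rw [cm_one_right (msq h hu.1)]; exact Commute.one_left _

theorem commute_cm_right {p u v : G} (hu : W1 (W D p) u) (hv : v ∈ W D p) :
    Commute (cm u v) v := by
  rw [← cm_swap h hu (Or.inl hv)]
  exact commute_cm_left h hv hu

/-- A nontrivial commutator lies in the isolated sets of both factors. -/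
theorem cm_mem_W_right {p u v : G} (hu : u ∈ W D p) (hv : v ∈ W D p) (hne : cm u v ≠ 1) :
    cm u v ∈ W D v := by
  refine X_subset_W h hv.1 (cm_mem_W h hu hv hne).1 (commute_cm_right h (Or.inl hu) hv) ?_
  rw [(commute_cm_right h (Or.inl hu) hv).eq, ← cm_swap h (Or.inl hu) (Or.inl hv),
    ← conj_eq (msq h hv.1) (msq h hu.1)]
  exact h.root.conj_mem v hv.1 u

/-! ### The groups `E(p)` -/

theorem mem_EG {p k : G} (hp : p ∈ D) :
    k ∈ sameCommutingSubgroup D p ↔ (k ∈ D ∧ SC D p k) ∨ k = 1 := by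
  rw [← SetLike.mem_coe, h.same p hp]
  exact Iff.rfl

theorem self_mem_EG {p : G} (hp : p ∈ D) : p ∈ sameCommutingSubgroup D p :=
  (mem_EG h hp).2 (Or.inl ⟨hp, rfl⟩)

theorem EG_sq {p k : G} (hp : p ∈ D) (hk : k ∈ sameCommutingSubgroup D p) : k * k = 1 := by
  rcases (mem_EG h hp).1 hk with hk | rfl
  · exact msq h hk.1
  · exact one_mul 1

theorem EG_cen {p k : G} (hp : p ∈ D) (hk : k ∈ sameCommutingSubgroup D p) :
    Cen (W D p) k := by
  intro u hu
  rcases (mem_EG h hp).1 hk with ⟨-, hs⟩ | rfl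
  · exact ((hs.commute_iff hu.1).1 hu.2.1).symm
  · exact Commute.one_left _

theorem EG_eq {p q : G} (hs : SC D p q) :
    sameCommutingSubgroup D p = sameCommutingSubgroup D q := by
  rw [sameCommutingSubgroup, sameCommutingSubgroup]
  congr 1
  ext e
  exact ⟨fun he => ⟨he.1, hs.symm.trans he.2⟩, fun he => ⟨he.1, hs.trans he.2⟩⟩

variable [Finite G]

/-- Members of the class of a member of `W D p` lie in it. -/
theorem class_mem_W {p t τ : G} (hp : p ∈ D) (ht : t ∈ W D p) (hτ : τ ∈ D)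
    (hs : SC D t τ) : τ ∈ W D p := by
  refine ⟨hτ, ((hs.commute_iff hp).1 ht.2.1.symm).symm, fun v hv hvp => ?_⟩
  refine pow_four_of_not_mem h.root hτ hv ?_
  rw [← (commutingMembers_eq_iff h.root h.conn ht.1 hτ).1 hs]
  exact not_mem_of_pow_four h.root (ht.2.2 v hv hvp)

theorem EG_w1 {p t τ : G} (hp : p ∈ D) (ht : t ∈ W D p)
    (hτ : τ ∈ sameCommutingSubgroup D t) : W1 (W D p) τ := by
  rcases (mem_EG h ht.1).1 hτ with ⟨hτD, hs⟩ | rfl
  · exact Or.inl (class_mem_W h hp ht hτD hs)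
  · exact Or.inr rfl

/-- An element commuting with all of `W D p` lies in `E(p)`. -/
theorem mem_EG_of_cen {p k : G} (hp : p ∈ D) (hk : W1 (W D p) k) (hc : Cen (W D p) k) :
    k ∈ sameCommutingSubgroup D p := by
  rcases hk with hk | rfl
  swap
  · exact one_mem _
  refine (mem_EG h hp).2 (Or.inl ⟨hk.1, ?_⟩)
  rw [SC, commutingMembers_eq_iff h.root h.conn hp hk.1, eq_comm]
  refine odd_eq_of_subset h.root h.conn hk.1 hp fun y hy => ?_
  by_contra hyp
  have h4 := pow_four_of_not_mem h.root hp hy.1 hyp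
  by_cases hpy : Commute p y
  · exact not_mem_of_pow_four h.root (hk.2.2 y hy.1 hpy.symm) hy
  set t := (p * y) ^ 2 with ht
  have htD : t ∈ D := sq_mem_of_pow_four h.root hp hy.1 h4 hpy
  have htp : Commute t p := commute_sq_left h.root hy.1 hp h4
  have htpD : t * p ∈ D := by
    rw [htp.eq, ht, sq_eq_mul_conj h.root p hy.1, ← mul_assoc, msq h hp, one_mul]
    exact h.root.conj_mem p hp y
  have hkc : Commute k (y * p * y⁻¹) := by
    have h1 := (hk.2.1).mul_right (hc t (X_subset_W h hp htD htp htpD))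
    rwa [ht, sq_eq_mul_conj h.root p hy.1, ← mul_assoc, msq h hp, one_mul] at h1
  have hkp : Commute (y * k * y⁻¹) p := by
    have h1 := hkc.map (MulAut.conj y).toMonoidHom
    simp only [MulEquiv.coe_toMonoidHom, MulAut.conj_apply] at h1
    rwa [show y * (y * p * y⁻¹) * y⁻¹ = (y * y) * p * (y * y)⁻¹ by group, msq h hy.1, one_mul,
      inv_one, mul_one] at h1
  have h8 := hk.2.2 _ (h.root.conj_mem k hk.1 y) hkp
  have hodd : Odd (orderOf (k * (y * k * y⁻¹))) := by
    rw [← sq_eq_mul_conj h.root k hy.1]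
    exact hy.2.2.of_dvd_nat (orderOf_pow_dvd 2)
  have hke := eq_of_pow_four_odd h.root (h.root.conj_mem k hk.1 y) h8 hodd
  exact not_mem_odd_of_commute h.root hk.1 (mul_inv_eq_iff_eq_mul.1 hke.symm).symm hy

theorem cm_mem_EG {p u v : G} (hp : p ∈ D) (hu : W1 (W D p) u) (hv : W1 (W D p) v)
    (hc : Cen (W D p) (cm u v)) : cm u v ∈ sameCommutingSubgroup D p :=
  mem_EG_of_cen h hp (cm_w1 h hu hv) hc

theorem two_cm {p z u : G} (hp : p ∈ D) (hz : W1 (W D p) z) (h2 : Two (W D p) z)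
    (hu : W1 (W D p) u) : cm z u ∈ sameCommutingSubgroup D p := by
  rcases hu with hu | rfl
  · exact cm_mem_EG h hp hz (Or.inl hu) (h2 u hu)
  · rw [cm_one_right (w1_sq h hz)]; exact one_mem _

omit [Finite G] in
theorem two_of_cen {p z : G} (hz : W1 (W D p) z) (hc : Cen (W D p) z) :
    Two (W D p) z := fun u hu => by
  rw [cm_eq_one (w1_sq h hz) (msq h hu.1) (hc u hu)]
  exact cen_one _

theorem commute_gam {p z g : G} (hp : p ∈ D) (hz : W1 (W D p) z) (h2 : Two (W D p) z)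
    (hg : g ∈ Gam (W D p)) : Commute z g := by
  induction hg using Subgroup.closure_induction with
  | mem g hg =>
    obtain ⟨u, hu, v, hv, rfl⟩ := hg
    have hz2 := w1_sq h hz
    have h1 := two_cm h hp hz h2 (Or.inl hu)
    have h2' := two_cm h hp hz h2 (Or.inl hv)
    have e1 := EG_cen h hp h1
    have e2 := EG_cen h hp h2'
    have hcc : Commute (cm z u) (cm z v) := e1.commute1 (cm_w1 h hz (Or.inl hv))
    refine (mul_inv_eq_iff_eq_mul.1 ?_).symm
    rw [show cm u v * z * (cm u v)⁻¹ = u * (v * (u * (v * z * v⁻¹) * u⁻¹) * v⁻¹) * u⁻¹ by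
      simp only [cm]; group, conj_eq hz2 (msq h hv.1),
      show u * (z * cm z v) * u⁻¹ = (u * z * u⁻¹) * (u * cm z v * u⁻¹) by group,
      conj_eq hz2 (msq h hu.1), conj_fix (e2 u hu).symm,
      show v * (z * cm z u * cm z v) * v⁻¹ =
        (v * z * v⁻¹) * (v * cm z u * v⁻¹) * (v * cm z v * v⁻¹) by group,
      conj_eq hz2 (msq h hv.1), conj_fix (e1 v hv).symm, conj_fix (e2 v hv).symm,
      show u * (z * cm z v * cm z u * cm z v) * u⁻¹ =
        (u * z * u⁻¹) * (u * cm z v * u⁻¹) * (u * cm z u * u⁻¹) * (u * cm z v * u⁻¹) by group,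
      conj_eq hz2 (msq h hu.1), conj_fix (e1 u hu).symm, conj_fix (e2 u hu).symm]
    rw [show z * cm z u * cm z v * cm z u * cm z v =
      z * (cm z u * cm z v * (cm z u * cm z v)) by group,
      sq_mul (EG_sq h hp h1) (EG_sq h hp h2') hcc, mul_one]
  | one => exact Commute.one_right _
  | mul x y _ _ h1 h2 => exact h1.mul_right h2
  | inv x _ h1 => exact h1.inv_right

theorem rr_commute {p z z' : G} (hp : p ∈ D) (hz : RR (W D p) z) (hz' : RR (W D p) z') :
    Commute z z' := commute_gam h hp (Or.inl hz.1) hz.2.1 hz'.2.2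

/-- The commutator map of a member of `Two` is a homomorphism on `E(t)`. -/
theorem cm_hom {p z t τ τ' : G} (hp : p ∈ D) (hz : W1 (W D p) z) (h2 : Two (W D p) z)
    (ht : t ∈ W D p) (hτ : τ ∈ sameCommutingSubgroup D t)
    (hτ' : τ' ∈ sameCommutingSubgroup D t) :
    cm z (τ * τ') = cm z τ * cm z τ' := by
  have hw := EG_w1 h hp ht hτ
  refine cm_mul_right (w1_sq h hz) (w1_sq h hw) (EG_sq h ht.1 hτ') ?_ ?_
  · exact (EG_cen h ht.1 hτ).commute1 (EG_w1 h ht.1 (self_mem_W h ht.1) hτ')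
  · exact (EG_cen h hp (two_cm h hp hz h2 (EG_w1 h hp ht hτ'))).commute1 hw

/-- Injective maps between the groups `E(t)` are surjective. -/
theorem EG_surj {p t : G} (hp : p ∈ D) (ht : t ∈ D) (f : G → G)
    (hmap : ∀ τ ∈ sameCommutingSubgroup D t, f τ ∈ sameCommutingSubgroup D p)
    (hinj : ∀ τ ∈ sameCommutingSubgroup D t, ∀ τ' ∈ sameCommutingSubgroup D t,
      f τ = f τ' → τ = τ') :
    ∀ c ∈ sameCommutingSubgroup D p, ∃ τ ∈ sameCommutingSubgroup D t, f τ = c := by
  obtain ⟨k, hk⟩ := conj_of_connected h.root h.conn hp ht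
  have h1 : (sameCommutingSubgroup D p : Set G).ncard ≤
      (sameCommutingSubgroup D t : Set G).ncard := by
    refine Set.ncard_le_ncard_of_injOn (fun c => k * c * k⁻¹) (fun c hc => ?_)
      (fun a _ b _ e => mul_left_cancel (mul_right_cancel e)) (Set.toFinite _)
    refine (mem_EG h ht).2 ?_
    rcases (mem_EG h hp).1 hc with ⟨hcD, hs⟩ | rfl
    · exact Or.inl ⟨h.root.conj_mem c hcD k, hk ▸ SC_conj h.root k hs⟩
    · exact Or.inr (by group)
  have h2 : f '' (sameCommutingSubgroup D t : Set G) = sameCommutingSubgroup D p := by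
    refine Set.eq_of_subset_of_ncard_le ?_ ?_ (Set.toFinite _)
    · rintro _ ⟨τ, hτ, rfl⟩
      exact hmap τ hτ
    · rw [Set.ncard_image_of_injOn fun a ha b hb e => hinj a ha b hb e]
      exact h1
  intro c hc
  rw [← SetLike.mem_coe, ← h2] at hc
  exact hc

theorem cm_injective {p z t : G} (hp : p ∈ D) (hz : z ∈ W D p) (ht : t ∈ W D p)
    (hzt : ¬ Commute z t) {τ : G} (hτ : τ ∈ sameCommutingSubgroup D t) (hc : cm z τ = 1) :
    τ = 1 := by
  rcases (mem_EG h ht.1).1 hτ with ⟨hτD, hs⟩ | rfl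
  · exact absurd ((hs.commute_iff hz.1).2 (commute_of_cm (msq h hz.1) (msq h hτD) hc)) hzt
  · rfl

/-- The commutator map from `E(t)` to `E(p)` is bijective. -/
theorem bij {p z t : G} (hp : p ∈ D) (hz : z ∈ W D p) (h2 : Two (W D p) z) (ht : t ∈ W D p)
    (hzt : ¬ Commute z t) :
    ∀ c ∈ sameCommutingSubgroup D p, ∃ τ ∈ sameCommutingSubgroup D t, cm z τ = c := by
  refine EG_surj h hp ht.1 (cm z)
    (fun τ hτ => two_cm h hp (Or.inl hz) h2 (EG_w1 h hp ht hτ)) fun τ hτ τ' hτ' e => ?_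
  have h1 : τ * τ' = 1 := by
    refine cm_injective h hp hz ht hzt (mul_mem hτ hτ') ?_
    rw [cm_hom h hp (Or.inl hz) h2 ht hτ hτ', e]
    exact EG_sq h hp (two_cm h hp (Or.inl hz) h2 (EG_w1 h hp ht hτ'))
  rw [mul_eq_one_iff_eq_inv] at h1
  rwa [inv_of_sq (EG_sq h ht.1 hτ')] at h1

/-- Translates by `E(p)` of a noncentral member of `Two` are its conjugates. -/
theorem exists_conj_eq {p z c : G} (hp : p ∈ D) (hz : z ∈ W D p) (h2 : Two (W D p) z)
    (hn : ¬ Cen (W D p) z) (hc : c ∈ sameCommutingSubgroup D p) :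
    ∃ τ : G, Commute τ p ∧ τ * z * τ⁻¹ = z * c := by
  obtain ⟨u, hu, hzu⟩ := not_cen hn
  obtain ⟨τ, hτ, rfl⟩ := bij h hp hz h2 hu hzu c hc
  have hw := EG_w1 h hp hu hτ
  refine ⟨τ, ?_, conj_eq (msq h hz.1) (w1_sq h hw)⟩
  rcases hw with hw | rfl
  · exact hw.2.1
  · exact Commute.one_left _

theorem mul_EG_mem {p z c : G} (hp : p ∈ D) (hz : z ∈ W D p) (h2 : Two (W D p) z)
    (hn : ¬ Cen (W D p) z) (hc : c ∈ sameCommutingSubgroup D p) : z * c ∈ D := by
  obtain ⟨τ, -, hτ⟩ := exists_conj_eq h hp hz h2 hn hc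
  exact hτ ▸ h.root.conj_mem z hz.1 τ

theorem EG_le_gam {p z c : G} (hp : p ∈ D) (hz : RR (W D p) z) (hn : ¬ Cen (W D p) z)
    (hc : c ∈ sameCommutingSubgroup D p) : c ∈ Gam (W D p) := by
  obtain ⟨u, hu, hzu⟩ := not_cen hn
  obtain ⟨τ, hτ, rfl⟩ := bij h hp hz.1 hz.2.1 hu hzu c hc
  rcases EG_w1 h hp hu hτ with hw | rfl
  · exact cm_mem_gam hz.1 hw
  · rw [cm_one_right (msq h hz.1.1)]; exact one_mem _

/-- Two members with commuting product in `D` and different classes are exchanged by an element. -/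
theorem swap {p q : G} (hp : p ∈ D) (hq : q ∈ D) (hpq : Commute p q) (hD : p * q ∈ D)
    (hs : ¬ SC D p q) : ∃ k : G, k * p * k⁻¹ = q ∧ k * q * k⁻¹ = p := by
  have hex : ∀ {p q : G}, p ∈ D → q ∈ D → ¬ SC D p q →
      ∃ y ∈ oddPartners D p, y ∉ oddPartners D q := by
    intro p q hp hq hs
    by_contra h'
    push Not at h'
    exact hs ((commutingMembers_eq_iff h.root h.conn hp hq).2
      (odd_eq_of_subset h.root h.conn hp hq h'))
  obtain ⟨a, ha, -, ha4, hap⟩ := exists_sq_eq h.root hq hp hpq hD (hex hq hp fun e => hs e.symm)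
  obtain ⟨b, hb, -, hb4, hbq⟩ := exists_sq_eq h.root hp hq hpq.symm (hpq.eq ▸ hD) (hex hp hq hs)
  have e1 : a * q * a⁻¹ = q * p := by
    rw [← hap, sq_eq_mul_conj h.root q ha, ← mul_assoc, msq h hq, one_mul]
  have e2 : b * p * b⁻¹ = p * q := by
    rw [← hbq, sq_eq_mul_conj h.root p hb, ← mul_assoc, msq h hp, one_mul]
  have e3 : a * p * a⁻¹ = p := conj_fix (hap ▸ commute_sq_right h.root ha hq ha4).symm
  have e4 : b * q * b⁻¹ = q := conj_fix (hbq ▸ commute_sq_right h.root hb hp hb4).symm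
  refine ⟨a * b * a, ?_, ?_⟩
  · calc a * b * a * p * (a * b * a)⁻¹ = a * (b * (a * p * a⁻¹) * b⁻¹) * a⁻¹ := by group
      _ = a * (p * q) * a⁻¹ := by rw [e3, e2]
      _ = (a * p * a⁻¹) * (a * q * a⁻¹) := by group
      _ = (p * q) * p := by rw [e3, e1]; group
      _ = _ := by rw [hpq.eq, mul_assoc, msq h hp, mul_one]
  · calc a * b * a * q * (a * b * a)⁻¹
        = a * ((b * q * b⁻¹) * (b * p * b⁻¹)) * a⁻¹ := by
          rw [show a * b * a * q * (a * b * a)⁻¹ = a * (b * (a * q * a⁻¹) * b⁻¹) * a⁻¹ by group,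
            e1]; group
      _ = a * (q * q * p) * a⁻¹ := by rw [e4, e2, hpq.eq]; group
      _ = _ := by rw [msq h hq, one_mul, e3]

/-- Symmetry: the class of `p` lies in the `RR` set of any noncentral member of that of `p`. -/
theorem rr_symm {p z c : G} (hp : p ∈ D) (hz : RR (W D p) z) (hn : ¬ Cen (W D p) z)
    (hc : c ∈ D) (hs : SC D p c) :
    RR (W D z) c ∧ ¬ Cen (W D z) c := by
  have hcE : c ∈ sameCommutingSubgroup D p := (mem_EG h hp).2 (Or.inl ⟨hc, hs⟩)
  have hcm : Commute c z := EG_cen h hp hcE z hz.1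
  have hD := mul_EG_mem h hp hz.1 hz.2.1 hn hcE
  have hsc : ¬ SC D c z := fun e =>
    hn (EG_cen h hp ((mem_EG h hp).2 (Or.inl ⟨hz.1.1, hs.trans e⟩)))
  obtain ⟨k, h1, h2⟩ := swap h hc hz.1.1 hcm (hcm.eq ▸ hD) hsc
  have hz' : RR (W D c) z := W_eq hs ▸ hz
  refine ⟨rr_conj h.root h1 hz' h2, fun hC => hn ?_⟩
  have h3 := cen_conj h.root (conj_back h1) hC
  rwa [conj_back h2, ← W_eq hs] at h3

/-- A member with a partner sees `RR` elements mapping onto its class. -/
theorem partner {p z t : G} (hp : p ∈ D) (hz : RR (W D p) z) (ht : t ∈ W D p)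
    (hzt : ¬ Commute z t) :
    ∃ y : G, RR (W D t) y ∧ cm y (cm z t) = t ∧
      (∀ c ∈ sameCommutingSubgroup D p, W1 (W D t) c) ∧
      (∀ c ∈ sameCommutingSubgroup D p, cm y c = 1 → c = 1) ∧
      (∀ τ ∈ sameCommutingSubgroup D t, ∃ c ∈ sameCommutingSubgroup D p, cm y c = τ) := by
  set c := cm z t with hc
  have hcE := two_cm h hp (Or.inl hz.1) hz.2.1 (Or.inl ht)
  have hc1 : c ≠ 1 := fun e => hzt (commute_of_cm (msq h hz.1.1) (msq h ht.1) e)
  obtain ⟨hcD, hs⟩ := ((mem_EG h hp).1 hcE).resolve_right hc1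
  have hct : Commute c t := EG_cen h hp hcE t ht
  have hcW : c ∈ W D t := cm_mem_W_right h hz.1 ht hc1
  have hsc : ¬ SC D c t := fun e => hzt
    (EG_cen h hp ((mem_EG h hp).2 (Or.inl ⟨ht.1, hs.trans e⟩)) z hz.1).symm
  have hctD : c * t ∈ D := by
    rw [hc, ← cm_swap h (Or.inl hz.1) (Or.inl ht), (commute_cm_left h ht (Or.inl hz.1)).eq,
      ← conj_eq (msq h ht.1) (msq h hz.1.1)]
    exact h.root.conj_mem t ht.1 z
  obtain ⟨k, h1, h2⟩ := swap h hcD ht.1 hct hctD hsc
  have hy : RR (W D t) (k * z * k⁻¹) := rr_conj h.root h1 (W_eq hs ▸ hz) rfl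
  have hyc : cm (k * z * k⁻¹) c = t := by
    have h3 := cm_conj k z t
    rw [h2, ← hc, h1] at h3
    exact h3.symm
  have hnc : ¬ Commute (k * z * k⁻¹) c := fun e =>
    ne_one h.root ht.1 (hyc ▸ cm_eq_one (msq h hy.1.1) (msq h hcD) e)
  refine ⟨k * z * k⁻¹, hy, hyc, fun c' hc' => EG_w1 h ht.1 hcW (EG_eq h hs ▸ hc'),
    fun c' hc' => cm_injective h ht.1 hy.1 hcW hnc (EG_eq h hs ▸ hc'), fun τ hτ => ?_⟩
  obtain ⟨c', hc', e⟩ := bij h ht.1 hy.1 hy.2.1 hcW hnc τ hτ
  exact ⟨c', (EG_eq h hs).symm ▸ hc', e⟩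

/-- The product of two members of `Two` with compatible commutators. -/
theorem two_mul' {p u v : G} (hu : W1 (W D p) u) (hv : W1 (W D p) v) (huv : Commute u v)
    (h1 : Two (W D p) u) (h2 : Two (W D p) v) : Two (W D p) (u * v) := fun w hw => by
  rw [cm_mul_left (w1_sq h hu) (w1_sq h hv) (msq h hw.1) huv ((h1 w hw).commute1 hv)]
  exact (h1 w hw).mul (h2 w hw)

theorem rr_mul {p u v : G} (hu : RR (W D p) u) (hv : RR (W D p) v) (huv : Commute u v)
    (hD : u * v ∈ D) : RR (W D p) (u * v) :=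
  ⟨W_line h hu.1 hv.1 huv hD, two_mul' h (Or.inl hu.1) (Or.inl hv.1) huv hu.2.1 hv.2.1,
    mul_mem hu.2.2 hv.2.2⟩

/-- The group generated by `W D p` is a `2`-group. -/
theorem isPGroup_closure (p : G) : IsPGroup 2 (Subgroup.closure (W D p)) := by
  set N := Subgroup.closure (W D p) with hN
  have hNp : ∀ g ∈ N, Commute g p := by
    intro g hg
    induction hg using Subgroup.closure_induction with
    | mem x hx => exact hx.2.1
    | one => exact Commute.one_left _
    | mul x y _ _ a b => exact a.mul_left b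
    | inv x _ a => exact a.inv_left
  set P : Set N := Subtype.val ⁻¹' W D p with hP
  have hgen : Subgroup.closure P = ⊤ := Subgroup.closure_closure_coe_preimage
  have hD' : IsRootInvolutionSet P := by
    refine ⟨fun d hd => ?_, hgen, fun d hd g => ?_, fun a ha b hb => ?_⟩
    · rw [← Subgroup.orderOf_coe]; exact h.root.orderOf_eq _ hd.1
    · exact W_conj h.root (conj_fix (hNp g g.2)) hd
    · by_cases hab : Commute (a : G) (b : G)
      · exact Or.inl (Subtype.ext hab)
      · rcases h.root.pair _ ha.1 _ hb.1 with h' | h' | ⟨h4, -⟩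
        · exact absurd h' hab
        · exact absurd (eq_of_pow_four_odd h.root hb.1 (w_pow_four h ha hb) h' ▸ Commute.refl _) hab
        · refine Or.inr (Or.inr ⟨by rw [← Subgroup.orderOf_coe]; exact h4, ?_⟩)
          show ((a : G) * (b : G)) ^ 2 ∈ W D p
          rw [pow_two]
          exact cm_mem_W h ha hb fun e => hab (commute_of_cm (msq h ha.1) (msq h hb.1) e)
  have htop : pCore 2 N = ⊤ := by
    rw [eq_top_iff, ← hgen, Subgroup.closure_le]
    intro a ha
    refine isolated_mem_pCore hD' ⟨ha, fun b => ⟨fun hab => ?_, fun hab => ?_⟩⟩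
    · exact hab.2.2.1 (Subtype.ext (eq_of_pow_four_odd h.root hab.2.1.1
        (w_pow_four h hab.1 hab.2.1) (by simpa [← Subgroup.orderOf_coe] using hab.2.2.2)))
    · exact hab.2.2.1 (Subtype.ext (eq_of_pow_four_odd h.root hab.2.1.1
        (w_pow_four h hab.1 hab.2.1) (by simpa [← Subgroup.orderOf_coe] using hab.2.2.2)))
  intro w
  obtain ⟨k, hk⟩ := Fusion.isPGroup_pCore 2 N ⟨w, htop ▸ Subgroup.mem_top w⟩
  exact ⟨k, congrArg Subtype.val hk⟩

/-- Descent along the upper central series. -/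
theorem descent {p : G} (P Q : G → Prop) (hP : P 1)
    (hQ : ∀ w ∈ W D p, Q w → ∀ u ∈ W D p, Q (cm w u)) {w : G} (hw : w ∈ W D p) (hQw : Q w)
    (hPw : ¬ P w) : ∃ x ∈ W D p, Q x ∧ ¬ P x ∧ ∀ u ∈ W D p, P (cm x u) := by
  haveI : Fact (Nat.Prime 2) := ⟨Nat.prime_two⟩
  haveI : Group.IsNilpotent (Subgroup.closure (W D p)) := (isPGroup_closure h p).isNilpotent
  obtain ⟨n, hn⟩ := (inferInstance : Group.IsNilpotent (Subgroup.closure (W D p))).nilpotent'
  have key : ∀ m, ∀ w, ∀ hw : w ∈ W D p,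
      (⟨w, Subgroup.subset_closure hw⟩ : Subgroup.closure (W D p)) ∈
        Subgroup.upperCentralSeries _ m → Q w → ¬ P w →
      ∃ x ∈ W D p, Q x ∧ ¬ P x ∧ ∀ u ∈ W D p, P (cm x u) := by
    intro m
    induction m with
    | zero =>
      intro w hw hm _ hPw
      rw [Subgroup.upperCentralSeries_zero, Subgroup.mem_bot] at hm
      exact absurd (congrArg Subtype.val hm) fun e : w = 1 => hPw (e ▸ hP)
    | succ m ih =>
      intro w hw hm hQw hPw
      by_cases hall : ∀ u ∈ W D p, P (cm w u)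
      · exact ⟨w, hw, hQw, hPw, hall⟩
      push Not at hall
      obtain ⟨u, hu, hPu⟩ := hall
      have hne : cm w u ≠ 1 := fun e => hPu (e ▸ hP)
      refine ih _ (cm_mem_W h hw hu hne) ?_ (hQ w hw hQw u hu) hPu
      have h1 := (Subgroup.mem_upperCentralSeries_succ_iff).1 hm ⟨u, Subgroup.subset_closure hu⟩
      convert h1 using 1
      apply Subtype.ext
      simp only [cm, commutatorElement_def, Subgroup.coe_mul, InvMemClass.coe_inv,
        inv_of_sq (msq h hw.1), inv_of_sq (msq h hu.1), mul_assoc]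
  exact key n w hw (hn ▸ Subgroup.mem_top _) hQw hPw

end

end Cfsg.Agent.RootStructure
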