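import Cfsg.Agent.Lib.Fusion.RootStructureBase

/-!
# All commutators inside the isolated set of a root involution are central

The main step of the root structure theorem: every member of `W D p` satisfies `Two`.
-/

set_option autoImplicit false

namespace Cfsg.Agent.RootStructure

open Cfsg Cfsg.Agent.RootInvol

universe u

variable {G : Type u} [Group G] [Finite G] {D : Set G} (h : Hyp D)
include h

/-- An `RR` member `z` in the isolated set of `b`, translated so as to commute with the partner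
`y` of `b`, has `b` in its own `RR` set. -/
theorem corr {p b z y c' : G} (hp : p ∈ D) (hb : b ∈ W D p) (hz : RR (W D p) z)
    (hzn : ¬ Cen (W D p) z) (hzb : z ∈ W D b) (hy : RR (W D b) y)
    (hW : ∀ c ∈ sameCommutingSubgroup D p, W1 (W D b) c)
    (hsur : ∀ τ ∈ sameCommutingSubgroup D b, ∃ c ∈ sameCommutingSubgroup D p, cm y c = τ)
    (hc' : c' ∈ sameCommutingSubgroup D p) (hcc : cm y c' = cm y z) :
    RR (W D p) (z * c') ∧ ¬ Cen (W D p) (z * c') ∧ Commute y (z * c') ∧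
      RR (W D (z * c')) b := by
  obtain ⟨τ, hτp, hτ⟩ := exists_conj_eq h hp hz.1 hz.2.1 hzn hc'
  have hz' : RR (W D p) (z * c') := rr_conj h.root (conj_fix hτp) hz hτ
  have hzn' : ¬ Cen (W D p) (z * c') := fun hC => hzn (by
    have h1 := cen_conj h.root (conj_back (conj_fix hτp)) hC
    rwa [conj_back hτ] at h1)
  have hy2 := msq h hy.1.1
  have hc2 := EG_sq h hp hc'
  have hzc : Commute c' z := EG_cen h hp hc' z hz.1
  have hy' : Commute y (z * c') := by
    refine commute_of_cm hy2 (msq h hz'.1.1) ?_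
    rw [cm_mul_right hy2 (msq h hz.1.1) hc2 hzc.symm, hcc]
    · exact EG_sq h hb.1 (two_cm h hb.1 (Or.inl hy.1) hy.2.1 (Or.inl hzb))
    · exact EG_cen h hb.1 (two_cm h hb.1 (Or.inl hy.1) hy.2.1 (hW c' hc')) z hzb
  refine ⟨hz', hzn', hy', ?_⟩
  obtain ⟨c, hc, hcb⟩ := hsur b (self_mem_EG h hb.1)
  have hc1 : c ≠ 1 := fun e => ne_one h.root hb.1 (by rw [← hcb, e, cm_one_right hy2])
  obtain ⟨hcD, hs⟩ := ((mem_EG h hp).1 hc).resolve_right hc1
  have h1 := (rr_symm h hp hz' hzn' hcD hs).1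
  have h2 : RR (W D (z * c')) (y * c * y⁻¹) := rr_conj h.root (conj_fix hy') h1 rfl
  have h3 : c * (y * c * y⁻¹) = b := by
    rw [← cm_eq_conj c hy2, ← hcb]
    exact cm_swap h (Or.inl hy.1) (hW c hc)
  have h4 := rr_mul h h1 h2 (rr_commute h hz'.1.1 h1 h2) (by rw [h3]; exact hb.1)
  rwa [h3] at h4

/-- The pair lemma. -/
theorem false_of_pair {p e b y c' : G} (hp : p ∈ D) (he : e ∈ W D p) (hb : b ∈ W D p)
    (hη : RR (W D p) (cm e b)) (hηn : ¬ Cen (W D p) (cm e b)) (hy : RR (W D b) y)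
    (hW : ∀ c ∈ sameCommutingSubgroup D p, W1 (W D b) c)
    (hsur : ∀ τ ∈ sameCommutingSubgroup D b, ∃ c ∈ sameCommutingSubgroup D p, cm y c = τ)
    (hc' : c' ∈ sameCommutingSubgroup D p) (hcc : cm y c' = cm y (cm e b))
    (h1 : c' = 1 ∨ e * c' ∈ D) (h2 : ∃ c₁ ∈ D, SC D p c₁ ∧ e * c₁ ∈ D) : False := by
  set η := cm e b with hηdef
  have he2 := msq h he.1
  have hb2 := msq h hb.1
  have hy2 := msq h hy.1.1
  have hη1 : η ≠ 1 := fun e' => ne_one h.root hη.1.1 e'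
  have heb : ¬ Commute e b := fun hc => hη1 (cm_eq_one he2 hb2 hc)
  have hηe : Commute η e := commute_cm_left h he (Or.inl hb)
  have hηb : Commute η b := commute_cm_right h (Or.inl he) hb
  have hηW : η ∈ W D b := cm_mem_W_right h he hb hη1
  obtain ⟨hz', hzn', hyz, hbz⟩ := corr h hp hb hη hηn hηW hy hW hsur hc' hcc
  set z' := η * c' with hz'def
  have hc'e : Commute c' e := EG_cen h hp hc' e he
  have hc'b : Commute c' b := EG_cen h hp hc' b hb
  have hbeb : b * e * b⁻¹ = e * η := conj_eq he2 hb2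
  have hez : e * z' ∈ D := by
    rw [hz'def, ← mul_assoc, ← hbeb]
    rcases h1 with rfl | h1
    · rw [mul_one]; exact h.root.conj_mem e he.1 b
    · rw [show b * e * b⁻¹ * c' = b * (e * c') * b⁻¹ by
        rw [← mul_assoc b e c', mul_assoc (b * e), ← hc'b.inv_right.eq, mul_assoc (b * e)]]
      exact h.root.conj_mem _ h1 b
  have hze : Commute e z' := hηe.symm.mul_right hc'e.symm
  have heW : e ∈ W D z' := X_subset_W h hz'.1.1 he.1 hze hez
  have hηE : η ∈ sameCommutingSubgroup D z' := by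
    rw [hηdef, cm_swap h (Or.inl hb) (Or.inl he)]
    exact two_cm h hz'.1.1 (Or.inl hbz.1) hbz.2.1 (Or.inl heW)
  have hc'1 : c' = 1 := by
    by_contra hne
    obtain ⟨-, hs⟩ := ((mem_EG h hp).1 hc').resolve_right hne
    have h3 : c' ∈ sameCommutingSubgroup D z' := by
      have := mul_mem hηE (self_mem_EG h hz'.1.1)
      rwa [hz'def, ← mul_assoc, msq h hη.1.1, one_mul] at this
    obtain ⟨-, hs'⟩ := ((mem_EG h hz'.1.1).1 h3).resolve_right hne
    exact hzn' (EG_cen h hp ((mem_EG h hp).2 (Or.inl ⟨hz'.1.1, hs.trans hs'.symm⟩)))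
  subst hc'1
  rw [hz'def, mul_one] at hyz hbz
  obtain ⟨c, hc, hcb⟩ := hsur b (self_mem_EG h hb.1)
  have hc1 : c ≠ 1 := fun e' => ne_one h.root hb.1 (by rw [← hcb, e', cm_one_right hy2])
  obtain ⟨hcD, hs⟩ := ((mem_EG h hp).1 hc).resolve_right hc1
  have hyb : Commute y b := hy.1.2.1
  have hce : Commute c e := EG_cen h hp hc e he
  have hcη : Commute c η := EG_cen h hp hc η hη.1
  have h4 : (e * y) ^ 4 = 1 := pow_four_swap
    (pow_four_swap ((X_subset_W h hη.1.1 he.1 hηe.symm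
      (by rw [← hbeb]; exact h.root.conj_mem e he.1 b)).2.2 y hy.1.1 hyz))
  -- conjugation by `y` and `e` on `c`
  have s1 : y * c * y⁻¹ = c * b := by
    rw [conj_eq (msq h hcD) hy2, cm_swap h (Or.inl hy.1) (hW c hc), hcb]
  have s2 : e * b * e⁻¹ = b * η := by
    rw [conj_eq hb2 he2, hηdef, cm_swap h (Or.inl he) (Or.inl hb)]
  have hσ : cm e y * c * (cm e y)⁻¹ = c * η := by
    rw [show cm e y * c * (cm e y)⁻¹ = e * (y * (e * (y * c * y⁻¹) * e⁻¹) * y⁻¹) * e⁻¹ by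
      simp only [cm]; group, s1,
      show e * (c * b) * e⁻¹ = (e * c * e⁻¹) * (e * b * e⁻¹) by group, conj_fix hce.symm, s2,
      show y * (c * (b * η)) * y⁻¹ = (y * c * y⁻¹) * ((y * b * y⁻¹) * (y * η * y⁻¹)) by group,
      s1, conj_fix hyb, conj_fix hyz, show c * b * (b * η) = c * (b * b) * η by group, hb2,
      mul_one, show e * (c * η) * e⁻¹ = (e * c * e⁻¹) * (e * η * e⁻¹) by group,
      conj_fix hce.symm, conj_fix hηe.symm]
  have hey : ¬ Commute e y := fun hcm => by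
    rw [cm_eq_one he2 hy2 hcm, one_mul, inv_one, mul_one] at hσ
    exact hη1 (mul_left_cancel (hσ.symm.trans (mul_one c).symm))
  set s := cm e y with hsdef
  have hsD : s ∈ D := by
    have := sq_mem_of_pow_four h.root he.1 hy.1.1 h4 hey
    rwa [pow_two] at this
  have hse : Commute s e := by
    have := commute_sq_left h.root hy.1.1 he.1 h4
    rwa [pow_two] at this
  have hsW : s ∈ W D e := by
    refine X_subset_W h he.1 hsD hse ?_
    rw [hse.eq, ← conj_eq he2 hy2]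
    exact h.root.conj_mem e he.1 y
  obtain ⟨c₁, hc₁, hs₁, hec₁⟩ := h2
  have hc₁e : Commute c₁ e := EG_cen h hp ((mem_EG h hp).2 (Or.inl ⟨hc₁, hs₁⟩)) e he
  have hc₁W : c₁ ∈ W D e := X_subset_W h he.1 hc₁ hc₁e (by rwa [hc₁e.eq])
  have hcW : c ∈ W D e := class_mem_W h he.1 hc₁W hcD (hs₁.symm.trans hs)
  have hηG : η ∈ Gam (W D e) := by
    have h5 : cm c s = η := by
      rw [cm_eq_conj c (msq h hsD), hσ, ← mul_assoc, msq h hcD, one_mul]
    rw [← h5]
    exact cm_mem_gam hcW hsW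
  have heηD : η * e ∈ D := by
    rw [hηe.eq, ← hbeb]
    exact h.root.conj_mem e he.1 b
  obtain ⟨k, k1, k2⟩ := swap h hη.1.1 he.1 hηe heηD fun hsc =>
    heb ((hsc.commute_iff hb.1).1 hηb.symm).symm
  have heG : e ∈ Gam (W D η) := k1 ▸ gam_conj h.root k2 hηG
  exact heb (commute_gam h hη.1.1 (Or.inl hbz.1) hbz.2.1 heG).symm

/-- The pair lemma when every translate of `e` by the class of `p` lies in `D`. -/
theorem false_of_pair_all {p e b z : G} (hp : p ∈ D) (he : e ∈ W D p) (hb : b ∈ W D p)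
    (hη : RR (W D p) (cm e b)) (hηn : ¬ Cen (W D p) (cm e b)) (hz : RR (W D p) z)
    (hzb : ¬ Commute z b) (hall : ∀ c ∈ D, SC D p c → e * c ∈ D) : False := by
  obtain ⟨y, hy, -, hW, -, hsur⟩ := partner h hp hz hb hzb
  have hηb : cm e b ∈ W D b := cm_mem_W_right h he hb (ne_one h.root hη.1.1)
  obtain ⟨c', hc', hcc⟩ := hsur _ (two_cm h hb.1 (Or.inl hy.1) hy.2.1 (Or.inl hηb))
  refine false_of_pair h hp he hb hη hηn hy hW hsur hc' hcc ?_ ⟨p, hp, rfl, hall p hp rfl⟩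
  rcases (mem_EG h hp).1 hc' with ⟨hD, hs⟩ | h1
  · exact Or.inr (hall c' hD hs)
  · exact Or.inl h1

/-- The sink lemma. -/
theorem sink {p e t z n ξ : G} (hp : p ∈ D) (he : e ∈ W D p) (ht : t ∈ W D p)
    (hz : RR (W D p) z) (hzt : ¬ Commute z t) (hnG : n ∈ Gam (W D p)) (hnt : n ∈ W D t)
    (hne : cm n e = cm z t) (hk : Cen (W D p) (cm e t)) (hξ : W1 (W D p) ξ)
    (hξn : Commute ξ n) (hξk : cm ξ t = cm e t) : False := by
  obtain ⟨y, hy, hyc, hW, -, hsur⟩ := partner h hp hz ht hzt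
  set c := cm z t with hcdef
  have hcE := two_cm h hp (Or.inl hz.1) hz.2.1 (Or.inl ht)
  have hcc : Cen (W D p) c := EG_cen h hp hcE
  have hy2 := msq h hy.1.1
  have he2 := msq h he.1
  have ht2 := msq h ht.1
  have hn2 := msq h hnt.1
  obtain ⟨c', hc', hcr⟩ := hsur _ (two_cm h ht.1 (Or.inl hy.1) hy.2.1 (Or.inl hnt))
  set r := cm y n with hrdef
  have hrE : r ∈ sameCommutingSubgroup D t :=
    two_cm h ht.1 (Or.inl hy.1) hy.2.1 (Or.inl hnt)
  have hc2 := EG_sq h hp hc'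
  set e₁ := e * ξ with he₁
  set k := cm e t with hkdef
  have f1 : e₁ * t * e₁⁻¹ = t := by
    rw [he₁, show e * ξ * t * (e * ξ)⁻¹ = e * (ξ * t * ξ⁻¹) * e⁻¹ by group,
      conj_eq ht2 (w1_sq h hξ), cm_swap h hξ (Or.inl ht), hξk,
      show e * (t * k) * e⁻¹ = (e * t * e⁻¹) * (e * k * e⁻¹) by group, conj_eq ht2 he2,
      cm_swap h (Or.inl he) (Or.inl ht), conj_fix (hk e he).symm, ← hkdef, mul_assoc,
      EG_sq h hp (cm_mem_EG h hp (Or.inl he) (Or.inl ht) hk), mul_one]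
  have f2 : ∀ x, Cen (W D p) x → e₁ * x * e₁⁻¹ = x := fun x hx =>
    conj_fix ((hx e he).symm.mul_left (hx.commute1 hξ).symm)
  have f3 : e₁ * n * e₁⁻¹ = n * c := by
    rw [he₁, show e * ξ * n * (e * ξ)⁻¹ = e * (ξ * n * ξ⁻¹) * e⁻¹ by group, conj_fix hξn,
      conj_eq hn2 he2, hne]
  have f4 : y * n * y⁻¹ = n * r := by
    rw [conj_eq hn2 hy2, cm_swap h (Or.inl hy.1) (Or.inl hnt)]
  have f5 : y * c' * y⁻¹ = c' * r := by
    rw [conj_eq hc2 hy2, cm_swap h (Or.inl hy.1) (hW c' hc'), hcr]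
  have f6 : y * c * y⁻¹ = c * t := by
    rw [conj_eq (EG_sq h hp hcE) hy2, cm_swap h (Or.inl hy.1) (hW c hcE), hyc]
  have f7 : y * t * y⁻¹ = t := conj_fix hy.1.2.1
  have hrc : Commute r c' := (EG_cen h ht.1 hrE).commute1 (hW c' hc')
  set n₂ := n * c' with hn₂
  have g1 : y * n₂ * y⁻¹ = n₂ := by
    rw [hn₂, show y * (n * c') * y⁻¹ = (y * n * y⁻¹) * (y * c' * y⁻¹) by group, f4, f5,
      show n * r * (c' * r) = n * (r * c') * r by group, hrc.eq,
      show n * (c' * r) * r = n * c' * (r * r) by group, EG_sq h ht.1 hrE, mul_one]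
  have g2 : e₁ * n₂ * e₁⁻¹ = n₂ * c := by
    rw [hn₂, show e₁ * (n * c') * e₁⁻¹ = (e₁ * n * e₁⁻¹) * (e₁ * c' * e₁⁻¹) by group, f3,
      f2 c' (EG_cen h hp hc'), mul_assoc, (hcc.commute1 (EG_w1 h hp (self_mem_W h hp) hc')).eq,
      mul_assoc]
  set σ := y * e₁ * y * e₁ with hσ
  have hconj : ∀ x : G, σ * x * σ⁻¹ =
      y * (e₁ * (y * (e₁ * x * e₁⁻¹) * y⁻¹) * e₁⁻¹) * y⁻¹ := fun x => by rw [hσ]; group
  have g3 : σ * c * σ⁻¹ = c := by
    rw [hconj, f2 c hcc, f6,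
      show e₁ * (c * t) * e₁⁻¹ = (e₁ * c * e₁⁻¹) * (e₁ * t * e₁⁻¹) by group, f2 c hcc, f1,
      show y * (c * t) * y⁻¹ = (y * c * y⁻¹) * (y * t * y⁻¹) by group, f6, f7, mul_assoc, ht2,
      mul_one]
  have g4 : σ * n₂ * σ⁻¹ = n₂ * t := by
    rw [hconj, g2, show y * (n₂ * c) * y⁻¹ = (y * n₂ * y⁻¹) * (y * c * y⁻¹) by group, g1, f6,
      show e₁ * (n₂ * (c * t)) * e₁⁻¹ =
        (e₁ * n₂ * e₁⁻¹) * ((e₁ * c * e₁⁻¹) * (e₁ * t * e₁⁻¹)) by group, g2, f2 c hcc, f1,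
      show n₂ * c * (c * t) = n₂ * (c * c) * t by group, EG_sq h hp hcE, mul_one,
      show y * (n₂ * t) * y⁻¹ = (y * n₂ * y⁻¹) * (y * t * y⁻¹) by group, g1, f7]
  have hc1 : c ≠ 1 := fun e' => hzt (commute_of_cm (msq h hz.1.1) ht2 e')
  obtain ⟨hcD, hs⟩ := ((mem_EG h hp).1 hcE).resolve_right hc1
  have hn₂G : n₂ ∈ Gam (W D p) := by
    rw [hn₂]
    exact mul_mem hnG (EG_le_gam h hp hz (fun hC => hzt (hC t ht)) hc')
  have hσG : n₂ * t ∈ Gam (W D p) := by
    have h1 := gam_conj h.root g3 (W_eq hs ▸ hn₂G)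
    rwa [g4, ← W_eq hs] at h1
  have htG : t ∈ Gam (W D p) := by
    have := mul_mem (inv_mem hn₂G) hσG
    rwa [inv_mul_cancel_left] at this
  exact hzt (commute_gam h hp (Or.inl hz.1) hz.2.1 htG)

/-- The groups `E(q)` commute with everything commuting with `q`. -/
theorem EG_commute {q k v : G} (hq : q ∈ D) (hk : k ∈ sameCommutingSubgroup D q) (hv : v ∈ D)
    (hvq : Commute v q) : Commute k v := by
  rcases (mem_EG h hq).1 hk with ⟨-, hs⟩ | rfl
  · exact ((hs.commute_iff hv).1 hvq).symm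
  · exact Commute.one_left _

theorem EG_commute1 {p q k v : G} (hq : q ∈ D) (hk : k ∈ sameCommutingSubgroup D q)
    (hv : W1 (W D p) v) (hvq : Commute v q) : Commute k v := by
  rcases hv with hv | rfl
  · exact EG_commute h hq hk hv.1 hvq
  · exact Commute.one_right _

theorem cm_mem_gam1 {p u v : G} (hu : W1 (W D p) u) (hv : W1 (W D p) v) :
    cm u v ∈ Gam (W D p) := by
  rcases hu with hu | rfl
  swap
  · rw [cm_one_left (w1_sq h hv)]; exact one_mem _
  rcases hv with hv | rfl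
  · exact cm_mem_gam hu hv
  · rw [cm_one_right (msq h hu.1)]; exact one_mem _

omit [Finite G] in
theorem two_one (p : G) : Two (W D p) 1 := two_of_cen h (Or.inr rfl) (cen_one _)

omit [Finite G] in
theorem three_one (p : G) : Three (W D p) 1 := fun u hu => by
  rw [cm_one_left (msq h hu.1)]; exact two_one h p

/-- The identity of a member of `Three` and a commutator. -/
theorem three_identity {p x a t : G} (hp : p ∈ D) (hx : W1 (W D p) x) (h3 : Three (W D p) x)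
    (ha : a ∈ W D p) (ht : t ∈ W D p) :
    cm x (cm a t) = cm (cm x a) t * cm (cm x t) a := by
  have hx2 := w1_sq h hx
  have ha2 := msq h ha.1
  have ht2 := msq h ht.1
  have hz := cm_w1 h hx (Or.inl ha)
  have hz' := cm_w1 h hx (Or.inl ht)
  set z := cm x a with hzdef
  set z' := cm x t with hz'def
  have hd2 := two_cm h hp hz (h3 a ha) (Or.inl ht)
  have hd1 := two_cm h hp hz' (h3 t ht) (Or.inl ha)
  have hzz : Commute z z' := commute_gam h hp hz (h3 a ha) (cm_mem_gam1 h hx (Or.inl ht))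
  have hzt : Commute z' t := commute_cm_right h hx ht
  have hza : Commute z a := commute_cm_right h hx ha
  rw [cm_eq_conj x (w1_sq h (cm_w1 h (Or.inl ha) (Or.inl ht))),
    show cm a t * x * (cm a t)⁻¹ = a * (t * (a * (t * x * t⁻¹) * a⁻¹) * t⁻¹) * a⁻¹ by
      simp only [cm]; group, conj_eq hx2 ht2,
    show a * (x * z') * a⁻¹ = (a * x * a⁻¹) * (a * z' * a⁻¹) by group, conj_eq hx2 ha2,
    conj_eq (w1_sq h hz') ha2,
    show t * (x * z * (z' * cm z' a)) * t⁻¹ =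
      (t * x * t⁻¹) * (t * z * t⁻¹) * (t * z' * t⁻¹) * (t * cm z' a * t⁻¹) by group,
    conj_eq hx2 ht2, conj_eq (w1_sq h hz) ht2, conj_fix hzt.symm,
    conj_fix (EG_cen h hp hd1 t ht).symm]
  set d₂ := cm z t with hd2def
  set d₁ := cm z' a with hd1def
  have e1 : x * z' * (z * d₂) * z' * d₁ = x * z * d₂ * d₁ := by
    have hc : Commute z' (z * d₂) := hzz.symm.mul_right ((EG_cen h hp hd2).commute1 hz').symm
    calc x * z' * (z * d₂) * z' * d₁ = x * (z' * (z * d₂)) * z' * d₁ := by group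
      _ = x * (z * d₂) * (z' * z') * d₁ := by rw [hc.eq]; group
      _ = _ := by rw [w1_sq h hz', mul_one]; group
  rw [e1, show a * (x * z * d₂ * d₁) * a⁻¹ =
      (a * x * a⁻¹) * (a * z * a⁻¹) * (a * d₂ * a⁻¹) * (a * d₁ * a⁻¹) by group, conj_eq hx2 ha2,
    conj_fix hza.symm, conj_fix (EG_cen h hp hd2 a ha).symm,
    conj_fix (EG_cen h hp hd1 a ha).symm]
  calc x * (x * z * z * d₂ * d₁) = (x * x) * (z * z) * (d₂ * d₁) := by group
    _ = _ := by rw [hx2, w1_sq h hz, one_mul, one_mul]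

/-- The triple commutators of a member of `Four` are symmetric in the last two arguments. -/
theorem four_swap {p x a b c : G} (hp : p ∈ D) (hx : x ∈ W D p) (h3 : Three (W D p) (cm x a))
    (hG : ∀ g ∈ Gam (W D p), Commute (cm x a) g)
    (ha : a ∈ W D p) (hb : b ∈ W D p) (hc : c ∈ W D p) :
    cm (cm (cm x a) b) c = cm (cm (cm x a) c) b := by
  have hxa := cm_w1 h (Or.inl hx) (Or.inl ha)
  have h1 := three_identity h hp hxa h3 hb hc
  rw [cm_eq_one (w1_sq h hxa) (w1_sq h (cm_w1 h (Or.inl hb) (Or.inl hc)))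
    (hG _ (cm_mem_gam hb hc))] at h1
  have h2 := eq_inv_of_mul_eq_one_left h1.symm
  rwa [inv_of_sq (EG_sq h hp (two_cm h hp (cm_w1 h hxa (Or.inl hc)) (h3 c hc) (Or.inl hb)))] at h2

/-- The commutator of a member of `Four` with a commutator. -/
theorem four_rho {p x b c : G} (hp : p ∈ D) (hx : x ∈ W D p)
    (h3 : ∀ a ∈ W D p, Three (W D p) (cm x a))
    (hG : ∀ a ∈ W D p, ∀ g ∈ Gam (W D p), Commute (cm x a) g)
    (hb : b ∈ W D p) (hc : c ∈ W D p) :
    cm x (cm b c) = cm (cm x b) c * cm (cm x c) b := by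
  have hx2 := msq h hx.1
  have hb2 := msq h hb.1
  have hc2 := msq h hc.1
  have hxb := cm_w1 h (Or.inl hx) (Or.inl hb)
  have hxc := cm_w1 h (Or.inl hx) (Or.inl hc)
  have hbc := cm_w1 h hxb (Or.inl hc)
  have hcb := cm_w1 h hxc (Or.inl hb)
  have hd : Commute (cm (cm x c) b) c := by
    refine commute_of_cm (w1_sq h hcb) hc2 ?_
    rw [four_swap h hp hx (h3 c hc) (hG c hc) hc hb hc,
      cm_eq_one (w1_sq h hxc) hc2 (commute_cm_right h (Or.inl hx) hc), cm_one_left hb2]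
  have hd' : Commute (cm (cm x b) c) b := by
    refine commute_of_cm (w1_sq h hbc) hb2 ?_
    rw [four_swap h hp hx (h3 b hb) (hG b hb) hb hc hb,
      cm_eq_one (w1_sq h hxb) hb2 (commute_cm_right h (Or.inl hx) hb), cm_one_left hc2]
  set u := cm x b with hu
  set v := cm x c with hv
  set z := cm u c with hz
  set z' := cm v b with hz'
  have hvc : Commute v c := commute_cm_right h (Or.inl hx) hc
  have hub : Commute u b := commute_cm_right h (Or.inl hx) hb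
  have hz'b : Commute z' b := commute_cm_right h hxc hb
  have hvz : Commute v (u * z) := by
    rw [hv]
    exact (hG c hc _ (cm_mem_gam hx hb)).mul_right (hG c hc _ (cm_mem_gam1 h hxb (Or.inl hc)))
  rw [cm_eq_conj x (w1_sq h (cm_w1 h (Or.inl hb) (Or.inl hc))),
    show cm b c * x * (cm b c)⁻¹ = b * (c * (b * (c * x * c⁻¹) * b⁻¹) * c⁻¹) * b⁻¹ by
      simp only [cm]; group, conj_eq hx2 hc2, ← hv,
    show b * (x * v) * b⁻¹ = (b * x * b⁻¹) * (b * v * b⁻¹) by group, conj_eq hx2 hb2,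
    conj_eq (w1_sq h hxc) hb2, ← hu, ← hz',
    show c * (x * u * (v * z')) * c⁻¹ =
      (c * x * c⁻¹) * (c * u * c⁻¹) * (c * v * c⁻¹) * (c * z' * c⁻¹) by group,
    conj_eq hx2 hc2, conj_eq (w1_sq h hxb) hc2, conj_fix hvc.symm, conj_fix hd.symm, ← hv, ← hz]
  have e1 : x * v * (u * z) * v * z' = x * u * z * z' := by
    calc x * v * (u * z) * v * z' = x * (v * (u * z)) * v * z' := by group
      _ = x * (u * z) * (v * v) * z' := by rw [hvz.eq]; group
      _ = _ := by rw [w1_sq h hxc, mul_one]; group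
  rw [e1, show b * (x * u * z * z') * b⁻¹ =
      (b * x * b⁻¹) * (b * u * b⁻¹) * (b * z * b⁻¹) * (b * z' * b⁻¹) by group,
    conj_eq hx2 hb2, conj_fix hub.symm, conj_fix hd'.symm, conj_fix hz'b.symm, ← hu]
  calc x * (x * u * u * z * z') = (x * x) * (u * u) * (z * z') := by group
    _ = _ := by rw [hx2, w1_sq h hxb, one_mul, one_mul]

/-- An `RR` member seeing a noncentral one sees its own class as `RR`. -/
theorem rr_back {q η w : G} (hq : q ∈ D) (hη : RR (W D q) η) (hw : RR (W D q) w)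
    (hwn : ¬ Cen (W D q) w) : RR (W D η) q := by
  by_cases hC : Cen (W D q) η
  · have hE := mem_EG_of_cen h hq (Or.inl hη.1) hC
    obtain ⟨-, hs⟩ := ((mem_EG h hq).1 hE).resolve_right (ne_one h.root hη.1.1)
    rw [← W_eq hs]
    exact ⟨self_mem_W h hq, two_of_cen h (Or.inl (self_mem_W h hq))
      (EG_cen h hq (self_mem_EG h hq)), EG_le_gam h hq hw hwn (self_mem_EG h hq)⟩
  · exact (rr_symm h hq hη hC hq rfl).1

/-- No member has all its commutators in `Three` and centralizing `Gam`. -/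
theorem false_of_four {p x : G} (hp : p ∈ D) (hx : x ∈ W D p)
    (h3 : ∀ a ∈ W D p, Three (W D p) (cm x a))
    (hG : ∀ a ∈ W D p, ∀ g ∈ Gam (W D p), Commute (cm x a) g)
    (hbad : ∃ a ∈ W D p, ¬ Two (W D p) (cm x a))
    (hρ : ∀ b ∈ W D p, ∀ c ∈ W D p, Cen (W D p) (cm x (cm b c))) : False := by
  set T : G → G → G → G := fun a b c => cm (cm (cm x a) b) c with hTdef
  have hz1 : ∀ {a b : G}, a ∈ W D p → b ∈ W D p → W1 (W D p) (cm (cm x a) b) := fun ha hb =>
    cm_w1 h (cm_w1 h (Or.inl hx) (Or.inl ha)) (Or.inl hb)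
  have s12 : ∀ {a b c : G}, a ∈ W D p → b ∈ W D p → c ∈ W D p → T a b c = T a c b :=
    fun ha hb hc => four_swap h hp hx (h3 _ ha) (hG _ ha) ha hb hc
  have s01 : ∀ {a b c : G}, a ∈ W D p → b ∈ W D p → c ∈ W D p → T a b c = T b a c := by
    intro a b c ha hb hc
    have h1 := four_rho h hp hx h3 hG ha hb
    have he := hρ a ha b hb
    have he1 := cm_w1 h (Or.inl hx) (cm_w1 h (Or.inl ha) (Or.inl hb))
    have h2 : cm (cm x a) b = cm x (cm a b) * cm (cm x b) a := by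
      rw [h1, mul_assoc, w1_sq h (hz1 hb ha), mul_one]
    show cm (cm (cm x a) b) c = cm (cm (cm x b) a) c
    rw [h2, cm_mul_left (w1_sq h he1) (w1_sq h (hz1 hb ha)) (msq h hc.1)
      (he.commute1 (hz1 hb ha)) (by
        rw [cm_eq_one (w1_sq h he1) (msq h hc.1) (he c hc)]; exact Commute.one_left _),
      cm_eq_one (w1_sq h he1) (msq h hc.1) (he c hc), one_mul]
  have hrep : ∀ {a b : G}, a ∈ W D p → b ∈ W D p → Commute (cm (cm x a) b) a := by
    intro a b ha hb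
    refine commute_of_cm (w1_sq h (hz1 ha hb)) (msq h ha.1) ?_
    show T a b a = 1
    rw [s12 ha hb ha]
    show cm (cm (cm x a) a) b = 1
    rw [cm_eq_one (w1_sq h (cm_w1 h (Or.inl hx) (Or.inl ha))) (msq h ha.1)
      (commute_cm_right h (Or.inl hx) ha), cm_one_left (msq h hb.1)]
  have hRR : ∀ {a b c : G}, a ∈ W D p → b ∈ W D p → c ∈ W D p → T a b c ≠ 1 →
      RR (W D p) (cm (cm x a) b) ∧ ¬ Cen (W D p) (cm (cm x a) b) ∧
        ¬ Commute (cm (cm x a) b) c ∧ cm (cm x a) b ∈ W D b := by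
    intro a b c ha hb hc hT
    have hnc : ¬ Commute (cm (cm x a) b) c := fun e =>
      hT (cm_eq_one (w1_sq h (hz1 ha hb)) (msq h hc.1) e)
    have hne : cm (cm x a) b ≠ 1 := fun e => hnc (e ▸ Commute.one_left c)
    have hxa : cm x a ∈ W D p := cm_mem_W h hx ha fun e => hne (by
      rw [e, cm_one_left (msq h hb.1)])
    exact ⟨⟨cm_mem_W h hxa hb hne, h3 a ha b hb, cm_mem_gam hxa hb⟩, fun hC => hnc (hC c hc),
      hnc, cm_mem_W_right h hxa hb hne⟩
  obtain ⟨a, ha, hbad⟩ := hbad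
  simp only [Two, not_forall] at hbad
  obtain ⟨b, hb, hbad⟩ := hbad
  obtain ⟨c, hc, hnc⟩ := not_cen hbad
  have hT : T a b c ≠ 1 := fun e => hnc (commute_of_cm (w1_sq h (hz1 ha hb)) (msq h hc.1) e)
  have hTacb : T a c b ≠ 1 := by rwa [← s12 ha hb hc]
  have hTbac : T b a c ≠ 1 := by rwa [← s01 ha hb hc]
  have hTbca : T b c a ≠ 1 := by rwa [← s12 hb ha hc]
  have hTcab : T c a b ≠ 1 := by rwa [← s01 ha hc hb]
  have hTcba : T c b a ≠ 1 := by rwa [← s12 hc ha hb]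
  obtain ⟨hz3, hz3n, -, hz3b⟩ := hRR ha hb hc hT
  obtain ⟨hz3', hz3n', -, hz3a⟩ := hRR hb ha hc hTbac
  obtain ⟨hzac, -, hzacb, -⟩ := hRR ha hc hb hTacb
  obtain ⟨hzbc, -, hzbca, -⟩ := hRR hb hc ha hTbca
  obtain ⟨hzca, -, hzcab, -⟩ := hRR hc ha hb hTcab
  obtain ⟨hn, -, hnca, hnb⟩ := hRR hc hb ha hTcba
  have hη1 := cm_w1 h (Or.inl ha) (Or.inl hb)
  by_cases hηc : Cen (W D p) (cm a b)
  · obtain ⟨a', ha', hk⟩ := bij h hp hn.1 hn.2.1 ha hnca _
      (cm_mem_EG h hp (Or.inl ha) (Or.inl hb) hηc)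
    have hxc := cm_w1 h (Or.inl hx) (Or.inl hc)
    rcases EG_w1 h hp ha ha' with hw | rfl
    · refine sink h hp ha hb hzca hzcab hn.2.2 hnb (s12 hc hb ha) hηc (hz1 hc hw)
        (commute_gam h hp (hz1 hc hw) (h3 c hc a' hw) hn.2.2) ?_
      rw [← hk]
      exact s12 hc hw hb
    · rw [cm_one_right (msq h hn.1.1)] at hk
      refine sink h hp ha hb hzca hzcab hn.2.2 hnb (s12 hc hb ha) hηc (ξ := 1) (Or.inr rfl)
        (Commute.one_left _) ?_
      rw [cm_one_left (msq h hb.1), hk]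
  set η := cm a b with hηdef
  have hηne : η ≠ 1 := fun e => hηc (e ▸ cen_one _)
  have hηW : η ∈ W D p := cm_mem_W h ha hb hηne
  -- the two corrected translates
  obtain ⟨y, hy, -, hW, -, hsur⟩ := partner h hp hzac hb hzacb
  obtain ⟨c', hc', hcc⟩ := hsur _ (two_cm h hb.1 (Or.inl hy.1) hy.2.1 (Or.inl hz3b))
  obtain ⟨hz', hzn', -, hbz⟩ := corr h hp hb hz3 hz3n hz3b hy hW hsur hc' hcc
  obtain ⟨y', hy', -, hW', -, hsur'⟩ := partner h hp hzbc ha hzbca
  obtain ⟨c'', hc'', hcc'⟩ := hsur' _ (two_cm h ha.1 (Or.inl hy'.1) hy'.2.1 (Or.inl hz3a))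
  obtain ⟨hz'', hzn'', -, haz⟩ := corr h hp ha hz3' hz3n' hz3a hy' hW' hsur' hc'' hcc'
  set z' := cm (cm x a) b * c' with hz'def
  set z'' := cm (cm x b) a * c'' with hz''def
  have haz' : Commute a z' := (hrep ha hb).symm.mul_right (EG_cen h hp hc' a ha).symm
  have hbz'' : Commute b z'' := (hrep hb ha).symm.mul_right (EG_cen h hp hc'' b hb).symm
  have hη' : RR (W D z') η := by
    have h1 : RR (W D z') (a * b * a⁻¹) := rr_conj h.root (conj_fix haz') hbz rfl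
    have h2 : b * (a * b * a⁻¹) = η := by
      rw [← cm_eq_conj b (msq h ha.1), hηdef, cm_swap h (Or.inl ha) (Or.inl hb)]
    have h4 := rr_mul h hbz h1 (rr_commute h hz'.1.1 hbz h1) (by rw [h2]; exact hηW.1)
    rwa [h2] at h4
  have hη'' : RR (W D z'') η := by
    have h1 : RR (W D z'') (b * a * b⁻¹) := rr_conj h.root (conj_fix hbz'') haz rfl
    have h2 : a * (b * a * b⁻¹) = η := by rw [← cm_eq_conj a (msq h hb.1)]
    have h4 := rr_mul h haz h1 (rr_commute h hz''.1.1 haz h1) (by rw [h2]; exact hηW.1)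
    rwa [h2] at h4
  set e := z' * z'' with hedef
  have heE : e ∈ sameCommutingSubgroup D p := by
    have h1 : cm (cm x a) b * cm (cm x b) a ∈ sameCommutingSubgroup D p := by
      rw [← four_rho h hp hx h3 hG ha hb]
      exact cm_mem_EG h hp (Or.inl hx) (Or.inl hηW) (hρ a ha b hb)
    have h2 : e = cm (cm x a) b * cm (cm x b) a * (c' * c'') := by
      rw [hedef, hz'def, hz''def, mul_assoc, ← mul_assoc c',
        ((EG_cen h hp hc').commute1 (hz1 hb ha)).eq]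
      group
    rw [h2]
    exact mul_mem h1 (mul_mem hc' hc'')
  have he1 : e ≠ 1 := by
    intro h1
    have hzz : z'' = z' := by
      rw [hedef] at h1
      rw [eq_inv_of_mul_eq_one_right h1, inv_of_sq (msq h hz'.1.1)]
    refine hηne (cm_eq_one (msq h ha.1) (msq h hb.1) (rr_commute h hz'.1.1 (hzz ▸ haz) hbz))
  obtain ⟨heD, hes⟩ := ((mem_EG h hp).1 heE).resolve_right he1
  obtain ⟨hp', hpn'⟩ := rr_symm h hp hz' hzn' hp rfl
  obtain ⟨hp'', hpn''⟩ := rr_symm h hp hz'' hzn'' hp rfl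
  have hr' := rr_back h hz'.1.1 hη' hp' hpn'
  have hr'' := rr_back h hz''.1.1 hη'' hp'' hpn''
  have hre : RR (W D η) e := rr_mul h hr' hr'' (rr_commute h hp hz' hz'') heD
  have hren : ¬ Cen (W D η) e := fun hC => hηc (by
    obtain ⟨-, hs⟩ := ((mem_EG h hηW.1).1 (mem_EG_of_cen h hηW.1 (Or.inl hre.1) hC)).resolve_right
      he1
    exact EG_cen h hp ((mem_EG h hp).2 (Or.inl ⟨hηW.1, hes.trans hs.symm⟩)))
  have hηR : RR (W D p) η := by
    have := (rr_symm h hηW.1 hre hren hηW.1 rfl).1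
    rwa [← W_eq hes] at this
  refine false_of_pair_all h hp ha hb hηR hηc hzac hzacb fun c₀ hc₀ hs₀ => ?_
  obtain ⟨b', hb', hbc⟩ := bij h hp hzca.1 hzca.2.1 hb hzcab c₀
    ((mem_EG h hp).2 (Or.inl ⟨hc₀, hs₀⟩))
  have hb'1 : b' ≠ 1 := fun e' => ne_one h.root hc₀ (by
    rw [← hbc, e', cm_one_right (msq h hzca.1.1)])
  have hb'W := (EG_w1 h hp hb hb').resolve_right hb'1
  have hT' : T c b' a = c₀ := (s12 hc hb'W ha).trans hbc
  obtain ⟨hr, -, -, -⟩ := hRR hc hb'W ha (hT'.symm ▸ ne_one h.root hc₀)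
  have h1 : cm a (cm (cm x c) b') = c₀ := (cm_swap h (Or.inl hr.1) (Or.inl ha)).trans hT'
  rw [← h1, ← conj_eq (msq h ha.1) (msq h hr.1.1)]
  exact h.root.conj_mem a ha.1 _

/-- Members of the class of a noncentral `RR` member satisfy `Two`. -/
theorem two_of_class {p ρ ξ : G} (hp : p ∈ D) (hρ : RR (W D p) ρ) (hn : ¬ Cen (W D p) ρ)
    (hξ : ξ ∈ sameCommutingSubgroup D ρ) : Two (W D p) ξ := by
  rcases (mem_EG h hρ.1.1).1 hξ with ⟨hξD, hs⟩ | rfl
  swap
  · exact two_one h p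
  by_contra h2
  have hξW := class_mem_W h hp hρ.1 hξD hs
  set Q : G → Prop := fun k => ∀ u ∈ W D p, Commute u ρ → Commute k u with hQdef
  have hQξ : Q ξ := fun u hu hc => EG_commute h hρ.1.1 hξ hu.1 hc
  have hQgam : ∀ k, Q k → ∀ g ∈ Gam (W D p), Commute k g := by
    intro k hk g hg
    induction hg using Subgroup.closure_induction with
    | mem g hg =>
      obtain ⟨u, hu, v, hv, rfl⟩ := hg
      rcases cm_w1 h (Or.inl hu) (Or.inl hv) with hw | hw
      · exact hk _ hw (commute_gam h hp (Or.inl hρ.1) hρ.2.1 (cm_mem_gam hu hv)).symm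
      · rw [hw]; exact Commute.one_right _
    | one => exact Commute.one_right _
    | mul x y _ _ h1 h2 => exact h1.mul_right h2
    | inv x _ h1 => exact h1.inv_right
  have hQ : ∀ w ∈ W D p, Q w → ∀ u ∈ W D p, Q (cm w u) := by
    intro w hw hQw u hu v hv hvρ
    have hu2 := msq h hu.1
    have hc := two_cm h hp (Or.inl hρ.1) hρ.2.1 (Or.inl hu)
    have hv' := conj_mem_W h hv (Or.inl hu)
    have h1 : Commute (u * v * u⁻¹) (ρ * cm ρ u) := by
      rw [← conj_eq (msq h hρ.1.1) hu2]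
      exact hvρ.map (MulAut.conj u).toMonoidHom
    have h2 : Commute (u * v * u⁻¹) ρ := by
      have := h1.mul_right (EG_cen h hp hc _ hv').symm.inv_right
      rwa [mul_inv_cancel_right] at this
    have h3 : Commute (u * w * u⁻¹) v := by
      have := (hQw _ hv' h2).map (MulAut.conj u).toMonoidHom
      simp only [MulEquiv.coe_toMonoidHom, MulAut.conj_apply] at this
      rwa [show u * (u * v * u⁻¹) * u⁻¹ = (u * u) * v * (u * u)⁻¹ by group, hu2, one_mul,
        inv_one, mul_one] at this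
    rw [cm_eq_conj w hu2]
    exact (hQw v hv hvρ).mul_left h3
  by_cases h3 : Three (W D p) ξ
  · simp only [Two, not_forall] at h2
    obtain ⟨a, ha, h2⟩ := h2
    obtain ⟨t, ht, hzt⟩ := not_cen h2
    have hz1 : cm ξ a ≠ 1 := fun e => hzt (e ▸ Commute.one_left t)
    have hz : RR (W D p) (cm ξ a) := ⟨cm_mem_W h hξW ha hz1, h3 a ha, cm_mem_gam hξW ha⟩
    have hid := three_identity h hp (Or.inl hξW) h3 ha ht
    rw [cm_eq_one (msq h hξD) (w1_sq h (cm_w1 h (Or.inl ha) (Or.inl ht)))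
      (hQgam ξ hQξ _ (cm_mem_gam ha ht))] at hid
    have hz'n : ¬ Cen (W D p) (cm ξ t) := fun hC => hzt (by
      rw [cm_eq_one (w1_sq h (cm_w1 h (Or.inl hξW) (Or.inl ht))) (msq h ha.1) (hC a ha),
        mul_one] at hid
      exact commute_of_cm (msq h hz.1.1) (msq h ht.1) hid.symm)
    have hη : RR (W D p) (cm ξ t) :=
      ⟨cm_mem_W h hξW ht fun e => hz'n (e ▸ cen_one _), h3 t ht, cm_mem_gam hξW ht⟩
    refine false_of_pair_all h hp hξW ht hη hz'n hz hzt fun c hc hcs => ?_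
    obtain ⟨hcR, hcn⟩ := rr_symm h hp hρ hn hc hcs
    rw [(EG_cen h hρ.1.1 hξ c hcR.1).eq]
    exact mul_EG_mem h hρ.1.1 hcR.1 hcR.2.1 hcn hξ
  · obtain ⟨k, hk, hQk, hkn, hk4⟩ := descent h (Three (W D p)) Q (three_one h p) hQ hξW hQξ h3
    simp only [Three, not_forall] at hkn
    obtain ⟨a, ha, hkn⟩ := hkn
    refine false_of_four h hp hk hk4 (fun b hb => hQgam _ (hQ k hk hQk b hb)) ⟨a, ha, hkn⟩
      fun b hb c hc => ?_
    rw [cm_eq_one (msq h hk.1) (w1_sq h (cm_w1 h (Or.inl hb) (Or.inl hc)))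
      (hQgam k hQk _ (cm_mem_gam hb hc))]
    exact cen_one _

/-- The class of a noncentral `RR` member maps onto `E(p)`. -/
theorem exists_xi {p z t : G} (hp : p ∈ D) (hz : RR (W D p) z) (ht : t ∈ W D p)
    (hzt : ¬ Commute z t) :
    ∀ c ∈ sameCommutingSubgroup D p, ∃ ξ ∈ sameCommutingSubgroup D z, cm ξ t = c := by
  have hn : ¬ Cen (W D p) z := fun hC => hzt (hC t ht)
  have ht2 := msq h ht.1
  have hmap : ∀ ξ ∈ sameCommutingSubgroup D z, cm ξ t ∈ sameCommutingSubgroup D p := fun ξ hξ =>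
    two_cm h hp (EG_w1 h hp hz.1 hξ) (two_of_class h hp hz hn hξ) (Or.inl ht)
  refine EG_surj h hp hz.1.1 (fun ξ => cm ξ t) hmap fun ξ hξ ξ' hξ' e => ?_
  change cm ξ t = cm ξ' t at e
  have h1 : cm (ξ * ξ') t = 1 := by
    rw [cm_mul_left (EG_sq h hz.1.1 hξ) (EG_sq h hz.1.1 hξ') ht2
      ((EG_cen h hz.1.1 hξ).commute1 (EG_w1 h hz.1.1 (self_mem_W h hz.1.1) hξ'))
      ((EG_cen h hp (hmap ξ hξ)).commute1 (EG_w1 h hp hz.1 hξ')), e]
    exact EG_sq h hp (hmap ξ' hξ')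
  rcases (mem_EG h hz.1.1).1 (mul_mem hξ hξ') with ⟨hD, hs⟩ | h2
  · exact absurd ((hs.commute_iff ht.1).2 (commute_of_cm (msq h hD) ht2 h1).symm).symm hzt
  · rw [mul_eq_one_iff_eq_inv, inv_of_sq (EG_sq h hz.1.1 hξ')] at h2
    exact h2

/-- A member of `Three` with a translate in `D` satisfies `Two`. -/
theorem two_of_three {p x c₁ : G} (hp : p ∈ D) (hx : x ∈ W D p) (h3 : Three (W D p) x)
    (hc₁ : c₁ ∈ D) (hs₁ : SC D p c₁) (hxc : x * c₁ ∈ D) : Two (W D p) x := by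
  by_contra h2
  simp only [Two, not_forall] at h2
  obtain ⟨a, ha, h2⟩ := h2
  obtain ⟨t, ht, hzt⟩ := not_cen h2
  have hx2 := msq h hx.1
  set z := cm x a with hzdef
  have hz1 : z ≠ 1 := fun e => hzt (e ▸ Commute.one_left t)
  have hz : RR (W D p) z := ⟨cm_mem_W h hx ha hz1, h3 a ha, cm_mem_gam hx ha⟩
  obtain ⟨y, hy, -, hW, hinj, hsur⟩ := partner h hp hz ht hzt
  have hy2 := msq h hy.1.1
  have hcls : ∀ τ ∈ sameCommutingSubgroup D t, τ ≠ 1 →
      τ ∈ W D p ∧ SC D t τ ∧ W D τ = W D t := by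
    intro τ hτ h1
    obtain ⟨hτD, hs⟩ := ((mem_EG h ht.1).1 hτ).resolve_right h1
    exact ⟨class_mem_W h hp ht hτD hs, hs, (W_eq hs).symm⟩
  have hη : ∀ τ ∈ sameCommutingSubgroup D t, τ ≠ 1 →
      RR (W D p) (cm x τ) ∧ ¬ Cen (W D p) (cm x τ) := by
    intro τ hτ h1
    obtain ⟨hτW, hs, -⟩ := hcls τ hτ h1
    have hzτ : ¬ Commute z τ := fun e => hzt ((hs.commute_iff hz.1.1).2 e)
    have hC : ¬ Cen (W D p) (cm x τ) := by
      intro hC
      have hn1 := cm_w1 h (Or.inl ha) (Or.inl hτW)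
      have hne : cm (cm a τ) x = cm z τ := by
        rw [cm_swap h (Or.inl hx) hn1, three_identity h hp (Or.inl hx) h3 ha hτW,
          cm_eq_one (w1_sq h (cm_w1 h (Or.inl hx) (Or.inl hτW))) (msq h ha.1) (hC a ha),
          mul_one]
      have hn : cm a τ ≠ 1 := fun e => hzτ (by
        rw [e, cm_one_left hx2] at hne
        exact commute_of_cm (msq h hz.1.1) (msq h hτW.1) hne.symm)
      obtain ⟨ξ, hξ, hξk⟩ := exists_xi h hp hz hτW hzτ _
        (cm_mem_EG h hp (Or.inl hx) (Or.inl hτW) hC)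
      refine sink h hp hx hτW hz hzτ (cm_mem_gam ha hτW) (cm_mem_W_right h ha hτW hn) hne hC
        (EG_w1 h hp hz.1 hξ) (EG_commute1 h hz.1.1 hξ hn1 ?_) hξk
      exact (commute_gam h hp (Or.inl hz.1) hz.2.1 (cm_mem_gam ha hτW)).symm
    exact ⟨⟨cm_mem_W h hx hτW fun e => hC (e ▸ cen_one _), h3 τ hτW, cm_mem_gam hx hτW⟩, hC⟩
  have hηW : ∀ τ ∈ sameCommutingSubgroup D t, W1 (W D t) (cm x τ) := by
    intro τ hτ
    by_cases h1 : τ = 1
    · exact Or.inr (by rw [h1, cm_one_right hx2])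
    obtain ⟨hτW, -, hWτ⟩ := hcls τ hτ h1
    exact Or.inl (hWτ ▸ cm_mem_W_right h hx hτW (ne_one h.root (hη τ hτ h1).1.1.1))
  have hex : ∀ τ, ∃ c, τ ∈ sameCommutingSubgroup D t →
      c ∈ sameCommutingSubgroup D p ∧ cm y c = cm y (cm x τ) := by
    intro τ
    by_cases hτ : τ ∈ sameCommutingSubgroup D t
    · obtain ⟨c, hc, e⟩ := hsur _ (two_cm h ht.1 (Or.inl hy.1) hy.2.1 (hηW τ hτ))
      exact ⟨c, fun _ => ⟨hc, e⟩⟩
    · exact ⟨1, fun h' => absurd h' hτ⟩
  choose μ hμ using hex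
  have hfin : ∀ τ ∈ sameCommutingSubgroup D t, τ ≠ 1 → ∀ c' ∈ sameCommutingSubgroup D p,
      cm y c' = cm y (cm x τ) → (c' = 1 ∨ x * c' ∈ D) → False := by
    intro τ hτ h1 c' hc' hcc hor
    obtain ⟨hτW, hs, hWτ⟩ := hcls τ hτ h1
    obtain ⟨hR, hC⟩ := hη τ hτ h1
    exact false_of_pair h hp hx hτW hR hC (y := y) (hWτ ▸ hy)
      (fun c hc => hWτ ▸ hW c hc) (fun σ hσ => hsur σ (EG_eq h hs ▸ hσ)) hc' hcc hor
      ⟨c₁, hc₁, hs₁, hxc⟩
  by_cases hi : ∀ τ ∈ sameCommutingSubgroup D t, ∀ τ' ∈ sameCommutingSubgroup D t,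
      μ τ = μ τ' → τ = τ'
  · obtain ⟨τ, hτ, e⟩ := EG_surj h hp ht.1 μ (fun τ hτ => (hμ τ hτ).1) hi c₁
      ((mem_EG h hp).2 (Or.inl ⟨hc₁, hs₁⟩))
    obtain ⟨hcE, hcc⟩ := hμ τ hτ
    rw [e] at hcE hcc
    refine hfin τ hτ (fun h1 => ne_one h.root hc₁ (hinj c₁ hcE ?_)) c₁ hcE hcc (Or.inr hxc)
    rw [hcc, h1, cm_one_right hx2, cm_one_right hy2]
  · push Not at hi
    obtain ⟨τ, hτ, τ', hτ', e, hne⟩ := hi
    have hne' : τ * τ' ≠ 1 := fun h1 => hne (by
      rwa [mul_eq_one_iff_eq_inv, inv_of_sq (EG_sq h ht.1 hτ')] at h1)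
    refine hfin _ (mul_mem hτ hτ') hne' 1 (one_mem _) ?_ (Or.inl rfl)
    have hw := EG_w1 h hp ht hτ
    have hw' := EG_w1 h hp ht hτ'
    have hcomm : Commute τ τ' :=
      (EG_cen h ht.1 hτ).commute1 (EG_w1 h ht.1 (self_mem_W h ht.1) hτ')
    have hητ : Commute (cm x τ') τ := by
      by_cases h1 : τ' = 1
      · rw [h1, cm_one_right hx2]; exact Commute.one_left _
      obtain ⟨hτW, hs, -⟩ := hcls τ' hτ' h1
      exact (EG_commute1 h hτW.1 (EG_eq h hs ▸ hτ) (cm_w1 h (Or.inl hx) (Or.inl hτW))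
        (commute_cm_right h (Or.inl hx) hτW)).symm
    have hηc : Commute (cm x τ) (cm x τ') := by
      by_cases h1 : τ = 1
      · rw [h1, cm_one_right hx2]; exact Commute.one_left _
      by_cases h1' : τ' = 1
      · rw [h1', cm_one_right hx2]; exact Commute.one_right _
      exact rr_commute h hp (hη τ hτ h1).1 (hη τ' hτ' h1').1
    rw [cm_mul_right hx2 (w1_sq h hw) (w1_sq h hw') hcomm hητ,
      cm_mul_right hy2 (w1_sq h (hηW τ hτ)) (w1_sq h (hηW τ' hτ')) hηc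
        ((EG_cen h ht.1 (two_cm h ht.1 (Or.inl hy.1) hy.2.1 (hηW τ' hτ'))).commute1 (hηW τ hτ)),
      ← (hμ τ hτ).2, ← (hμ τ' hτ').2, e, cm_one_right hy2]
    exact (EG_sq h ht.1 (two_cm h ht.1 (Or.inl hy.1) hy.2.1 (hW _ (hμ τ' hτ').1))).symm

/-- All commutators inside `W D p` are central in it. -/
theorem two_all {p w : G} (hp : p ∈ D) (hw : w ∈ W D p) : Two (W D p) w := by
  by_cases hall : ∀ x ∈ W D p, Three (W D p) x
  · by_contra h2
    simp only [Two, not_forall] at h2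
    obtain ⟨a, ha, h2⟩ := h2
    obtain ⟨t, ht, hzt⟩ := not_cen h2
    have hz1 : cm w a ≠ 1 := fun e => hzt (e ▸ Commute.one_left t)
    have hz : RR (W D p) (cm w a) := ⟨cm_mem_W h hw ha hz1, hall w hw a ha, cm_mem_gam hw ha⟩
    have hne : cm (cm w a) t ≠ 1 := fun e => hzt (commute_of_cm (msq h hz.1.1) (msq h ht.1) e)
    obtain ⟨hcD, hs⟩ := ((mem_EG h hp).1
      (two_cm h hp (Or.inl hz.1) hz.2.1 (Or.inl ht))).resolve_right hne
    refine hzt (commute_gam h hp (Or.inl ht) (two_of_three h hp ht (hall t ht) hcD hs ?_)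
      hz.2.2).symm
    rw [cm_swap h (Or.inl ht) (Or.inl hz.1)]
    rw [← conj_eq (msq h ht.1) (msq h hz.1.1)]
    exact h.root.conj_mem t ht.1 _
  push Not at hall
  obtain ⟨x₀, hx₀, h₀⟩ := hall
  obtain ⟨x, hx, -, hxn, h4⟩ := descent h (Three (W D p)) (fun _ => True) (three_one h p)
    (fun _ _ _ _ _ => trivial) hx₀ trivial h₀
  exfalso
  have hx2 := msq h hx.1
  have hG : ∀ a ∈ W D p, ∀ g ∈ Gam (W D p), Commute (cm x a) g := by
    intro a ha g hg
    induction hg using Subgroup.closure_induction with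
    | mem g hg =>
      obtain ⟨u, hu, v, hv, rfl⟩ := hg
      by_contra hnc
      have hxa : cm x a ∈ W D p := cm_mem_W h hx ha fun e => hnc (e ▸ Commute.one_left _)
      have hn1 := cm_w1 h (Or.inl hu) (Or.inl hv)
      have hne : cm (cm x a) (cm u v) ≠ 1 := fun e =>
        hnc (commute_of_cm (msq h hxa.1) (w1_sq h hn1) e)
      have hcE : cm (cm x a) (cm u v) ∈ sameCommutingSubgroup D p := by
        rw [three_identity h hp (Or.inl hxa) (h4 a ha) hu hv]
        exact mul_mem (two_cm h hp (cm_w1 h (Or.inl hxa) (Or.inl hu)) (h4 a ha u hu) (Or.inl hv))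
          (two_cm h hp (cm_w1 h (Or.inl hxa) (Or.inl hv)) (h4 a ha v hv) (Or.inl hu))
      obtain ⟨hcD, hs⟩ := ((mem_EG h hp).1 hcE).resolve_right hne
      refine hnc (commute_gam h hp (Or.inl hxa) (two_of_three h hp hxa (h4 a ha) hcD hs ?_)
        (cm_mem_gam hu hv))
      rw [← conj_eq (msq h hxa.1) (w1_sq h hn1)]
      exact h.root.conj_mem _ hxa.1 _
    | one => exact Commute.one_right _
    | mul x y _ _ h1 h2 => exact h1.mul_right h2
    | inv x _ h1 => exact h1.inv_right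
  simp only [Three, not_forall] at hxn
  by_cases hρ : ∀ b ∈ W D p, ∀ c ∈ W D p, Cen (W D p) (cm x (cm b c))
  · obtain ⟨a, ha, ha2⟩ := hxn
    exact false_of_four h hp hx h4 hG ⟨a, ha, ha2⟩ hρ
  push Not at hρ
  obtain ⟨b, hb, c, hc, hρn⟩ := hρ
  set n := cm b c with hndef
  set ρ := cm x n with hρdef
  have hn1 : n ≠ 1 := fun e => hρn (by rw [hρdef, e, cm_one_right hx2]; exact cen_one _)
  have hnW : n ∈ W D p := cm_mem_W h hb hc hn1
  have hn2 := msq h hnW.1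
  have hρ1 : ρ ≠ 1 := fun e => hρn (e ▸ cen_one _)
  have hρR : RR (W D p) ρ := by
    refine ⟨cm_mem_W h hx hnW hρ1, ?_, cm_mem_gam hx hnW⟩
    rw [hρdef, hndef, four_rho h hp hx h4 hG hb hc]
    have hxb := cm_w1 h (Or.inl hx) (Or.inl hb)
    have hxc := cm_w1 h (Or.inl hx) (Or.inl hc)
    exact two_mul' h (cm_w1 h hxb (Or.inl hc)) (cm_w1 h hxc (Or.inl hb))
      (commute_gam h hp (cm_w1 h hxb (Or.inl hc)) (h4 b hb c hc)
        (cm_mem_gam1 h hxc (Or.inl hb))) (h4 b hb c hc) (h4 c hc b hb)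
  have hρn2 : Commute n ρ := (commute_cm_right h (Or.inl hx) hnW).symm
  have hshift : ∀ w' ∈ W D p, cm x (cm n w') = cm ρ w' := by
    intro w' hw'
    have hw2 := msq h hw'.1
    have he := two_cm h hp (Or.inl hρR.1) hρR.2.1 (Or.inl hw')
    have hq := cm_w1 h (Or.inl hx) (Or.inl hw')
    set q := cm x w' with hqdef
    have hqn : Commute q n := hG w' hw' n (cm_mem_gam hb hc)
    have hqρ : Commute q ρ := hG w' hw' ρ hρR.2.2
    have hqe : Commute q (cm ρ w') := ((EG_cen h hp he).commute1 hq).symm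
    have hwq : Commute w' q := (commute_cm_right h (Or.inl hx) hw').symm
    rw [cm_eq_conj x (w1_sq h (cm_w1 h (Or.inl hnW) (Or.inl hw'))),
      show cm n w' * x * (cm n w')⁻¹ = n * (w' * (n * (w' * x * w'⁻¹) * n⁻¹) * w'⁻¹) * n⁻¹ by
        simp only [cm]; group, conj_eq hx2 hw2, ← hqdef,
      show n * (x * q) * n⁻¹ = (n * x * n⁻¹) * (n * q * n⁻¹) by group, conj_eq hx2 hn2, ← hρdef,
      conj_fix hqn.symm,
      show w' * (x * ρ * q) * w'⁻¹ = (w' * x * w'⁻¹) * (w' * ρ * w'⁻¹) * (w' * q * w'⁻¹) by group,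
      conj_eq hx2 hw2, ← hqdef, conj_eq (msq h hρR.1.1) hw2, conj_fix hwq]
    have e1 : x * q * (ρ * cm ρ w') * q = x * ρ * cm ρ w' := by
      calc x * q * (ρ * cm ρ w') * q = x * (q * (ρ * cm ρ w')) * q := by group
        _ = x * (ρ * cm ρ w') * (q * q) := by rw [(hqρ.mul_right hqe).eq]; group
        _ = _ := by rw [w1_sq h hq, mul_one]; group
    rw [e1, show n * (x * ρ * cm ρ w') * n⁻¹ =
        (n * x * n⁻¹) * (n * ρ * n⁻¹) * (n * cm ρ w' * n⁻¹) by group, conj_eq hx2 hn2,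
      ← hρdef, conj_fix hρn2, conj_fix (EG_cen h hp he n hnW).symm]
    calc x * (x * ρ * ρ * cm ρ w') = (x * x) * (ρ * ρ) * cm ρ w' := by group
      _ = _ := by rw [hx2, msq h hρR.1.1, one_mul, one_mul]
  obtain ⟨w, hwW, hρw⟩ := not_cen hρn
  have he0 := two_cm h hp (Or.inl hρR.1) hρR.2.1 (Or.inl hwW)
  have he01 : cm ρ w ≠ 1 := fun e => hρw (commute_of_cm (msq h hρR.1.1) (msq h hwW.1) e)
  have hxall : ∀ c ∈ D, SC D p c → x * c ∈ D := by
    intro c hcD hs
    obtain ⟨w', hw', e⟩ := bij h hp hρR.1 hρR.2.1 hwW hρw c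
      ((mem_EG h hp).2 (Or.inl ⟨hcD, hs⟩))
    have hw'W := (EG_w1 h hp hwW hw').resolve_right fun e' => ne_one h.root hcD (by
      rw [← e, e', cm_one_right (msq h hρR.1.1)])
    rw [← e, ← hshift w' hw'W,
      ← conj_eq hx2 (w1_sq h (cm_w1 h (Or.inl hnW) (Or.inl hw'W)))]
    exact h.root.conj_mem x hx.1 _
  have hxw := cm_w1 h (Or.inl hx) (Or.inl hwW)
  by_cases hw2 : Two (W D p) (cm x w)
  swap
  · have hxwW : cm x w ∈ W D p := hxw.resolve_right fun e => hw2 (e ▸ two_one h p)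
    obtain ⟨he0D, hs⟩ := ((mem_EG h hp).1 he0).resolve_right he01
    refine hw2 (two_of_three h hp hxwW (h4 w hwW) he0D hs ?_)
    have hxρ : Commute x ρ := (commute_cm_left h hx (Or.inl hnW)).symm
    have h1 : cm (x * ρ) w = cm x w * cm ρ w :=
      cm_mul_left hx2 (msq h hρR.1.1) (msq h hwW.1) hxρ (hG w hwW ρ hρR.2.2)
    rw [← h1]
    refine (cm_mem_W h (conj_mem_W h hx (Or.inl hnW)) hwW ?_).1 |> fun h' => by
      rwa [conj_eq hx2 hn2, ← hρdef] at h'
    rw [conj_eq hx2 hn2, ← hρdef, h1]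
    intro e
    rw [mul_eq_one_iff_eq_inv, inv_of_sq (EG_sq h hp he0)] at e
    exact hw2 (e ▸ two_of_cen h (Or.inl (class_mem_W h hp (self_mem_W h hp) he0D hs))
      (EG_cen h hp he0))
  by_cases hwc : Cen (W D p) (cm x w)
  · obtain ⟨ξ, hξ, hξk⟩ := exists_xi h hp hρR hwW hρw _
      (cm_mem_EG h hp (Or.inl hx) (Or.inl hwW) hwc)
    have hn' : cm n w ≠ 1 := fun e => he01 (by rw [← hshift w hwW, e, cm_one_right hx2])
    refine sink h hp hx hwW hρR hρw (cm_mem_gam hnW hwW) (cm_mem_W_right h hnW hwW hn') ?_ hwc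
      (EG_w1 h hp hρR.1 hξ) (EG_commute1 h hρR.1.1 hξ (cm_w1 h (Or.inl hnW) (Or.inl hwW))
        (commute_gam h hp (Or.inl hρR.1) hρR.2.1 (cm_mem_gam hnW hwW)).symm) hξk
    rw [cm_swap h (Or.inl hx) (cm_w1 h (Or.inl hnW) (Or.inl hwW)), hshift w hwW]
  · exact false_of_pair_all h hp hx hwW
      ⟨hxw.resolve_right fun e => hwc (e ▸ cen_one _), hw2, cm_mem_gam hx hwW⟩ hwc hρR hρw hxall

end Cfsg.Agent.RootStructure
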