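import Cfsg.Agent.Lib.Fusion.ThompsonFactor

/-!
# Basic properties of the stable normal closure
-/

set_option autoImplicit false
set_option linter.style.haveILetI false

open Cfsg

namespace Cfsg.Agent.Fusion

universe u

variable {S : Type u} [Group S] {S' : Type u} [Group S'] {p : ℕ}

theorem omegaOne_center_eq : omegaOne p (Subgroup.center S) = omegaZ p (⊤ : Subgroup S) := by
  rw [omegaZ, Subgroup.coe_top, Subgroup.centralizer_univ, top_inf_eq]

theorem map_omegaOne_center (η : S ≃* S') :
    (omegaOne p (Subgroup.center S)).map η.toMonoidHom = omegaOne p (Subgroup.center S') := by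
  rw [omegaOne_center_eq, omegaOne_center_eq, omegaZ_map _ _ η.injective.injOn,
    Subgroup.map_top_of_surjective _ η.surjective]

theorem thompsonSubgroup_map [Finite S] [Finite S'] [Fact p.Prime] (η : S ≃* S') :
    (thompsonSubgroup p S).map η.toMonoidHom = thompsonSubgroup p S' := by
  rw [thompsonSubgroup_eq_jElem_top, thompsonSubgroup_eq_jElem_top,
    jElem_map_injOn _ _ η.injective.injOn, Subgroup.map_top_of_surjective _ η.surjective]

theorem omegaCenterThompson_map [Finite S] [Finite S'] [Fact p.Prime] (η : S ≃* S') :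
    (omegaCenterThompson p S).map η.toMonoidHom = omegaCenterThompson p S' := by
  show (omegaZ p (thompsonSubgroup p S)).map _ = omegaZ p (thompsonSubgroup p S')
  rw [omegaZ_map _ _ η.injective.injOn, thompsonSubgroup_map]

/-- Composing a stable embedding with an isomorphism. -/
theorem isStableEmbedding_comp [Finite S] [Finite S'] [Fact p.Prime] {H : Type u} [Group H] {τ : S' →* H}
    (h : IsStableEmbedding p τ) (η : S ≃* S') : IsStableEmbedding p (τ.comp η.toMonoidHom) := by
  obtain ⟨h1, h2, ⟨P, hP⟩, h4, h5, h6⟩ := h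
  refine ⟨h1.comp η.injective, h2, ⟨P, ?_⟩, h4, ?_, fun V hVn hV => ?_⟩
  · rw [hP, MonoidHom.range_eq_map, MonoidHom.range_eq_map, ← Subgroup.map_map,
      Subgroup.map_top_of_surjective η.toMonoidHom η.surjective]
  · rw [← Subgroup.map_map, thompsonSubgroup_map]; exact h5
  · haveI := hVn
    rw [← Subgroup.map_map, omegaCenterThompson_map] at hV
    exact h6 V hV

/-- `Ω₁(Z(J(S)))` qualifies in the definition of the stable normal closure. -/
theorem omegaCenterThompson_mem [Finite S] [Fact p.Prime] :
    omegaCenterThompson p S ∈ {W : Subgroup S | omegaOne p (Subgroup.center S) ≤ W ∧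
      ∀ (H : Type u) [Group H] (τ : S →* H), IsStableEmbedding p τ → (W.map τ).Normal} := by
  refine ⟨(Subgroup.closure_le _).2 fun x hx => ?_, fun H _ τ hτ => ?_⟩
  · have hxc : x ∈ Subgroup.centralizer (thompsonSubgroup p S : Set S) :=
      Subgroup.mem_centralizer_iff.2 fun y _ => Subgroup.mem_center_iff.1 hx.1 y
    exact Subgroup.subset_closure ⟨⟨mem_thompson_of_centralizes hxc hx.2, hxc⟩, hx.2⟩
  · haveI := hτ.2.1
    haveI := hτ.2.2.2.2.1
    show ((omegaZ p (thompsonSubgroup p S)).map τ).Normal
    rw [omegaZ_map _ _ hτ.1.injOn, normal_iff_cj]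
    intro g
    rw [omegaZ_cj, cj_of_normal]

theorem stableNormalClosure_map_le [Finite S] [Finite S'] [Fact p.Prime] (η : S ≃* S') :
    stableNormalClosure p S' ≤ (stableNormalClosure p S).map η.toMonoidHom := by
  refine sInf_le ⟨?_, fun H _ τ hτ => ?_⟩
  · rw [← map_omegaOne_center η]
    exact Subgroup.map_mono (le_sInf fun W hW => hW.1)
  · rw [Subgroup.map_map, stableNormalClosure]
    have hc := isStableEmbedding_comp hτ η
    set τ' := τ.comp η.toMonoidHom
    have : (sInf {W : Subgroup S | omegaOne p (Subgroup.center S) ≤ W ∧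
        ∀ (H : Type u) [Group H] (τ : S →* H), IsStableEmbedding p τ → (W.map τ).Normal}).map τ' =
        ⨅ W : {W : Subgroup S | omegaOne p (Subgroup.center S) ≤ W ∧
        ∀ (H : Type u) [Group H] (τ : S →* H), IsStableEmbedding p τ → (W.map τ).Normal}, (W.1).map τ' := by
      haveI : Nonempty {W : Subgroup S | omegaOne p (Subgroup.center S) ≤ W ∧
        ∀ (H : Type u) [Group H] (τ : S →* H), IsStableEmbedding p τ → (W.map τ).Normal} :=
        ⟨⟨omegaCenterThompson p S, omegaCenterThompson_mem⟩⟩
      rw [sInf_eq_iInf', Subgroup.map_iInf _ hc.1]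
    rw [this]
    exact Subgroup.normal_iInf_normal fun W => W.2.2 H τ' hc

theorem stableNormalClosure_map [Finite S] [Finite S'] [Fact p.Prime] (η : S ≃* S') :
    (stableNormalClosure p S).map η.toMonoidHom = stableNormalClosure p S' := by
  refine le_antisymm ?_ (stableNormalClosure_map_le η)
  have h := Subgroup.map_mono (f := η.toMonoidHom) (stableNormalClosure_map_le (p := p) η.symm)
  rw [Subgroup.map_map] at h
  have e : η.toMonoidHom.comp η.symm.toMonoidHom = MonoidHom.id S' := MonoidHom.ext fun x => η.apply_symm_apply x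
  rwa [e, Subgroup.map_id] at h

theorem stableNormalClosure_ne_bot [Finite S] [hp : Fact p.Prime] (hS : IsPGroup p S) [Nontrivial S] :
    stableNormalClosure p S ≠ ⊥ := by
  intro h
  haveI := hS.center_nontrivial
  obtain ⟨x, hx⟩ := exists_prime_orderOf_dvd_card' (G := Subgroup.center S) p (by
    obtain ⟨k, hk⟩ := IsPGroup.iff_card.1 (hS.to_subgroup (Subgroup.center S))
    have hlt : 1 < Nat.card (Subgroup.center S) := Finite.one_lt_card
    rw [hk] at hlt ⊢
    exact dvd_pow_self p (by rintro rfl; simp at hlt))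
  have hmem : (x : S) ∈ stableNormalClosure p S := (le_sInf fun W hW => hW.1 : omegaOne p (Subgroup.center S) ≤ _)
    (Subgroup.subset_closure ⟨x.2, by rw [← SubgroupClass.coe_pow, ← hx, pow_orderOf_eq_one]; rfl⟩)
  rw [h, Subgroup.mem_bot] at hmem
  have : x = 1 := Subtype.ext hmem
  rw [this, orderOf_one] at hx
  exact hp.out.ne_one hx.symm

end Cfsg.Agent.Fusion
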