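import Cfsg.Agent.Lib.Fusion.StableClosureQuadratic
import Cfsg.Agent.Lib.Fusion.SL2Sections
import Cfsg.Agent.Lib.Fusion.ZJControl
import Cfsg.Agent.Lib.Char.OneBlock

/-!
# The stable normal closure as a functor
-/

set_option autoImplicit false
set_option linter.style.haveILetI false

open Cfsg
open scoped commutatorElement

namespace Cfsg.Agent.Fusion

universe u

variable {p : ℕ} [hp : Fact p.Prime]

theorem isCharPFunctor_stableNormalClosure :
    IsCharPFunctor.{u} p (fun Q _ => stableNormalClosure p Q) :=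
  ⟨fun Q _ _ hQ hn => by haveI := hn; exact stableNormalClosure_ne_bot hQ,
    fun Q R _ _ _ _ φ => by haveI : Finite R := Finite.of_equiv Q φ.toEquiv; exact stableNormalClosure_map φ⟩

/-- An abelian-layered group has abelian Sylow `2`-subgroups for odd `p`. -/
theorem sylow_two_abelian_of_layered {X : Type u} [Group X] [Finite X] (hp2 : p ≠ 2)
    (h : IsAbelianLayered p X) (T : Sylow 2 X) : IsMulCommutative (T : Subgroup X) := by
  haveI : Fact (Nat.Prime 2) := ⟨Nat.prime_two⟩
  obtain ⟨Q, K, n, hQ, hK, hQp, -, hc, -, htop⟩ := h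
  have hcop : ∀ j i : ℕ, (p ^ j).Coprime (2 ^ i) := fun j i =>
    Nat.Coprime.pow j i ((Nat.coprime_primes hp.out Nat.prime_two).2 hp2)
  have hTK : ∀ a ∈ (T : Subgroup X), a ∈ K := by
    intro a ha
    obtain ⟨j, hj⟩ := htop a
    obtain ⟨i, hi⟩ := T.2 ⟨a, ha⟩
    obtain ⟨m, hm⟩ := exists_pow_eq_self_of_coprime (x := a) (n := p ^ j)
      ((hcop j i).coprime_dvd_right (orderOf_dvd_of_pow_eq_one (congrArg Subtype.val hi)))
    exact hm ▸ pow_mem hj m
  refine ⟨⟨fun a b => Subtype.ext ?_⟩⟩
  have h1 : ⁅(a : X), (b : X)⁆ ∈ Q := hc _ (hTK a a.2) _ (hTK b b.2)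
  obtain ⟨j, hj⟩ := hQp ⟨_, h1⟩
  obtain ⟨i, hi⟩ := T.2 ⁅a, b⁆
  have hone : ⁅(a : X), (b : X)⁆ = 1 := orderOf_eq_one_iff.1 (Nat.eq_one_of_dvd_coprimes (hcop j i)
    (orderOf_dvd_of_pow_eq_one (congrArg Subtype.val hj))
    (orderOf_dvd_of_pow_eq_one (congrArg Subtype.val hi)))
  exact commutatorElement_eq_one_iff_mul_comm.1 hone

/-- An abelian-layered group is action stable. -/
theorem isActionPStable_of_layered {X : Type u} [Group X] [Finite X] (hp2 : p ≠ 2)
    (h : IsAbelianLayered p X) : IsActionPStable p X := by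
  haveI : Fact (Nat.Prime 2) := ⟨Nat.prime_two⟩
  refine isActionPStable_of_not_involves hp2 fun hi => ?_
  obtain ⟨T⟩ : Nonempty (Sylow 2 X) := inferInstance
  exact not_isMulCommutative_of_involves hp2 hi T (sylow_two_abelian_of_layered hp2 h T)

variable {G : Type u} [Group G] [Finite G]

/-- The stable normal closure detects normal `p`-complements. -/
theorem hnpc_of_stableNormalClosure (hp2 : p ≠ 2) (S : Sylow p G)
    (hN : HasNormalPComplement p (Subgroup.normalizer
      (((stableNormalClosure p ↥(S : Subgroup G)).map (S : Subgroup G).subtype : Subgroup G) : Set G))) :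
    HasNormalPComplement p G :=
  hnpc_of_functor_sections isCharPFunctor_stableNormalClosure (G := G)
    (fun X _ _ _ hc hq T hT => stableNormalClosure_normal
      (isActionPStable_of_layered hp2 (isAbelianLayered_of_coatom hq (sylIn_top T) hT)) hc T)
    G involves_refl S hN

/-- In a `p`-solvable group, `p ≥ 5`, the stable normal closure gives a Frattini factorisation. -/
theorem pPrimeCore_sup_normalizer_stableNormalClosure (hp5 : 5 ≤ p) (hsep : IsPSolvable p G)
    (S : Sylow p G) :
    pPrimeCore p G ⊔ Subgroup.normalizer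
      (((stableNormalClosure p ↥(S : Subgroup G)).map (S : Subgroup G).subtype : Subgroup G) : Set G) = ⊤ := by
  have hp2 : p ≠ 2 := by omega
  set K := pPrimeCore p G with hK
  set Wg := (stableNormalClosure p ↥(S : Subgroup G)).map (S : Subgroup G).subtype with hWg
  set π := QuotientGroup.mk' K with hπ
  have hπs : Function.Surjective π := QuotientGroup.mk'_surjective K
  have hsepQ : IsPSolvable p (G ⧸ K) := Solv.isPSolvable_map hp.out hsep π hπs
  have hst : IsActionPStable p (G ⧸ K) := isActionPStable_of_not_involves hp2 fun h =>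
    absurd (eq_three_of_psolvable_involves hp2 hsepQ h) (by omega)
  have hinj : Set.InjOn π (S : Subgroup G) :=
    injOn_mk_of_coprime (card_pPrimeCore_coprime p G) S.isPGroup'
  have hn := stableNormalClosure_normal hst
    (Char.centralizer_pCore_le_of_pSolvable hsepQ pPrimeCore_quotient_eq_bot) (S.mapSurjective hπs)
  have hW : Wg.map π = (stableNormalClosure p ↥((S.mapSurjective hπs : Sylow p (G ⧸ K)) : Subgroup (G ⧸ K))).map
      ((S.mapSurjective hπs : Sylow p (G ⧸ K)) : Subgroup (G ⧸ K)).subtype :=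
    (inducedFunctor_map_of_injOn isCharPFunctor_stableNormalClosure π hinj S.isPGroup').symm
  haveI hMn : (Wg.map π).Normal := hW ▸ hn
  set M := (Wg.map π).comap π with hM
  have hMle : M ≤ K ⊔ Wg := by
    rw [hM, hπ, QuotientGroup.comap_map_mk']
  have hT : SylIn p ((S : Subgroup G) ⊓ M) M :=
    (sylIn_top S).inf_normal le_top (by rw [Subgroup.normalizer_eq_top])
  have hTW : (S : Subgroup G) ⊓ M = Wg := by
    refine le_antisymm ?_ (le_inf (Subgroup.map_subtype_le _) (Subgroup.le_comap_map _ _))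
    rintro x ⟨hx, hxM⟩
    obtain ⟨w, hw, he⟩ := hxM
    exact hinj (Subgroup.map_subtype_le _ hw) hx he ▸ hw
  rw [hTW] at hT
  refine eq_top_iff.2 fun g _ => ?_
  obtain ⟨l, hl, he⟩ := (hT.cj' (g := g⁻¹)
    (by rw [Subgroup.normalizer_eq_top]; exact Subgroup.mem_top _)).conj_eq hT
  have hn' : (l * g⁻¹)⁻¹ ∈ Subgroup.normalizer (Wg : Set G) :=
    inv_mem (mem_normalizer_iff_cj.2 (by rw [← cj_cj]; exact he))
  rw [show g = (l * g⁻¹)⁻¹ * l by group]
  exact mul_mem (Subgroup.mem_sup_right hn') (sup_le_sup le_rfl Subgroup.le_normalizer (hMle hl))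

end Cfsg.Agent.Fusion
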