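import Cfsg.Agent.Lib.Fusion.StableClosure
import Cfsg.Agent.Lib.Fusion.ZJElementary
import Cfsg.Agent.Lib.Solv.HallHigman

/-!
# The stable normal closure of `Ω₁(Z(S))`
-/

set_option autoImplicit false
set_option linter.style.haveILetI false

open Cfsg
open scoped commutatorElement

namespace Cfsg.Agent.Fusion

universe u

/-- Two elements inducing the same automorphism of a normal subgroup give the same commutators with it. -/
theorem commutator_zpowers_le_of_mul {G : Type u} [Group G] {U C : Subgroup G} [U.Normal] [C.Normal]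
    (hC : C ≤ Subgroup.centralizer (U : Set G)) {V : Subgroup G} (hV : V ≤ U) {s y : G} (h : y⁻¹ * s ∈ C) :
    ⁅V, Subgroup.zpowers s⁆ ≤ ⁅V, Subgroup.zpowers y⁆ := by
  refine Subgroup.commutator_le.2 fun v hv m hm => ?_
  obtain ⟨i, rfl⟩ := Subgroup.mem_zpowers_iff.1 hm
  have hq : ((y : G ⧸ C)) = (s : G ⧸ C) := QuotientGroup.eq.2 h
  have hci : (y ^ i)⁻¹ * s ^ i ∈ C := QuotientGroup.eq.1 (by
    rw [QuotientGroup.mk_zpow, QuotientGroup.mk_zpow, hq])
  set c := (y ^ i)⁻¹ * s ^ i with hc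
  rw [show s ^ i = y ^ i * c by rw [hc, mul_inv_cancel_left]]
  have hvc : ⁅v, c⁆ = 1 := commutatorElement_eq_one_iff_mul_comm.2
    (Subgroup.mem_centralizer_iff.1 (hC hci) v (hV hv))
  rw [show ⁅v, y ^ i * c⁆ = ⁅v, y ^ i⁆ * (y ^ i * ⁅v, c⁆ * (y ^ i)⁻¹) by
    simp only [commutatorElement_def]; group, hvc, mul_one, mul_inv_cancel, mul_one]
  exact Subgroup.commutator_mem_commutator hv (Subgroup.mem_zpowers_iff.2 ⟨i, rfl⟩)

theorem quadratic_conj {G : Type u} [Group G] {U : Subgroup G} [U.Normal] {a : G}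
    (h : ⁅⁅U, Subgroup.zpowers a⁆, Subgroup.zpowers a⁆ = ⊥) (g : G) :
    ⁅⁅U, Subgroup.zpowers (g * a * g⁻¹)⁆, Subgroup.zpowers (g * a * g⁻¹)⁆ = ⊥ := by
  have h' := congrArg (Subgroup.map (MulAut.conj g).toMonoidHom) h
  rw [Subgroup.map_commutator, Subgroup.map_commutator, MonoidHom.map_zpowers, Subgroup.map_bot,
    show U.map (MulAut.conj g).toMonoidHom = U from cj_of_normal U g] at h'
  exact h'

variable {S : Type u} [Group S] [Finite S] {p : ℕ} [hp : Fact p.Prime]

/-- Quadratic elements centralize the stable normal closure. -/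
theorem stableNormalClosure_quadratic (x : S)
    (hq : ⁅⁅stableNormalClosure p S, Subgroup.zpowers x⁆, Subgroup.zpowers x⁆ = ⊥) :
    ⁅stableNormalClosure p S, Subgroup.zpowers x⁆ = ⊥ := by
  classical
  let Star : Subgroup S → Prop := fun U =>
    ∀ x : S, ⁅⁅U, Subgroup.zpowers x⁆, Subgroup.zpowers x⁆ = ⊥ → ⁅U, Subgroup.zpowers x⁆ = ⊥
  set W := stableNormalClosure p S with hW
  set M := sSup {U : Subgroup S | U ≤ W ∧ Star U} with hM
  have hMW : M ≤ W := sSup_le fun U hU => hU.1
  have hMstar : Star M := by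
    intro y hy
    rw [Subgroup.commutator_eq_bot_iff_le_centralizer]
    refine sSup_le fun U hU => Subgroup.commutator_eq_bot_iff_le_centralizer.1 (hU.2 y ?_)
    rw [eq_bot_iff, ← hy]
    exact Subgroup.commutator_mono (Subgroup.commutator_mono (le_sSup hU) le_rfl) le_rfl
  suffices hWM : W ≤ M from le_antisymm hWM hMW ▸ hMstar x (le_antisymm hWM hMW ▸ hq)
  have hΩW : omegaOne p (Subgroup.center S) ≤ W := le_sInf fun V hV => hV.1
  refine sInf_le ⟨le_sSup ⟨hΩW, fun y _ => ?_⟩, fun H _ τ hτ => ?_⟩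
  · rw [Subgroup.commutator_eq_bot_iff_le_centralizer]
    exact ((Subgroup.closure_le _).2 fun z hz => hz.1).trans (Subgroup.center_le_centralizer _)
  haveI : Finite H := hτ.2.1
  obtain ⟨P, hP⟩ := hτ.2.2.1
  have hWn : (W.map τ).Normal := by
    haveI : Nonempty {W : Subgroup S | omegaOne p (Subgroup.center S) ≤ W ∧
        ∀ (H : Type u) [Group H] (τ : S →* H), IsStableEmbedding p τ → (W.map τ).Normal} :=
      ⟨⟨omegaCenterThompson p S, omegaCenterThompson_mem⟩⟩
    rw [hW, stableNormalClosure, sInf_eq_iInf', Subgroup.map_iInf _ hτ.1]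
    exact Subgroup.normal_iInf_normal fun V => V.2.2 H τ hτ
  set U' := Subgroup.normalClosure ((M.map τ : Subgroup H) : Set H) with hU'
  have hMU : M.map τ ≤ U' := Subgroup.le_normalClosure
  have hUW : U' ≤ W.map τ := Subgroup.normalClosure_le_normal (Subgroup.map_mono hMW)
  have hUstab : IsPStableOn p U' :=
    hτ.2.2.2.2.2 U' (hUW.trans (Subgroup.map_mono (sInf_le omegaCenterThompson_mem)))
  have hmapback : (U'.comap τ).map τ = U' :=
    Subgroup.map_comap_eq_self ((hUW.trans (Subgroup.map_le_range τ W)))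
  have hU''W : U'.comap τ ≤ W := fun z hz => by
    obtain ⟨w, hw, he⟩ := hUW hz
    exact hτ.1 he ▸ hw
  have hstar : Star (U'.comap τ) := by
    intro z hz
    have hqz : ⁅⁅U', Subgroup.zpowers (τ z)⁆, Subgroup.zpowers (τ z)⁆ = ⊥ := by
      rw [← hmapback, ← MonoidHom.map_zpowers, ← Subgroup.map_commutator, ← Subgroup.map_commutator,
        hz, Subgroup.map_bot]
    set C := Subgroup.centralizer (U' : Set H) with hC
    have hDC : ∀ h : H, ∃ s : S, (h * τ z * h⁻¹)⁻¹ * τ s ∈ C := by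
      intro h
      have hmem : QuotientGroup.mk' C (h * τ z * h⁻¹) ∈ pCore p (H ⧸ C) :=
        hUstab _ (quadratic_conj hqz h)
      have hx' := pCore_le_sylow (P.mapSurjective (QuotientGroup.mk'_surjective C)) hmem
      rw [Sylow.coe_mapSurjective] at hx'
      obtain ⟨s', hs', he⟩ := hx'
      obtain ⟨s, rfl⟩ : s' ∈ τ.range := hP ▸ hs'
      exact ⟨s, QuotientGroup.eq.1 he.symm⟩
    rw [Subgroup.commutator_eq_bot_iff_le_centralizer]
    suffices hall : U' ≤ Subgroup.centralizer ({τ z} : Set H) by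
      intro w hw
      refine Subgroup.mem_centralizer_iff.2 fun m hm => ?_
      obtain ⟨i, rfl⟩ := Subgroup.mem_zpowers_iff.1 hm
      refine hτ.1 ?_
      rw [map_mul, map_mul, map_zpow]
      exact ((show Commute (τ z) (τ w) from
        (Subgroup.mem_centralizer_singleton_iff.1 (hall hw)).symm).zpow_left i).eq
    rw [hU', Subgroup.normalClosure, Subgroup.closure_le]
    intro v hv
    rw [Group.mem_conjugatesOfSet_iff] at hv
    obtain ⟨m, hm, hmv⟩ := hv
    obtain ⟨g, rfl⟩ := isConj_iff.1 hmv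
    obtain ⟨s, hs⟩ := hDC g⁻¹
    rw [inv_inv] at hs
    have hy := quadratic_conj hqz g⁻¹
    rw [inv_inv] at hy
    have h1 : ⁅U', Subgroup.zpowers (τ s)⁆ ≤ ⁅U', Subgroup.zpowers (g⁻¹ * τ z * g)⁆ :=
      commutator_zpowers_le_of_mul le_rfl le_rfl hs
    have h2 : ⁅⁅U', Subgroup.zpowers (τ s)⁆, Subgroup.zpowers (τ s)⁆ = ⊥ := by
      rw [eq_bot_iff, ← hy]
      exact (Subgroup.commutator_mono h1 le_rfl).trans
        (commutator_zpowers_le_of_mul le_rfl (Subgroup.commutator_le_left _ _) hs)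
    have hMle : M ≤ U'.comap τ := Subgroup.map_le_iff_le_comap.1 hMU
    have h3 : ⁅⁅M, Subgroup.zpowers s⁆, Subgroup.zpowers s⁆ = ⊥ := by
      refine (Subgroup.map_eq_bot_iff_of_injective _ hτ.1).1 ?_
      rw [Subgroup.map_commutator, Subgroup.map_commutator, MonoidHom.map_zpowers, eq_bot_iff, ← h2]
      exact Subgroup.commutator_mono (Subgroup.commutator_mono hMU le_rfl) le_rfl
    have h4 := Subgroup.commutator_eq_bot_iff_le_centralizer.1 (hMstar s h3)
    obtain ⟨m', hm', rfl⟩ := hm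
    have h5 : τ s * τ m' = τ m' * τ s := by
      rw [← map_mul, ← map_mul]
      exact congrArg τ (Subgroup.mem_centralizer_iff.1 (h4 hm') s (Subgroup.mem_zpowers s))
    have h6 : (g⁻¹ * τ z * g)⁻¹ * τ s * τ m' = τ m' * ((g⁻¹ * τ z * g)⁻¹ * τ s) :=
      (Subgroup.mem_centralizer_iff.1 hs (τ m') (hMU ⟨m', hm', rfl⟩)).symm
    have h7 : Commute (g⁻¹ * τ z * g) (τ m') := by
      have := (Commute.mul_left (show Commute (τ s) (τ m') from h5)
        (Commute.inv_left (show Commute ((g⁻¹ * τ z * g)⁻¹ * τ s) (τ m') from h6)))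
      simpa [mul_inv_rev, mul_assoc] using this
    rw [SetLike.mem_coe, Subgroup.mem_centralizer_singleton_iff]
    calc g * τ m' * g⁻¹ * τ z = g * (τ m' * (g⁻¹ * τ z * g)) * g⁻¹ := by group
      _ = g * (g⁻¹ * τ z * g * τ m') * g⁻¹ := by rw [h7.eq]
      _ = τ z * (g * τ m' * g⁻¹) := by group
  have hU''M : U'.comap τ ≤ M := le_sSup ⟨hU''W, hstar⟩
  have heq : M.map τ = U' := le_antisymm hMU (hmapback ▸ Subgroup.map_mono hU''M)
  rw [heq]
  infer_instance

/-- Replacement inside a `p`-group by an elementary abelian normal subgroup, any prime. -/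
theorem exists_elementary_replacement {G : Type u} [Group G] [Finite G] {T V A : Subgroup G}
    (hT : IsPGroup p T) (hVT : V ≤ T) (hVn : T ≤ Subgroup.normalizer (V : Set G))
    (hV : IsElementaryAbelian p V) (hAT : A ≤ T) (hA : IsElementaryAbelian p A)
    (hnot : ¬ V ≤ Subgroup.normalizer (A : Set G)) :
    ∃ R : Subgroup G, R ≤ T ∧ IsElementaryAbelian p R ∧ Nat.card R = Nat.card A ∧
      A ⊓ V < R ⊓ V ∧ R ≤ Subgroup.normalizer (A : Set G) := by
  haveI : Group.IsNilpotent T := hT.isNilpotent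
  set A0 := A.subgroupOf T
  set B0 := V.subgroupOf T
  haveI : B0.Normal := Subgroup.normal_subgroupOf_iff_le_normalizer hVT |>.2 hVn
  have hmapA : A0.map T.subtype = A := Subgroup.map_subgroupOf_eq_of_le hAT
  have hmapB : B0.map T.subtype = V := Subgroup.map_subgroupOf_eq_of_le hVT
  have hinj : Function.Injective T.subtype := T.subtype_injective
  have hA0 : IsMulCommutative A0 := ⟨⟨fun x y => Subtype.ext (Subtype.ext
    (show ((x : T) : G) * ((y : T) : G) = ((y : T) : G) * ((x : T) : G) from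
      congrArg Subtype.val (hA.1.1.1 ⟨_, x.2⟩ ⟨_, y.2⟩)))⟩⟩
  have hB0 : IsMulCommutative B0 := ⟨⟨fun x y => Subtype.ext (Subtype.ext
    (show ((x : T) : G) * ((y : T) : G) = ((y : T) : G) * ((x : T) : G) from
      congrArg Subtype.val (hV.1.1.1 ⟨_, x.2⟩ ⟨_, y.2⟩)))⟩⟩
  have hBA0 : ⁅B0, B0⁆ ≤ A0 := by
    refine Subgroup.commutator_le.2 fun x hx y hy => ?_
    rw [commutatorElement_eq_one_iff_mul_comm.2
      (congrArg Subtype.val (hB0.1.1 ⟨x, hx⟩ ⟨y, hy⟩) : x * y = y * x)]
    exact one_mem _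
  have hnot0 : ¬ B0 ≤ Subgroup.normalizer (A0 : Set T) := by
    intro h
    refine hnot fun b hb => mem_normalizer_of_cj_le ?_
    rintro _ ⟨a, ha, rfl⟩
    exact (Subgroup.mem_normalizer_iff.1 (h (show (⟨b, hVT hb⟩ : T) ∈ B0 from hb))
      ⟨a, hAT ha⟩).1 ha
  obtain ⟨b, hb, hbN, hbA⟩ := exists_normalizing_normalizer B0 A0 hnot0
  obtain ⟨h1, h2, -, h4, -, -, h7, -, -, -, -⟩ :=
    replSub_spec hT (fun _ => hB0) hA0 hBA0 hb hbN hbA
  refine ⟨(replSub A0 b).map T.subtype, Subgroup.map_subtype_le _, ⟨isMulCommutative_map _ h2, ?_⟩,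
    by rw [Subgroup.card_map_of_injective hinj, h1, ← Subgroup.card_map_of_injective hinj, hmapA],
    ?_, ?_⟩
  · rintro _ ⟨r, hr, rfl⟩
    let P : Subgroup T :=
      { carrier := {x | x ∈ replSub A0 b ∧ x ^ p = 1}
        one_mem' := ⟨one_mem _, one_pow p⟩
        mul_mem' := fun {x y} hx hy => ⟨mul_mem hx.1 hy.1, by
          rw [(show Commute x y from congrArg Subtype.val (h2.1.1 ⟨x, hx.1⟩ ⟨y, hy.1⟩)).mul_pow,
            hx.2, hy.2, one_mul]⟩
        inv_mem' := fun {x} hx => ⟨inv_mem hx.1, by rw [inv_pow, hx.2, inv_one]⟩ }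
    have hle : replSub A0 b ≤ P := by
      refine sup_le (fun x hx => ⟨Subgroup.mem_sup_left hx, Subtype.ext (hA.2 _ hx.1)⟩)
        ((Subgroup.closure_le _).2 ?_)
      rintro _ ⟨a, ha, rfl⟩
      refine ⟨Subgroup.mem_sup_right (Subgroup.subset_closure ⟨a, ha, rfl⟩), Subtype.ext (hV.2 _ ?_)⟩
      show (a * b⁻¹ * a⁻¹ * b : T) ∈ B0
      exact mul_mem ((inferInstance : B0.Normal).conj_mem _ (inv_mem hb) a) hb
    exact congrArg T.subtype (hle hr).2 |>.trans (map_one _) |> (map_pow T.subtype r p).symm.trans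
  · rw [← hmapA, ← hmapB, ← Subgroup.map_inf _ _ _ hinj, ← Subgroup.map_inf _ _ _ hinj]
    exact Subgroup.map_lt_map_iff_of_injective hinj |>.2 h4
  · rintro _ ⟨r, hr, rfl⟩
    refine mem_normalizer_of_cj_le ?_
    rintro _ ⟨a, ha, rfl⟩
    exact (Subgroup.mem_normalizer_iff.1 (h7 hr) ⟨a, hAT ha⟩).1 ha

variable {G : Type u} [Group G] [Finite G]

/-- The kernel of the action on `O_p(G) / Φ(O_p(G))` is a `p`-group when `O_p(G)` is self-centralizing. -/
theorem isPGroup_sectionKernel_pCore (hc : Subgroup.centralizer (pCore p G : Set G) ≤ pCore p G)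
    (hn : ((frattini ↥(pCore p G)).map (pCore p G).subtype).Normal) :
    IsPGroup p (sectionKernel (pCore p G) ((frattini ↥(pCore p G)).map (pCore p G).subtype)) := by
  intro g
  obtain ⟨k, m, hm, hkm⟩ := Nat.exists_eq_pow_mul_and_not_dvd (orderOf_pos (g : G)).ne' p hp.out.ne_one
  refine ⟨k, Subtype.ext ?_⟩
  set w := (g : G) ^ p ^ k with hw
  have hwm : orderOf w = m := by
    rw [hw, orderOf_pow, hkm, Nat.gcd_mul_right_left, Nat.mul_div_cancel_left _ (pow_pos hp.out.pos k)]
  have hcop : (orderOf w).Coprime p := by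
    rw [hwm]; exact Nat.Coprime.symm (hp.out.coprime_iff_not_dvd.2 hm)
  have hmem : QuotientGroup.mk' ((frattini ↥(pCore p G)).map (pCore p G).subtype) w ∈
      Subgroup.centralizer (((pCore p G).map (QuotientGroup.mk' ((frattini ↥(pCore p G)).map
        (pCore p G).subtype)) : Subgroup _) : Set (G ⧸ (frattini ↥(pCore p G)).map (pCore p G).subtype)) := by
    rw [hw, map_pow]; exact pow_mem g.2 _
  have hcen := Solv.centralizes_of_frattini (pCore p G) (isPGroup_pCore p G) w
    (by rw [Subgroup.normalizer_eq_top]; trivial) hcop fun x hx => by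
      rw [← QuotientGroup.ker_mk' ((frattini ↥(pCore p G)).map (pCore p G).subtype), MonoidHom.mem_ker,
        map_commutatorElement, commutatorElement_eq_one_iff_mul_comm]
      exact Subgroup.mem_centralizer_iff.1 hmem _ ⟨x, hx, rfl⟩
  obtain ⟨j, hj⟩ := IsPGroup.iff_orderOf.1 (isPGroup_pCore p G) ⟨w, hc hcen⟩
  rw [Subgroup.orderOf_mk] at hj
  rw [Subgroup.coe_pow, Subgroup.coe_one, ← hw]
  exact orderOf_eq_one_iff.1 (Nat.eq_one_of_dvd_coprimes (hcop.pow_right j) dvd_rfl (dvd_of_eq hj))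

/-- The stable normal closure is normal in an action stable group with self-centralizing `p`-core. -/
theorem stableNormalClosure_normal (hst : IsActionPStable p G)
    (hc : Subgroup.centralizer (pCore p G : Set G) ≤ pCore p G) (S : Sylow p G) :
    ((stableNormalClosure p ↥(S : Subgroup G)).map (S : Subgroup G).subtype).Normal := by
  classical
  set Wg := (stableNormalClosure p ↥(S : Subgroup G)).map (S : Subgroup G).subtype with hWg
  set J := thompsonSubgroupOf p (S : Subgroup G) with hJ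
  set N := Subgroup.normalizer (J : Set G) with hN
  set Q := pCore p G with hQ
  have hWS : Wg ≤ (S : Subgroup G) := Subgroup.map_subtype_le _
  have hSN : (S : Subgroup G) ≤ N := by
    rw [hN, hJ, ← jElem_eq]; exact Subgroup.le_normalizer.trans (normalizer_le_jElem _)
  have hQS : Q ≤ (S : Subgroup G) := pCore_le_sylow S
  have hWJ : Wg ≤ Subgroup.centralizer (J : Set G) := by
    refine Subgroup.map_le_iff_le_comap.2 ((sInf_le omegaCenterThompson_mem).trans ?_)
    refine (Subgroup.closure_le _).2 fun z hz => ?_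
    refine Subgroup.mem_centralizer_iff.2 ?_
    rintro _ ⟨y, hy, rfl⟩
    exact congrArg Subtype.val (Subgroup.mem_centralizer_iff.1 hz.1.2 y hy)
  have hWelem : IsElementaryAbelian p Wg := by
    have hJZ : ∀ z ∈ Wg, z ∈ omegaOne p (J ⊓ Subgroup.centralizer (J : Set G)) := by
      rintro _ ⟨z, hz, rfl⟩
      have h1 := (sInf_le omegaCenterThompson_mem : stableNormalClosure p ↥(S : Subgroup G) ≤ _) hz
      have h2 := Subgroup.mem_map_of_mem (S : Subgroup G).subtype h1
      rw [show (omegaCenterThompson p ↥(S : Subgroup G)) =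
        omegaZ p (thompsonSubgroup p ↥(S : Subgroup G)) from rfl,
        omegaZ_map _ _ (S : Subgroup G).subtype_injective.injOn] at h2
      exact h2
    have hZc : ∀ a ∈ J ⊓ Subgroup.centralizer (J : Set G), ∀ b ∈ J ⊓ Subgroup.centralizer (J : Set G),
        a * b = b * a := fun a ha b hb => Subgroup.mem_centralizer_iff.1 hb.2 a ha.1
    let P : Subgroup G :=
      { carrier := {x | x ∈ J ⊓ Subgroup.centralizer (J : Set G) ∧ x ^ p = 1}
        one_mem' := ⟨one_mem _, one_pow p⟩
        mul_mem' := fun {x y} hx hy => ⟨mul_mem hx.1 hy.1, by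
          rw [(show Commute x y from hZc x hx.1 y hy.1).mul_pow, hx.2, hy.2, one_mul]⟩
        inv_mem' := fun {x} hx => ⟨inv_mem hx.1, by rw [inv_pow, hx.2, inv_one]⟩ }
    have hP : Wg ≤ P := fun z hz => ((Subgroup.closure_le P).2 fun x hx => hx) (hJZ z hz)
    exact ⟨⟨⟨fun a b => Subtype.ext (hZc _ (hP a.2).1 _ (hP b.2).1)⟩⟩, fun a ha => (hP ha).2⟩
  have hWc : ∀ a ∈ Wg, ∀ b ∈ Wg, a * b = b * a := fun a ha b hb =>
    congrArg Subtype.val (hWelem.1.1.1 ⟨a, ha⟩ ⟨b, hb⟩)
  have hSW : (S : Subgroup G) ≤ Subgroup.normalizer (Wg : Set G) := by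
    haveI : (stableNormalClosure p ↥(S : Subgroup G)).Characteristic :=
      Subgroup.characteristic_iff_map_le.2 fun e => (stableNormalClosure_map e).le
    intro s hs
    refine mem_normalizer_of_cj_le ?_
    rintro _ ⟨_, ⟨z, hz, rfl⟩, rfl⟩
    exact ⟨⟨s, hs⟩ * z * ⟨s, hs⟩⁻¹,
      (inferInstance : (stableNormalClosure p ↥(S : Subgroup G)).Normal).conj_mem z hz ⟨s, hs⟩, rfl⟩
  -- the normalizer of the Thompson subgroup
  have hemb : IsStableEmbedding p (Subgroup.inclusion hSN) := by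
    refine ⟨Subgroup.inclusion_injective hSN, inferInstance, ?_, ?_, ?_, ?_⟩
    · obtain ⟨P, hP⟩ := ((sylIn_top S).mono hSN le_top).exists_sylow_subgroupOf
      refine ⟨P, hP.trans (Subgroup.ext fun w => ⟨fun hw => ⟨⟨w, hw⟩, rfl⟩, ?_⟩)⟩
      rintro ⟨s, rfl⟩
      exact s.2
    · have hQN : Q.subgroupOf N ≤ pCore p N :=
        le_pCore (N := Q.subgroupOf N) ((isPGroup_pCore p G).comap_of_injective N.subtype N.subtype_injective)
      intro x hx
      refine hQN (Subgroup.mem_subgroupOf.2 (hc (Subgroup.mem_centralizer_iff.2 fun q hq => ?_)))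
      exact congrArg Subtype.val (Subgroup.mem_centralizer_iff.1 hx ⟨q, hSN (hQS hq)⟩ (hQN hq))
    · have e : (thompsonSubgroup p ↥(S : Subgroup G)).map (Subgroup.inclusion hSN) = J.subgroupOf N := by
        refine Subgroup.map_injective N.subtype_injective ?_
        rw [Subgroup.map_map, show N.subtype.comp (Subgroup.inclusion hSN) = (S : Subgroup G).subtype from rfl,
          Subgroup.map_subgroupOf_eq_of_le (Subgroup.le_normalizer : J ≤ N)]
        rfl
      rw [e]
      exact Subgroup.normal_in_normalizer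
    · intro V hVn hV
      haveI := hVn
      refine hst.2.2 S V ?_
      refine (Subgroup.map_mono hV).trans ?_
      rw [Subgroup.map_map]
      exact le_of_eq rfl
  have hNW : N ≤ Subgroup.normalizer (Wg : Set G) := by
    have hn : ((stableNormalClosure p ↥(S : Subgroup G)).map (Subgroup.inclusion hSN)).Normal := by
      haveI : Nonempty {W : Subgroup ↥(S : Subgroup G) | omegaOne p (Subgroup.center _) ≤ W ∧
          ∀ (H : Type u) [Group H] (τ : ↥(S : Subgroup G) →* H), IsStableEmbedding p τ → (W.map τ).Normal} :=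
        ⟨⟨omegaCenterThompson p _, omegaCenterThompson_mem⟩⟩
      rw [stableNormalClosure, sInf_eq_iInf', Subgroup.map_iInf _ hemb.1]
      exact Subgroup.normal_iInf_normal fun V => V.2.2 _ _ hemb
    intro n hn'
    refine mem_normalizer_of_cj_le ?_
    rintro _ ⟨_, ⟨z, hz, rfl⟩, rfl⟩
    obtain ⟨w, hw, he⟩ := hn.conj_mem _ ⟨z, hz, rfl⟩ ⟨n, hn'⟩
    exact ⟨w, hw, congrArg Subtype.val he⟩
  -- it lies in the `p`-core
  have hWQ : Wg ≤ Q := by
    intro a ha
    have hquad : ⁅⁅Q, Subgroup.zpowers a⁆, Subgroup.zpowers a⁆ = ⊥ := by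
      have h1 : ⁅Q, Subgroup.zpowers a⁆ ≤ Wg := Subgroup.commutator_le.2 fun q hq m hm => by
        rw [commutatorElement_def]
        exact mul_mem ((Subgroup.mem_normalizer_iff.1 (hSW (hQS hq)) m).1 (Subgroup.zpowers_le.2 ha hm))
          (inv_mem (Subgroup.zpowers_le.2 ha hm))
      rw [Subgroup.commutator_eq_bot_iff_le_centralizer]
      exact fun x hx => Subgroup.mem_centralizer_iff.2 fun m hm => hWc m (Subgroup.zpowers_le.2 ha hm) x (h1 hx)
    obtain ⟨D, hDn, hKD, ⟨k, hk⟩, haD⟩ := hst.2.1 a (hquad ▸ bot_le)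
    haveI := hDn
    obtain ⟨j, hj⟩ := IsPGroup.iff_card.1 (isPGroup_sectionKernel_pCore hc inferInstance)
    have hDp : IsPGroup p D := by
      refine IsPGroup.of_card (n := j + k) ?_
      rw [← Subgroup.relIndex_bot_left D, ← Subgroup.relIndex_mul_relIndex ⊥ _ D bot_le hKD,
        Subgroup.relIndex_bot_left, hj, hk, pow_add]
    exact le_pCore hDp haD
  -- the normal closure is elementary abelian
  set V := Subgroup.normalClosure (Wg : Set G) with hV
  have hVQ : V ≤ Q := Subgroup.normalClosure_le_normal hWQ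
  have hVS : V ≤ (S : Subgroup G) := hVQ.trans hQS
  have hcomm : ∀ g : G, ∀ a ∈ Wg, ∀ b ∈ Wg, a * (g * b * g⁻¹) = g * b * g⁻¹ * a := by
    intro g a ha b hb
    have hyQ : g * b * g⁻¹ ∈ Q := (inferInstance : Q.Normal).conj_mem b (hWQ hb) g
    set U := cj Wg g with hU
    have hUQ : U ≤ Q := by
      rintro _ ⟨w, hw, rfl⟩; exact (inferInstance : Q.Normal).conj_mem w (hWQ hw) g
    have hWU : Wg ≤ Subgroup.normalizer (U : Set G) := fun w hw => by
      have hw' : g⁻¹ * w * g ∈ Subgroup.normalizer (Wg : Set G) :=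
        hSW (hQS (by simpa using (inferInstance : Q.Normal).conj_mem w (hWQ hw) g⁻¹))
      rw [mem_normalizer_iff_cj, hU, cj_cj, show w * g = g * (g⁻¹ * w * g) by group, ← cj_cj,
        cj_eq_self hw']
    have hbU : g * b * g⁻¹ ∈ U := ⟨b, hb, rfl⟩
    have hUc : ∀ x ∈ U, ∀ y ∈ U, x * y = y * x := by
      rintro _ ⟨x, hx, rfl⟩ _ ⟨y, hy, rfl⟩
      show MulAut.conj g x * MulAut.conj g y = MulAut.conj g y * MulAut.conj g x
      rw [← map_mul, ← map_mul, hWc x hx y hy]
    set y : ↥(S : Subgroup G) := ⟨_, hQS hyQ⟩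
    have hquad : ⁅⁅stableNormalClosure p ↥(S : Subgroup G), Subgroup.zpowers y⁆, Subgroup.zpowers y⁆ = ⊥ := by
      refine (Subgroup.map_eq_bot_iff_of_injective _ (S : Subgroup G).subtype_injective).1 ?_
      rw [Subgroup.map_commutator, Subgroup.map_commutator, MonoidHom.map_zpowers, ← hWg]
      have h1 : ⁅Wg, Subgroup.zpowers ((S : Subgroup G).subtype y)⁆ ≤ U :=
        Subgroup.commutator_le.2 fun w hw m hm => by
          rw [commutatorElement_def]
          exact mul_mem ((Subgroup.mem_normalizer_iff.1 (hWU hw) m).1 (Subgroup.zpowers_le.2 hbU hm))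
            (inv_mem (Subgroup.zpowers_le.2 hbU hm))
      rw [Subgroup.commutator_eq_bot_iff_le_centralizer]
      exact fun x hx => Subgroup.mem_centralizer_iff.2 fun m hm => hUc m (Subgroup.zpowers_le.2 hbU hm) x (h1 hx)
    have h := Subgroup.commutator_eq_bot_iff_le_centralizer.1 (stableNormalClosure_quadratic y hquad)
    obtain ⟨a', ha', rfl⟩ := ha
    exact (congrArg Subtype.val (Subgroup.mem_centralizer_iff.1 (h ha') y (Subgroup.mem_zpowers y))).symm
  have hWV : Wg ≤ Subgroup.centralizer (V : Set G) := by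
    rw [Subgroup.le_centralizer_iff, hV, Subgroup.normalClosure, Subgroup.closure_le]
    intro v hv
    rw [Group.mem_conjugatesOfSet_iff] at hv
    obtain ⟨b, hb, hbv⟩ := hv
    obtain ⟨g, rfl⟩ := isConj_iff.1 hbv
    exact Subgroup.mem_centralizer_iff.2 fun a ha => hcomm g a ha b hb
  have hVc : V ≤ Subgroup.centralizer (V : Set G) := Subgroup.normalClosure_le_normal hWV
  have hVelem : IsElementaryAbelian p V := by
    refine ⟨⟨⟨fun a b => Subtype.ext (Subgroup.mem_centralizer_iff.1 (hVc b.2) a a.2)⟩⟩, fun v hv => ?_⟩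
    let P : Subgroup G :=
      { carrier := {x | x ∈ V ∧ x ^ p = 1}
        one_mem' := ⟨one_mem _, one_pow p⟩
        mul_mem' := fun {x y} hx hy => ⟨mul_mem hx.1 hy.1, by
          rw [(show Commute x y from Subgroup.mem_centralizer_iff.1 (hVc hy.1) x hx.1).mul_pow, hx.2, hy.2,
            one_mul]⟩
        inv_mem' := fun {x} hx => ⟨inv_mem hx.1, by rw [inv_pow, hx.2, inv_one]⟩ }
    haveI : P.Normal := ⟨fun x hx g => ⟨(inferInstance : V.Normal).conj_mem x hx.1 g, by
      rw [conj_pow, hx.2, mul_one, mul_inv_cancel]⟩⟩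
    exact (Subgroup.normalClosure_le_normal
      (fun w hw => (⟨Subgroup.le_normalClosure hw, hWelem.2 w hw⟩ : w ∈ P)) hv : v ∈ P).2
  -- Frattini argument
  set C := Subgroup.centralizer (V : Set G) with hC
  set D := (pCore p (G ⧸ C)).comap (QuotientGroup.mk' C) with hD
  have hCW : C ≤ Subgroup.normalizer (Wg : Set G) := fun x hx => by
    refine mem_normalizer_of_cj_le ?_
    rintro _ ⟨w, hw, rfl⟩
    show x * w * x⁻¹ ∈ Wg
    rwa [mem_centralizer_set.1 hx w (Subgroup.le_normalClosure hw)]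
  have hDW : D ≤ Subgroup.normalizer (Wg : Set G) := by
    intro x hx
    have hx' : QuotientGroup.mk' C x ∈ (S.mapSurjective (QuotientGroup.mk'_surjective C) : Subgroup (G ⧸ C)) :=
      pCore_le_sylow _ hx
    rw [Sylow.coe_mapSurjective] at hx'
    obtain ⟨s, hs, he⟩ := hx'
    rw [show x = s * (s⁻¹ * x) by group]
    exact mul_mem (hSW hs) (hCW (QuotientGroup.eq.1 he))
  set T := (S : Subgroup G) ⊓ D
  have hT : SylIn p T D := (sylIn_top S).inf_normal le_top (by rw [Subgroup.normalizer_eq_top])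
  have hdec : ∀ g : G, ∃ n ∈ Subgroup.normalizer (T : Set G), ∃ l ∈ D, g = n * l := by
    intro g
    obtain ⟨l, hl, he⟩ := (hT.cj' (g := g⁻¹)
      (by rw [Subgroup.normalizer_eq_top]; exact Subgroup.mem_top _)).conj_eq hT
    refine ⟨(l * g⁻¹)⁻¹, inv_mem (mem_normalizer_iff_cj.2 ?_), l, hl, by group⟩
    rw [← cj_cj]; exact he
  set ok := fun A : Subgroup G => IsElementaryAbelian p A
  by_cases hall : ∀ A ∈ maxIn ok (S : Subgroup G), A ≤ D
  · have hJT : jElem p T = jElem p (S : Subgroup G) := by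
      refine congrArg sSup (Set.ext fun A => ⟨fun hA => ?_, fun hA => ?_⟩)
      · obtain ⟨A₀, hA₀⟩ := (replFamily_elementary p).maxIn_nonempty (S : Subgroup G)
        exact ⟨hA.1.trans inf_le_left, hA.2.1, fun B hB hB' =>
          (hA₀.2.2 B hB hB').trans (hA.2.2 A₀ (le_inf hA₀.1 (hall A₀ hA₀)) hA₀.2.1)⟩
      · exact ⟨le_inf hA.1 (hall A hA), hA.2.1, fun B hB hB' => hA.2.2 B (hB.trans inf_le_left) hB'⟩
    refine normal_iff_cj.2 fun g => ?_
    obtain ⟨n, hn, l, hl, rfl⟩ := hdec g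
    have hnN : n ∈ N := by
      rw [hN, hJ, ← jElem_eq, ← hJT]; exact normalizer_le_jElem T hn
    exact cj_eq_self (mul_mem (hNW hnN) (hDW hl))
  · exfalso
    push Not at hall
    obtain ⟨A₀, hA₀, hA₀D⟩ := hall
    obtain ⟨A, ⟨hA, hAD⟩, hmax⟩ := Set.exists_max_image
      {A : Subgroup G | A ∈ maxIn ok (S : Subgroup G) ∧ ¬ A ≤ D}
      (fun A => Nat.card (A ⊓ V : Subgroup G)) (Set.toFinite _) ⟨A₀, hA₀, hA₀D⟩
    have hVA : ¬ V ≤ Subgroup.normalizer (A : Set G) := fun h =>
      hAD fun a ha => mem_of_quadratic_stable (hst.1 V hVelem) hA.2.1.1 h ha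
    obtain ⟨R, hRS, hRe, hRc, hlt, hRA⟩ := exists_elementary_replacement S.isPGroup' hVS
      (by rw [Subgroup.normalizer_eq_top]; exact le_top) hVelem hA.1 hA.2.1 hVA
    have hR : R ∈ maxIn ok (S : Subgroup G) := ⟨hRS, hRe, fun B hB hB' => hRc ▸ hA.2.2 B hB hB'⟩
    have hRD : R ≤ D := by
      by_contra hRD
      exact absurd (hmax R ⟨hR, hRD⟩) (not_le.2 (replacement_property.card_lt_card_of_lt hlt))
    have hRT : R ∈ maxIn ok T :=
      ⟨le_inf hRS hRD, hRe, fun B hB hB' => hR.2.2 B (hB.trans inf_le_left) hB'⟩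
    have hJT : jElem p T ≤ J := by
      rw [hJ, ← jElem_eq]
      exact sSup_le fun B hB => le_sSup ⟨hB.1.trans inf_le_left, hB.2.1, fun C' hC' hC'' =>
        (hR.2.2 C' hC' hC'').trans (hB.2.2 R hRT.1 hRe)⟩
    have hVJ : V ≤ Subgroup.centralizer (jElem p T : Set G) := by
      rw [hV, Subgroup.normalClosure, Subgroup.closure_le]
      intro v hv
      rw [Group.mem_conjugatesOfSet_iff] at hv
      obtain ⟨b, hb, hbv⟩ := hv
      obtain ⟨g, rfl⟩ := isConj_iff.1 hbv
      obtain ⟨n, hn, l, hl, rfl⟩ := hdec g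
      have hlb : l * b * l⁻¹ ∈ Subgroup.centralizer (jElem p T : Set G) :=
        Subgroup.centralizer_le hJT (hWJ ((Subgroup.mem_normalizer_iff.1 (hDW hl) b).1 hb))
      have h := Subgroup.mem_map_of_mem (MulAut.conj n).toMonoidHom hlb
      rw [show (Subgroup.centralizer (jElem p T : Set G)).map (MulAut.conj n).toMonoidHom =
        cj (Subgroup.centralizer (jElem p T : Set G)) n from rfl, cj_centralizer,
        cj_eq_self (normalizer_le_jElem T hn)] at h
      show n * l * b * (n * l)⁻¹ ∈ Subgroup.centralizer (jElem p T : Set G)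
      rw [show n * l * b * (n * l)⁻¹ = n * (l * b * l⁻¹) * n⁻¹ by group]
      exact h
    refine hVA fun v hv => hRA ?_
    refine mem_of_maxIn hR (hVS hv) (isElementaryAbelian_closure_insert hRe (fun a ha => ?_) (hVelem.2 v hv))
    exact (Subgroup.mem_centralizer_iff.1 (hVJ hv) a (le_sSup hRT ha)).symm

end Cfsg.Agent.Fusion
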