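import Cfsg.Agent.Lib.Fusion.SL2Sections
import Cfsg.Agent.Lib.Fusion.ThompsonFactor
import Cfsg.Agent.Lib.Fusion.Timmesfeld
import Cfsg.Agent.Lib.Solv.Cores
import Cfsg.Agent.Lib.Fusion.ChiefAction

/-!
# Thompson factorization for stable constrained groups
-/

set_option autoImplicit false
set_option linter.style.haveILetI false

open Cfsg
open scoped commutatorElement

namespace Cfsg.Agent.Fusion

universe u

variable {p : ℕ} [hp : Fact p.Prime]

/-- A solvable group involving `SL₂(p)`, `p` odd, has `p = 3`. -/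
theorem eq_three_of_solvable_involves {H : Type u} [Group H] [Finite H] (hp2 : p ≠ 2)
    (hH : Group.IsSolvable H)
    (h : Cfsg.Involves (Matrix.SpecialLinearGroup (Fin 2) (ZMod p)) H) : p = 3 := by
  obtain ⟨K, f, hf⟩ := involves_exists_surjective h
  haveI := hH
  by_contra hp3
  have h4 : 4 ≤ p := by
    have := hp.out.two_le
    omega
  haveI : IsSimpleGroup (Matrix.ProjectiveSpecialLinearGroup (Fin 2) (ZMod p)) :=
    Matrix.ProjectiveSpecialLinearGroup.rank_two_simple (by rwa [Nat.card_zmod])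
  haveI : Group.IsSolvable (Matrix.ProjectiveSpecialLinearGroup (Fin 2) (ZMod p)) :=
    Group.isSolvable_of_surjective (f := (QuotientGroup.mk' (Subgroup.center _)).comp f)
      (fun w => by
        obtain ⟨v, rfl⟩ := QuotientGroup.mk'_surjective _ w
        obtain ⟨u, rfl⟩ := hf v
        exact ⟨u, rfl⟩)
  have hc := (IsSimpleGroup.comm_iff_isSolvable
    (G := Matrix.ProjectiveSpecialLinearGroup (Fin 2) (ZMod p))).2 inferInstance
  haveI : Nontrivial (Matrix.ProjectiveSpecialLinearGroup (Fin 2) (ZMod p)) := IsSimpleGroup.toNontrivial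
  obtain ⟨a, ha0, ha2⟩ : ∃ a : ZMod p, a ≠ 0 ∧ a ^ 2 ≠ 1 := by
    refine ⟨(2 : ℕ), ?_, ?_⟩
    · rw [Ne, ZMod.natCast_eq_zero_iff]
      exact fun hd => absurd (Nat.le_of_dvd two_pos hd) (by omega)
    · intro he
      have h3 : ((3 : ℕ) : ZMod p) = 0 := by push_cast at he ⊢; linear_combination he
      rw [ZMod.natCast_eq_zero_iff] at h3
      exact absurd (Nat.le_of_dvd (by norm_num) h3) (by omega)
  have htop := SL2Simple.PSL_commutator_eq_top (F := ZMod p) ⟨a, ha0, ha2⟩
  have hbot : commutator (Matrix.ProjectiveSpecialLinearGroup (Fin 2) (ZMod p)) = ⊥ := by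
    rw [commutator_def, Subgroup.commutator_eq_bot_iff_le_centralizer]
    exact fun x _ => Subgroup.mem_centralizer_iff.2 fun y _ => hc y x
  exact top_ne_bot (htop.symm.trans hbot)

variable {G : Type u} [Group G] [Finite G]

/-- A stable group with self-centralizing `p`-core is Thompson factorizable. -/
theorem thompson_le_centralizer_of_stable
    (hst : ∀ (V : Subgroup G) [V.Normal], IsElementaryAbelian p V → IsPStableOn p V)
    (hc : Subgroup.centralizer (pCore p G : Set G) ≤ pCore p G) :
    thompsonSubgroup p G ≤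
      Subgroup.centralizer ((⨆ S : Sylow p G, omegaZ p (S : Subgroup G) : Subgroup G) : Set G) := by
  classical
  haveI := iSup_omegaZ_normal (G := G) (p := p)
  set V := (⨆ S : Sylow p G, omegaZ p (S : Subgroup G) : Subgroup G) with hV
  set C := Subgroup.centralizer (V : Set G) with hC
  have hVO : V ≤ pCore p G := iSup_le fun S => le_trans
    (fun x hx => Subgroup.mem_centralizer_iff.2 fun y hy =>
      Subgroup.mem_centralizer_iff.1 ((omegaZ_le _ hx).2) y (pCore_le_sylow S hy)) hc
  have hVc : V ≤ C := by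
    refine iSup_le fun S x hx => Subgroup.mem_centralizer_iff.2 fun y hy => ?_
    exact Subgroup.mem_centralizer_iff.1 ((omegaZ_le _ hx).2) y (pCore_le_sylow S (hVO hy))
  have hcomm : ∀ x ∈ V, ∀ y ∈ V, x * y = y * x := fun x hx y hy =>
    Subgroup.mem_centralizer_iff.1 (hVc hy) x hx
  have hVe : IsElementaryAbelian p V := by
    refine ⟨⟨⟨fun a b => Subtype.ext (hcomm a a.2 b b.2)⟩⟩, fun v hv => ?_⟩
    let P : Subgroup G :=
      { carrier := {x | x ∈ V ∧ x ^ p = 1}
        one_mem' := ⟨one_mem _, one_pow p⟩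
        mul_mem' := fun {x y} hx hy => ⟨mul_mem hx.1 hy.1, by
          rw [(show Commute x y from hcomm x hx.1 y hy.1).mul_pow, hx.2, hy.2, one_mul]⟩
        inv_mem' := fun {x} hx => ⟨inv_mem hx.1, by rw [inv_pow, hx.2, inv_one]⟩ }
    have hle : V ≤ P := iSup_le fun S => (Subgroup.closure_le _).2 fun x hx =>
      ⟨Subgroup.mem_iSup_of_mem S (Subgroup.subset_closure hx), hx.2⟩
    exact (hle hv).2
  set D := (pCore p (G ⧸ C)).comap (QuotientGroup.mk' C) with hD
  have hDC : D = C := by
    refine eq_centralizer_of_generated_fixed (iSup_le fun S => le_iSup_of_le S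
      (le_inf (le_iSup (fun S : Sylow p G => omegaZ p (S : Subgroup G)) S)
        ((omegaZ_le _).trans inf_le_right))) ?_ ?_
    · intro x hx
      rw [hD, Subgroup.mem_comap, show QuotientGroup.mk' C x = 1 from (QuotientGroup.eq_one_iff x).2 hx]
      exact one_mem _
    · obtain ⟨k, hk⟩ := IsPGroup.iff_card.1 (isPGroup_pCore p (G ⧸ C))
      refine ⟨k, ?_⟩
      have h := Subgroup.relIndex_ker (f := QuotientGroup.mk' C) (K := D)
      rw [QuotientGroup.ker_mk', hD,
        Subgroup.map_comap_eq_self_of_surjective (QuotientGroup.mk'_surjective C)] at h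
      exact h.trans hk
  refine sSup_le fun A hA => ?_
  have hoff := isBestOffender_of_maxElementary V hVe hA
  by_contra hAC
  have hAV : A ≤ Subgroup.normalizer (V : Set G) := by rw [Subgroup.normalizer_eq_top]; exact le_top
  obtain ⟨hm, hw⟩ := offMeasure_replacement (U := V) hcomm hAV hoff.2.1 le_rfl hoff.1
  set B := A ⊓ Subgroup.centralizer ((⁅V, A⁆ : Subgroup G) : Set G) with hB
  have hBC : ¬ B ≤ C := by
    intro hBle
    have hfix : V ⊓ Subgroup.centralizer (B : Set G) = V :=
      inf_eq_left.2 (Subgroup.le_centralizer_iff.1 hBle)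
    rw [hfix] at hw
    have hX : ⁅V, A⁆ ≤ ⁅⁅V, A⁆, A⁆ := by
      refine Subgroup.commutator_le.2 fun v hv a ha => ?_
      have hv' : v ∈ ⁅V, A⁆ ⊔ (V ⊓ Subgroup.centralizer (A : Set G)) := hw ▸ hv
      have hn : ⁅V, A⁆ ≤ Subgroup.normalizer
          ((V ⊓ Subgroup.centralizer (A : Set G) : Subgroup G) : Set G) := fun y hy =>
        Subgroup.centralizer_le_normalizer _ (Subgroup.mem_centralizer_iff.2 fun z hz =>
          hcomm z hz.1 y (Subgroup.commutator_le_left V A hy))
      obtain ⟨x, hx, c, hc', rfl⟩ := exists_mul_of_mem_sup hn hv'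
      have hxa : ⁅c, a⁆ = 1 := commutatorElement_eq_one_iff_mul_comm.2
        (Subgroup.mem_centralizer_iff.1 hc'.2 a ha).symm
      rw [show ⁅x * c, a⁆ = x * ⁅c, a⁆ * x⁻¹ * ⁅x, a⁆ by simp [commutatorElement_def, mul_assoc],
        hxa, mul_one, mul_inv_cancel, one_mul]
      exact Subgroup.commutator_mem_commutator hx ha
    have hbot := eq_bot_of_le_act_comm hAV (Local.elemAb_isPGroup hVe)
      (fun a ha => hoff.2.2 a ha) (Subgroup.commutator_le_left V A) hX
    exact hAC (Subgroup.le_centralizer_iff.1 (Subgroup.commutator_eq_bot_iff_le_centralizer.1 hbot))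
  refine hBC fun b hb => ?_
  rw [← hDC]
  refine hst V hVe b ?_
  rw [Subgroup.commutator_eq_bot_iff_le_centralizer]
  intro x hx
  have hxA : x ∈ ⁅V, A⁆ := Subgroup.commutator_mono le_rfl (Subgroup.zpowers_le.2 hb.1) hx
  exact Subgroup.mem_centralizer_iff.2 fun z hz =>
    (Subgroup.mem_centralizer_iff.1 (((Subgroup.zpowers_le.2 hb) hz : z ∈ B).2) x hxA).symm

end Cfsg.Agent.Fusion
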