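import Mathlib
import Cfsg.Agent.Lib.Fusion.StableSections
import Cfsg.Agent.Lib.Fusion.Reduction
import Cfsg.Agent.Lib.Fusion.NotStable

/-!
# Stable sections and strong fusion
-/

set_option autoImplicit false

universe u

namespace Cfsg.Agent.Fusion

variable {G : Type u} [Group G] [Finite G] {p : ℕ} [hp : Fact p.Prime]

theorem kInf_normal_of_stable {S : Subgroup G} (hS : SylIn p S ⊤)
    (hC : Subgroup.centralizer (pCore p G : Set G) ≤ pCore p G)
    (hst : ∀ (N : Subgroup G) [N.Normal], IsNormalizerPStable p (G ⧸ N)) :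
    (inducedFunctor kInfLower S).Normal ∧ (inducedFunctor kInfUpper S).Normal := by
  by_contra h
  obtain ⟨g, -, -, -, -, hN⟩ := exists_kInf_element hS (not_and_or.1 h)
  obtain ⟨N, hn, hns⟩ := hN hC
  exact hns (hst N)

theorem stable_section_quotient
    (hst : ∀ (K R : Subgroup G) [hR : (R.subgroupOf K).Normal],
      IsNormalizerPStable p (↥K ⧸ R.subgroupOf K))
    (X : Type u) [Group X] [Finite X] (hX : Involves X G) (N : Subgroup X) [N.Normal] :
    IsNormalizerPStable p (X ⧸ N) := by
  obtain ⟨K, R, hR, ⟨e⟩⟩ :=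
    involves_surjective hX (QuotientGroup.mk' N) (QuotientGroup.mk'_surjective N)
  exact isNormalizerPStable_of_equiv e (hst K R)

/-- A functor whose values are normal in constrained groups with stable quotients controls
strong fusion in a group with stable sections. -/
theorem controlsStrongFusion_of_normal {W : ∀ (Q : Type u) [Group Q], Subgroup Q}
    (hW : IsCharPFunctor.{u} p W)
    (hn : ∀ (X : Type u) [Group X] [Finite X], Involves X G →
      Subgroup.centralizer (pCore p X : Set X) ≤ pCore p X →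
      ∀ T : Subgroup X, SylIn p T ⊤ → (inducedFunctor W T).Normal)
    (S : Sylow p G) : ControlsStrongFusion p (inducedFunctor W (S : Subgroup G)) := by
  have h𝓦 : ∀ W' ∈ ({W} : Set (∀ (Q : Type u) [Group Q], Subgroup Q)),
      IsCharPFunctor.{u} p W' := by
    rintro W' hW'; rw [Set.mem_singleton_iff.1 hW']; exact hW
  have hfam := familyFus_sections h𝓦 (G := G) (fun X _ _ hX hc => by
    obtain ⟨T⟩ : Nonempty (Sylow p X) := inferInstance
    refine (familyFus_iff _).2 ⟨_, sylIn_top T, fun A h _ hA hhA => ?_⟩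
    haveI := hn X hX hc _ (sylIn_top T)
    exact fus_step hA ⟨_, ⟨W, rfl, rfl⟩, trivial, by rw [Subgroup.normalizer_eq_top]; trivial⟩ hhA)
    G involves_refl
  rw [Set.image_singleton] at hfam
  obtain ⟨T₀, hT₀, hf⟩ := (familyFus_iff _).1 hfam
  have hf' := hf.sylow (fun W' hW' => by
    rw [Set.mem_singleton_iff.1 hW']; exact isConjugacyFunctor_induced hW) hT₀ (sylIn_top S)
  refine ⟨S, inducedFunctor_le W _, fun A hA => ⟨hA, fun g hg => ?_⟩⟩
  obtain ⟨x, hx, he⟩ := (famFusAt_singleton _ _ _).1 hf' A g trivial hA hg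
  exact ⟨x, hx.2, fun a ha => (he a ha).symm⟩

end Cfsg.Agent.Fusion
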