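import Cfsg.Agent.Lib.LocalEven.SylowGraph
import Cfsg.Agent.Lib.Solv.Generation
import Cfsg.Agent.Lib.Fusion.PConstrained

/-!
Groups whose Sylow intersection graph is disconnected have a smallest normal subgroup of order
divisible by `p`; invariance of some local notions under isomorphisms.
-/

set_option autoImplicit false

namespace Cfsg.Agent.Fusion.Strong

open Cfsg.Agent.Fusion Cfsg.Agent.LocalEven.SylowGraph

variable {Q : Type*} [Group Q] [Finite Q] {p : ℕ} [hp : Fact p.Prime]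

/-- Two normal subgroups of order divisible by `p` meeting in a `p'`-group connect the Sylow graph. -/
theorem connected_of_two {X Y : Subgroup Q} [X.Normal] [Y.Normal] (hX : p ∣ Nat.card X) (hY : p ∣ Nat.card Y)
    (hW : ¬ p ∣ Nat.card ↥(X ⊓ Y)) : Cfsg.IsSylowChainConnected p Q := by
  obtain ⟨P⟩ : Nonempty (Sylow p Q) := inferInstance
  let H : Subgroup Q :=
    { carrier := {g | Relation.ReflTransGen Link P (g • P)}
      one_mem' := by show Relation.ReflTransGen Link P ((1 : Q) • P); rw [one_smul]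
      mul_mem' := fun {a b} ha hb => by
        show Relation.ReflTransGen Link P ((a * b) • P)
        rw [mul_smul]
        exact ha.trans (reach_smul a hb)
      inv_mem' := fun {a} ha => by
        have := reach_symm (reach_smul a⁻¹ ha)
        rwa [inv_smul_smul] at this }
  have hH : ∀ {g g' e : Q}, g' ∈ H → e ≠ 1 → e ∈ cj (P : Subgroup Q) g' → e ∈ cj (P : Subgroup Q) g → g ∈ H := by
    intro g g' e hg' he h1 h2
    refine hg'.trans (reach_of_inf fun h => he ?_)
    have : e ∈ ((g' • P : Sylow p Q) : Subgroup Q) ⊓ ((g • P : Sylow p Q) : Subgroup Q) := ⟨h1, h2⟩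
    rwa [h, Subgroup.mem_bot] at this
  have hsyl : ∀ N : Subgroup Q, N.Normal → SylIn p ((P : Subgroup Q) ⊓ N) N := fun N hN =>
    (sylIn_top P).inf_normal le_top (fun g _ => by rw [Subgroup.normalizer_eq_top_iff.2 hN]; trivial)
  have hne : ∀ N : Subgroup Q, N.Normal → p ∣ Nat.card N → ∃ a ∈ (P : Subgroup Q) ⊓ N, orderOf a = p := by
    intro N hN hd
    obtain ⟨x, hx, hxo⟩ := exists_order_p hd
    obtain ⟨y, hy, hyle⟩ := (hsyl N hN).conj_le (IsPGroup.of_card (n := 1) (by rw [Nat.card_zpowers, hxo, pow_one]))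
      (Subgroup.zpowers_le.2 hx)
    exact ⟨y * x * y⁻¹, hyle (conj_mem_cj (Subgroup.mem_zpowers x)), by
      rw [← hxo]; exact MulEquiv.orderOf_eq (MulAut.conj y) x⟩
  obtain ⟨a, ⟨haP, haX⟩, hao⟩ := hne X inferInstance hX
  obtain ⟨b, ⟨hbP, hbY⟩, hbo⟩ := hne Y inferInstance hY
  have hWP : ∀ z, z ∈ (P : Subgroup Q) → z ∈ X → z ∈ Y → z = 1 := fun z h1 h2 h3 => by
    by_contra hz
    refine hW ((dvd_of_pgroup (X := (P : Subgroup Q) ⊓ (X ⊓ Y)) P.isPGroup'.to_inf_left fun h => hz ?_).trans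
      (Subgroup.card_dvd_of_le inf_le_right))
    have : z ∈ (P : Subgroup Q) ⊓ (X ⊓ Y) := ⟨h1, h2, h3⟩
    rwa [h, Subgroup.mem_bot] at this
  have hab : a * b = b * a := by
    rw [← commutatorElement_eq_one_iff_mul_comm, commutatorElement_def]
    refine hWP _ (mul_mem (mul_mem (mul_mem haP hbP) (inv_mem haP)) (inv_mem hbP)) ?_ ?_
    · rw [show a * b * a⁻¹ * b⁻¹ = a * (b * a⁻¹ * b⁻¹) by group]
      exact mul_mem haX (Subgroup.Normal.conj_mem inferInstance _ (inv_mem haX) b)
    · exact mul_mem (Subgroup.Normal.conj_mem inferInstance _ hbY a) (inv_mem hbY)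
  obtain ⟨A, hA⟩ : ∃ A : Subgroup Q, A = Subgroup.closure {a, b} := ⟨_, rfl⟩
  have hAP : A ≤ P := by rw [hA, Subgroup.closure_le]; rintro z (rfl | rfl) <;> assumption
  have haA : a ∈ A := hA ▸ Subgroup.subset_closure (by simp)
  have hbA : b ∈ A := hA ▸ Subgroup.subset_closure (by simp)
  letI : CommGroup (Subgroup.closure ({a, b} : Set Q)) :=
    Subgroup.closureCommGroupOfComm (by rintro u (rfl | rfl) v (rfl | rfl) <;> first | rfl | exact hab | exact hab.symm)
  have hAc : IsMulCommutative A := by subst hA; exact ⟨⟨fun u v => mul_comm u v⟩⟩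
  obtain ⟨W, hWd⟩ : ∃ W : Subgroup Q, W = X ⊓ Y := ⟨_, rfl⟩
  haveI : W.Normal := hWd ▸ Subgroup.normal_inf_normal X Y
  rw [← hWd] at hW
  have hcoA : (Nat.card A).Coprime (Nat.card W) := by
    obtain ⟨k, hk⟩ := IsPGroup.iff_card.1 (P.isPGroup'.to_le hAP)
    rw [hk]
    exact ((Nat.Prime.coprime_iff_not_dvd hp.out).2 hW).pow_left k
  have hWH : W ≤ H := by
    rw [← Cfsg.Agent.Solv.gen_eq A W hAc
      (fun g _ => by rw [Subgroup.normalizer_eq_top_iff.2 inferInstance]; trivial) hcoA]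
    refine iSup₂_le fun B hB w hw => ?_
    obtain ⟨hBA, c, hc, hBc⟩ := hB
    have hB1 : B ≠ ⊥ := by
      intro h
      rw [h, bot_sup_eq] at hBc
      have hc1 : ∀ u ∈ A, u ^ p = 1 := by
        intro u hu
        rw [hA] at hu
        have hu' : (⟨u, hu⟩ : Subgroup.closure ({a, b} : Set Q)) ^ p = 1 := by
          suffices ∀ z : Q, ∀ hz : z ∈ Subgroup.closure ({a, b} : Set Q),
              (⟨z, hz⟩ : Subgroup.closure ({a, b} : Set Q)) ^ p = 1 from this u hu
          intro z hz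
          induction hz using Subgroup.closure_induction with
          | mem z hz =>
            refine Subtype.ext ?_
            rw [SubgroupClass.coe_pow]
            rcases hz with rfl | rfl
            · exact hao ▸ pow_orderOf_eq_one z
            · exact hbo ▸ pow_orderOf_eq_one z
          | one => exact one_pow p
          | mul u v hu hv ihu ihv =>
            rw [show (⟨u * v, mul_mem hu hv⟩ : Subgroup.closure ({a, b} : Set Q)) = ⟨u, hu⟩ * ⟨v, hv⟩ from rfl,
              mul_pow, ihu, ihv, one_mul]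
          | inv u hu ih =>
            rw [show (⟨u⁻¹, inv_mem hu⟩ : Subgroup.closure ({a, b} : Set Q)) = (⟨u, hu⟩)⁻¹ from rfl, inv_pow, ih,
              inv_one]
        exact congrArg Subtype.val hu'
      have hle : Nat.card A ≤ p := by
        rw [← hBc, Nat.card_zpowers]
        exact Nat.le_of_dvd hp.out.pos (orderOf_dvd_of_pow_eq_one (hc1 c hc))
      have heq : Subgroup.zpowers a = A := Subgroup.eq_of_le_of_card_ge (Subgroup.zpowers_le.2 haA)
        (by rw [Nat.card_zpowers, hao]; exact hle)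
      have hb1 : b = 1 := hWP b hbP (by
        have hbz : b ∈ Subgroup.zpowers a := heq.symm ▸ hbA
        exact Subgroup.zpowers_le.2 haX hbz) hbY
      rw [hb1, orderOf_one] at hbo
      exact hp.out.ne_one hbo.symm
    obtain ⟨e, he, he1⟩ := B.bot_or_exists_ne_one.resolve_left hB1
    have h' := Subgroup.mem_centralizer_iff.1 hw.2 e he
    refine hH (g := w) (g' := 1) (one_mem H) he1 (by rw [cj_one]; exact hAP (hBA he)) (mem_cj.2 ?_)
    rw [mul_assoc, h', inv_mul_cancel_left]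
    exact hAP (hBA he)
  obtain ⟨V, hV⟩ : ∃ V : Subgroup Q, V = (P : Subgroup Q) ⊓ Y := ⟨_, rfl⟩
  have hbV : b ∈ V := hV ▸ ⟨hbP, hbY⟩
  have hb1 : b ≠ 1 := fun h => hp.out.ne_one (by rw [← hbo, h, orderOf_one])
  have hXH : X ≤ H := by
    intro x hx
    have hVs : SylIn p V Y := hV ▸ hsyl Y inferInstance
    have hVW : SylIn p V (W ⊔ V) := hVs.mono le_sup_right (sup_le (hWd ▸ inf_le_right) hVs.le)
    have hle : cj V x ≤ W ⊔ V := by
      intro z hz
      have hv : x⁻¹ * z * x ∈ V := mem_cj.1 hz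
      obtain ⟨v, hvdef⟩ : ∃ v, v = x⁻¹ * z * x := ⟨_, rfl⟩
      rw [← hvdef] at hv
      have hvY : v ∈ Y := hVs.le hv
      rw [show z = (x * v * x⁻¹ * v⁻¹) * v by rw [hvdef]; group]
      refine Subgroup.mul_mem_sup ?_ hv
      rw [hWd]
      refine Subgroup.mem_inf.2 ⟨?_, mul_mem (Subgroup.Normal.conj_mem inferInstance _ hvY x) (inv_mem hvY)⟩
      rw [show x * v * x⁻¹ * v⁻¹ = x * (v * x⁻¹ * v⁻¹) by group]
      exact mul_mem hx (Subgroup.Normal.conj_mem inferInstance _ (inv_mem hx) v)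
    obtain ⟨u, hu, hu'⟩ := hVW.conj_le (isPGroup_cj hVs.isPGroup x) hle
    rw [cj_cj, cj_le_iff] at hu'
    -- `x` and an element of `W` share a conjugate of `V`
    obtain ⟨w, hw, v, hv, rfl⟩ := Subgroup.mem_sup_of_normal_left.1 hu
    have hmem : ∀ y ∈ V, (v * y * v⁻¹) ∈ V := fun y hy => mul_mem (mul_mem hv hy) (inv_mem hv)
    have h1 : b ∈ cj V (w * v * x)⁻¹ := hu' hbV
    rw [mem_cj, inv_inv] at h1
    have h2 : w * v * x * b * (w * v * x)⁻¹ ∈ cj (P : Subgroup Q) 1 := by
      rw [cj_one]; exact (hV ▸ inf_le_left : V ≤ P) h1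
    have hvH : v ∈ H := hH (g' := 1) (one_mem H) hb1 (by rw [cj_one]; exact hbP) (mem_cj.2 (by
      have := (hV ▸ inf_le_left : V ≤ P) (mul_mem (mul_mem (inv_mem hv) hbV) hv)
      exact this))
    have h3 : w * v * x ∈ H := by
      refine hH (g' := 1) (one_mem H) (e := w * v * x * b * (w * v * x)⁻¹) (fun h => hb1 (conj_eq_one_iff.1 h)) h2 ?_
      rw [mem_cj, show (w * v * x)⁻¹ * (w * v * x * b * (w * v * x)⁻¹) * (w * v * x) = b by group]
      exact hbP
    have := mul_mem (inv_mem (mul_mem (hWH hw) hvH)) h3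
    rwa [inv_mul_cancel_left] at this
  rw [connected_iff]
  have hall : ∀ g : Q, g ∈ H := by
    intro g
    obtain ⟨x, hx, hn⟩ := frattini_conj (H := ⊤) (hsyl X inferInstance)
      (fun g _ => by rw [Subgroup.normalizer_eq_top_iff.2 inferInstance]; trivial) (Subgroup.mem_top g)
    have ha1 : a ≠ 1 := fun h => hp.out.ne_one (by rw [← hao, h, orderOf_one])
    have hm : x * g ∈ H := hH (g' := 1) (one_mem H) ha1 (by rw [cj_one]; exact haP)
      (cj_mono inf_le_left (x * g) ((cj_eq_self hn).ge ⟨haP, haX⟩))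
    simpa using mul_mem (inv_mem (hXH hx)) hm
  intro S T
  obtain ⟨s, rfl⟩ := MulAction.exists_smul_eq Q P S
  obtain ⟨t, rfl⟩ := MulAction.exists_smul_eq Q P T
  exact (reach_symm (hall s)).trans (hall t)

/-- The smallest normal subgroup of order divisible by `p`. -/
theorem exists_least_normal (hnc : ¬ Cfsg.IsSylowChainConnected p Q) (hd : p ∣ Nat.card Q) :
    ∃ M : Subgroup Q, M.Normal ∧ p ∣ Nat.card M ∧ ∀ Y : Subgroup Q, Y.Normal → p ∣ Nat.card Y → M ≤ Y := by
  classical
  have hex : ∃ n, ∃ M : Subgroup Q, M.Normal ∧ p ∣ Nat.card M ∧ Nat.card M = n :=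
    ⟨_, ⊤, inferInstance, by rwa [Subgroup.card_top], rfl⟩
  obtain ⟨M, hM, hMd, hMn⟩ := Nat.find_spec hex
  refine ⟨M, hM, hMd, fun Y hY hYd => ?_⟩
  haveI := hM; haveI := hY
  have h : p ∣ Nat.card ↥(M ⊓ Y) := by_contra fun h => hnc (connected_of_two hMd hYd h)
  have hmin : Nat.card M ≤ Nat.card ↥(M ⊓ Y) :=
    hMn ▸ Nat.find_min' hex ⟨M ⊓ Y, Subgroup.normal_inf_normal M Y, h, rfl⟩
  exact (Subgroup.eq_of_le_of_card_ge inf_le_left hmin).ge.trans inf_le_right

theorem not_connected_equiv {Q' : Type*} [Group Q'] [Finite Q'] (e : Q ≃* Q')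
    (h : ¬ Cfsg.IsSylowChainConnected p Q) : ¬ Cfsg.IsSylowChainConnected p Q' := by
  rw [not_connected_iff] at h ⊢
  obtain ⟨H, hne, hd, hse⟩ := h
  refine ⟨H.map e.toMonoidHom, fun ht => hne ?_, ?_, fun g hg => ?_⟩
  · refine Subgroup.map_injective (f := e.toMonoidHom) e.injective ?_
    rw [ht, Subgroup.map_top_of_surjective (f := e.toMonoidHom) e.surjective]
  · rwa [Subgroup.card_map_of_injective e.injective]
  · obtain ⟨g, rfl⟩ := e.surjective g
    have hcj : cj (H.map e.toMonoidHom) (e g) = (cj H g).map e.toMonoidHom := by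
      rw [cj, cj, Subgroup.map_map, Subgroup.map_map]
      congr 1
      ext z; simp
    rw [hcj, ← Subgroup.map_inf _ _ _ e.injective, Subgroup.card_map_of_injective e.injective]
    exact hse g fun hh => hg (Subgroup.mem_map_of_mem _ hh)

theorem map_pPrimePCore_equiv {Q' : Type*} [Group Q'] [Finite Q'] (e : Q ≃* Q') :
    (Cfsg.pPrimePCore p Q).map e.toMonoidHom = Cfsg.pPrimePCore p Q' := by
  let ē := QuotientGroup.congr (Cfsg.pPrimeCore p Q) (Cfsg.pPrimeCore p Q') e (map_pPrimeCore_equiv e)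
  ext y
  obtain ⟨x, rfl⟩ := e.surjective y
  rw [show (e x : Q') = e.toMonoidHom x from rfl, Subgroup.mem_map_iff_mem e.injective]
  unfold Cfsg.pPrimePCore
  rw [Subgroup.mem_comap, Subgroup.mem_comap, ← map_pCore_equiv ē,
    show QuotientGroup.mk' (Cfsg.pPrimeCore p Q') (e.toMonoidHom x) =
      ē.toMonoidHom (QuotientGroup.mk' (Cfsg.pPrimeCore p Q) x) from rfl]
  exact (Subgroup.mem_map_iff_mem (f := ē.toMonoidHom) ē.injective).symm

end Cfsg.Agent.Fusion.Strong
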