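import Cfsg.Agent.Lib.Fusion.Alperin
import Cfsg.Agent.Lib.Fusion.StrongAlperinQuot

/-!
The strong form of the Alperin–Goldschmidt fusion theorem.
-/

set_option autoImplicit false

namespace Cfsg.Agent.Fusion.Strong

open Cfsg.Agent.Fusion Cfsg.Agent.LocalEven.SylowGraph

variable {G : Type*} [Group G] [Finite G] {p : ℕ} [hp : Fact p.Prime]

/-- A subgroup and an element allowed in the strong form of the fusion theorem. -/
def Good (p : ℕ) (P T X : Subgroup G) (x : G) : Prop :=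
  T ≤ P ∧ SylIn p (P ⊓ Subgroup.normalizer (T : Set G)) (Subgroup.normalizer (T : Set G)) ∧
    P ⊓ Subgroup.centralizer (T : Set G) ≤ T ∧
    (Cfsg.pPrimePCore p ↥(Subgroup.normalizer (T : Set G))).map (Subgroup.normalizer (T : Set G)).subtype =
      T ⊔ Subgroup.centralizer (T : Set G) ∧
    ¬ Cfsg.IsSylowChainConnected p
        (↥(Subgroup.normalizer (T : Set G)) ⧸ T.subgroupOf (Subgroup.normalizer (T : Set G))) ∧
    (T ≤ X ∧ X ≤ Subgroup.normalizer (T : Set G) ∧
      (X.subgroupOf (Subgroup.normalizer (T : Set G))).Normal ∧ p ∣ T.relIndex X ∧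
      ∀ Y : Subgroup G, T ≤ Y → Y ≤ Subgroup.normalizer (T : Set G) →
        (Y.subgroupOf (Subgroup.normalizer (T : Set G))).Normal → p ∣ T.relIndex Y → X ≤ Y) ∧
    x ∈ (Cfsg.pResidual p ↥X).map X.subtype

theorem residual_eq (X : Subgroup G) :
    (Cfsg.pResidual p ↥X).map X.subtype = Subgroup.closure {g : G | g ∈ X ∧ Nat.Coprime (orderOf g) p} := by
  rw [Cfsg.pResidual, MonoidHom.map_closure]
  congr 1
  ext g
  constructor
  · rintro ⟨⟨z, hz⟩, ho, rfl⟩
    refine ⟨hz, ?_⟩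
    have : Nat.Coprime (orderOf (⟨z, hz⟩ : X)) p := ho
    rwa [Subgroup.orderOf_mk] at this
  · rintro ⟨hg, ho⟩
    exact ⟨⟨g, hg⟩, by show Nat.Coprime (orderOf (⟨g, hg⟩ : X)) p; rwa [Subgroup.orderOf_mk], rfl⟩

theorem cj_closure (s : Set G) (y : G) :
    cj (Subgroup.closure s) y = Subgroup.closure ((fun z => y * z * y⁻¹) '' s) :=
  MonoidHom.map_closure _ _

/-- Conjugation between normalisers. -/
noncomputable def normalizerCj (T : Subgroup G) (y : G) :
    ↥(Subgroup.normalizer (T : Set G)) ≃* ↥(Subgroup.normalizer (cj T y : Set G)) :=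
  ((MulAut.conj y).subgroupMap (Subgroup.normalizer (T : Set G))).trans
    (MulEquiv.subgroupCongr (cj_normalizer T y))

theorem normalizerCj_coe (T : Subgroup G) (y : G) (z : ↥(Subgroup.normalizer (T : Set G))) :
    ((normalizerCj T y z : ↥(Subgroup.normalizer (cj T y : Set G))) : G) = y * z * y⁻¹ := rfl

theorem map_subgroupOf_cj (T V : Subgroup G) (y : G) :
    (V.subgroupOf (Subgroup.normalizer (T : Set G))).map (normalizerCj T y).toMonoidHom =
      (cj V y).subgroupOf (Subgroup.normalizer (cj T y : Set G)) := by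
  ext w
  obtain ⟨z, rfl⟩ := (normalizerCj T y).surjective w
  rw [show normalizerCj T y z = (normalizerCj T y).toMonoidHom z from rfl]
  refine (Subgroup.mem_map_iff_mem (f := (normalizerCj T y).toMonoidHom) (normalizerCj T y).injective).trans ?_
  rw [Subgroup.mem_subgroupOf, Subgroup.mem_subgroupOf]
  show (z : G) ∈ V ↔ y * z * y⁻¹ ∈ cj V y
  rw [mem_cj]; group

theorem Good.cj {P T X : Subgroup G} {x : G} (h : Good p P T X x) {y : G}
    (hy : y ∈ Subgroup.normalizer (P : Set G)) :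
    Good p P (cj T y) (cj X y) (y * x * y⁻¹) := by
  obtain ⟨hTP, hsyl, hcen, hcore, hnc, ⟨hTX, hXN, hXn, hdvd, hmin⟩, hx⟩ := h
  have hP : Fusion.cj P y = P := cj_eq_self hy
  refine ⟨hP ▸ cj_mono hTP y, ?_, ?_, ?_, ?_, ⟨cj_mono hTX y, ?_, ?_, ?_, ?_⟩, ?_⟩
  · have := hsyl.cj y
    rwa [cj_inf, hP, cj_normalizer] at this
  · have := cj_mono hcen y
    rwa [cj_inf, hP, cj_centralizer] at this
  · have := congrArg (fun V => Fusion.cj V y) hcore
    simp only [cj_sup, cj_centralizer] at this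
    rw [← this, ← map_pPrimePCore_equiv (normalizerCj T y), Subgroup.map_map]
    show _ = Subgroup.map (MulAut.conj y).toMonoidHom _
    rw [Subgroup.map_map]
    rfl
  · haveI : (T.subgroupOf (Subgroup.normalizer (T : Set G))).Normal := Subgroup.normal_in_normalizer
    haveI : ((Fusion.cj T y).subgroupOf (Subgroup.normalizer (Fusion.cj T y : Set G))).Normal :=
      Subgroup.normal_in_normalizer
    exact not_connected_equiv
      (QuotientGroup.congr _ _ (normalizerCj T y) (map_subgroupOf_cj T T y)) hnc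
  · rw [← cj_normalizer]; exact cj_mono hXN y
  · rw [← map_subgroupOf_cj]
    exact hXn.map _ (normalizerCj T y).surjective
  · rwa [relIndex_cj]
  · intro Y hTY hYN hYn hYd
    have h1 : X ≤ Fusion.cj Y y⁻¹ := by
      refine hmin _ ?_ ?_ ?_ ?_
      · rwa [← cj_le_iff]
      · rw [cj_le_iff, inv_inv, cj_normalizer]; exact hYN
      · have := map_subgroupOf_cj T (Fusion.cj Y y⁻¹) y
        rw [cj_inv_cj] at this
        rw [← this] at hYn
        have h2 := hYn.map (normalizerCj T y).symm.toMonoidHom (normalizerCj T y).symm.surjective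
        rwa [Subgroup.map_map, show (normalizerCj T y).symm.toMonoidHom.comp (normalizerCj T y).toMonoidHom =
          MonoidHom.id _ from MonoidHom.ext fun z => (normalizerCj T y).symm_apply_apply z, Subgroup.map_id] at h2
      · rw [← relIndex_cj _ _ y, cj_inv_cj]; exact hYd
    rw [cj_le_iff]; exact h1
  · rw [residual_eq] at hx ⊢
    have h1 : y * x * y⁻¹ ∈ Fusion.cj (Subgroup.closure {g : G | g ∈ X ∧ Nat.Coprime (orderOf g) p}) y :=
      conj_mem_cj hx
    rw [cj_closure] at h1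
    refine Subgroup.closure_mono ?_ h1
    rintro _ ⟨g, ⟨hg, ho⟩, rfl⟩
    refine ⟨conj_mem_cj hg, ?_⟩
    rwa [show orderOf (y * g * y⁻¹) = orderOf g from MulEquiv.orderOf_eq (MulAut.conj y) g]

/-- The steps of the chains: centralising, normalising the Sylow subgroup, or good. -/
def Step (p : ℕ) (P : Subgroup G) (T : Subgroup G) (x : G) : Prop :=
  x ∈ Subgroup.centralizer (T : Set G) ∨ (T = P ∧ x ∈ Subgroup.normalizer (P : Set G)) ∨ ∃ X, Good p P T X x

omit [Finite G] hp in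
theorem step_inv {P T : Subgroup G} {x : G} (h : Step p P T x) :
    x ∈ Subgroup.normalizer (T : Set G) ∧ Step p P T x⁻¹ := by
  rcases h with h | ⟨h, hx⟩ | ⟨X, hX⟩
  · exact ⟨Subgroup.centralizer_le_normalizer _ h, Or.inl (inv_mem h)⟩
  · exact ⟨h ▸ hx, Or.inr (Or.inl ⟨h, inv_mem hx⟩)⟩
  · obtain ⟨h1, h2, h3, h4, h5, ⟨h6, h7, h8⟩, h9⟩ := hX
    refine ⟨h7 (Subgroup.map_subtype_le _ h9), Or.inr (Or.inr ⟨X, h1, h2, h3, h4, h5, ⟨h6, h7, h8⟩, inv_mem h9⟩)⟩

/-- The normal form of a chain. -/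
theorem normal_form {P : Subgroup G} {A : Set G} {g : G} (h : Chain (Step p P) A g) :
    ∃ (n : ℕ) (H X : Fin n → Subgroup G) (x : Fin n → G) (c y : G),
      c ∈ Subgroup.centralizer A ∧ y ∈ Subgroup.normalizer (P : Set G) ∧ g = c * (List.ofFn x).prod * y ∧
      ∀ i : Fin n, Good p P (H i) (X i) (x i) ∧ rcj ((List.ofFn x).take i.val).prod A ⊆ (H i : Set G) := by
  induction h with
  | nil B => exact ⟨0, Fin.elim0, Fin.elim0, Fin.elim0, 1, 1, one_mem _, one_mem _, by simp, fun i => i.elim0⟩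
  | @cons B g T x hx hT _ ih =>
    obtain ⟨n, H, X, z, c, y, hc, hy, rfl, hi⟩ := ih
    have hcB : x * c * x⁻¹ ∈ Subgroup.centralizer B := by
      rw [mem_centralizer_set] at hc ⊢
      intro b hb
      have := hc (x⁻¹ * b * x) ⟨b, hb, rfl⟩
      calc x * c * x⁻¹ * b * (x * c * x⁻¹)⁻¹ = x * (c * (x⁻¹ * b * x) * c⁻¹) * x⁻¹ := by group
        _ = b := by rw [this]; group
    rcases hx with hxC | ⟨-, hxP⟩ | ⟨W, hW⟩
    · have hxB : x ∈ Subgroup.centralizer B := Subgroup.centralizer_le hT hxC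
      have hB : rcj x B = B := by
        have : ∀ b ∈ B, x⁻¹ * b * x = b := fun b hb => by
          have := Subgroup.mem_centralizer_iff.1 hxB b hb
          rw [mul_assoc, this, inv_mul_cancel_left]
        exact (Set.image_congr this).trans (Set.image_id B)
      rw [hB] at hc hi
      exact ⟨n, H, X, z, x * c, y, mul_mem hxB hc, hy, by simp only [mul_assoc], hi⟩
    · refine ⟨n, fun i => Fusion.cj (H i) x, fun i => Fusion.cj (X i) x, fun i => x * z i * x⁻¹, x * c * x⁻¹, x * y, hcB,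
        mul_mem hxP hy, ?_, fun i => ⟨(hi i).1.cj hxP, ?_⟩⟩
      · have hl : List.ofFn (fun i => x * z i * x⁻¹) = (List.ofFn z).map (MulAut.conj x) := by
          rw [List.map_ofFn]; rfl
        rw [hl, ← map_list_prod, MulAut.conj_apply]
        group
      · have hl : List.ofFn (fun i => x * z i * x⁻¹) = (List.ofFn z).map (MulAut.conj x) := by
          rw [List.map_ofFn]; rfl
        rw [hl, ← List.map_take, ← map_list_prod]
        obtain ⟨π, hπ⟩ : ∃ π, π = ((List.ofFn z).take i.val).prod := ⟨_, rfl⟩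
        have h2 := (hi i).2
        rw [← hπ] at h2 ⊢
        rintro _ ⟨b, hb, rfl⟩
        rw [MulAut.conj_apply]
        refine mem_cj.2 ?_
        have := h2 ⟨x⁻¹ * b * x, ⟨b, hb, rfl⟩, rfl⟩
        rw [SetLike.mem_coe] at this
        simpa [mul_assoc] using this
    · refine ⟨n + 1, Fin.cons T H, Fin.cons W X, Fin.cons x z, x * c * x⁻¹, y, hcB, hy, ?_, ?_⟩
      · simp [List.ofFn_succ, mul_assoc]
      · intro i
        refine Fin.cases ?_ (fun j => ?_) i
        · exact ⟨by simpa using hW, by simpa [List.ofFn_succ, rcj_one] using hT⟩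
        · refine ⟨by simpa using (hi j).1, ?_⟩
          have h2 := (hi j).2
          rw [rcj_rcj] at h2
          simpa [List.ofFn_succ] using h2

set_option maxHeartbeats 1000000 in
theorem exists_chain {S : Subgroup G} (hS : SylIn p S ⊤) {A : Set G} {g : G} (hA : A ⊆ S) (hAg : rcj g A ⊆ S) :
    Chain (Step p S) A g := by
  classical
  refine chain_of_local hS (fun T x h => step_inv h) (fun X₀ hX₀ => ?_) hA hAg
  obtain ⟨c₀, hc₀, hsyl⟩ := exists_extremal_conj hS hX₀
  refine ⟨cj X₀ c₀, c₀, rfl, hc₀, hsyl, fun n hn bigger => ?_⟩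
  obtain ⟨U, hUdef⟩ : ∃ U, U = cj X₀ c₀ := ⟨_, rfl⟩
  rw [← hUdef] at hc₀ hsyl hn ⊢
  obtain ⟨N, hNdef⟩ : ∃ N, N = Subgroup.normalizer (U : Set G) := ⟨_, rfl⟩
  rw [← hNdef] at hsyl hn
  obtain ⟨R, hRdef⟩ : ∃ R, R = S ⊓ N := ⟨_, rfl⟩
  rw [← hRdef] at hsyl
  by_cases hUS : U = S
  · exact Chain.single (T := U) (Or.inr (Or.inl ⟨hUS, by rw [← hUS]; exact hNdef ▸ hn⟩)) subset_rfl
  have hUN : U ≤ N := hNdef ▸ Subgroup.le_normalizer
  have hRS : R ≤ S := hRdef ▸ inf_le_left
  have hRN : R ≤ N := hRdef ▸ inf_le_right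
  have hUR : U < R := hRdef ▸ hNdef ▸ SylIn.normalizer_growth (p := p) hc₀ hUS hS.isPGroup
  have hUp : IsPGroup p U := hS.isPGroup.to_le hc₀
  have hlarge : ∀ W : Subgroup G, U < W → Nat.card X₀ < Nat.card W := by
    intro W hW
    rw [← card_cj X₀ c₀, ← hUdef]
    by_contra hcon
    exact hW.ne (Subgroup.eq_of_le_of_card_ge hW.le (by omega))
  have hnU : ∀ k ∈ N, rcj k (U : Set G) = (U : Set G) := fun k hk => by
    rw [rcj_coe, cj_eq_self (inv_mem (hNdef ▸ hk))]
  -- correct `n` by `k` until it normalises a larger subgroup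
  have via : ∀ (k : G) (T : Subgroup G), k ∈ N → Chain (Step p S) (U : Set G) k⁻¹ → U < T → T ≤ S →
      k * n ∈ Subgroup.normalizer (T : Set G) → Chain (Step p S) (U : Set G) n := by
    intro k T hk hck hUT hTS hkn
    have h1 : Chain (Step p S) (U : Set G) (k * n) := by
      refine (bigger T _ (hlarge T hUT) hTS ?_).mono hUT.le
      rw [cj_eq_self (inv_mem hkn)]; exact hTS
    have h2 := hck.append (h := k * n) (by rw [hnU k⁻¹ (inv_mem hk)]; exact h1)
    rwa [inv_mul_cancel_left] at h2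
  have hNN : ∀ k ∈ N, k ∈ Subgroup.normalizer (U : Set G) := fun k hk => hNdef ▸ hk
  have normC : N ≤ Subgroup.normalizer ((Subgroup.centralizer (U : Set G) : Subgroup G) : Set G) := fun k hk =>
    mem_normalizer_iff_cj.2 (by rw [cj_centralizer, cj_eq_self (hNN k hk)])
  have hCN : Subgroup.centralizer (U : Set G) ≤ N := hNdef ▸ Subgroup.centralizer_le_normalizer _
  have hCsyl := hsyl.inf_normal hCN normC
  have hRC : R ⊓ Subgroup.centralizer (U : Set G) = S ⊓ Subgroup.centralizer (U : Set G) :=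
    le_antisymm (inf_le_inf_right _ hRS) (le_inf (hRdef ▸ le_inf inf_le_left (inf_le_right.trans hCN)) inf_le_right)
  rw [hRC] at hCsyl
  by_cases hcen : S ⊓ Subgroup.centralizer (U : Set G) ≤ U
  swap
  · obtain ⟨k, hk, hkn⟩ := frattini_conj hCsyl normC hn
    refine via k (U ⊔ (S ⊓ Subgroup.centralizer (U : Set G))) (hCN hk)
      (Chain.single (Or.inl (inv_mem hk)) subset_rfl)
      (lt_of_le_of_ne le_sup_left fun e => hcen (le_sup_right.trans e.ge)) (sup_le hc₀ inf_le_left) ?_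
    exact mem_normalizer_iff_cj.2 (by
      rw [cj_sup, cj_eq_self (hNN _ (mul_mem (hCN hk) hn)), cj_eq_self hkn])
  -- the core `O_{p',p}`
  obtain ⟨O, hOdef⟩ : ∃ O, O = (Cfsg.pPrimePCore p ↥N).map N.subtype := ⟨_, rfl⟩
  obtain ⟨V, hVdef⟩ : ∃ V, V = (Cfsg.pPrimeCore p ↥N).map N.subtype := ⟨_, rfl⟩
  have hON : O ≤ N := hOdef ▸ Subgroup.map_subtype_le _
  have hOn : N ≤ Subgroup.normalizer (O : Set G) := by
    haveI : (Cfsg.pPrimePCore p ↥N).Normal := pPrimePCore_normal
    rw [hOdef]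
    refine (Subgroup.normal_subgroupOf_iff_le_normalizer (Subgroup.map_subtype_le _)).1 ?_
    rw [Subgroup.subgroupOf, Subgroup.comap_map_eq_self_of_injective N.subtype_injective]
    infer_instance
  have hUcore : U.subgroupOf N ≤ Cfsg.pCore p ↥N := by
    haveI : (U.subgroupOf N).Normal := (Subgroup.normal_subgroupOf_iff_le_normalizer hUN).2 (le_of_eq hNdef)
    exact le_pCore hUp.comap_subtype
  have hVC : V ≤ Subgroup.centralizer (U : Set G) := by
    rw [hVdef]
    rintro _ ⟨v, hv, rfl⟩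
    rw [Subgroup.mem_centralizer_iff]
    intro u hu
    have hu' : (⟨u, hUN hu⟩ : ↥N) ∈ Cfsg.pCore p ↥N := hUcore hu
    exact congrArg Subtype.val (Subgroup.mem_centralizer_iff.1 (pPrimeCore_commutes_pCore hv) _ hu')
  have hUO : U ≤ O := by
    intro u hu
    rw [hOdef]
    refine ⟨⟨u, hUN hu⟩, ?_, rfl⟩
    haveI : (Cfsg.pPrimeCore p ↥N).Normal := inferInstance
    refine Subgroup.mem_comap.2 (le_pCore (N := (Cfsg.pCore p ↥N).map (QuotientGroup.mk' (Cfsg.pPrimeCore p ↥N)))
      ?_ (Subgroup.mem_map_of_mem _ (hUcore hu)))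
    exact (isPGroup_pCore p _).map _
  have hOsyl : SylIn p (R ⊓ O) O := hsyl.inf_normal hON hOn
  have hOsup : O = (R ⊓ O) ⊔ V := by
    obtain ⟨Q, hQ⟩ := hOsyl.exists_sylow_subgroupOf
    have h1 : SylIn p ((R ⊓ O).subgroupOf N) (Cfsg.pPrimePCore p ↥N) := by
      refine ⟨fun z hz => ?_, (hsyl.isPGroup.to_inf_left).comap_subtype, ?_⟩
      · have := (Subgroup.mem_subgroupOf.1 hz).2
        rw [hOdef] at this
        obtain ⟨w, hw, e⟩ := this
        rwa [← Subtype.ext e]
      · have := hOsyl.not_dvd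
        rw [← Subgroup.relIndex_subgroupOf hON] at this
        rwa [show O.subgroupOf N = Cfsg.pPrimePCore p ↥N by
          rw [hOdef, Subgroup.subgroupOf, Subgroup.comap_map_eq_self_of_injective N.subtype_injective]] at this
    have h2 := congrArg (fun K => K.map N.subtype) (sup_pPrimeCore_of_sylIn h1)
    simp only [Subgroup.map_sup, ← hOdef, ← hVdef,
      Subgroup.map_subgroupOf_eq_of_le (inf_le_left.trans hRN : R ⊓ O ≤ N)] at h2
    exact h2.symm
  by_cases hRO : R ⊓ O ≤ U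
  swap
  · obtain ⟨k, hk, hkn⟩ := frattini_conj hOsyl hOn hn
    have hk' : k ∈ (R ⊓ O) ⊔ V := hOsup ▸ hk
    have hVN : R ⊓ O ≤ Subgroup.normalizer (V : Set G) := by
      refine (inf_le_left.trans hRN).trans ?_
      rw [hVdef]
      refine (Subgroup.normal_subgroupOf_iff_le_normalizer (Subgroup.map_subtype_le _)).1 ?_
      rw [Subgroup.subgroupOf, Subgroup.comap_map_eq_self_of_injective N.subtype_injective]
      infer_instance
    rw [← SetLike.mem_coe, Subgroup.coe_mul_of_left_le_normalizer_right (R ⊓ O) V hVN, Set.mem_mul] at hk'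
    obtain ⟨t, ht, v, hv, rfl⟩ := hk'
    refine via v (U ⊔ (R ⊓ O)) (hCN (hVC hv)) (Chain.single (Or.inl (inv_mem (hVC hv))) subset_rfl)
      (lt_of_le_of_ne le_sup_left fun e => hRO (le_sup_right.trans e.ge)) (sup_le hc₀ (inf_le_left.trans hRS)) ?_
    have hvn : v * n ∈ Subgroup.normalizer ((R ⊓ O : Subgroup G) : Set G) := by
      have := mul_mem (inv_mem (Subgroup.le_normalizer ht)) hkn
      rwa [← mul_assoc, ← mul_assoc, inv_mul_cancel, one_mul] at this
    exact mem_normalizer_iff_cj.2 (by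
      rw [cj_sup, cj_eq_self (hNN _ (mul_mem (hCN (hVC hv)) hn)), cj_eq_self hvn])
  -- `C(U)` has a normal `p`-complement
  have hcore : O = U ⊔ Subgroup.centralizer (U : Set G) := by
    refine le_antisymm (hOsup ▸ sup_le (hRO.trans le_sup_left) (hVC.trans le_sup_right)) (sup_le hUO ?_)
    obtain ⟨C, hCdef⟩ : ∃ C, C = Subgroup.centralizer (U : Set G) := ⟨_, rfl⟩
    rw [← hCdef] at hcen hCsyl normC hCN ⊢
    obtain ⟨Z, hZ⟩ := hCsyl.exists_sylow_subgroupOf
    have hZc : Subgroup.normalizer ((Z : Subgroup C) : Set C) ≤ Subgroup.centralizer ((Z : Subgroup C) : Set C) := by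
      intro g _
      rw [Subgroup.mem_centralizer_iff]
      intro z hz
      rw [hZ] at hz
      have hzU : (z : G) ∈ U := hcen hz
      have hg : (g : G) ∈ Subgroup.centralizer (U : Set G) := hCdef ▸ g.2
      exact Subtype.ext (Subgroup.mem_centralizer_iff.1 hg _ hzU)
    have hcomp := MonoidHom.ker_transferSylow_isComplement' Z hZc
    have hKc : (Nat.card (MonoidHom.transferSylow Z hZc).ker).Coprime p :=
      ((Nat.Prime.coprime_iff_not_dvd hp.out).2 (MonoidHom.not_dvd_card_ker_transferSylow Z hZc)).symm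
    have hKle : (MonoidHom.transferSylow Z hZc).ker ≤ Cfsg.pPrimeCore p ↥C := le_pPrimeCore hKc
    have hWV : (Cfsg.pPrimeCore p ↥C).map C.subtype ≤ V := by
      haveI : (C.subgroupOf N).Normal := (Subgroup.normal_subgroupOf_iff_le_normalizer hCN).2 normC
      let e := Subgroup.subgroupOfEquivOfLe hCN
      have h1 : ((Cfsg.pPrimeCore p ↥(C.subgroupOf N)).map (C.subgroupOf N).subtype) ≤ Cfsg.pPrimeCore p ↥N := by
        refine le_pPrimeCore ?_
        rw [Subgroup.card_map_of_injective (C.subgroupOf N).subtype_injective]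
        exact card_pPrimeCore_coprime p _
      rintro _ ⟨w, hw, rfl⟩
      rw [hVdef]
      refine ⟨_, h1 ⟨e.symm w, ?_, rfl⟩, rfl⟩
      exact map_pPrimeCore_le e.symm ⟨w, hw, rfl⟩
    intro g hg
    have hm : (⟨g, hg⟩ : C) ∈ (MonoidHom.transferSylow Z hZc).ker ⊔ (Z : Subgroup C) := by
      rw [hcomp.sup_eq_top]; trivial
    obtain ⟨a, ha, b, hb, hab⟩ := Subgroup.mem_sup_of_normal_left.1 hm
    rw [hZ] at hb
    rw [show g = (a : G) * b from congrArg Subtype.val hab.symm]
    exact mul_mem (hOsup ▸ Subgroup.mem_sup_right (hWV ⟨a, hKle ha, rfl⟩)) (hUO (hcen hb))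
  -- the quotient `N / U`
  haveI hUn : (U.subgroupOf N).Normal := (Subgroup.normal_subgroupOf_iff_le_normalizer hUN).2 (le_of_eq hNdef)
  obtain ⟨π, hπ⟩ : ∃ π, π = QuotientGroup.mk' (U.subgroupOf N) := ⟨_, rfl⟩
  have hπs : Function.Surjective π := hπ ▸ QuotientGroup.mk'_surjective _
  obtain ⟨Rs, hRs⟩ := hsyl.exists_sylow_subgroupOf
  obtain ⟨Pb, hPb⟩ : ∃ Pb, Pb = Rs.mapSurjective hπs := ⟨_, rfl⟩
  have hPbv : (Pb : Subgroup (↥N ⧸ U.subgroupOf N)) = (R.subgroupOf N).map π := by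
    rw [hPb, Sylow.coe_mapSurjective, hRs]
  have hpre : ∀ z : ↥N, π z ∈ (Pb : Subgroup (↥N ⧸ U.subgroupOf N)) ↔ (z : G) ∈ R := fun z => by
    rw [hPbv, ← Subgroup.mem_comap, Subgroup.comap_map_eq_self, Subgroup.mem_subgroupOf]
    rw [hπ, QuotientGroup.ker_mk']
    exact fun w hw => hUR.le hw
  by_cases hconn : Cfsg.IsSylowChainConnected p (↥N ⧸ U.subgroupOf N)
  · rw [connected_iff] at hconn
    suffices hsuf : ∀ B, Relation.ReflTransGen Link Pb B → ∀ a : ↥N, π a • Pb = B → Chain (Step p S) (U : Set G) a by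
      exact hsuf _ (hconn _ _) ⟨n, hn⟩ rfl
    intro B hB
    induction hB with
    | refl =>
      intro a ha
      refine (bigger R _ (hlarge R hUR) hRS ?_).mono hUR.le
      intro z hz
      have hzR : (a : G) * z * (a : G)⁻¹ ∈ R := by simpa using mem_cj.1 hz
      refine hRS ?_
      have hzN : z ∈ N := by
        have := mul_mem (mul_mem (inv_mem a.2) (hRN hzR)) a.2
        simpa [mul_assoc] using this
      have h1 : π (a * ⟨z, hzN⟩ * a⁻¹) ∈ ((π a • Pb : Sylow p _) : Subgroup (↥N ⧸ U.subgroupOf N)) := by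
        rw [ha]; exact (hpre _).2 hzR
      have h2 : π (a * ⟨z, hzN⟩ * a⁻¹) ∈ cj (Pb : Subgroup (↥N ⧸ U.subgroupOf N)) (π a) := h1
      rw [mem_cj, ← map_inv, ← map_mul, ← map_mul, hpre] at h2
      simpa [mul_assoc] using h2
    | @tail A B _ hAB ih =>
      intro b hb
      obtain ⟨q, hq⟩ := MulAction.exists_smul_eq (↥N ⧸ U.subgroupOf N) Pb A
      obtain ⟨a, rfl⟩ := hπs q
      have hca := ih a hq
      obtain ⟨d, hd⟩ : ∃ d : ↥N, d = a⁻¹ * b := ⟨_, rfl⟩
      have hUW : U < R ⊓ cj R (d : G) := by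
        refine lt_of_le_of_ne (le_inf hUR.le ((cj_eq_self (hNN _ d.2)).ge.trans (cj_mono hUR.le _))) fun e => hAB.2 ?_
        rw [eq_bot_iff]
        intro w hw
        obtain ⟨z, rfl⟩ := hπs w
        obtain ⟨h1, h2⟩ := Subgroup.mem_inf.1 hw
        rw [← hq] at h1
        rw [← hb] at h2
        have h1' : π z ∈ cj (Pb : Subgroup (↥N ⧸ U.subgroupOf N)) (π a) := h1
        have h2' : π z ∈ cj (Pb : Subgroup (↥N ⧸ U.subgroupOf N)) (π b) := h2
        rw [mem_cj, ← map_inv, ← map_mul, ← map_mul, hpre] at h1' h2'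
        have h3 : ((a⁻¹ * z * a : ↥N) : G) ∈ R ⊓ cj R (d : G) := ⟨h1', mem_cj.2 (by
          rw [hd]
          simpa [mul_assoc] using h2')⟩
        rw [← e] at h3
        rw [Subgroup.mem_bot, hπ, QuotientGroup.mk'_apply, QuotientGroup.eq_one_iff, Subgroup.mem_subgroupOf]
        have h4 := (Subgroup.mem_normalizer_iff.1 (hNN _ a.2) _).1 h3
        simpa [mul_assoc] using h4
      have hcd : Chain (Step p S) (U : Set G) (d : G) := by
        refine (bigger _ _ (hlarge _ hUW) (inf_le_left.trans hRS) ?_).mono hUW.le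
        rw [cj_inf]
        exact inf_le_right.trans ((cj_cj_inv R (d : G)).le.trans hRS)
      have := hca.append (h := (d : G)) (by rw [hnU _ a.2]; exact hcd)
      rwa [← Subgroup.coe_mul, hd, mul_inv_cancel_left] at this
  -- the good case
  have hdQ : p ∣ Nat.card (↥N ⧸ U.subgroupOf N) := by
    refine (dvd_of_pgroup (X := (Pb : Subgroup (↥N ⧸ U.subgroupOf N))) Pb.isPGroup' fun h => hUR.not_ge ?_).trans
      (Subgroup.card_subgroup_dvd_card _)
    intro z hz
    have := (hpre ⟨z, hRN hz⟩).2 hz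
    rw [h, Subgroup.mem_bot, hπ, QuotientGroup.mk'_apply, QuotientGroup.eq_one_iff] at this
    exact this
  obtain ⟨M, hMn, hMd, hMmin⟩ := exists_least_normal hconn hdQ
  obtain ⟨X, hXdef⟩ : ∃ X, X = (M.comap π).map N.subtype := ⟨_, rfl⟩
  have hXN : X ≤ N := hXdef ▸ Subgroup.map_subtype_le _
  have hXs : X.subgroupOf N = M.comap π := by
    rw [hXdef, Subgroup.subgroupOf, Subgroup.comap_map_eq_self_of_injective N.subtype_injective]
  have hXn : (X.subgroupOf N).Normal := hXs ▸ hMn.comap π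
  have hUX : U ≤ X := by
    intro u hu
    rw [hXdef]
    refine ⟨⟨u, hUN hu⟩, Subgroup.mem_comap.2 ?_, rfl⟩
    rw [hπ, QuotientGroup.mk'_apply,
      (QuotientGroup.eq_one_iff (N := U.subgroupOf N) ⟨u, hUN hu⟩).2 (Subgroup.mem_subgroupOf.2 hu)]
    exact one_mem _
  have hrel : ∀ Y : Subgroup G, Y ≤ N → U.relIndex Y = Nat.card ↥((Y.subgroupOf N).map π) := fun Y hY => by
    rw [← Subgroup.relIndex_ker, hπ, QuotientGroup.ker_mk', Subgroup.relIndex_subgroupOf hY]
  have hXrel : p ∣ U.relIndex X := by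
    rw [hrel X hXN, hXs, Subgroup.map_comap_eq_self_of_surjective hπs]
    exact hMd
  have hXmin : ∀ Y : Subgroup G, U ≤ Y → Y ≤ N → (Y.subgroupOf N).Normal → p ∣ U.relIndex Y → X ≤ Y := by
    intro Y hUY hYN hYn hYd
    rw [hrel Y hYN] at hYd
    have h := hMmin _ (hYn.map π hπs) hYd
    rw [hXdef]
    rintro _ ⟨z, hz, rfl⟩
    have h2 : π z ∈ (Y.subgroupOf N).map π := h hz
    rw [← Subgroup.mem_comap, Subgroup.comap_map_eq_self (by rw [hπ, QuotientGroup.ker_mk']; exact fun w hw => hUY hw)] at h2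
    exact h2
  have hXnorm : N ≤ Subgroup.normalizer (X : Set G) := (Subgroup.normal_subgroupOf_iff_le_normalizer hXN).1 hXn
  have hTsyl : SylIn p (R ⊓ X) X := hsyl.inf_normal hXN hXnorm
  have hUT : U < R ⊓ X := lt_of_le_of_ne (le_inf hUR.le hUX) fun e => hTsyl.not_dvd (e ▸ hXrel)
  obtain ⟨k, hk, hkn⟩ := frattini_conj hTsyl hXnorm hn
  obtain ⟨Tx, hTx⟩ := hTsyl.exists_sylow_subgroupOf
  have hk' : (⟨k, hk⟩ : X) ∈ Cfsg.pResidual p ↥X ⊔ (Tx : Subgroup X) := by rw [pResidual_sup_sylow]; trivial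
  haveI hres : (Cfsg.pResidual p ↥X).Normal := Subgroup.Normal.mk fun z hz g => by
    induction hz using Subgroup.closure_induction with
    | mem w hw => exact Subgroup.subset_closure (by
        show Nat.Coprime (orderOf (g * w * g⁻¹)) p
        rw [show orderOf (g * w * g⁻¹) = orderOf w from MulEquiv.orderOf_eq (MulAut.conj g) w]; exact hw)
    | one => rw [mul_one, mul_inv_cancel]; exact one_mem _
    | mul a b _ _ iha ihb => rw [show g * (a * b) * g⁻¹ = g * a * g⁻¹ * (g * b * g⁻¹) by group]; exact mul_mem iha ihb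
    | inv a _ ih => rw [show g * a⁻¹ * g⁻¹ = (g * a * g⁻¹)⁻¹ by group]; exact inv_mem ih
  obtain ⟨t, ht, o, ho, hto⟩ := Subgroup.mem_sup_of_normal_left.1 hk'
  -- `k = t * o` with `t` in the residual
  have hkk : (⟨k, hk⟩ : X) = o * (o⁻¹ * t * o) := by rw [← hto]; group
  obtain ⟨r, hr⟩ : ∃ r : X, r = o⁻¹ * t * o := ⟨_, rfl⟩
  have hrres : r ∈ Cfsg.pResidual p ↥X := by
    have := hres.conj_mem t ht o⁻¹
    rw [inv_inv] at this
    exact hr ▸ this
  rw [hTx] at ho
  have hoT : (o : G) ∈ R ⊓ X := ho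
  have hrn : (r : G) * n ∈ Subgroup.normalizer ((R ⊓ X : Subgroup G) : Set G) := by
    have := mul_mem (inv_mem (Subgroup.le_normalizer hoT)) hkn
    rw [show k = (o : G) * r from congrArg Subtype.val (hr ▸ hkk)] at this
    rwa [← mul_assoc, ← mul_assoc, inv_mul_cancel, one_mul] at this
  subst hNdef
  have hgood : Good p S U X (r : G)⁻¹ := ⟨hc₀, hRdef ▸ hsyl, hcen, hOdef ▸ hcore, hconn,
    ⟨hUX, hXN, hXn, hXrel, hXmin⟩, inv_mem ⟨r, hrres, rfl⟩⟩
  exact via r (R ⊓ X) (hXN r.2) (Chain.single (Or.inr (Or.inr ⟨X, hgood⟩)) subset_rfl) hUT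
    (inf_le_left.trans hRS) hrn

end Cfsg.Agent.Fusion.Strong
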