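import Cfsg.Agent.Lib.Fusion.SubgroupCountBad

/-!
# Subgroups of order `p ^ k` counted modulo `p²` (Kulakoff, Hall)
-/

set_option autoImplicit false
set_option linter.style.haveILetI false

open scoped Pointwise

namespace Cfsg.Agent.CountSq

universe u

/-- The exceptional cases of the congruence. -/
def Exc (p k : ℕ) (G : Type*) [Group G] : Prop :=
  IsCyclic G ∨ (p = 2 ∧ (commutator G).index = 4 ∧ p ^ (k + 2) ≤ Nat.card G)

theorem sum_dichotomy {α : Type*} [Fintype α] (P : α → Prop) [DecidablePred P] (p : ℕ) :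
    ∑ a, (1 + p * (if P a then 0 else 1)) = Nat.card α + p * Nat.card {a // ¬ P a} ∧
      Nat.card α = Nat.card {a // P a} + Nat.card {a // ¬ P a} := by
  refine ⟨?_, by rw [← Nat.card_congr (Equiv.sumCompl P), Nat.card_sum]⟩
  rw [Finset.sum_add_distrib, Finset.sum_const, Finset.card_univ, smul_eq_mul, mul_one,
    ← Finset.mul_sum, Nat.card_eq_fintype_card, Nat.card_eq_fintype_card, Fintype.card_subtype]
  congr 2
  rw [Finset.card_filter]
  exact Finset.sum_congr rfl fun a _ => by by_cases h : P a <;> simp [h]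

/-- The congruence of Kulakoff and Hall. -/
theorem sc_modEq {p : ℕ} [hp : Fact p.Prime] : ∀ (m : ℕ) {G : Type u} [Group G] [Finite G],
    Nat.card G = p ^ m → ∀ k : ℕ, 1 ≤ k → k < m →
      (Exc p k G → sc p k G ≡ 1 [MOD p ^ 2]) ∧ (¬ Exc p k G → sc p k G ≡ 1 + p [MOD p ^ 2]) := by
  intro m
  induction m using Nat.strong_induction_on with
  | _ m ih =>
  intro G _ _ hG k hk1 hkm
  classical
  have hGp : IsPGroup p G := IsPGroup.of_card hG
  by_cases hcy : IsCyclic G
  · refine ⟨fun _ => ?_, fun h => absurd (Or.inl hcy) h⟩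
    rw [sc_cyclic (p := p) (k := k) (by rw [hG]; exact pow_dvd_pow p hkm.le)]
  rcases (show k + 1 = m ∨ k + 2 ≤ m by omega) with hk | hk
  · have hN : sc p k G ≡ 1 + p [MOD p ^ 2] := by
      refine modEq_of_equiv (Equiv.subtypeEquivRight fun H => ?_) (card_coatoms_modEq hGp hcy)
      rw [coatom_iff_index hGp]
      have h := H.card_mul_index
      rw [hG, ← hk, pow_succ] at h
      constructor
      · intro h1
        rw [h1] at h
        exact Nat.eq_of_mul_eq_mul_left (pow_pos hp.out.pos _) h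
      · intro h1
        rw [h1] at h
        exact Nat.eq_of_mul_eq_mul_right hp.out.pos h
    refine ⟨fun h => ?_, fun _ => hN⟩
    exfalso
    rcases h with h | ⟨-, -, h⟩
    · exact hcy h
    · rw [hG] at h
      have := (Nat.pow_le_pow_iff_right hp.out.one_lt).1 h
      omega
  obtain ⟨n, rfl⟩ : ∃ n, m = n + 1 := ⟨m - 1, by omega⟩
  haveI : Fintype {M : Subgroup G // IsCoatom M} := Fintype.ofFinite _
  have hsum := sum_coatoms hGp hcy hG hk
  have hMc : ∀ M : {M : Subgroup G // IsCoatom M}, Nat.card M.1 = p ^ n := fun M => by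
    have h := coatom_card hGp M.2
    rw [hG, pow_succ] at h
    exact Nat.eq_of_mul_eq_mul_right hp.out.pos h
  have hterm : ∀ M : {M : Subgroup G // IsCoatom M},
      sc p k M.1 ≡ 1 + p * (if Exc p k M.1 then 0 else 1) [MOD p ^ 2] := by
    intro M
    have h := ih n (by omega) (hMc M) k hk1 (by omega)
    split_ifs with hM
    · rw [mul_zero, add_zero]; exact h.1 hM
    · rw [mul_one]; exact h.2 hM
  obtain ⟨hd1, hd2⟩ := sum_dichotomy (fun M : {M : Subgroup G // IsCoatom M} => Exc p k M.1) p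
  have htot := (Nat.ModEq.sum (s := Finset.univ) fun M _ => hterm M).symm.trans hsum
  rw [hd1] at htot
  obtain ⟨g, hg⟩ : ∃ g, g = Nat.card {M : {M : Subgroup G // IsCoatom M} // ¬ Exc p k M.1} := ⟨_, rfl⟩
  obtain ⟨b, hb⟩ : ∃ b, b = Nat.card {M : {M : Subgroup G // IsCoatom M} // Exc p k M.1} := ⟨_, rfl⟩
  rw [← hg] at htot hd2
  rw [← hb] at hd2
  have hN := card_coatoms_modEq hGp hcy
  -- `s ≡ 1 + p g`
  have hs : sc p k G ≡ 1 + p * g [MOD p ^ 2] := by
    refine Nat.ModEq.add_right_cancel' p (htot.symm.trans ?_)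
    rw [show 1 + p * g + p = 1 + p + p * g by ring]
    exact hN.add_right _
  have hN1 : Nat.card {M : Subgroup G // IsCoatom M} ≡ 1 [MOD p] := by
    refine (hN.of_dvd (dvd_pow_self p two_ne_zero)).trans ?_
    simp [Nat.ModEq]
  rw [hd2] at hN1
  -- the number of exceptional maximal subgroups
  let Pc : Subgroup G → Prop := fun M => IsCyclic M
  let Pm : Subgroup G → Prop := fun M => p = 2 ∧ (commutator M).index = 4 ∧ k + 3 ≤ n + 1
  have hbad : b = Nat.card {M : Subgroup G // IsCoatom M ∧ Pc M}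
      + Nat.card {M : Subgroup G // IsCoatom M ∧ ¬ Pc M ∧ Pm M} := by
    rw [hb, ← Nat.card_congr (Equiv.sumCompl fun M : {M : {M : Subgroup G // IsCoatom M} //
      Exc p k M.1} => Pc M.1.1), Nat.card_sum]
    congr 1
    · exact Nat.card_congr
        { toFun := fun M => ⟨M.1.1.1, M.1.1.2, M.2⟩
          invFun := fun M => ⟨⟨⟨M.1, M.2.1⟩, Or.inl M.2.2⟩, M.2.2⟩
          left_inv := fun _ => rfl
          right_inv := fun _ => rfl }
    · exact Nat.card_congr
        { toFun := fun M => ⟨M.1.1.1, M.1.1.2, M.2, by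
            obtain ⟨h1, h2, h3⟩ := M.1.2.resolve_left M.2
            rw [hMc] at h3
            exact ⟨h1, h2, by have := (Nat.pow_le_pow_iff_right hp.out.one_lt).1 h3; omega⟩⟩
          invFun := fun M => ⟨⟨⟨M.1, M.2.1⟩, Or.inr ⟨M.2.2.2.1, M.2.2.2.2.1, by
            rw [hMc ⟨M.1, M.2.1⟩]
            exact Nat.pow_le_pow_right hp.out.pos (by have := M.2.2.2.2.2; omega)⟩⟩, M.2.2.1⟩
          left_inv := fun _ => rfl
          right_inv := fun _ => rfl }
  constructor
  · intro hexc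
    obtain ⟨hp2, hidx, -⟩ := hexc.resolve_left hcy
    subst hp2
    suffices hb1 : b ≡ 1 [MOD 2] by
      have hg0 : g ≡ 0 [MOD 2] := Nat.ModEq.add_left_cancel hb1 (hN1.trans (by simp [Nat.ModEq]))
      refine hs.trans ?_
      rw [pow_two]
      simpa using (hg0.mul_left' 2).add_left 1
    rcases (show n + 1 = 3 ∨ 4 ≤ n + 1 by omega) with h3 | h4
    · rw [h3] at hG
      rw [hbad, Nat.card_eq_zero.2 (Or.inl (⟨fun M => by
        have := M.2.2.2.2.2
        omega⟩ : IsEmpty {M : Subgroup G // IsCoatom M ∧ ¬ Pc M ∧ Pm M}))]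
      exact order_eight_cyclic hG hidx
    · obtain ⟨r, rfl⟩ : ∃ r, n = r + 3 := ⟨n - 3, by omega⟩
      obtain ⟨C, hC, hCc, hrest⟩ := max_class_coatoms (n := r) hG hidx
      have hc1 : Nat.card {M : Subgroup G // IsCoatom M ∧ Pc M} = 1 := by
        rw [Nat.card_eq_one_iff_unique]
        refine ⟨⟨fun A B => Subtype.ext ?_⟩, ⟨⟨C, hC, hCc⟩⟩⟩
        have key : ∀ M : Subgroup G, IsCoatom M → IsCyclic M → M = C := fun M hM hMc =>
          by_contra fun h => (hrest M hM h).1 hMc
        rw [key _ A.2.1 A.2.2, key _ B.2.1 B.2.2]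
      rw [hbad, hc1]
      by_cases hk3 : k + 3 ≤ r + 3 + 1
      · have hall : Nat.card {M : Subgroup G // IsCoatom M}
            = 1 + Nat.card {M : Subgroup G // IsCoatom M ∧ ¬ Pc M ∧ Pm M} := by
          rw [← hc1, ← Nat.card_congr (Equiv.sumCompl fun M : {M : Subgroup G // IsCoatom M} => Pc M.1),
            Nat.card_sum]
          congr 1
          · exact Nat.card_congr (Equiv.subtypeSubtypeEquivSubtypeInter
              (fun M : Subgroup G => IsCoatom M) Pc)
          · refine Nat.card_congr ((Equiv.subtypeSubtypeEquivSubtypeInter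
              (fun M : Subgroup G => IsCoatom M) fun M => ¬ Pc M).trans
              (Equiv.subtypeEquivRight fun M => ?_))
            refine ⟨fun h => ⟨h.1, h.2, rfl, ?_, hk3⟩, fun h => ⟨h.1, h.2.1⟩⟩
            exact (hrest M h.1 fun hh => h.2 (show IsCyclic M from hh ▸ hCc)).2
        rw [← hall, hd2]
        exact hN1
      · rw [Nat.card_eq_zero.2 (Or.inl (⟨fun M => hk3 M.2.2.2.2.2⟩ :
          IsEmpty {M : Subgroup G // IsCoatom M ∧ ¬ Pc M ∧ Pm M}))]
  · intro hgood
    have hex : ¬ (p = 2 ∧ (commutator G).index = 4) := fun h => hgood (Or.inr ⟨h.1, h.2, by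
      rw [hG]; exact Nat.pow_le_pow_right hp.out.pos hk⟩)
    suffices hb0 : b ≡ 0 [MOD p] by
      have hg1 : g ≡ 1 [MOD p] := Nat.ModEq.add_left_cancel hb0 (hN1.trans (by simp [Nat.ModEq]))
      refine hs.trans ?_
      rw [pow_two]
      simpa using (hg1.mul_left' p).add_left 1
    rw [hbad]
    refine Nat.ModEq.trans ((cyclic_coatoms_modEq (N := n) (by omega) hG hcy hex).add ?_)
      (by rw [add_zero] : (0 + 0) ≡ 0 [MOD p])
    by_cases hm : p = 2 ∧ k + 3 ≤ n + 1
    · obtain ⟨rfl, hk3⟩ := hm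
      have h4 : 4 ≤ n + 1 := by omega
      refine modEq_of_equiv (Equiv.subtypeEquivRight fun M => ?_)
        (max_class_coatoms_modEq h4 hG hcy (fun h => hex ⟨rfl, h⟩))
      refine ⟨fun h => ⟨h.1, h.2.2.2.1⟩, fun h => ⟨h.1, fun hc => ?_, rfl, h.2, hk3⟩⟩
      haveI : IsCyclic M := hc
      have h2 := h.2
      rw [commutator_index_of_cyclic, hMc ⟨M, h.1⟩] at h2
      have := Nat.pow_le_pow_right two_pos (show 3 ≤ n by omega)
      omega
    · rw [Nat.card_eq_zero.2 (Or.inl (⟨fun M => hm ⟨M.2.2.2.1, M.2.2.2.2.2⟩⟩ :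
        IsEmpty {M : Subgroup G // IsCoatom M ∧ ¬ Pc M ∧ Pm M}))]

theorem sc_one_or (p : ℕ) [hp : Fact p.Prime] {m k : ℕ} {G : Type u} [Group G] [Finite G]
    (hG : Nat.card G = p ^ m) (hk1 : 1 ≤ k) (hkm : k < m) :
    sc p k G ≡ 1 [MOD p ^ 2] ∨ sc p k G ≡ 1 + p [MOD p ^ 2] := by
  by_cases h : Exc p k G
  · exact Or.inl ((sc_modEq m hG k hk1 hkm).1 h)
  · exact Or.inr ((sc_modEq m hG k hk1 hkm).2 h)

end Cfsg.Agent.CountSq
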