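import Cfsg.Agent.Lib.Solv.Count
import Cfsg.Agent.Lib.Solv.Kulakoff
import Cfsg.Agent.Lib.Solv.PGroupPhi
import Cfsg.Agent.Lib.Fusion.MaxClassTwo
import Cfsg.Agent.Lib.Fusion.CyclicMaximal

/-!
# Counting subgroups of prime power order modulo `p²`: the basic congruences
-/

set_option autoImplicit false
set_option linter.style.haveILetI false

open scoped commutatorElement

namespace Cfsg.Agent.CountSq

universe u

variable {G : Type u} [Group G] [Finite G] {p : ℕ} [hp : Fact p.Prime]

omit [Group G] [Finite G] hp in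
theorem modEq_of_equiv {α β : Type*} (e : α ≃ β) {n c : ℕ} (h : Nat.card β ≡ c [MOD n]) :
    Nat.card α ≡ c [MOD n] := by rwa [Nat.card_congr e]

/-- Number of subgroups of order `p ^ k`. -/
noncomputable def sc (p k : ℕ) (G : Type*) [Group G] : ℕ :=
  Nat.card {H : Subgroup G // Nat.card H = p ^ k}

theorem cyclic_unique {C : Type*} [Group C] [Finite C] [IsCyclic C] (A B : Subgroup C)
    (h : Nat.card A = Nat.card B) : A = B := by
  letI : CommGroup C := IsCyclic.commGroup
  have hker : ∀ D : Subgroup C, D = (powMonoidHom (Nat.card D) : C →* C).ker := by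
    intro D
    refine Subgroup.eq_of_le_of_card_ge (fun d hd => ?_) ?_
    · have h1 := pow_card_eq_one' (G := D) (x := ⟨d, hd⟩)
      exact congrArg Subtype.val h1
    · rw [IsCyclic.card_powMonoidHom_ker]
      exact Nat.gcd_le_right _ Nat.card_pos
  rw [hker A, hker B, h]

theorem sc_cyclic [IsCyclic G] {k : ℕ} (hdvd : p ^ k ∣ Nat.card G) : sc p k G = 1 := by
  rw [sc, Nat.card_eq_one_iff_unique]
  refine ⟨⟨fun a b => Subtype.ext (cyclic_unique _ _ (a.2.trans b.2.symm))⟩, ?_⟩
  obtain ⟨K, hK⟩ := Sylow.exists_subgroup_card_pow_prime p hdvd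
  exact ⟨⟨K, hK⟩⟩

omit [Finite G] in
theorem coatom_of_index {M : Subgroup G} (hM : M.index = p) : IsCoatom M := by
  refine ⟨fun h => ?_, fun K hK => ?_⟩
  · rw [h, Subgroup.index_top] at hM
    exact hp.out.one_lt.ne hM
  · have h1 := Subgroup.relIndex_mul_index hK.le
    rw [hM] at h1
    rcases (Nat.dvd_prime hp.out).1 (Dvd.intro_left _ h1) with h2 | h2
    · exact Subgroup.index_eq_one.1 h2
    · exfalso
      rw [h2] at h1
      have h3 : M.relIndex K = 1 := Nat.eq_of_mul_eq_mul_right hp.out.pos (by rw [h1, one_mul])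
      exact hK.not_ge (Subgroup.relIndex_eq_one.1 h3)

theorem coatom_iff_index (hG : IsPGroup p G) {M : Subgroup G} : IsCoatom M ↔ M.index = p :=
  ⟨Solv.coatom_index hG, coatom_of_index⟩

/-- Subgroups of index `p ^ j` over a normal subgroup. -/
theorem card_over_modEq (K : Subgroup G) [K.Normal] {e j : ℕ} (he : K.index = p ^ e) (hj : j ≤ e) :
    Nat.card {L : Subgroup G // K ≤ L ∧ L.index = p ^ j} ≡ 1 [MOD p] := by
  have hQ : Nat.card (G ⧸ K) = p ^ e := by rw [← Subgroup.index_eq_card, he]
  have h := Solv.card_subgroups_modEq_one (G := G ⧸ K) (β := e - j) hp.out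
    (by rw [hQ]; exact pow_dvd_pow _ (by omega))
  refine modEq_of_equiv ?_ h
  refine
    { toFun := fun L => ⟨L.1.map (QuotientGroup.mk' K), ?_⟩
      invFun := fun L => ⟨L.1.comap (QuotientGroup.mk' K), ?_, ?_⟩
      left_inv := fun L => Subtype.ext (by
        show (L.1.map (QuotientGroup.mk' K)).comap (QuotientGroup.mk' K) = L.1
        rw [Subgroup.comap_map_eq, QuotientGroup.ker_mk', sup_eq_left.2 L.2.1])
      right_inv := fun L => Subtype.ext
        (Subgroup.map_comap_eq_self_of_surjective (QuotientGroup.mk'_surjective K) _) }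
  · have h1 := (L.1.map (QuotientGroup.mk' K)).card_mul_index
    rw [Subgroup.index_map_eq _ (QuotientGroup.mk'_surjective K) (by rw [QuotientGroup.ker_mk']; exact L.2.1), L.2.2, hQ,
      show p ^ e = p ^ (e - j) * p ^ j by rw [← pow_add]; congr 1; omega] at h1
    exact Nat.eq_of_mul_eq_mul_right (pow_pos hp.out.pos _) h1
  · intro x hx
    rw [Subgroup.mem_comap, QuotientGroup.mk'_apply, (QuotientGroup.eq_one_iff x).2 hx]
    exact one_mem _
  · rw [Subgroup.index_comap_of_surjective _ (QuotientGroup.mk'_surjective K)]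
    have h1 := L.1.card_mul_index
    rw [L.2, hQ, show p ^ e = p ^ (e - j) * p ^ j by rw [← pow_add]; congr 1; omega] at h1
    exact Nat.eq_of_mul_eq_mul_left (pow_pos hp.out.pos _) h1

/-- `D` is the meet of two distinct maximal subgroups. -/
def IsMeet (D : Subgroup G) : Prop :=
  ∃ M N : Subgroup G, IsCoatom M ∧ IsCoatom N ∧ M ≠ N ∧ D = M ⊓ N

theorem meet_normal (hG : IsPGroup p G) {D : Subgroup G} (hD : IsMeet D) : D.Normal := by
  obtain ⟨M, N, hM, hN, -, rfl⟩ := hD
  haveI := Solv.coatom_normal hG hM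
  haveI := Solv.coatom_normal hG hN
  infer_instance

theorem meet_index (hG : IsPGroup p G) {D : Subgroup G} (hD : IsMeet D) : D.index = p ^ 2 := by
  obtain ⟨M, N, hM, hN, hne, rfl⟩ := hD
  have h1 : (M ⊓ N).index ≤ p * p := by
    have := Subgroup.index_inf_le (H := M) (K := N)
    rwa [Solv.coatom_index hG hM, Solv.coatom_index hG hN] at this
  obtain ⟨j, hj⟩ := hG.index (M ⊓ N)
  have h2 : M.index < (M ⊓ N).index := by
    refine Subgroup.index_strictAnti (lt_of_le_of_ne inf_le_left fun h => hne ?_)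
    rcases hM.le_iff.1 (h ▸ inf_le_right : M ≤ N) with h' | h'
    · exact absurd h' hN.1
    · exact h'.symm
  rw [Solv.coatom_index hG hM] at h2
  rw [hj] at h1 h2 ⊢
  rw [← pow_two] at h1
  have := (Nat.pow_le_pow_iff_right hp.out.one_lt).1 h1
  have : 1 < j := by
    by_contra hcon
    have := Nat.pow_le_pow_right hp.out.pos (show j ≤ 1 by omega)
    rw [pow_one] at this
    omega
  congr 1
  omega

theorem meet_quotient_noncyclic (hG : IsPGroup p G) {D : Subgroup G} [D.Normal] (hD : IsMeet D) :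
    ¬ IsCyclic (G ⧸ D) := by
  intro hc
  obtain ⟨M, N, hM, hN, hne, hDeq⟩ := id hD
  have hs := QuotientGroup.mk'_surjective D
  have hMD : D ≤ M := hDeq.le.trans inf_le_left
  have hND : D ≤ N := hDeq.le.trans inf_le_right
  have hidx : ∀ L : Subgroup G, D ≤ L → IsCoatom L →
      Nat.card (L.map (QuotientGroup.mk' D)) * p = p ^ 2 := by
    intro L hL hLc
    have h1 := (L.map (QuotientGroup.mk' D)).card_mul_index
    rwa [Subgroup.index_map_eq _ hs (by rw [QuotientGroup.ker_mk']; exact hL),
      Solv.coatom_index hG hLc, ← Subgroup.index_eq_card, meet_index hG hD] at h1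
  have h := cyclic_unique (M.map (QuotientGroup.mk' D)) (N.map (QuotientGroup.mk' D))
    (Nat.eq_of_mul_eq_mul_right hp.out.pos ((hidx M hMD hM).trans (hidx N hND hN).symm))
  apply hne
  have h' := congrArg (Subgroup.comap (QuotientGroup.mk' D)) h
  rwa [Subgroup.comap_map_eq, Subgroup.comap_map_eq, QuotientGroup.ker_mk', sup_eq_left.2 hMD,
    sup_eq_left.2 hND] at h'

theorem card_coatoms_over_meet (hG : IsPGroup p G) {D : Subgroup G} (hD : IsMeet D) :
    Nat.card {M : Subgroup G // IsCoatom M ∧ D ≤ M} = p + 1 := by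
  haveI := meet_normal hG hD
  have hQ : Nat.card (G ⧸ D) = p ^ 2 := by rw [← Subgroup.index_eq_card, meet_index hG hD]
  rw [← Fusion.card_order_p_subgroups_of_sq hQ (meet_quotient_noncyclic hG hD)]
  refine Nat.card_congr
    { toFun := fun L => ⟨L.1.map (QuotientGroup.mk' D), ?_⟩
      invFun := fun L => ⟨L.1.comap (QuotientGroup.mk' D), ?_, ?_⟩
      left_inv := fun L => Subtype.ext (by
        show (L.1.map (QuotientGroup.mk' D)).comap (QuotientGroup.mk' D) = L.1
        rw [Subgroup.comap_map_eq, QuotientGroup.ker_mk', sup_eq_left.2 L.2.2])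
      right_inv := fun L => Subtype.ext
        (Subgroup.map_comap_eq_self_of_surjective (QuotientGroup.mk'_surjective D) _) }
  · have h1 := (L.1.map (QuotientGroup.mk' D)).card_mul_index
    rw [Subgroup.index_map_eq _ (QuotientGroup.mk'_surjective D) (by rw [QuotientGroup.ker_mk']; exact L.2.2), Solv.coatom_index hG L.2.1, hQ, pow_two] at h1
    exact Nat.eq_of_mul_eq_mul_right hp.out.pos h1
  · refine coatom_of_index (p := p) ?_
    rw [Subgroup.index_comap_of_surjective _ (QuotientGroup.mk'_surjective D)]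
    have h1 := L.1.card_mul_index
    rw [L.2, hQ, pow_two] at h1
    exact Nat.eq_of_mul_eq_mul_left hp.out.pos h1
  · intro x hx
    rw [Subgroup.mem_comap, QuotientGroup.mk'_apply, (QuotientGroup.eq_one_iff x).2 hx]
    exact one_mem _

theorem frattini_sup_normal (hG : IsPGroup p G) (H : Subgroup G) : (frattini G ⊔ H).Normal := by
  constructor
  intro x hx g
  have h1 : ⁅g, x⁆ ∈ frattini G ⊔ H :=
    Subgroup.mem_sup_left (Solv.commutatorElement_mem_frattini hG g x)
  have h2 : g * x * g⁻¹ = ⁅g, x⁆ * x := by simp [commutatorElement_def, mul_assoc]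
  rw [h2]
  exact mul_mem h1 hx

theorem frattini_le_coatom {M : Subgroup G} (hM : IsCoatom M) : frattini G ≤ M := by
  simp only [frattini, Order.radical]
  exact iInf₂_le M hM

/-- Maximal subgroups over a proper subgroup: their number is `1 + p * (number of meets)` mod `p²`. -/
theorem coatoms_over (hG : IsPGroup p G) {H : Subgroup G} (hH : H ≠ ⊤) :
    Nat.card {M : Subgroup G // IsCoatom M ∧ H ≤ M} ≡ 1 [MOD p] ∧
      Nat.card {M : Subgroup G // IsCoatom M ∧ H ≤ M} ≡
        1 + p * Nat.card {D : Subgroup G // IsMeet D ∧ H ≤ D} [MOD p ^ 2] := by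
  classical
  haveI : Fintype (Subgroup G) := Fintype.ofFinite _
  have h1 : Nat.card {M : Subgroup G // IsCoatom M ∧ H ≤ M} ≡ 1 [MOD p] := by
    haveI := frattini_sup_normal hG H
    obtain ⟨M, hM, hHM⟩ : ∃ M : Subgroup G, IsCoatom M ∧ H ≤ M :=
      (eq_top_or_exists_le_coatom H).resolve_left hH
    obtain ⟨e, he⟩ := hG.index (frattini G ⊔ H)
    have hne : e ≠ 0 := by
      rintro rfl
      rw [pow_zero, Subgroup.index_eq_one] at he
      exact hM.1 (eq_top_iff.2 (he ▸ sup_le (frattini_le_coatom hM) hHM))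
    refine modEq_of_equiv (Equiv.subtypeEquivRight fun L => ?_)
      (card_over_modEq (frattini G ⊔ H) (j := 1) he (by omega))
    rw [pow_one, coatom_iff_index hG, sup_le_iff]
    exact ⟨fun h => ⟨⟨frattini_le_coatom (coatom_of_index h.1), h.2⟩, h.1⟩,
      fun h => ⟨h.2, h.1.2⟩⟩
  refine ⟨h1, ?_⟩
  let A := {M : Subgroup G // IsCoatom M ∧ H ≤ M}
  let B := {D : Subgroup G // IsMeet D ∧ H ≤ D}
  let f : {q : A × A // q.1 ≠ q.2} → B := fun q =>
    ⟨q.1.1.1 ⊓ q.1.2.1, ⟨q.1.1.1, q.1.2.1, q.1.1.2.1, q.1.2.2.1,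
      fun h => q.2 (Subtype.ext h), rfl⟩, le_inf q.1.1.2.2 q.1.2.2.2⟩
  have hfib : ∀ D : B, Nat.card {q // f q = D} = (p + 1) * p := by
    rintro ⟨D, hD, hHD⟩
    let C := {M : Subgroup G // IsCoatom M ∧ D ≤ M}
    have e : {q // f q = (⟨D, hD, hHD⟩ : B)} ≃ {q : C × C // q.1 ≠ q.2} :=
      { toFun := fun q => ⟨(⟨q.1.1.1.1, q.1.1.1.2.1, (congrArg Subtype.val q.2).ge.trans inf_le_left⟩,
            ⟨q.1.1.2.1, q.1.1.2.2.1, (congrArg Subtype.val q.2).ge.trans inf_le_right⟩),
          fun h => q.1.2 (Subtype.ext (congrArg (fun r : C => r.1) h))⟩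
        invFun := fun q => ⟨⟨(⟨q.1.1.1, q.1.1.2.1, hHD.trans q.1.1.2.2⟩,
            ⟨q.1.2.1, q.1.2.2.1, hHD.trans q.1.2.2.2⟩),
          fun h => q.2 (Subtype.ext (congrArg (fun r : A => r.1) h))⟩, Subtype.ext (by
            show q.1.1.1 ⊓ q.1.2.1 = D
            have hmt : IsMeet (q.1.1.1 ⊓ q.1.2.1) := ⟨_, _, q.1.1.2.1, q.1.2.2.1,
              fun h => q.2 (Subtype.ext h), rfl⟩
            refine (Subgroup.eq_of_le_of_card_ge (le_inf q.1.1.2.2 q.1.2.2.2) ?_).symm
            refine le_of_eq (Nat.eq_of_mul_eq_mul_right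
              (show 0 < p ^ 2 from pow_pos hp.out.pos 2) ?_)
            have a1 := (q.1.1.1 ⊓ q.1.2.1).card_mul_index
            have a2 := D.card_mul_index
            rw [meet_index hG hmt] at a1
            rw [meet_index hG hD] at a2
            rw [a1, a2])⟩
        left_inv := fun q => rfl
        right_inv := fun q => rfl }
    have hC : Nat.card C = p + 1 := card_coatoms_over_meet hG hD
    rw [Nat.card_congr e, Nat.card_eq_fintype_card, Fintype.card_subtype_compl,
      Fintype.card_prod, ← Nat.card_eq_fintype_card, hC]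
    rw [Fintype.card_congr (show {q : C × C // q.1 = q.2} ≃ C from
      { toFun := fun q => q.1.1
        invFun := fun a => ⟨(a, a), rfl⟩
        left_inv := fun q => Subtype.ext (Prod.ext rfl q.2)
        right_inv := fun _ => rfl }), ← Nat.card_eq_fintype_card, hC,
      Nat.mul_succ, Nat.add_sub_cancel]
  have hkey := Solv.card_eq_mul_of_fibres f hfib
  have hpairs : Nat.card {q : A × A // q.1 ≠ q.2} + Nat.card A = Nat.card A * Nat.card A := by
    rw [← Nat.card_prod, ← Nat.card_congr (Equiv.sumCompl fun q : A × A => q.1 ≠ q.2), Nat.card_sum]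
    congr 1
    exact Nat.card_congr
      { toFun := fun a => ⟨(a, a), not_not.2 rfl⟩
        invFun := fun q => q.1.1
        left_inv := fun _ => rfl
        right_inv := fun q => Subtype.ext (Prod.ext rfl (not_not.1 q.2)) }
  rw [hkey] at hpairs
  change Nat.card A ≡ 1 [MOD p] at h1
  show Nat.card A ≡ 1 + p * Nat.card B [MOD p ^ 2]
  have hApos : 1 ≤ Nat.card A := by
    rcases Nat.eq_zero_or_pos (Nat.card A) with h0 | h0
    · rw [h0] at h1
      exact absurd h1 (by
        rw [Nat.ModEq, Nat.zero_mod, Nat.mod_eq_of_lt hp.out.one_lt]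
        omega)
    · exact h0
  obtain ⟨t, ht⟩ := (Nat.modEq_iff_dvd' hApos).1 h1.symm
  have hA : Nat.card A = 1 + p * t := by omega
  rw [hA] at hpairs ⊢
  have hpt : t + p * t * t = Nat.card B * (p + 1) :=
    Nat.eq_of_mul_eq_mul_left hp.out.pos (by nlinarith [hpairs])
  have hcast := congrArg (fun n : ℕ => (n : ZMod p)) hpt
  push_cast at hcast
  simp only [ZMod.natCast_self, zero_mul, add_zero, zero_add, mul_one] at hcast
  have htB : t ≡ Nat.card B [MOD p] := (ZMod.natCast_eq_natCast_iff _ _ _).1 hcast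
  rw [pow_two]
  exact (htB.mul_left' p).add_left 1

theorem sc_subgroup (M : Subgroup G) (k : ℕ) :
    sc p k M = Nat.card {H : {H : Subgroup G // Nat.card H = p ^ k} // H.1 ≤ M} :=
  Nat.card_congr
    { toFun := fun H => ⟨⟨H.1.map M.subtype, by
          rw [Subgroup.card_map_of_injective M.subtype_injective]; exact H.2⟩,
        Subgroup.map_subtype_le H.1⟩
      invFun := fun H => ⟨H.1.1.subgroupOf M, by
          rw [Nat.card_congr (Subgroup.subgroupOfEquivOfLe H.2).toEquiv]; exact H.1.2⟩
      left_inv := fun H => Subtype.ext (Subgroup.comap_map_eq_self_of_injective M.subtype_injective H.1)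
      right_inv := fun H => Subtype.ext (Subtype.ext (Subgroup.map_subgroupOf_eq_of_le H.2)) }

theorem noncyclic_two_coatoms (hG : IsPGroup p G) (hnc : ¬ IsCyclic G) :
    ∃ M N : Subgroup G, IsCoatom M ∧ IsCoatom N ∧ M ≠ N := by
  have hbot : (⊥ : Subgroup G) ≠ ⊤ := fun h => hnc (by
    haveI : Subsingleton G := ⟨fun a b => by
      rw [Subgroup.mem_bot.1 (h.ge (Subgroup.mem_top a)), Subgroup.mem_bot.1 (h.ge (Subgroup.mem_top b))]⟩
    infer_instance)
  obtain ⟨M, hM, -⟩ := (eq_top_or_exists_le_coatom (⊥ : Subgroup G)).resolve_left hbot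
  obtain ⟨x, hx⟩ : ∃ x, x ∉ M := by
    by_contra h
    push Not at h
    exact hM.1 (eq_top_iff.2 fun x _ => h x)
  rcases eq_top_or_exists_le_coatom (Subgroup.zpowers x) with h | ⟨N, hN, hxN⟩
  · exact absurd ⟨x, fun y => h.ge (Subgroup.mem_top y)⟩ hnc
  · exact ⟨M, N, hM, hN, fun h => hx (h ▸ hxN (Subgroup.mem_zpowers x))⟩

/-- The number of meets is `1` mod `p` in a noncyclic group. -/
theorem card_meets_modEq (hG : IsPGroup p G) (hnc : ¬ IsCyclic G) :
    Nat.card {D : Subgroup G // IsMeet D} ≡ 1 [MOD p] := by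
  obtain ⟨M, N, hM, hN, hne⟩ := noncyclic_two_coatoms hG hnc
  haveI : (frattini G).Normal := inferInstance
  obtain ⟨e, he⟩ := hG.index (frattini G)
  have h2 : 2 ≤ e := by
    have h1 : (M ⊓ N).index ∣ (frattini G).index :=
      Subgroup.index_dvd_of_le (le_inf (frattini_le_coatom hM) (frattini_le_coatom hN))
    rw [meet_index hG ⟨M, N, hM, hN, hne, rfl⟩, he] at h1
    exact (Nat.pow_dvd_pow_iff_le_right hp.out.one_lt).1 h1
  refine modEq_of_equiv (Equiv.subtypeEquivRight fun D => ?_)
    (card_over_modEq (frattini G) he h2)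
  constructor
  · intro hD
    refine ⟨?_, meet_index hG hD⟩
    obtain ⟨A, B, hA, hB, -, rfl⟩ := hD
    exact le_inf (frattini_le_coatom hA) (frattini_le_coatom hB)
  · rintro ⟨hle, hidx⟩
    haveI : D.Normal := by
      have := frattini_sup_normal hG D
      rwa [sup_eq_right.2 hle] at this
    have hQ : Nat.card (G ⧸ D) = p ^ 2 := by rw [← Subgroup.index_eq_card, hidx]
    have hexp : ∀ y : G ⧸ D, y ^ p = 1 := by
      intro y
      induction y using QuotientGroup.induction_on with | _ y
      rw [← QuotientGroup.mk_pow, QuotientGroup.eq_one_iff]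
      exact hle (Solv.pow_mem_frattini hG y)
    have hQnc : ¬ IsCyclic (G ⧸ D) := fun hc => by
      obtain ⟨y, hy⟩ := hc.exists_generator
      have h1 := orderOf_eq_card_of_forall_mem_zpowers hy
      have h2 := orderOf_dvd_of_pow_eq_one (hexp y)
      rw [h1, hQ] at h2
      have := Nat.le_of_dvd hp.out.pos h2
      nlinarith [hp.out.two_le]
    have hcard := Fusion.card_order_p_subgroups_of_sq hQ hQnc
    haveI : Fintype {H : Subgroup (G ⧸ D) // Nat.card H = p} := Fintype.ofFinite _
    obtain ⟨A, B, hAB⟩ := Fintype.exists_pair_of_one_lt_card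
      (show 1 < Fintype.card {H : Subgroup (G ⧸ D) // Nat.card H = p} by
        rw [← Nat.card_eq_fintype_card, hcard]; linarith [hp.out.pos])
    have hs := QuotientGroup.mk'_surjective D
    have hcom : ∀ L : {H : Subgroup (G ⧸ D) // Nat.card H = p},
        IsCoatom (L.1.comap (QuotientGroup.mk' D)) := by
      intro L
      refine coatom_of_index (p := p) ?_
      rw [Subgroup.index_comap_of_surjective _ hs]
      have h1 := L.1.card_mul_index
      rw [L.2, hQ, pow_two] at h1
      exact Nat.eq_of_mul_eq_mul_left hp.out.pos h1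
    have hne' : A.1.comap (QuotientGroup.mk' D) ≠ B.1.comap (QuotientGroup.mk' D) :=
      fun h => hAB (Subtype.ext (Subgroup.comap_injective hs h))
    refine ⟨_, _, hcom A, hcom B, hne', ?_⟩
    have hmeet : IsMeet (A.1.comap (QuotientGroup.mk' D) ⊓ B.1.comap (QuotientGroup.mk' D)) :=
      ⟨_, _, hcom A, hcom B, hne', rfl⟩
    refine Subgroup.eq_of_le_of_card_ge ?_ (le_of_eq ?_)
    · intro x hx
      simp only [Subgroup.mem_inf, Subgroup.mem_comap, QuotientGroup.mk'_apply,
        (QuotientGroup.eq_one_iff x).2 hx, one_mem, and_self]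
    · apply Nat.eq_of_mul_eq_mul_right (show 0 < p ^ 2 from pow_pos hp.out.pos 2)
      have a1 := (A.1.comap (QuotientGroup.mk' D) ⊓ B.1.comap (QuotientGroup.mk' D)).card_mul_index
      have a2 := D.card_mul_index
      rw [meet_index hG hmeet] at a1
      rw [hidx] at a2
      rw [a1, a2]

/-- The number of maximal subgroups of a noncyclic `p`-group. -/
theorem card_coatoms_modEq (hG : IsPGroup p G) (hnc : ¬ IsCyclic G) :
    Nat.card {M : Subgroup G // IsCoatom M} ≡ 1 + p [MOD p ^ 2] := by
  obtain ⟨M, N, hM, -, -⟩ := noncyclic_two_coatoms hG hnc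
  have h := (coatoms_over hG (H := ⊥) (fun h => hM.1 (eq_top_iff.2 (h ▸ bot_le)))).2
  rw [Nat.card_congr (Equiv.subtypeEquivRight (p := fun M : Subgroup G => IsCoatom M ∧ ⊥ ≤ M)
      (q := fun M => IsCoatom M) fun M => by simp),
    Nat.card_congr (Equiv.subtypeEquivRight (p := fun D : Subgroup G => IsMeet D ∧ ⊥ ≤ D)
      (q := fun D => IsMeet D) fun M => by simp)] at h
  refine h.trans (Nat.ModEq.add_left 1 ?_)
  rw [pow_two]
  simpa using (card_meets_modEq hG hnc).mul_left' p

theorem card_sigma_swap {α β : Type*} [Fintype α] [Fintype β] (R : α → β → Prop) :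
    ∑ a, Nat.card {b // R a b} = ∑ b, Nat.card {a // R a b} := by
  classical
  rw [← Nat.card_sigma, ← Nat.card_sigma]
  exact Nat.card_congr
    { toFun := fun x => ⟨x.2.1, x.1, x.2.2⟩
      invFun := fun x => ⟨x.2.1, x.1, x.2.2⟩
      left_inv := fun _ => rfl
      right_inv := fun _ => rfl }

/-- The counting identity relating subgroups of `G` to those of its maximal subgroups. -/
theorem sum_coatoms (hG : IsPGroup p G) (hnc : ¬ IsCyclic G) {m k : ℕ} (hm : Nat.card G = p ^ m)
    (hk : k + 2 ≤ m) [Fintype {M : Subgroup G // IsCoatom M}] :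
    ∑ M : {M : Subgroup G // IsCoatom M}, sc p k M.1 ≡ sc p k G + p [MOD p ^ 2] := by
  classical
  let S := {H : Subgroup G // Nat.card H = p ^ k}
  haveI : Fintype S := Fintype.ofFinite _
  haveI : Fintype {D : Subgroup G // IsMeet D} := Fintype.ofFinite _
  have hS : ∀ H : S, H.1 ≠ ⊤ := by
    intro H h
    have h1 := H.2
    rw [h, Subgroup.card_top, hm] at h1
    have := Nat.pow_right_injective hp.out.two_le h1
    omega
  calc ∑ M : {M : Subgroup G // IsCoatom M}, sc p k M.1
      = ∑ M : {M : Subgroup G // IsCoatom M}, Nat.card {H : S // H.1 ≤ M.1} :=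
        Finset.sum_congr rfl fun M _ => sc_subgroup M.1 k
    _ = ∑ H : S, Nat.card {M : {M : Subgroup G // IsCoatom M} // H.1 ≤ M.1} :=
        card_sigma_swap (fun (M : {M : Subgroup G // IsCoatom M}) (H : S) => H.1 ≤ M.1)
    _ ≡ ∑ H : S, (1 + p * Nat.card {D : {D : Subgroup G // IsMeet D} // H.1 ≤ D.1}) [MOD p ^ 2] := by
        refine Nat.ModEq.sum fun H _ => ?_
        rw [Nat.card_congr (Equiv.subtypeSubtypeEquivSubtypeInter (fun M : Subgroup G => IsCoatom M)
            (fun M => H.1 ≤ M)),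
          Nat.card_congr (Equiv.subtypeSubtypeEquivSubtypeInter (fun D : Subgroup G => IsMeet D)
            (fun D => H.1 ≤ D))]
        exact (coatoms_over hG (hS H)).2
    _ ≡ sc p k G + p [MOD p ^ 2] := by
        rw [Finset.sum_add_distrib, Finset.sum_const, Finset.card_univ, ← Nat.card_eq_fintype_card,
          smul_eq_mul, mul_one, ← Finset.mul_sum,
          card_sigma_swap (fun (H : S) (D : {D : Subgroup G // IsMeet D}) => H.1 ≤ D.1)]
        refine Nat.ModEq.add_left _ ?_
        rw [pow_two]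
        conv_rhs => rw [← mul_one p]
        refine Nat.ModEq.mul_left' p ?_
        calc ∑ D : {D : Subgroup G // IsMeet D}, Nat.card {H : S // H.1 ≤ D.1}
            ≡ ∑ _D : {D : Subgroup G // IsMeet D}, 1 [MOD p] := by
              refine Nat.ModEq.sum fun D _ => ?_
              rw [← sc_subgroup D.1 k]
              refine Solv.card_subgroups_modEq_one hp.out ?_
              have h1 := D.1.card_mul_index
              rw [meet_index hG D.2, hm,
                show p ^ m = p ^ (m - 2) * p ^ 2 by rw [← pow_add]; congr 1; omega] at h1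
              rw [Nat.eq_of_mul_eq_mul_right (pow_pos hp.out.pos _) h1]
              exact pow_dvd_pow p (by omega)
          _ ≡ 1 [MOD p] := by
              rw [Finset.sum_const, Finset.card_univ, ← Nat.card_eq_fintype_card, smul_eq_mul, mul_one]
              exact card_meets_modEq hG hnc

end Cfsg.Agent.CountSq
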