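import Cfsg.Agent.Lib.Fusion.SubgroupCount

/-!
# Reduction of the congruence modulo `p²` to a Sylow subgroup
-/

set_option autoImplicit false
set_option linter.style.haveILetI false

open scoped Pointwise

namespace Cfsg.Agent.CountSq

universe u

variable {G : Type u} [Group G] [Finite G] {p : ℕ} [hp : Fact p.Prime]

/-- Orbit of a subgroup under conjugation by `P`. -/
def corbit (P H : Subgroup G) : Set (Subgroup G) :=
  Set.range fun u : P => MulAut.conj (u : G) • H

omit [Finite G] hp in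
theorem mem_corbit_self (P H : Subgroup G) : H ∈ corbit P H := ⟨1, Solv.conj_one_smul H⟩

omit [Finite G] hp in
theorem corbit_eq_of_mem {P H K : Subgroup G} (h : K ∈ corbit P H) : corbit P K = corbit P H := by
  obtain ⟨u, rfl⟩ := h
  ext L
  constructor
  · rintro ⟨v, rfl⟩
    exact ⟨v * u, (Solv.conj_smul_conj (v : G) (u : G) H).symm⟩
  · rintro ⟨v, rfl⟩
    refine ⟨v * u⁻¹, ?_⟩
    show MulAut.conj ((v * u⁻¹ : P) : G) • MulAut.conj (u : G) • H = MulAut.conj (v : G) • H
    rw [Solv.conj_smul_conj]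
    simp [mul_assoc]

theorem card_corbit (P H : Subgroup G) :
    Nat.card (corbit P H) = (P ⊓ Subgroup.normalizer (H : Set G)).relIndex P := by
  letI : MulAction P (Subgroup G) :=
    { smul := fun u K => MulAut.conj (u : G) • K
      one_smul := fun K => Solv.conj_one_smul K
      mul_smul := fun u v K => (Solv.conj_smul_conj (u : G) (v : G) K).symm }
  have hst : MulAction.stabilizer P H = (P ⊓ Subgroup.normalizer (H : Set G)).subgroupOf P := by
    ext u
    rw [MulAction.mem_stabilizer_iff, Subgroup.mem_subgroupOf]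
    exact ⟨fun h => ⟨u.2, Solv.mem_normalizer_of_conj_smul h⟩,
      fun h => Solv.conj_smul_of_mem_normalizer h.2⟩
  have horb : corbit P H = MulAction.orbit P H := rfl
  rw [horb, Nat.card_coe_set_eq, ← MulAction.index_stabilizer, hst]
  rfl

omit hp in
theorem sub_card_eq (A B : Subgroup G) (Q : Subgroup G → Prop) (hAB : A ≤ B) :
    Nat.card {H : Subgroup G // Q H ∧ H ≤ B}
      = Nat.card {H : Subgroup G // Q H ∧ H ≤ A} + Nat.card {H : Subgroup G // Q H ∧ H ≤ B ∧ ¬ H ≤ A} := by
  classical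
  rw [← Nat.card_congr (Equiv.sumCompl fun H : {H : Subgroup G // Q H ∧ H ≤ B} => H.1 ≤ A), Nat.card_sum]
  congr 1
  · exact Nat.card_congr
      { toFun := fun H => ⟨H.1.1, H.1.2.1, H.2⟩
        invFun := fun H => ⟨⟨H.1, H.2.1, H.2.2.trans hAB⟩, H.2.2⟩
        left_inv := fun _ => rfl
        right_inv := fun _ => rfl }
  · exact Nat.card_congr
      { toFun := fun H => ⟨H.1.1, H.1.2.1, H.1.2.2, H.2⟩
        invFun := fun H => ⟨⟨H.1, H.2.1, H.2.2.1⟩, H.2.2.2⟩
        left_inv := fun _ => rfl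
        right_inv := fun _ => rfl }

theorem sc_sub (M : Subgroup G) (k : ℕ) :
    Nat.card {H : Subgroup G // Nat.card H = p ^ k ∧ H ≤ M} = sc p k M := by
  rw [sc_subgroup]
  exact Nat.card_congr (Equiv.subtypeSubtypeEquivSubtypeInter (fun H : Subgroup G => Nat.card H = p ^ k)
    (fun H => H ≤ M)).symm

theorem sc_modEq_sylow (P : Sylow p G) {n a : ℕ} (hP : Nat.card (P : Subgroup G) = p ^ n) (ha : a < n) :
    sc p a G ≡ sc p a (P : Subgroup G) [MOD p ^ 2] := by
  classical
  obtain ⟨P₀, hP₀⟩ : ∃ P₀, P₀ = (P : Subgroup G) := ⟨_, rfl⟩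
  rw [← hP₀] at hP ⊢
  have hPp : IsPGroup p P₀ := hP₀ ▸ P.isPGroup'
  have hmax : ∀ X : Subgroup G, IsPGroup p X → P₀ ≤ X → X = P₀ := by
    intro X hX hle
    rw [hP₀] at hle ⊢
    exact P.is_maximal' hX hle
  have hnorm : ∀ X : Subgroup G, IsPGroup p X → P₀ ≤ Subgroup.normalizer (X : Set G) → X ≤ P₀ := by
    intro X hX h
    have h1 := hmax (P₀ ⊔ X) (IsPGroup.to_sup_of_normal_right' hPp hX h) le_sup_left
    exact le_sup_right.trans h1.le
  let S : Subgroup G → Prop := fun H => Nat.card H = p ^ a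
  have hSp : ∀ H : Subgroup G, S H → IsPGroup p H := fun H hH => IsPGroup.of_card hH
  have hSinv : ∀ H K : Subgroup G, K ∈ corbit P₀ H →
      (S H → S K) ∧ (H ≤ P₀ → K ≤ P₀) := by
    rintro H _ ⟨u, rfl⟩
    refine ⟨fun h => (Solv.card_conj_smul (u : G) H).trans h, fun h => ?_⟩
    show MulAut.conj (u : G) • H ≤ P₀
    rw [Solv.conj_smul_eq_map]
    rintro _ ⟨x, hx, rfl⟩
    exact mul_mem (mul_mem u.2 (h hx)) (inv_mem u.2)
  have hout : ∀ H : Subgroup G, S H → ¬ H ≤ P₀ → ¬ P₀ ≤ Subgroup.normalizer (H : Set G) :=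
    fun H hH hle h => hle (hnorm H (hSp H hH) h)
  have hsplit1 : sc p a G = Nat.card {H : Subgroup G // S H ∧ H ≤ P₀}
      + Nat.card {H : Subgroup G // S H ∧ ¬ H ≤ P₀} := by
    rw [sc, ← Nat.card_congr (Equiv.sumCompl fun H : {H : Subgroup G // Nat.card H = p ^ a} => H.1 ≤ P₀),
      Nat.card_sum]
    congr 1
    · exact Nat.card_congr (Equiv.subtypeSubtypeEquivSubtypeInter (fun H : Subgroup G => Nat.card H = p ^ a)
        (fun H => H ≤ P₀))
    · exact Nat.card_congr (Equiv.subtypeSubtypeEquivSubtypeInter (fun H : Subgroup G => Nat.card H = p ^ a)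
        (fun H => ¬ H ≤ P₀))
  rw [hsplit1, sc_sub]
  refine (Nat.ModEq.add_left _ (?_ : _ ≡ 0 [MOD p ^ 2])).trans (by rw [add_zero])
  rw [Nat.modEq_zero_iff_dvd]
  let B := {H : Subgroup G // S H ∧ ¬ H ≤ P₀}
  rw [show Nat.card B = Nat.card {H : B // Nat.card (corbit P₀ H.1) = p}
      + Nat.card {H : B // ¬ Nat.card (corbit P₀ H.1) = p} from by
    rw [← Nat.card_sum, Nat.card_congr (Equiv.sumCompl fun H : B => Nat.card (corbit P₀ H.1) = p)]]
  refine Nat.dvd_add ?_ ?_
  · -- orbits of size `p`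
    let R : Subgroup G → Subgroup G := fun H => H ⊔ (P₀ ⊓ Subgroup.normalizer (H : Set G))
    have hdata : ∀ H : Subgroup G, S H → ¬ H ≤ P₀ → Nat.card (corbit P₀ H) = p →
        Nat.card (P₀ ⊓ Subgroup.normalizer (H : Set G) : Subgroup G) * p = p ^ n ∧
        IsPGroup p (R H) ∧ Nat.card (R H) = p ^ n ∧
        R H ⊓ P₀ = P₀ ⊓ Subgroup.normalizer (H : Set G) ∧ ¬ P₀ ≤ Subgroup.normalizer (R H : Set G) := by
      intro H hH hle horb
      rw [card_corbit] at horb
      have hM : Nat.card (P₀ ⊓ Subgroup.normalizer (H : Set G) : Subgroup G) * p = p ^ n := by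
        have h := Subgroup.relIndex_mul_relIndex ⊥ (P₀ ⊓ Subgroup.normalizer (H : Set G)) P₀ bot_le inf_le_left
        rwa [horb, Subgroup.relIndex_bot_left, Subgroup.relIndex_bot_left, hP] at h
      have hRp : IsPGroup p (R H) :=
        IsPGroup.to_sup_of_normal_left' (hSp H hH) hPp.to_inf_left inf_le_right
      have hlt : P₀ ⊓ Subgroup.normalizer (H : Set G) < R H :=
        lt_of_le_of_ne le_sup_right fun h => hle ((le_sup_left.trans h.ge).trans inf_le_left)
      have hRc : Nat.card (R H) = p ^ n := by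
        obtain ⟨Q, hQ⟩ := hRp.exists_le_sylow
        have h1 : Nat.card (Q : Subgroup G) = p ^ n := by
          rw [Q.card_eq_multiplicity, ← hP, hP₀, P.card_eq_multiplicity]
        obtain ⟨j, hj⟩ := hRp.exists_card_eq
        have h2 : p ^ j ≤ p ^ n := by
          rw [← hj, ← h1]; exact Subgroup.card_le_of_le hQ
        obtain ⟨i, hi⟩ := (hPp.to_inf_left (K := Subgroup.normalizer (H : Set G))).exists_card_eq
        rw [hi, ← pow_succ] at hM
        have hin := Nat.pow_right_injective hp.out.two_le hM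
        have h3 : p ^ i < p ^ j := by
          rw [← hi, ← hj]
          exact lt_of_le_of_ne (Subgroup.card_le_of_le hlt.le) fun h =>
            hlt.ne (Subgroup.eq_of_le_of_card_ge hlt.le h.ge)
        have h4 := (Nat.pow_le_pow_iff_right hp.out.one_lt).1 h2
        have h5 := (Nat.pow_lt_pow_iff_right hp.out.one_lt).1 h3
        rw [hj]
        congr 1
        omega
      have hne : R H ≠ P₀ := fun h => hle (le_sup_left.trans h.le)
      have hinf : R H ⊓ P₀ = P₀ ⊓ Subgroup.normalizer (H : Set G) := by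
        refine (Subgroup.eq_of_le_of_card_ge (le_inf le_sup_right inf_le_left) ?_).symm
        obtain ⟨j, hj⟩ := (hRp.to_inf_left (K := P₀)).exists_card_eq
        have h2 : Nat.card (R H ⊓ P₀ : Subgroup G) < p ^ n := by
          rw [← hP]
          exact lt_of_le_of_ne (Subgroup.card_le_of_le inf_le_right) fun h => hne
            ((Subgroup.eq_of_le_of_card_ge ((Subgroup.eq_of_le_of_card_ge inf_le_right h.ge).ge.trans
              inf_le_left) (hRc.trans hP.symm).le).symm)
        rw [hj] at h2 ⊢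
        have h3 := (Nat.pow_lt_pow_iff_right hp.out.one_lt).1 h2
        refine Nat.le_of_mul_le_mul_right ?_ hp.out.pos
        rw [hM, ← pow_succ]
        exact Nat.pow_le_pow_right hp.out.pos h3
      refine ⟨hM, hRp, hRc, hinf, fun h => hne ?_⟩
      exact Subgroup.eq_of_le_of_card_ge (hnorm _ hRp h) (hP.trans hRc.symm).le
    have hRequiv : ∀ (H : Subgroup G) (u : P₀), R (MulAut.conj (u : G) • H) = MulAut.conj (u : G) • R H := by
      intro H u
      show _ ⊔ (P₀ ⊓ _) = MulAut.conj (u : G) • (H ⊔ (P₀ ⊓ _))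
      have hN : Subgroup.normalizer ((MulAut.conj (u : G) • H : Subgroup G) : Set G)
          = (Subgroup.normalizer (H : Set G)).map (MulAut.conj (u : G)).toMonoidHom := by
        rw [Solv.conj_smul_eq_map, Subgroup.map_equiv_normalizer_eq]
      have hPu : P₀.map (MulAut.conj (u : G)).toMonoidHom = P₀ := by
        rw [← Solv.conj_smul_eq_map]
        exact Solv.conj_smul_of_mem_normalizer (Subgroup.le_normalizer u.2)
      rw [hN, Solv.conj_smul_eq_map, Solv.conj_smul_eq_map, Subgroup.map_sup,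
        Subgroup.map_inf _ _ _ (MulAut.conj (u : G)).injective, hPu]
    refine Solv.dvd_card_of_fibres (fun H : {H : B // Nat.card (corbit P₀ H.1) = p} => corbit P₀ (R H.1.1)) ?_
    rintro ⟨⟨H₀, hH₀, hH₀le⟩, hH₀o⟩
    show p ^ 2 ∣ Nat.card {H : {H : B // Nat.card (corbit P₀ H.1) = p} // corbit P₀ (R H.1.1) = corbit P₀ (R H₀)}
    obtain ⟨-, hX₀p, hX₀c, hX₀i, hX₀n⟩ := hdata H₀ hH₀ hH₀le hH₀o
    let O := corbit P₀ (R H₀)
    let T : Subgroup G → Type u := fun X =>
      {H : {H : B // Nat.card (corbit P₀ H.1) = p} // R H.1.1 = X}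
    have e : {H : {H : B // Nat.card (corbit P₀ H.1) = p} // corbit P₀ (R H.1.1) = O} ≃ Σ X : O, T X.1 :=
      { toFun := fun H => ⟨⟨R H.1.1.1, (Set.ext_iff.1 H.2 _).1 (mem_corbit_self P₀ _)⟩, H.1, rfl⟩
        invFun := fun x => ⟨x.2.1, by rw [x.2.2]; exact corbit_eq_of_mem x.1.2⟩
        left_inv := fun H => rfl
        right_inv := by rintro ⟨⟨X, hX⟩, H, hH⟩; cases hH; rfl }
    have hconj : ∀ X : O, Nat.card (T X.1) = Nat.card (T (R H₀)) := by
      rintro ⟨_, u, rfl⟩
      have hmove : ∀ (v : P₀) (H : {H : B // Nat.card (corbit P₀ H.1) = p}),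
          S (MulAut.conj (v : G) • H.1.1) ∧ ¬ MulAut.conj (v : G) • H.1.1 ≤ P₀ ∧
          Nat.card (corbit P₀ (MulAut.conj (v : G) • H.1.1)) = p := by
        intro v H
        have hm : MulAut.conj (v : G) • H.1.1 ∈ corbit P₀ H.1.1 := ⟨v, rfl⟩
        refine ⟨(hSinv _ _ hm).1 H.1.2.1, fun h => H.1.2.2 ?_, by rw [corbit_eq_of_mem hm]; exact H.2⟩
        refine (hSinv (MulAut.conj (v : G) • H.1.1) H.1.1 ?_).2 h
        rw [corbit_eq_of_mem hm]
        exact mem_corbit_self _ _
      refine Nat.card_congr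
        { toFun := fun H => ⟨⟨⟨MulAut.conj ((u⁻¹ : P₀) : G) • H.1.1.1, (hmove u⁻¹ H.1).1, (hmove u⁻¹ H.1).2.1⟩,
            (hmove u⁻¹ H.1).2.2⟩, ?_⟩
          invFun := fun H => ⟨⟨⟨MulAut.conj (u : G) • H.1.1.1, (hmove u H.1).1, (hmove u H.1).2.1⟩,
            (hmove u H.1).2.2⟩, ?_⟩
          left_inv := fun H => Subtype.ext (Subtype.ext (Subtype.ext ?_))
          right_inv := fun H => Subtype.ext (Subtype.ext (Subtype.ext ?_)) }
      · show R (MulAut.conj ((u⁻¹ : P₀) : G) • H.1.1.1) = R H₀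
        rw [hRequiv, H.2]
        show MulAut.conj ((u⁻¹ : P₀) : G) • MulAut.conj (u : G) • R H₀ = R H₀
        rw [Solv.conj_smul_conj]
        simp [Solv.conj_one_smul]
      · show R (MulAut.conj (u : G) • H.1.1.1) = MulAut.conj (u : G) • R H₀
        rw [hRequiv, H.2]
      · show MulAut.conj (u : G) • MulAut.conj ((u⁻¹ : P₀) : G) • H.1.1.1 = H.1.1.1
        rw [Solv.conj_smul_conj]
        simp [Solv.conj_one_smul]
      · show MulAut.conj ((u⁻¹ : P₀) : G) • MulAut.conj (u : G) • H.1.1.1 = H.1.1.1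
        rw [Solv.conj_smul_conj]
        simp [Solv.conj_one_smul]
    haveI : Fintype O := Fintype.ofFinite _
    rw [Nat.card_congr e, Nat.card_sigma, Finset.sum_congr rfl (fun X _ => hconj X), Finset.sum_const,
      Finset.card_univ, ← Nat.card_eq_fintype_card, smul_eq_mul, pow_two]
    refine Nat.mul_dvd_mul ?_ ?_
    · -- the orbit of `R H₀` is nontrivial
      show p ∣ Nat.card (corbit P₀ (R H₀))
      rw [card_corbit]
      have hd := Subgroup.relIndex_mul_relIndex ⊥ (P₀ ⊓ Subgroup.normalizer (R H₀ : Set G)) P₀ bot_le inf_le_left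
      rw [Subgroup.relIndex_bot_left, Subgroup.relIndex_bot_left, hP] at hd
      obtain ⟨i, -, hi⟩ := (Nat.dvd_prime_pow hp.out).1 (Dvd.intro_left _ hd)
      rw [hi]
      refine dvd_pow_self p fun h0 => hX₀n ?_
      rw [h0, pow_zero, Subgroup.relIndex_eq_one] at hi
      exact hi.trans inf_le_right
    · -- the members over a fixed Sylow subgroup
      obtain ⟨X, hX⟩ : ∃ X, X = R H₀ := ⟨_, rfl⟩
      rw [← hX] at hX₀p hX₀c hX₀i ⊢
      obtain ⟨M, hM⟩ : ∃ M, M = X ⊓ P₀ := ⟨_, rfl⟩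
      have hMc : Nat.card M * p = p ^ n := by
        rw [hM, hX₀i]; exact (hdata H₀ hH₀ hH₀le hH₀o).1
      have hcount : Nat.card {H : Subgroup G // S H ∧ H ≤ X ∧ ¬ H ≤ M} ≡ 0 [MOD p] := by
        have h := sub_card_eq M X S (hM ▸ inf_le_left)
        rw [sc_sub, sc_sub] at h
        have h1 : sc p a X ≡ 1 [MOD p] := Solv.card_subgroups_modEq_one hp.out
          (by rw [hX₀c]; exact pow_dvd_pow p ha.le)
        have h2 : sc p a M ≡ 1 [MOD p] := Solv.card_subgroups_modEq_one hp.out (by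
          obtain ⟨n', rfl⟩ : ∃ n', n = n' + 1 := ⟨n - 1, by omega⟩
          rw [pow_succ] at hMc
          rw [Nat.eq_of_mul_eq_mul_right hp.out.pos hMc]
          exact pow_dvd_pow p (by omega))
        rw [h] at h1
        exact Nat.ModEq.add_left_cancel h2 (h1.trans (by rw [add_zero]))
      have hnormcount := Solv.card_subgroups_modEq_normalised X hX₀p
        {H : Subgroup G | S H ∧ H ≤ X ∧ ¬ H ≤ M} (by
          rintro H ⟨h1, h2, h3⟩ u hu
          have hXu : MulAut.conj u • X = X := Solv.conj_smul_of_mem_normalizer (Subgroup.le_normalizer hu)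
          have hM' : M.subgroupOf X ≤ ⊤ := le_top
          have hMn : (M.subgroupOf X).index = p := by
            have h' := (M.subgroupOf X).card_mul_index
            rw [Nat.card_congr (Subgroup.subgroupOfEquivOfLe (hM ▸ inf_le_left : M ≤ X)).toEquiv,
              hX₀c, ← hMc] at h'
            exact Nat.eq_of_mul_eq_mul_left Nat.card_pos h'
          haveI : (M.subgroupOf X).Normal :=
            Solv.coatom_normal (hX₀p) (coatom_of_index hMn)
          refine ⟨(Solv.card_conj_smul u H).trans h1, ?_, fun h => h3 ?_⟩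
          · rw [← hXu]
            exact Subgroup.pointwise_smul_le_pointwise_smul_iff.2 h2
          · intro x hx
            have hx' : u * x * u⁻¹ ∈ M := h (by
              rw [Solv.conj_smul_eq_map]; exact ⟨x, hx, rfl⟩)
            have := (inferInstance : (M.subgroupOf X).Normal).conj_mem
              ⟨u * x * u⁻¹, mul_mem (mul_mem hu (h2 hx)) (inv_mem hu)⟩ hx' ⟨u⁻¹, inv_mem hu⟩
            simpa [Subgroup.mem_subgroupOf, mul_assoc] using this)
      rw [← Nat.modEq_zero_iff_dvd]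
      refine modEq_of_equiv ?_ (hnormcount.symm.trans (by exact hcount))
      have key : ∀ H : Subgroup G, S H → H ≤ X → ¬ H ≤ M → X ≤ Subgroup.normalizer (H : Set G) →
          ¬ H ≤ P₀ ∧ Nat.card (corbit P₀ H) = p ∧ R H = X := by
        intro H hH hHX hHM hXN
        have hle : ¬ H ≤ P₀ := fun h => hHM (hM ▸ le_inf hHX h)
        have hMN : M ≤ P₀ ⊓ Subgroup.normalizer (H : Set G) :=
          hM ▸ le_inf inf_le_right (inf_le_left.trans hXN)
        have heq : P₀ ⊓ Subgroup.normalizer (H : Set G) = M := by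
          refine (Subgroup.eq_of_le_of_card_ge hMN ?_).symm
          obtain ⟨j, hj⟩ := (hPp.to_inf_left (K := Subgroup.normalizer (H : Set G))).exists_card_eq
          have h2 : Nat.card (P₀ ⊓ Subgroup.normalizer (H : Set G) : Subgroup G) < p ^ n := by
            rw [← hP]
            exact lt_of_le_of_ne (Subgroup.card_le_of_le inf_le_left) fun h => hout H hH hle
              ((Subgroup.eq_of_le_of_card_ge inf_le_left h.ge).ge.trans inf_le_right)
          rw [hj] at h2 ⊢
          have h3 := (Nat.pow_lt_pow_iff_right hp.out.one_lt).1 h2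
          refine Nat.le_of_mul_le_mul_right ?_ hp.out.pos
          rw [hMc, ← pow_succ]
          exact Nat.pow_le_pow_right hp.out.pos h3
        have horb : Nat.card (corbit P₀ H) = p := by
          rw [card_corbit, heq]
          have h := Subgroup.relIndex_mul_relIndex ⊥ M P₀ bot_le (hM ▸ inf_le_right)
          rw [Subgroup.relIndex_bot_left, Subgroup.relIndex_bot_left, hP, ← hMc] at h
          exact Nat.eq_of_mul_eq_mul_left Nat.card_pos h
        refine ⟨hle, horb, Subgroup.eq_of_le_of_card_ge ?_ ?_⟩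
        · show H ⊔ _ ≤ X
          rw [heq, hM]
          exact sup_le hHX inf_le_left
        · rw [hX₀c, (hdata H hH hle horb).2.2.1]
      have keyback : ∀ H : T X, S H.1.1.1 ∧ H.1.1.1 ≤ X ∧ ¬ H.1.1.1 ≤ M ∧
          X ≤ Subgroup.normalizer (H.1.1.1 : Set G) := by
        rintro ⟨⟨⟨H, hH, hle⟩, horb⟩, hR⟩
        refine ⟨hH, le_sup_left.trans (le_of_eq hR), fun h => hle (h.trans (hM ▸ inf_le_right)), ?_⟩
        exact le_of_eq_of_le hR.symm (sup_le Subgroup.le_normalizer inf_le_right)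
      exact
        { toFun := fun H => ⟨H.1.1.1, ⟨(keyback H).1, (keyback H).2.1, (keyback H).2.2.1⟩, (keyback H).2.2.2⟩
          invFun := fun H => ⟨⟨⟨H.1, H.2.1.1, (key H.1 H.2.1.1 H.2.1.2.1 H.2.1.2.2 H.2.2).1⟩,
            (key H.1 H.2.1.1 H.2.1.2.1 H.2.1.2.2 H.2.2).2.1⟩, (key H.1 H.2.1.1 H.2.1.2.1 H.2.1.2.2 H.2.2).2.2⟩
          left_inv := fun _ => rfl
          right_inv := fun _ => rfl }
  · -- orbits of size at least `p²`
    refine Solv.dvd_card_of_fibres (fun H : {H : B // ¬ Nat.card (corbit P₀ H.1) = p} => corbit P₀ H.1.1) ?_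
    rintro ⟨⟨H₀, hH₀, hH₀le⟩, hH₀o⟩
    show p ^ 2 ∣ Nat.card {H : {H : B // ¬ Nat.card (corbit P₀ H.1) = p} // corbit P₀ H.1.1 = corbit P₀ H₀}
    have hK : ∀ K ∈ corbit P₀ H₀, S K ∧ ¬ K ≤ P₀ ∧ ¬ Nat.card (corbit P₀ K) = p := by
      intro K hK
      refine ⟨(hSinv _ _ hK).1 hH₀, fun h => hH₀le ?_, by rw [corbit_eq_of_mem hK]; exact hH₀o⟩
      refine (hSinv K H₀ ?_).2 h
      rw [corbit_eq_of_mem hK]
      exact mem_corbit_self _ _
    have e : {H : {H : B // ¬ Nat.card (corbit P₀ H.1) = p} // corbit P₀ H.1.1 = corbit P₀ H₀}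
        ≃ corbit P₀ H₀ :=
      { toFun := fun H => ⟨H.1.1.1, (Set.ext_iff.1 H.2 _).1 (mem_corbit_self P₀ _)⟩
        invFun := fun K => ⟨⟨⟨K.1, (hK K.1 K.2).1, (hK K.1 K.2).2.1⟩, (hK K.1 K.2).2.2⟩,
          corbit_eq_of_mem K.2⟩
        left_inv := fun _ => rfl
        right_inv := fun _ => rfl }
    rw [Nat.card_congr e, card_corbit]
    have horb : ¬ Nat.card (corbit P₀ H₀) = p := hH₀o
    rw [card_corbit] at horb
    have hd := Subgroup.relIndex_mul_relIndex ⊥ (P₀ ⊓ Subgroup.normalizer (H₀ : Set G)) P₀ bot_le inf_le_left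
    rw [Subgroup.relIndex_bot_left, Subgroup.relIndex_bot_left, hP] at hd
    obtain ⟨i, -, hi⟩ := (Nat.dvd_prime_pow hp.out).1 (Dvd.intro_left _ hd)
    rw [hi]
    refine pow_dvd_pow p ?_
    by_contra h
    rcases (show i = 0 ∨ i = 1 by omega) with rfl | rfl
    · rw [pow_zero, Subgroup.relIndex_eq_one] at hi
      exact hout H₀ hH₀ hH₀le (hi.trans inf_le_right)
    · exact horb (by rw [hi, pow_one])

end Cfsg.Agent.CountSq
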