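import Cfsg.Agent.Lib.Fusion.ThompsonNPC
import Cfsg.Agent.Lib.Solv.SetMul
import Cfsg.Agent.Lib.Local.ElemAb

/-!
# First properties of the Thompson subgroup
-/

set_option autoImplicit false

open Cfsg
open scoped Pointwise

namespace Cfsg.Agent.Fusion

variable {G : Type*} [Group G] [Finite G] {p : ℕ}

omit [Finite G] in
theorem maxElementary_eq_maxIn_top :
    maxElementaryAbelianSubgroups p G = maxIn (fun A : Subgroup G => IsElementaryAbelian p A) ⊤ := by
  ext A
  exact ⟨fun h => ⟨le_top, h.1, fun B _ hB => h.2 B hB⟩, fun h => ⟨h.2.1, fun B hB => h.2.2 B le_top hB⟩⟩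

omit [Finite G] in
theorem thompsonSubgroup_eq_jElem_top : thompsonSubgroup p G = jElem p (⊤ : Subgroup G) := by
  rw [thompsonSubgroup, jElem, maxElementary_eq_maxIn_top]

theorem thompsonSubgroup_char : (thompsonSubgroup p G).Characteristic := by
  refine Subgroup.characteristic_iff_map_le.2 fun e => ?_
  rw [thompsonSubgroup_eq_jElem_top]
  have h := map_jElem_le (p := p) (⊤ : Subgroup G) e
  rwa [Subgroup.map_top_of_surjective e.toMonoidHom e.surjective] at h

theorem maxElementary_nonempty : (maxElementaryAbelianSubgroups p G).Nonempty := by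
  rw [maxElementary_eq_maxIn_top]
  exact (replFamily_elementary p).maxIn_nonempty ⊤

theorem thompsonSubgroupOf_eq_of_le {U : Subgroup G} (hU : thompsonSubgroup p G ≤ U) :
    thompsonSubgroupOf p U = thompsonSubgroup p G := by
  rw [← jElem_eq, thompsonSubgroup_eq_jElem_top] at *
  rw [jElem, jElem, maxIn_eq_of_le (replFamily_elementary p) le_top]
  exact fun A hA => (le_sSup hA).trans hU

theorem isPGroup_elementary [Fact p.Prime] {A : Subgroup G} (hA : IsElementaryAbelian p A) : IsPGroup p A :=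
  fun a => ⟨1, Subtype.ext (by rw [pow_one]; exact hA.2 a a.2)⟩

theorem thompsonSubgroup_eq_iSup_sylow [Fact p.Prime] :
    thompsonSubgroup p G = ⨆ S : Sylow p G, thompsonSubgroupOf p (S : Subgroup G) := by
  refine le_antisymm (sSup_le fun A hA => ?_) (iSup_le fun S => ?_)
  · obtain ⟨S, hS⟩ := (isPGroup_elementary hA.1).exists_le_sylow
    refine le_iSup_of_le S ?_
    rw [← jElem_eq]
    exact le_sSup ⟨hS, hA.1, fun B _ hB => hA.2 B hB⟩
  · rw [← jElem_eq]
    refine sSup_le fun A hA => le_sSup ⟨hA.2.1, fun B hB => ?_⟩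
    obtain ⟨g, -, hg⟩ := (sylIn_top S).conj_le (isPGroup_elementary hB) le_top
    have h := hA.2.2 _ hg ((replFamily_elementary p).map_equiv hB (MulAut.conj g))
    rwa [show Nat.card (cj B g) = Nat.card B from card_cj B g] at h

theorem mem_thompson_of_centralizes [Fact p.Prime] {x : G}
    (hx : x ∈ Subgroup.centralizer (thompsonSubgroup p G : Set G)) (hxp : x ^ p = 1) :
    x ∈ thompsonSubgroup p G := by
  obtain ⟨A, hA⟩ := maxElementary_nonempty (p := p) (G := G)
  have hc : ∀ a ∈ A, x * a = a * x := fun a ha =>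
    (Subgroup.mem_centralizer_iff.1 hx a (le_sSup hA ha)).symm
  refine le_sSup hA ?_
  rw [maxElementary_eq_maxIn_top] at hA
  exact mem_of_maxIn hA (Subgroup.mem_top x) (isElementaryAbelian_closure_insert hA.2.1 hc hxp)

theorem thompsonSubgroup_ne_bot [hp : Fact p.Prime] (h : p ∣ Nat.card G) : thompsonSubgroup p G ≠ ⊥ := by
  obtain ⟨x, hx⟩ := exists_prime_orderOf_dvd_card' p h
  intro hbot
  have hx1 : x ^ p = 1 := hx ▸ pow_orderOf_eq_one x
  have hmem : x ∈ thompsonSubgroup p G := by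
    refine mem_thompson_of_centralizes ?_ hx1
    rw [hbot, Subgroup.mem_centralizer_iff]
    intro y hy
    rw [Subgroup.mem_bot.1 hy, one_mul, mul_one]
  rw [hbot, Subgroup.mem_bot] at hmem
  exact hp.out.ne_one (hx ▸ hmem ▸ orderOf_one)

theorem isBestOffender_of_maxElementary [Fact p.Prime] (V : Subgroup G) [V.Normal]
    (hV : IsElementaryAbelian p V) {A : Subgroup G} (hA : A ∈ maxElementaryAbelianSubgroups p G) :
    IsBestOffenderOn p V A := by
  have hcA : ∀ a ∈ A, ∀ b ∈ A, a * b = b * a := fun a ha b hb =>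
    congrArg Subtype.val (hA.1.1.1.1 ⟨a, ha⟩ ⟨b, hb⟩)
  have hcV : ∀ a ∈ V, ∀ b ∈ V, a * b = b * a := fun a ha b hb =>
    congrArg Subtype.val (hV.1.1.1 ⟨a, ha⟩ ⟨b, hb⟩)
  refine ⟨fun B hB => ?_, ?_, fun a ha => by rw [hA.1.2 a ha]; exact one_mem _⟩
  · set W := V ⊓ Subgroup.centralizer (B : Set G)
    have hcomm : ∀ b ∈ B, ∀ w ∈ W, b * w = w * b := fun b hb w hw =>
      Subgroup.mem_centralizer_iff.1 (Subgroup.mem_inf.1 hw).2 b hb
    have hBW : IsElementaryAbelian p (B ⊔ W) :=
      Local.elemAb_sup (Local.elemAb_mono hA.1 hB) (Local.elemAb_mono hV inf_le_left) hcomm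
    rw [← Solv.card_mul_set_mul_card_inf B W]
    refine Nat.mul_le_mul ((Nat.card_mono (Set.toFinite _) ?_).trans (hA.2 _ hBW)) ?_
    · rintro _ ⟨b, hb, w, hw, rfl⟩
      exact mul_mem (Subgroup.mem_sup_left hb) (Subgroup.mem_sup_right hw)
    · refine Subgroup.card_le_of_le fun x hx => ?_
      obtain ⟨hxB, hxW⟩ := Subgroup.mem_inf.1 hx
      exact Subgroup.mem_inf.2 ⟨(Subgroup.mem_inf.1 hxW).1,
        Subgroup.mem_centralizer_iff.2 fun a ha => hcA a ha x (hB hxB)⟩
  · refine le_trans ?_ (bot_le : ⊥ ≤ _)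
    rw [le_bot_iff, Subgroup.commutator_eq_bot_iff_le_centralizer]
    exact fun a ha => Subgroup.mem_centralizer_iff.2 fun b hb => hcA b hb a ha

end Cfsg.Agent.Fusion
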