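import Cfsg.Agent.Lib.Fusion.ZJControl
import Cfsg.Agent.Lib.Fusion.CoprimeAbelian
import Cfsg.Agent.Lib.Perm.Huppert

/-!
# Thompson's normal `p`-complement theorem
-/

set_option autoImplicit false

open scoped commutatorElement

universe u

namespace Cfsg.Agent.Fusion

variable {p : ℕ} [hp : Fact p.Prime]

theorem isCharPFunctor_thompson : IsCharPFunctor.{u} p (fun Q _ => thompsonSubgroup p Q) := by
  refine ⟨fun Q _ _ hQ hn h => ?_, fun Q R _ _ _ _ φ => map_thompsonSubgroup φ⟩
  refine (isCharPFunctor_wZE (p := p)).1 Q hQ hn ?_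
  exact le_bot_iff.1 ((inf_le_left : wZE p Q ≤ thompsonSubgroup p Q).trans h.le)

theorem isCharPFunctor_center : IsCharPFunctor.{u} p (fun Q _ => Subgroup.center Q) := by
  refine ⟨fun Q _ _ hQ hn h => ?_, fun Q R _ _ _ _ φ => ?_⟩
  · obtain ⟨x, hx, hne, -⟩ := exists_central_order_p hQ hn
    exact hne (Subgroup.mem_bot.1 (h.le hx))
  · ext y
    constructor
    · rintro ⟨x, hx, rfl⟩
      refine Subgroup.mem_center_iff.2 fun z => ?_
      show z * φ x = φ x * z
      rw [← φ.apply_symm_apply z, ← map_mul, ← map_mul, Subgroup.mem_center_iff.1 hx]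
    · intro hy
      refine ⟨φ.symm y, Subgroup.mem_center_iff.2 fun z => φ.injective ?_, φ.apply_symm_apply y⟩
      rw [map_mul, map_mul, φ.apply_symm_apply]
      exact Subgroup.mem_center_iff.1 hy _

theorem inducedFunctor_center {G : Type u} [Group G] (P : Subgroup G) :
    inducedFunctor (fun Q _ => Subgroup.center Q) P = P ⊓ Subgroup.centralizer (P : Set G) := by
  show (Subgroup.center P).map P.subtype = _
  ext y
  constructor
  · rintro ⟨x, hx, rfl⟩
    exact ⟨x.2, Subgroup.mem_centralizer_iff.2 fun z hz =>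
      congrArg Subtype.val (Subgroup.mem_center_iff.1 hx ⟨z, hz⟩)⟩
  · rintro ⟨hy, hc⟩
    exact ⟨⟨y, hy⟩, Subgroup.mem_center_iff.2 fun z => Subtype.ext
      (Subgroup.mem_centralizer_iff.1 hc z z.2), rfl⟩

theorem hnpc_centralizer_of_injective {G : Type u} [Group G] [Finite G] {H : Type u} [Group H]
    [Finite H] (f : H →* G) (hf : Function.Injective f) (V : Subgroup H)
    (h : HasNormalPComplement p (Subgroup.centralizer (V.map f : Set G))) :
    HasNormalPComplement p (Subgroup.centralizer (V : Set H)) := by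
  have hle : ∀ x : Subgroup.centralizer (V : Set H),
      f x ∈ Subgroup.centralizer (V.map f : Set G) := fun x => by
    refine Subgroup.mem_centralizer_iff.2 ?_
    rintro _ ⟨v, hv, rfl⟩
    rw [← map_mul, ← map_mul, Subgroup.mem_centralizer_iff.1 x.2 v hv]
  exact hnpc_of_injective ((f.comp (Subgroup.centralizer (V : Set H)).subtype).codRestrict _ hle)
    (fun a b hab => Subtype.ext (hf (congrArg Subtype.val hab))) h

/-- The two hypotheses of Thompson's theorem. -/
def ThompsonHyp (p : ℕ) {G : Type u} [Group G] (S : Subgroup G) : Prop :=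
  HasNormalPComplement p (Subgroup.normalizer (thompsonSubgroupOf p S : Set G)) ∧
  HasNormalPComplement p
    (Subgroup.centralizer ((S ⊓ Subgroup.centralizer (S : Set G) : Subgroup G) : Set G))

theorem ThompsonHyp.subgroupOf {G : Type u} [Group G] [Finite G] {H T : Subgroup G}
    (hT : IsPGroup p T) (hTH : T ≤ H) (h : ThompsonHyp p T) : ThompsonHyp p (T.subgroupOf H) := by
  have hT' : IsPGroup p (T.subgroupOf H) := hT.comap_subtype
  have hJ : (thompsonSubgroupOf p (T.subgroupOf H)).map H.subtype = thompsonSubgroupOf p T := by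
    show (inducedFunctor (fun Q _ => thompsonSubgroup p Q) (T.subgroupOf H)).map H.subtype = _
    rw [← inducedFunctor_map_of_injOn (isCharPFunctor_thompson (p := p)) H.subtype
      H.subtype_injective.injOn hT', Subgroup.map_subgroupOf_eq_of_le hTH]
    rfl
  have hZ : (T.subgroupOf H ⊓ Subgroup.centralizer (T.subgroupOf H : Set H)).map H.subtype =
      T ⊓ Subgroup.centralizer (T : Set G) := by
    rw [← inducedFunctor_center, ← inducedFunctor_center,
      ← inducedFunctor_map_of_injOn (isCharPFunctor_center (p := p)) H.subtype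
      H.subtype_injective.injOn hT', Subgroup.map_subgroupOf_eq_of_le hTH]
  exact ⟨hnpc_normalizer_of_injective H.subtype H.subtype_injective _ (hJ ▸ h.1),
    hnpc_centralizer_of_injective H.subtype H.subtype_injective _ (hZ ▸ h.2)⟩

theorem thompsonHyp_quotient {G : Type u} [Group G] [Finite G] {K S : Subgroup G} [K.Normal]
    (hK : (Nat.card K).Coprime p) (hS : IsPGroup p S) (h : ThompsonHyp p S) :
    ThompsonHyp p (S.map (QuotientGroup.mk' K)) := by
  set π := QuotientGroup.mk' K
  have hinj : Set.InjOn π S := injOn_mk_of_coprime hK hS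
  have hJ : thompsonSubgroupOf p (S.map π) = (thompsonSubgroupOf p S).map π :=
    inducedFunctor_map_of_injOn (isCharPFunctor_thompson (p := p)) π hinj hS
  have hJS : thompsonSubgroupOf p S ≤ S := Subgroup.map_subtype_le _
  set Z := S ⊓ Subgroup.centralizer (S : Set G)
  have hZ : S.map π ⊓ Subgroup.centralizer (S.map π : Set (G ⧸ K)) = Z.map π := by
    rw [← inducedFunctor_center, inducedFunctor_map_of_injOn (isCharPFunctor_center (p := p)) π
      hinj hS, inducedFunctor_center]
  refine ⟨?_, ?_⟩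
  · refine hnpc_sub (fun y hy => ?_) (hnpc_map π _ h.1)
    rw [hJ] at hy
    obtain ⟨x, hx, he⟩ := exists_lift_normalizer hK (hS.to_le hJS) hy
    exact ⟨x, hx, he⟩
  · refine hnpc_sub (fun y hy => ?_) (hnpc_map π _ h.2)
    rw [hZ] at hy
    obtain ⟨x, hx, he⟩ := exists_lift_normalizer hK (hS.to_le inf_le_left : IsPGroup p Z)
      (Subgroup.centralizer_le_normalizer _ hy)
    refine ⟨x, mem_centralizer_set.2 fun z hz => ?_, he⟩
    refine hinj ((Subgroup.mem_normalizer_iff.1 hx z).1 hz).1 hz.1 ?_
    show π (x * z * x⁻¹) = π z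
    rw [map_mul, map_mul, map_inv, he]
    exact mem_centralizer_set.1 hy (π z) ⟨z, hz, rfl⟩

theorem maxIn_eq_of_le {G : Type u} [Group G] [Finite G] {ok : Subgroup G → Prop}
    (hok : ReplFamily ok) {H K : Subgroup G} (hKH : K ≤ H) (h : ∀ A ∈ maxIn ok H, A ≤ K) :
    maxIn ok K = maxIn ok H := by
  obtain ⟨A₀, hA₀⟩ := hok.maxIn_nonempty H
  ext A
  constructor
  · rintro ⟨hAK, hA, hmax⟩
    exact ⟨hAK.trans hKH, hA, fun C hC hC' =>
      (hA₀.2.2 C hC hC').trans (hmax A₀ (h A₀ hA₀) hA₀.2.1)⟩
  · intro hA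
    exact ⟨h A hA, hA.2.1, fun C hC hC' => hA.2.2 C (hC.trans hKH) hC'⟩

/-- Thompson's normal `p`-complement theorem. -/
theorem hnpc_of_thompsonHyp (hp2 : p ≠ 2) {G : Type u} [Group G] [Finite G] {S : Subgroup G}
    (hS : SylIn p S ⊤) (h : ThompsonHyp p S) : HasNormalPComplement p G := by
  induction hn : Nat.card G using Nat.strong_induction_on generalizing G with
  | _ n IH =>
  subst hn
  by_contra hG
  have hSp := hS.isPGroup
  have hsub : ∀ H T : Subgroup G, H ≠ ⊤ → SylIn p T H → ThompsonHyp p T →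
      HasNormalPComplement p H := by
    intro H T hH hT hyp
    exact IH _ (lt_of_le_of_ne (Subgroup.card_le_card_group H)
      fun h => hH (Subgroup.eq_top_of_card_eq H h))
      (S := T.subgroupOf H)
      ⟨le_top, hT.isPGroup.comap_subtype, by rw [Subgroup.relIndex_top_right]; exact hT.not_dvd⟩
      (hyp.subgroupOf hT.isPGroup hT.le) rfl
  -- no `p'`-core
  have h0 : pPrimeCore p G = ⊥ := by
    by_contra hne
    have hK := card_pPrimeCore_coprime p G
    refine hG (hnpc_of_quotient (pPrimeCore p G) hK ?_)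
    refine IH _ ?_ (S := S.map (QuotientGroup.mk' (pPrimeCore p G))) (sylIn_map_mk hS)
      (thompsonHyp_quotient hK hSp h) rfl
    rw [Subgroup.card_eq_card_quotient_mul_card_subgroup (pPrimeCore p G)]
    exact lt_mul_of_one_lt_right Nat.card_pos ((Subgroup.one_lt_card_iff_ne_bot _).2 hne)
  -- a local subgroup without a normal complement
  obtain ⟨U₀, hU₀, hU₀1, hU₀N⟩ := exists_not_hnpc_normalizer hG
  obtain ⟨⟨U, T⟩, ⟨hU, hU1, hUN, hT⟩, hmax⟩ := Set.exists_max_image
    {q : Subgroup G × Subgroup G | IsPGroup p q.1 ∧ q.1 ≠ ⊥ ∧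
      ¬ HasNormalPComplement p (Subgroup.normalizer (q.1 : Set G)) ∧
      SylIn p q.2 (Subgroup.normalizer (q.1 : Set G))}
    (fun q => Nat.card q.2) (Set.toFinite _)
    ⟨(U₀, (exists_sylIn (p := p) _).choose), hU₀, hU₀1, hU₀N,
      (exists_sylIn (p := p) (Subgroup.normalizer (U₀ : Set G))).choose_spec⟩
  obtain ⟨g, -, hgS⟩ := hS.conj_le hT.isPGroup le_top
  have hQ1 : pCore p G ≠ ⊥ := by
    intro hQ
    set U' := cj U g
    set T' := cj T g
    have hT' : SylIn p T' (Subgroup.normalizer (U' : Set G)) := by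
      have := hT.cj g; rwa [cj_normalizer] at this
    have hU'1 : U' ≠ ⊥ := fun h => hU1 (by rw [← cj_cj_inv U g, show cj U g = ⊥ from h, cj_bot])
    have hU'N : ¬ HasNormalPComplement p (Subgroup.normalizer (U' : Set G)) := fun h => by
      have h1 := hnpc_map (MulAut.conj g⁻¹).toMonoidHom _ h
      rw [← cj_cj_inv U g] at hUN
      rw [← cj_normalizer] at hUN
      exact hUN h1
    have hne : Subgroup.normalizer (U' : Set G) ≠ ⊤ := fun he => by
      haveI : U'.Normal := Subgroup.normalizer_eq_top_iff.1 he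
      exact hU'1 (le_bot_iff.1 (hQ ▸ le_pCore (isPGroup_cj hU g)))
    refine hU'N (hsub _ T' hne hT' ?_)
    by_cases hTS : T' = S
    · rw [hTS]; exact h
    have hT'1 : T' ≠ ⊥ := fun h => hU'1 (le_bot_iff.1 (h ▸
      ((hT'.eq_of_le (Q := T' ⊔ U') ?_ le_sup_left (sup_le hT'.le Subgroup.le_normalizer)) ▸
        le_sup_right)))
    swap
    · rw [h, bot_sup_eq]; exact isPGroup_cj hU g
    have hlt : T' < S ⊓ Subgroup.normalizer (T' : Set G) :=
      SylIn.normalizer_growth (p := p) hgS hTS hSp
    have hbig : ∀ W : ∀ (Q : Type u) [Group Q], Subgroup Q, IsCharPFunctor.{u} p W →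
        HasNormalPComplement p (Subgroup.normalizer (inducedFunctor W T' : Set G)) := by
      intro W hW
      by_contra hcon
      set R := S ⊓ Subgroup.normalizer (T' : Set G)
      have hRN : R ≤ Subgroup.normalizer (inducedFunctor W T' : Set G) :=
        inf_le_right.trans (conjFunctor_normalizer_le (isConjugacyFunctor_induced hW) hT'.isPGroup)
      obtain ⟨T₂, hT₂, hRT₂⟩ := exists_sylIn_ge (hSp.to_inf_left : IsPGroup p R) hRN
      have hm := hmax (inducedFunctor W T', T₂) ⟨hT'.isPGroup.to_le (inducedFunctor_le W _),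
        (isConjugacyFunctor_induced hW T' hT'.isPGroup).2.1 hT'1, hcon, hT₂⟩
      have h1 : Nat.card T' < Nat.card R := replacement_property.card_lt_card_of_lt hlt
      have h2 := Subgroup.card_le_of_le hRT₂
      have h3 : Nat.card T' = Nat.card T := card_cj T g
      exact absurd hm (not_le.2 (h3 ▸ h1.trans_le h2))
    refine ⟨hbig _ (isCharPFunctor_thompson (p := p)), ?_⟩
    have h2 := hbig _ (isCharPFunctor_center (p := p))
    rw [inducedFunctor_center] at h2
    exact hnpc_sub (Subgroup.centralizer_le_normalizer _) h2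
  set Q := pCore p G
  have hQp : IsPGroup p Q := isPGroup_pCore p G
  have hQS : Q ≤ S := pCore_le_sylIn hS
  have hJS : thompsonSubgroupOf p S ≤ S := Subgroup.map_subtype_le _
  have hNJ : ¬ (thompsonSubgroupOf p S).Normal := fun hn => by
    have h1 := h.1
    rw [Subgroup.normalizer_eq_top] at h1
    exact hG (hnpc_of_equiv Subgroup.topEquiv h1)
  have hSQ : S ≠ Q := fun he => hNJ (Subgroup.normalizer_eq_top_iff.1 (top_le_iff.1 (by
    have h1 : S.Normal := he ▸ inferInstance
    have h2 := conjFunctor_normalizer_le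
      (isConjugacyFunctor_induced (G := G) (isCharPFunctor_thompson (p := p))) hSp
    rw [Subgroup.normalizer_eq_top] at h2
    exact h2)))
  -- the quotient by the `p`-core
  set π := QuotientGroup.mk' Q
  have hcomapS : (S.map π).comap π = S := by
    rw [QuotientGroup.comap_map_mk', sup_eq_right.2 hQS]
  have hquot : HasNormalPComplement p (G ⧸ Q) := by
    have hW : ∀ W : ∀ (Q' : Type u) [Group Q'], Subgroup Q', IsCharPFunctor.{u} p W →
        HasNormalPComplement p (Subgroup.normalizer (inducedFunctor W (S.map π) : Set (G ⧸ Q))) := by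
      intro W hW
      set N := Subgroup.normalizer (inducedFunctor W (S.map π) : Set (G ⧸ Q))
      have hSN : S ≤ N.comap π := fun x hx =>
        sylow_le_normalizer_functor (isConjugacyFunctor_induced hW) (hSp.map π) ⟨x, hx, rfl⟩
      have hne : N.comap π ≠ ⊤ := by
        intro he
        have hN : N = ⊤ := by
          rw [← Subgroup.map_comap_eq_self_of_surjective (QuotientGroup.mk'_surjective Q) N, he,
            Subgroup.map_top_of_surjective π (QuotientGroup.mk'_surjective Q)]
        haveI := Subgroup.normalizer_eq_top_iff.1 hN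
        have h2 := le_pCore (p := p)
          ((hSp.map π).to_le (inducedFunctor_le W (S.map π)) : IsPGroup p _)
        rw [pCore_quotient_eq_bot, le_bot_iff] at h2
        have h3 : S.map π = ⊥ := by
          by_contra hne
          exact (isConjugacyFunctor_induced hW _ (hSp.map π)).2.1 hne h2
        exact hSQ (le_antisymm (by rwa [← QuotientGroup.ker_mk' Q, ← Subgroup.map_eq_bot_iff]) hQS)
      have h1 := hnpc_map π _ (hsub _ S hne (hS.mono hSN le_top) h)
      rwa [Subgroup.map_comap_eq_self_of_surjective (QuotientGroup.mk'_surjective Q)] at h1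
    refine IH _ ?_ (S := S.map π) (sylIn_map_mk hS)
      ⟨hW _ (isCharPFunctor_thompson (p := p)), ?_⟩ rfl
    · rw [Subgroup.card_eq_card_quotient_mul_card_subgroup Q]
      exact lt_mul_of_one_lt_right Nat.card_pos ((Subgroup.one_lt_card_iff_ne_bot _).2 hQ1)
    · have h2 := hW _ (isCharPFunctor_center (p := p))
      rw [inducedFunctor_center] at h2
      exact hnpc_sub (Subgroup.centralizer_le_normalizer _) h2
  set K := (pResidual p (G ⧸ Q)).comap π
  have hKtop : ∀ x : G, ∃ j, x ^ p ^ j ∈ K := fun x => by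
    obtain ⟨j, hj⟩ := isPGroup_quotient_pResidual (p := p) (G := G ⧸ Q) (QuotientGroup.mk (π x))
    refine ⟨j, ?_⟩
    rw [← QuotientGroup.mk_pow, QuotientGroup.eq_one_iff] at hj
    show π (x ^ p ^ j) ∈ pResidual p (G ⧸ Q)
    rwa [map_pow]
  have hQK : Q ≤ K := fun x hx => by
    show π x ∈ pResidual p (G ⧸ Q)
    rw [show π x = 1 from (QuotientGroup.eq_one_iff x).2 hx]; exact one_mem _
  have hrel : (Q.relIndex K).Coprime p := by
    have h1 := Subgroup.relIndex_comap (⊥ : Subgroup (G ⧸ Q)) π K
    rw [Subgroup.map_comap_eq_self_of_surjective (QuotientGroup.mk'_surjective Q),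
      Subgroup.relIndex_bot_left, MonoidHom.comap_bot, QuotientGroup.ker_mk'] at h1
    rw [h1]
    exact hnpc_iff.1 hquot
  -- `G` is constrained
  set C := Subgroup.centralizer (Q : Set G)
  haveI hCn : C.Normal := Subgroup.normal_centralizer (H := Q)
  have hCQ : C ≤ Q := by
    set M := C ⊓ K
    have hM : IsPGroup p M := by
      have hMs : SylIn p (S ⊓ M) M := hS.inf_normal le_top (by rw [Subgroup.normalizer_eq_top])
      obtain ⟨P, hP⟩ := hMs.exists_sylow_subgroupOf
      have hMsQ : S ⊓ M ≤ Q := by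
        intro x hx
        have h1 : π x ∈ S.map π ⊓ pResidual p (G ⧸ Q) := ⟨⟨x, hx.1, rfl⟩, hx.2.2⟩
        rw [inf_comm, coprime_inf_pGroup (hnpc_iff.1 hquot) (hSp.map π), Subgroup.mem_bot] at h1
        exact (QuotientGroup.eq_one_iff x).1 h1
      have hnpc : HasNormalPComplement p M := by
        refine hnpc_of_normalizer_le_centralizer P fun x _ => ?_
        rw [Subgroup.mem_centralizer_iff]
        intro y hy
        replace hy : y ∈ (P : Subgroup M) := hy
        rw [hP] at hy
        exact Subtype.ext (Subgroup.mem_centralizer_iff.1 x.2.1 y (hMsQ hy))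
      haveI : ((pResidual p M).map M.subtype).Normal := ConjAct.normal_of_characteristic_of_normal
      have h1 : (pResidual p M).map M.subtype ≤ pPrimeCore p G := le_pPrimeCore (by
        rw [Subgroup.card_map_of_injective M.subtype_injective]; exact hnpc_iff.1 hnpc)
      rw [h0, le_bot_iff, Subgroup.map_eq_bot_iff_of_injective _ M.subtype_injective] at h1
      intro x
      obtain ⟨k, hk⟩ := (isPGroup_quotient_pResidual (p := p) (G := M)) (QuotientGroup.mk x)
      exact ⟨k, by rwa [← QuotientGroup.mk_pow, QuotientGroup.eq_one_iff, h1, Subgroup.mem_bot] at hk⟩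
    refine le_pCore (fun c => ?_)
    obtain ⟨j, hj⟩ := hKtop (c : G)
    obtain ⟨i, hi⟩ := hM ⟨(c : G) ^ p ^ j, pow_mem c.2 _, hj⟩
    refine ⟨j + i, Subtype.ext ?_⟩
    rw [SubmonoidClass.coe_pow, pow_add, pow_mul]
    exact congrArg Subtype.val hi
  -- the centre of the Thompson subgroup is normal and central
  obtain ⟨P, rfl⟩ := hS.exists_sylow
  set V := centerThompsonOf p (P : Subgroup G)
  have hVn : V.Normal := by
    by_contra hVn
    refine hG (hnpc_of_stable_normal hp2 (isCharPFunctor_wZE (p := p))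
      (fun X _ _ hc hst T => centerThompsonOf_normal hp2 hc hst T) P ?_)
    rw [inducedFunctor_wZE]
    have hPN : (P : Subgroup G) ≤ Subgroup.normalizer (V : Set G) := by
      have := sylow_le_normalizer_functor
        (isConjugacyFunctor_induced (G := G) (isCharPFunctor_wZE (p := p))) hSp
      rwa [inducedFunctor_wZE] at this
    exact hsub _ _ (fun he => hVn (Subgroup.normalizer_eq_top_iff.1 he))
      (hS.mono hPN le_top) h
  haveI := hVn
  have hVS : V ≤ (P : Subgroup G) := inf_le_left.trans hJS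
  set C₁ := Subgroup.centralizer (V : Set G)
  haveI : C₁.Normal := Subgroup.normal_centralizer (H := V)
  have hC₁ : C₁ = ⊤ := by
    by_contra hne
    have hT₁ : SylIn p ((P : Subgroup G) ⊓ C₁) C₁ :=
      hS.inf_normal le_top (by rw [Subgroup.normalizer_eq_top])
    have hJC : thompsonSubgroupOf p (P : Subgroup G) ≤ C₁ :=
      Subgroup.le_centralizer_iff.1 inf_le_right
    have hJ : thompsonSubgroupOf p ((P : Subgroup G) ⊓ C₁) = thompsonSubgroupOf p (P : Subgroup G) := by
      rw [← jElem_eq, ← jElem_eq, jElem, jElem,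
        maxIn_eq_of_le (replFamily_elementary p) inf_le_left]
      intro A hA
      refine le_inf hA.1 (le_trans ?_ hJC)
      rw [← jElem_eq]; exact le_sSup hA
    have hZ : (P : Subgroup G) ⊓ Subgroup.centralizer ((P : Subgroup G) : Set G) ≤
        ((P : Subgroup G) ⊓ C₁) ⊓ Subgroup.centralizer ((((P : Subgroup G) ⊓ C₁) : Subgroup G) : Set G) :=
      fun x hx => ⟨⟨hx.1, Subgroup.mem_centralizer_iff.2 fun v hv =>
        Subgroup.mem_centralizer_iff.1 hx.2 v (hVS hv)⟩,
        Subgroup.centralizer_le (show (((P : Subgroup G) ⊓ C₁ : Subgroup G) : Set G) ⊆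
          ((P : Subgroup G) : Set G) from fun _ h => h.1) hx.2⟩
    have hnpc := hsub C₁ _ hne hT₁
      ⟨hJ.symm ▸ h.1, hnpc_sub (Subgroup.centralizer_le hZ) h.2⟩
    haveI : ((pResidual p C₁).map C₁.subtype).Normal := ConjAct.normal_of_characteristic_of_normal
    have h1 : (pResidual p C₁).map C₁.subtype ≤ pPrimeCore p G := le_pPrimeCore (by
      rw [Subgroup.card_map_of_injective C₁.subtype_injective]; exact hnpc_iff.1 hnpc)
    rw [h0, le_bot_iff, Subgroup.map_eq_bot_iff_of_injective _ C₁.subtype_injective] at h1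
    have hC₁p : IsPGroup p C₁ := fun x => by
      obtain ⟨k, hk⟩ := (isPGroup_quotient_pResidual (p := p) (G := C₁)) (QuotientGroup.mk x)
      exact ⟨k, by rwa [← QuotientGroup.mk_pow, QuotientGroup.eq_one_iff, h1, Subgroup.mem_bot] at hk⟩
    refine hNJ (Subgroup.normalizer_eq_top_iff.1 (top_le_iff.1 fun x _ => ?_))
    obtain ⟨k, hk, hkx⟩ := frattini_conj hT₁ (H := ⊤)
      (by rw [Subgroup.normalizer_eq_top]) (Subgroup.mem_top x)
    have hkS : k ∈ (P : Subgroup G) := hC₁p.le_sylow_of_normal P hk
    have hkN := sylow_le_normalizer_functor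
      (isConjugacyFunctor_induced (G := G) (isCharPFunctor_thompson (p := p))) hSp hkS
    have hNN : Subgroup.normalizer (((P : Subgroup G) ⊓ C₁ : Subgroup G) : Set G) ≤
        Subgroup.normalizer (thompsonSubgroupOf p (P : Subgroup G) : Set G) := by
      rw [← hJ]
      exact conjFunctor_normalizer_le
        (isConjugacyFunctor_induced (G := G) (isCharPFunctor_thompson (p := p))) hT₁.isPGroup
    have := mul_mem (inv_mem hkN) (hNN hkx)
    rwa [inv_mul_cancel_left] at this
  -- the centre of the Sylow subgroup is central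
  set A := Q ⊓ C
  haveI : A.Normal := Subgroup.normal_inf_normal Q C
  have hA : IsMulCommutative A :=
    ⟨⟨fun x y => Subtype.ext (Subgroup.mem_centralizer_iff.1 y.2.2 x x.2.1)⟩⟩
  have hZA : (P : Subgroup G) ⊓ Subgroup.centralizer ((P : Subgroup G) : Set G) ≤ A := fun x hx => by
    have hxC : x ∈ C := Subgroup.centralizer_le (show (Q : Set G) ⊆ _ from hQS) hx.2
    exact ⟨hCQ hxC, hxC⟩
  haveI : (Q.subgroupOf K).Normal := Subgroup.Normal.subgroupOf inferInstance K
  haveI : K.Normal := Subgroup.Normal.comap inferInstance π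
  have hAK : ⁅A, K⁆ = ⊥ := by
    by_contra hne
    have hAKS : ⁅A, K⁆ ≤ (P : Subgroup G) :=
      (Subgroup.commutator_le_left A K).trans (inf_le_left.trans hQS)
    haveI : (⁅A, K⁆.subgroupOf (P : Subgroup G)).Normal := Subgroup.Normal.subgroupOf inferInstance _
    haveI : Nontrivial (⁅A, K⁆.subgroupOf (P : Subgroup G)) :=
      (Subgroup.nontrivial_iff_ne_bot _).2 fun he => hne (by
        rw [← Subgroup.map_subgroupOf_eq_of_le hAKS, he, Subgroup.map_bot])
    obtain ⟨z, hz, hzc, hz1⟩ := Cfsg.Agent.Perm.exists_ne_one_center P.isPGroup'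
      (⁅A, K⁆.subgroupOf (P : Subgroup G))
    -- a power of order `p`
    obtain ⟨k, hk⟩ := IsPGroup.iff_orderOf.1 P.isPGroup' z
    rcases k with - | k
    · exact hz1 (orderOf_eq_one_iff.1 hk)
    set v := z ^ p ^ k
    have hv1 : v ≠ 1 := fun he => by
      have h1 := orderOf_dvd_of_pow_eq_one he
      rw [hk] at h1
      have := (Nat.pow_dvd_pow_iff_le_right hp.out.one_lt).1 h1
      omega
    have hvp : (v : G) ^ p = 1 := by
      rw [← SubmonoidClass.coe_pow, ← pow_mul, ← pow_succ, ← hk, pow_orderOf_eq_one]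
      rfl
    have hvc : (v : G) ∈ (P : Subgroup G) ⊓ Subgroup.centralizer ((P : Subgroup G) : Set G) :=
      ⟨v.2, Subgroup.mem_centralizer_iff.2 fun y hy =>
        congrArg Subtype.val (Subgroup.mem_center_iff.1 (pow_mem hzc _) ⟨y, hy⟩)⟩
    have hok := replFamily_elementary (G := G) p
    have hvV : (v : G) ∈ V := by
      show (v : G) ∈ centerThompsonOf p (P : Subgroup G)
      rw [← zElem_eq]
      obtain ⟨A₀, hA₀⟩ := hok.maxIn_nonempty (P : Subgroup G)
      refine ⟨(le_sSup hA₀ : A₀ ≤ jElem p (P : Subgroup G)) (mem_of_maxIn hA₀ v.2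
        (isElementaryAbelian_closure_insert hA₀.2.1 (fun a ha =>
          (Subgroup.mem_centralizer_iff.1 hvc.2 a (hA₀.1 ha)).symm) hvp)), ?_⟩
      exact Subgroup.mem_centralizer_iff.2 fun y hy =>
        Subgroup.mem_centralizer_iff.1 hvc.2 y (jElem_le _ hy)
    have hfix : ∀ m ∈ K, m * (v : G) * m⁻¹ = v := fun m _ =>
      mem_centralizer_set.1 (hC₁.ge (Subgroup.mem_top m)) v hvV
    refine hv1 (Subtype.ext (eq_one_of_fixed_commutator (N := K) (N₀ := Q) hA
      (fun q hq a ha => ?_) ?_ (pow_mem hz _ : v ∈ ⁅A, K⁆.subgroupOf (P : Subgroup G)) hfix))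
    · have := Subgroup.mem_centralizer_iff.1 ha.2 q hq
      rw [this, mul_inv_cancel_right]
    · obtain ⟨i, hi⟩ := IsPGroup.iff_card.1 (hQp.to_le (inf_le_left : A ≤ Q))
      rw [hi]
      exact Nat.Coprime.pow_left i hrel.symm
  refine hG ?_
  have htop : Subgroup.centralizer
      (((P : Subgroup G) ⊓ Subgroup.centralizer ((P : Subgroup G) : Set G) : Subgroup G) : Set G) = ⊤ := by
    refine top_le_iff.1 fun x _ => ?_
    have hKP : K ⊔ (P : Subgroup G) = ⊤ := by
      obtain ⟨P', hP'⟩ := (sylIn_map_mk (N := Q) hS).exists_sylow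
      have h1 := pResidual_sup_sylow (p := p) P'
      rw [hP'] at h1
      have h2 := congrArg (Subgroup.comap π) h1
      rw [Subgroup.comap_top, ← Subgroup.map_comap_eq_self_of_surjective
        (QuotientGroup.mk'_surjective Q) (pResidual p (G ⧸ Q)), ← Subgroup.map_sup,
        QuotientGroup.comap_map_mk', sup_eq_right.2 (hQK.trans le_sup_left)] at h2
      exact h2
    refine (sup_le ?_ ?_ : K ⊔ (P : Subgroup G) ≤ _) (hKP.ge (Subgroup.mem_top x))
    · exact (Subgroup.le_centralizer_iff.1
        (Subgroup.commutator_eq_bot_iff_le_centralizer.1 hAK)).trans (Subgroup.centralizer_le hZA)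
    · exact Subgroup.le_centralizer_iff.1 inf_le_right
  have h2 := h.2
  rw [htop] at h2
  exact hnpc_of_equiv Subgroup.topEquiv h2

end Cfsg.Agent.Fusion
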