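import Cfsg.Prelude.Def_Local
import Cfsg.Agent.Lib.Fusion.Basic

/-!
# Commuting `2`-subgroups of two conjugates of a tightly embedded subgroup
-/

set_option autoImplicit false

open scoped Pointwise

namespace Cfsg.Agent.Fusion

variable {G : Type*} [Group G] [Finite G]

omit [Finite G] in
/-- A conjugate of a tightly embedded subgroup is tightly embedded. -/
theorem tightly_cj {Q : Subgroup G} (h : Cfsg.IsTightlyEmbedded Q) (g : G) :
    Cfsg.IsTightlyEmbedded (cj Q g) := by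
  refine ⟨by rw [card_cj]; exact h.1, fun x hx => ?_⟩
  have hx' : g⁻¹ * x * g ∉ Subgroup.normalizer (Q : Set G) := fun hh => hx (by
    rw [← cj_normalizer]; exact mem_cj.2 hh)
  have h1 := h.2 _ hx'
  have e : cj Q g ⊓ cj (cj Q g) x = cj (Q ⊓ cj Q (g⁻¹ * x * g)) g := by
    rw [cj_inf, cj_cj, cj_cj, show g * (g⁻¹ * x * g) = x * g by group]
  show Odd (Nat.card ↥(cj Q g ⊓ cj (cj Q g) x))
  rw [e, card_cj]
  exact h1

omit [Finite G] in
/-- A nontrivial `2`-element of a tightly embedded subgroup has its centralizer in the normalizer. -/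
theorem tightly_centralizer_le {Q : Subgroup G} (h : Cfsg.IsTightlyEmbedded Q) {r : G}
    (hr : r ∈ Q) (h2 : ∃ k : ℕ, orderOf r = 2 ^ k) (h1 : r ≠ 1) :
    Subgroup.centralizer ({r} : Set G) ≤ Subgroup.normalizer (Q : Set G) := by
  intro c hc
  by_contra hn
  have hodd := h.2 c hn
  have hmem : r ∈ Q ⊓ cj Q c := ⟨hr, mem_cj.2 (by
    have e : c * r = r * c := Subgroup.mem_centralizer_singleton_iff.1 hc
    rwa [mul_assoc, ← e, inv_mul_cancel_left])⟩
  obtain ⟨k, hk⟩ := h2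
  have hk0 : k ≠ 0 := by
    rintro rfl; exact h1 (orderOf_eq_one_iff.1 (hk.trans (pow_zero 2)))
  have hd : 2 ∣ Nat.card ↥(Q ⊓ cj Q c) :=
    ((hk ▸ dvd_pow_self 2 hk0).trans (Subgroup.orderOf_dvd_natCard _ hmem))
  exact (Nat.not_even_iff_odd.2 hodd) (even_iff_two_dvd.2 hd)

/-- Commuting `R ≤ Q₁` and `T ≤ Q₂`: either `T` is maximal in `T'` or `R` embeds in `T`. -/
theorem eq_or_embeds {Q₁ R T T' : Subgroup G} (htight : Cfsg.IsTightlyEmbedded Q₁)
    (hT'p : IsPGroup 2 T') (hRp : IsPGroup 2 R) (hRQ : R ≤ Q₁) (hTT' : T ≤ T')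
    (hRT' : R ≤ Subgroup.normalizer (T' : Set G)) (hcomm : ∀ r ∈ R, ∀ t ∈ T, r * t = t * r)
    (hRint : R ⊓ T' = ⊥)
    (hmax : ∀ a ∈ T', a ∈ Subgroup.normalizer (Q₁ : Set G) →
      a ∈ Subgroup.normalizer ((R ⊔ T : Subgroup G) : Set G) → a ∈ T) :
    T' = T ∨ ∃ φ : R →* T, Function.Injective φ := by
  by_contra h
  push Not at h
  obtain ⟨hne, hno⟩ := h
  have hRT : R ≤ Subgroup.normalizer (T : Set G) := fun r hr =>
    Subgroup.centralizer_le_normalizer _ (Subgroup.mem_centralizer_iff.2 fun t ht => (hcomm r hr t ht).symm)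
  have hsplit : ∀ (U : Subgroup G), R ≤ Subgroup.normalizer (U : Set G) → ∀ x ∈ R ⊔ U,
      ∃ r ∈ R, ∃ u ∈ U, r * u = x := fun U hU x hx => by
    rw [← SetLike.mem_coe, Subgroup.coe_mul_of_left_le_normalizer_right R U hU] at hx
    exact hx
  have hinter : ∀ x ∈ R ⊔ T, x ∈ T' → x ∈ T := by
    intro x hx hxT
    obtain ⟨r, hr, t, ht, rfl⟩ := hsplit T hRT x hx
    have hr' : r ∈ R ⊓ T' := ⟨hr, by simpa using mul_mem hxT (inv_mem (hTT' ht))⟩
    rw [hRint, Subgroup.mem_bot] at hr'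
    simpa [hr'] using ht
  have hp : IsPGroup 2 ↥(R ⊔ T') := hRp.to_sup_of_normal_right' hT'p hRT'
  have hne' : R ⊔ T ≠ R ⊔ T' := fun he => hne (le_antisymm
    (fun x hx => hinter x (he.ge (Subgroup.mem_sup_right hx)) hx) hTT')
  obtain ⟨z, hz, hzn⟩ := SetLike.exists_of_lt
    (SylIn.normalizer_growth (p := 2) (sup_le_sup_left hTT' R) hne' hp)
  obtain ⟨hz1, hz2⟩ := Subgroup.mem_inf.1 hz
  obtain ⟨r₀, hr₀, a, ha, hza⟩ := hsplit T' hRT' z hz1
  have haN : a ∈ Subgroup.normalizer ((R ⊔ T : Subgroup G) : Set G) := by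
    rw [show a = r₀⁻¹ * z by rw [← hza]; group]
    exact mul_mem (inv_mem (Subgroup.le_normalizer (Subgroup.mem_sup_left hr₀))) hz2
  have haT : a ∉ T := fun hh => hzn (hza ▸ mul_mem (Subgroup.mem_sup_left hr₀) (Subgroup.mem_sup_right hh))
  have hmem : ∀ r : R, a * r * a⁻¹ * (r : G)⁻¹ ∈ T := fun r => hinter _
    (mul_mem ((Subgroup.mem_normalizer_iff.1 haN _).1 (Subgroup.mem_sup_left r.2))
      (inv_mem (Subgroup.mem_sup_left r.2))) (by
      rw [show a * r * a⁻¹ * (r : G)⁻¹ = a * ((r : G) * a⁻¹ * (r : G)⁻¹) by group]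
      exact mul_mem ha ((Subgroup.mem_normalizer_iff.1 (hRT' r.2) _).1 (inv_mem ha)))
  let φ : R →* T := MonoidHom.mk' (fun r => ⟨a * r * a⁻¹ * (r : G)⁻¹, hmem r⟩) fun r s => Subtype.ext (by
    show a * (r * s : G) * a⁻¹ * (r * s : G)⁻¹ = a * r * a⁻¹ * (r : G)⁻¹ * (a * s * a⁻¹ * (s : G)⁻¹)
    have e := hcomm r r.2 _ (hmem s)
    calc a * (r * s : G) * a⁻¹ * (r * s : G)⁻¹
        = a * r * a⁻¹ * (r : G)⁻¹ * ((r : G) * (a * s * a⁻¹ * (s : G)⁻¹)) * (r : G)⁻¹ := by group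
      _ = _ := by rw [e]; group)
  refine hno φ ((injective_iff_map_eq_one φ).2 fun r hr => ?_)
  by_contra hr1
  have h1 : a * r * a⁻¹ * (r : G)⁻¹ = 1 := congrArg Subtype.val hr
  have hac : a ∈ Subgroup.centralizer ({(r : G)} : Set G) :=
    Subgroup.mem_centralizer_singleton_iff.2 (mul_inv_eq_iff_eq_mul.1 (mul_inv_eq_one.1 h1))
  refine haT (hmax a ha (tightly_centralizer_le htight (hRQ r.2) ?_ ?_ hac) haN)
  · obtain ⟨k, hk⟩ := IsPGroup.iff_orderOf.1 hRp r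
    exact ⟨k, by rw [Subgroup.orderOf_coe]; exact hk⟩
  · exact fun hh => hr1 (Subtype.ext hh)

end Cfsg.Agent.Fusion
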