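import Cfsg.Agent.S2904
import Cfsg.Agent.S0205
import Cfsg.Agent.S0144
import Cfsg.Agent.S1160
import Cfsg.Agent.S4207
import Cfsg.Agent.S0012
import Mathlib

/-!
A linear group over the field with two elements is solvable modulo a normal subgroup that is transitive on
the nonzero vectors (through a primitive prime divisor, with dimension six by hand).
-/

set_option autoImplicit false
set_option linter.style.haveILetI false

namespace Cfsg.Agent.TransAut

variable {J E : Type*} [Group J] [AddCommGroup E] [DistribMulAction J E] [FaithfulSMul J E]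

/-- The centraliser of an abelian group with a cyclic vector is abelian. -/
theorem commute_of_cyclic_vector (R : Subgroup J) (hR : ∀ a ∈ R, ∀ b ∈ R, a * b = b * a) (v : E)
    (hv : AddSubgroup.closure {w : E | ∃ a ∈ R, a • v = w} = ⊤) {c d : J}
    (hc : c ∈ Subgroup.centralizer (R : Set J)) (hd : d ∈ Subgroup.centralizer (R : Set J)) :
    c * d = d * c := by
  have key : ∀ w : E, ∃ f : E →+ E, f v = w ∧ ∀ g ∈ Subgroup.centralizer (R : Set J), ∀ x, f (g • x) = g • f x := by
    intro w
    have hw : w ∈ AddSubgroup.closure {w : E | ∃ a ∈ R, a • v = w} := hv ▸ AddSubgroup.mem_top w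
    induction hw using AddSubgroup.closure_induction with
    | mem w hw =>
      obtain ⟨a, ha, rfl⟩ := hw
      exact ⟨DistribSMul.toAddMonoidHom E a, rfl, fun g hg x => by
        show a • g • x = g • a • x
        rw [smul_smul, smul_smul, Subgroup.mem_centralizer_iff.1 hg a ha]⟩
    | zero => exact ⟨0, rfl, fun g _ x => (smul_zero g).symm⟩
    | add x y _ _ hx hy =>
      obtain ⟨f, hf, hf'⟩ := hx
      obtain ⟨f', hf₂, hf₂'⟩ := hy
      exact ⟨f + f', by simp [hf, hf₂], fun g hg z => by simp [hf' g hg, hf₂' g hg, smul_add]⟩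
    | neg x _ hx =>
      obtain ⟨f, hf, hf'⟩ := hx
      exact ⟨-f, by simp [hf], fun g hg z => by simp [hf' g hg, smul_neg]⟩
  obtain ⟨f, hf, hf'⟩ := key (d • v)
  have hfd : f = DistribSMul.toAddMonoidHom E d := AddMonoidHom.eq_of_eqOn_dense hv fun w ⟨a, ha, e⟩ => by
    subst e
    show f (a • v) = d • a • v
    rw [hf' a (Subgroup.mem_centralizer_iff.2 fun b hb => hR b hb a ha), hf, smul_smul, smul_smul,
      Subgroup.mem_centralizer_iff.1 hd a ha]
  refine eq_of_smul_eq_smul fun x : E => ?_
  rw [mul_smul, mul_smul]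
  have h := hf' c hc x
  rw [hfd] at h
  exact h.symm

/-- An irreducible abelian group has abelian centraliser. -/
theorem commute_of_irreducible (R : Subgroup J) (hR : ∀ a ∈ R, ∀ b ∈ R, a * b = b * a) [Nontrivial E]
    (hirr : ∀ M : AddSubgroup E, (∀ a ∈ R, ∀ x ∈ M, a • x ∈ M) → M = ⊥ ∨ M = ⊤) {c d : J}
    (hc : c ∈ Subgroup.centralizer (R : Set J)) (hd : d ∈ Subgroup.centralizer (R : Set J)) :
    c * d = d * c := by
  obtain ⟨v, hv⟩ := exists_ne (0 : E)
  refine commute_of_cyclic_vector R hR v ((hirr _ fun a ha x hx => ?_).resolve_left fun h => hv ?_) hc hd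
  · induction hx using AddSubgroup.closure_induction with
    | mem w hw =>
      obtain ⟨b, hb, rfl⟩ := hw
      exact AddSubgroup.subset_closure ⟨a * b, mul_mem ha hb, mul_smul a b v⟩
    | zero => rw [smul_zero]; exact zero_mem _
    | add x y _ _ hx hy => rw [smul_add]; exact add_mem hx hy
    | neg x _ hx => rw [smul_neg]; exact neg_mem hx
  · exact (AddSubgroup.eq_bot_iff_forall _).1 h v (AddSubgroup.subset_closure ⟨1, one_mem R, one_smul J v⟩)

/-- The fixed vectors of an element. -/
def fix (E : Type*) [AddCommGroup E] [DistribMulAction J E] (a : J) : AddSubgroup E where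
  carrier := {x | a • x = x}
  zero_mem' := smul_zero a
  add_mem' := fun {x y} hx hy => by show a • (x + y) = x + y; rw [smul_add, hx, hy]
  neg_mem' := fun {x} hx => by show a • -x = -x; rw [smul_neg, hx]

/-- Automorphism groups of groups of order dividing 9 are solvable. -/
theorem isSolvable_mulAut_of_card_dvd_nine {Q : Type*} [Group Q] [Finite Q] (hQ : Nat.card Q ∣ 9) :
    Group.IsSolvable (MulAut Q) := by
  have hp : ∀ p : ℕ, p.Prime → p ∣ Nat.card (MulAut Q) → p = 2 ∨ p = 3 := by
    intro p hp hdiv
    haveI := Fact.mk hp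
    by_contra hne
    push Not at hne
    obtain ⟨u, hu⟩ := exists_prime_orderOf_dvd_card' p hdiv
    let H : Subgroup Q :=
      { carrier := {x | u x = x}
        one_mem' := map_one u
        mul_mem' := fun {a b} ha hb => by show u (a * b) = a * b; rw [map_mul, ha, hb]
        inv_mem' := fun {a} ha => by show u a⁻¹ = a⁻¹; rw [map_inv, ha] }
    have hP : IsPGroup p (Subgroup.zpowers u) :=
      IsPGroup.of_card (n := 1) (by rw [Nat.card_zpowers, hu, pow_one])
    have hmod := hP.card_modEq_card_fixedPoints Q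
    have hfix : MulAction.fixedPoints (Subgroup.zpowers u) Q = (H : Set Q) := by
      ext x
      refine ⟨fun h => h ⟨u, Subgroup.mem_zpowers u⟩, fun h g => ?_⟩
      obtain ⟨_, k, rfl⟩ := g
      have : u ∈ MulAction.stabilizer (MulAut Q) x := h
      exact (Subgroup.zpow_mem _ this k : u ^ k ∈ MulAction.stabilizer (MulAut Q) x)
    rw [hfix] at hmod
    have hH : Nat.card H ∣ Nat.card Q := Subgroup.card_subgroup_dvd_card H
    have hne' : Nat.card H ≠ Nat.card Q := fun e => by
      have htop : H = ⊤ := Subgroup.eq_top_of_card_eq H e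
      have : u = 1 := MulEquiv.ext fun x => (show x ∈ H from htop ▸ Subgroup.mem_top x)
      rw [this, orderOf_one] at hu
      exact hp.one_lt.ne hu
    have hle : Nat.card H ≤ Nat.card Q := Nat.le_of_dvd Nat.card_pos hH
    have hd : p ∣ Nat.card Q - Nat.card H := (Nat.modEq_iff_dvd' hle).1 hmod.symm
    have hQ9 : Nat.card Q ≤ 9 := Nat.le_of_dvd (by norm_num) hQ
    have hH9 : Nat.card H ∣ 9 := hH.trans hQ
    have hp5 : 5 ≤ p := by
      have := hp.two_le
      have h4 : p ≠ 4 := fun e => by rw [e] at hp; norm_num at hp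
      omega
    have hQv : Nat.card Q ∈ Nat.divisors 9 := Nat.mem_divisors.2 ⟨hQ, by norm_num⟩
    have hHv : Nat.card H ∈ Nat.divisors 9 := Nat.mem_divisors.2 ⟨hH9, by norm_num⟩
    rw [show Nat.divisors 9 = {1, 3, 9} from by decide] at hQv hHv
    simp only [Finset.mem_insert, Finset.mem_singleton] at hQv hHv
    obtain ⟨k, hk⟩ := hd
    rcases k with _ | _ | k
    · omega
    · rw [zero_add, mul_one] at hk
      have : p = 2 ∨ p = 6 ∨ p = 8 := by omega
      rcases this with rfl | rfl | rfl
      · omega
      · norm_num at hp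
      · norm_num at hp
    · have : 10 ≤ p * (k + 1 + 1) := le_trans (by norm_num) (Nat.mul_le_mul hp5 (show 2 ≤ k + 1 + 1 by omega))
      omega
  refine Cfsg.Agent.S0144.result 2 3 ((Nat.card (MulAut Q)).factorization 2)
    ((Nat.card (MulAut Q)).factorization 3) Nat.prime_two Nat.prime_three ?_
  refine Nat.eq_of_factorization_eq Nat.card_pos.ne' (by positivity) fun q => ?_
  rw [Nat.factorization_mul (by positivity) (by positivity), Finsupp.add_apply,
    Nat.Prime.factorization_pow Nat.prime_two, Nat.Prime.factorization_pow Nat.prime_three]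
  by_cases h2 : q = 2
  · subst h2; simp
  by_cases h3 : q = 3
  · subst h3; simp
  rw [Finsupp.single_eq_of_ne h2, Finsupp.single_eq_of_ne h3, add_zero]
  refine Nat.factorization_eq_zero_iff _ _ |>.2 ?_
  by_cases hq : q.Prime
  · exact Or.inr (Or.inl fun hd => (hp q hq hd).elim h2 h3)
  · exact Or.inl hq

variable [Finite J] [Finite E]

/-- A three-group acting faithfully and irreducibly on 64 points has solvable automorphism group. -/
theorem isSolvable_mulAut_six (hE : ∀ e : E, e + e = 0) (hn : Nat.card E = 64) (R : Subgroup J)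
    (hR : IsPGroup 3 R)
    (hirr : ∀ (M : AddSubgroup E) (a : R), (∀ x ∈ M, (a : J) • x ∈ M) → a ∈ Subgroup.center R →
      orderOf (a : J) = 9 → M = ⊥ ∨ M = ⊤)
    (hcyc : IsCyclic (Subgroup.center R)) : Group.IsSolvable (MulAut R) := by
  haveI : Fact (Nat.Prime 3) := ⟨Nat.prime_three⟩
  haveI : Fact (Nat.Prime 2) := ⟨Nat.prime_two⟩
  haveI : Nontrivial E := Finite.one_lt_card_iff_nontrivial.1 (by omega)
  -- the order of `R` divides 81
  letI : Module (ZMod 2) E := AddCommGroup.zmodModule fun x => by rw [two_nsmul]; exact hE x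
  have hfr : Module.finrank (ZMod 2) E = 6 := by
    have h := Module.natCard_eq_pow_finrank (K := ZMod 2) (V := E)
    rw [hn, Nat.card_zmod] at h
    exact (Nat.pow_right_injective le_rfl (show 2 ^ 6 = 2 ^ _ from h)).symm
  let fo : J →* Module.End (ZMod 2) E :=
    { toFun := fun g => (DistribSMul.toAddMonoidHom E g).toZModLinearMap 2
      map_one' := LinearMap.ext fun x => one_smul J x
      map_mul' := fun a b => LinearMap.ext fun x => mul_smul a b x }
  have hinj : Function.Injective fo.toHomUnits := fun a b h => eq_of_smul_eq_smul fun x : E =>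
    LinearMap.congr_fun (congrArg Units.val h) x
  have h81 : Nat.card R ∣ 81 := by
    have h1 : Nat.card R ∣ Nat.card (GL (Fin 6) (ZMod 2)) := by
      rw [Nat.card_congr (Matrix.GeneralLinearGroup.toLin'
        (Module.finBasisOfFinrankEq (ZMod 2) E hfr)).toEquiv]
      exact Subgroup.card_dvd_of_injective (fo.toHomUnits.comp R.subtype) (hinj.comp R.subtype_injective)
    rw [Matrix.card_GL_field, ZMod.card] at h1
    obtain ⟨k, hk⟩ := hR.exists_card_eq
    rw [hk] at h1 ⊢
    simp only [Fin.prod_univ_six, Fin.val_zero, Fin.val_one, Fin.val_two] at h1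
    norm_num at h1
    have hk5 : k ≤ 4 := by
      by_contra hc
      have h5 : (3 : ℕ) ^ 5 ∣ 20158709760 := (pow_dvd_pow 3 (by omega)).trans h1
      norm_num at h5
    rw [show (81 : ℕ) = 3 ^ 4 by norm_num]
    exact pow_dvd_pow 3 hk5
  by_cases hab : ∀ a ∈ R, ∀ b ∈ R, a * b = b * a
  · have htop : Subgroup.center R = ⊤ := eq_top_iff.2 fun a _ => Subgroup.mem_center_iff.2 fun b =>
      Subtype.ext (hab b b.2 a a.2)
    haveI : IsCyclic R := by
      rw [htop] at hcyc
      exact (Subgroup.topEquiv (G := ↥R)).isCyclic.1 hcyc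
    exact Group.isSolvable_of_comm fun f g => by
      apply MulEquiv.ext
      intro x
      obtain ⟨m, hm⟩ := MonoidHom.map_cyclic f.toMonoidHom
      obtain ⟨k, hk⟩ := MonoidHom.map_cyclic g.toMonoidHom
      simp only [MulEquiv.coe_toMonoidHom] at hm hk
      simp only [MulAut.mul_apply, hm, hk, ← zpow_mul, mul_comm]
  -- nonabelian: the Frattini quotient has order at most 9
  obtain ⟨r, hr⟩ := (frattini R).index_dvd_card.trans h81 |> (Nat.dvd_prime_pow Nat.prime_three (m := 4)).1
  obtain ⟨hrle, hri⟩ := hr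
  have hr2 : r ≤ 2 := by
    by_contra hc
    push Not at hab
    obtain ⟨x, hx, y, hy, hxy⟩ := hab
    obtain ⟨hΦc, hΦp⟩ := Cfsg.Agent.S0012.result 3 hR
    have hΦ3 : Nat.card (frattini R) ∣ 3 := by
      have h := (Subgroup.card_mul_index (frattini R)) ▸ h81
      rw [hri] at h
      obtain ⟨s, hs, hs'⟩ := (Nat.dvd_prime_pow Nat.prime_three).1
        ((dvd_mul_right (Nat.card (frattini R)) (3 ^ r)).trans (show _ ∣ 3 ^ 4 from h))
      rw [hs', ← pow_add] at h
      have := (Nat.pow_dvd_pow_iff_le_right (by norm_num : 1 < 3)).1 (show 3 ^ (s + r) ∣ 3 ^ 4 from h)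
      rw [hs', ← pow_one 3, ← pow_mul, one_mul]
      exact pow_dvd_pow 3 (by omega)
    -- centralisers have index at most 3
    have hidx : ∀ a : R, (Subgroup.centralizer {a}).index ∣ 3 := by
      intro a
      have hcl : Nat.card (MulAction.orbit (ConjAct R) a) ≤ Nat.card (frattini R) := by
        refine Nat.card_le_card_of_injective (fun b => ⟨b.1 * a⁻¹, ?_⟩) fun b b' h =>
          Subtype.ext (mul_right_cancel (congrArg Subtype.val h))
        obtain ⟨g, hg⟩ := b.2
        rw [← hg]
        exact hΦc (Subgroup.commutator_mem_commutator (Subgroup.mem_top _) (Subgroup.mem_top a))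
      rw [← Nat.card_congr (MulAction.orbitEquivQuotientStabilizer (ConjAct R) a).symm] at hcl
      have he : (Subgroup.centralizer {a}).index = Nat.card (ConjAct R ⧸ MulAction.stabilizer (ConjAct R) a) := by
        rw [← Subgroup.index_eq_card, ConjAct.stabilizer_eq_centralizer]
        rfl
      obtain ⟨s, hs, hs'⟩ := (Nat.dvd_prime_pow Nat.prime_three).1
        ((Subgroup.centralizer {a}).index_dvd_card.trans (show Nat.card R ∣ 3 ^ 4 from h81))
      rw [hs'] at he ⊢
      rw [← he] at hcl
      have h3 := hcl.trans (Nat.le_of_dvd (by norm_num) hΦ3)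
      rw [← pow_one 3, ← pow_mul, one_mul]
      exact pow_dvd_pow 3 ((Nat.pow_le_pow_iff_right (by norm_num : 1 < 3)).1 (h3.trans_eq (pow_one 3).symm))
    set a : R := ⟨x, hx⟩
    set b : R := ⟨y, hy⟩
    have hab' : a * b ≠ b * a := fun e => hxy (congrArg Subtype.val e)
    set Ca := Subgroup.centralizer ({a} : Set R)
    set Cb := Subgroup.centralizer ({b} : Set R)
    have haM : a ∉ Cb := fun h => hab' (Subgroup.mem_centralizer_singleton_iff.1 h)
    have hbM : b ∉ Ca := fun h => hab' (Subgroup.mem_centralizer_singleton_iff.1 h).symm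
    set M := Ca ⊓ Cb
    have hR81 : Nat.card R = 81 := by
      have := Subgroup.card_mul_index (frattini R)
      rw [hri] at this
      refine Nat.dvd_antisymm h81 ?_
      rw [← this, show (81 : ℕ) = 3 * 3 ^ 3 by norm_num]
      refine Nat.mul_dvd_mul ?_ (pow_dvd_pow 3 (by omega))
      obtain ⟨s, hs, hs'⟩ := (Nat.dvd_prime_pow Nat.prime_three).1
        ((frattini R).card_subgroup_dvd_card.trans (show Nat.card R ∣ 3 ^ 4 from h81))
      rw [hs']
      refine dvd_pow_self 3 fun e => ?_
      rw [e, pow_zero, Subgroup.card_eq_one] at hs'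
      exact hab' (mul_inv_eq_one.1 (by
        have := hΦc (Subgroup.commutator_mem_commutator (Subgroup.mem_top a) (Subgroup.mem_top b))
        rw [hs', Subgroup.mem_bot, commutatorElement_def] at this
        rw [mul_inv_rev]
        simpa [mul_assoc] using this))
    have hMi : M.index ≤ 9 := (Subgroup.index_inf_le (H := Ca) (K := Cb)).trans
      (Nat.mul_le_mul (Nat.le_of_dvd (by norm_num) (hidx a)) (Nat.le_of_dvd (by norm_num) (hidx b)))
    have hMa : M < Ca := lt_of_le_of_ne inf_le_left fun e => haM ((e ▸ Subgroup.mem_centralizer_singleton_iff.2 rfl : a ∈ M)).2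
    have hCai : Ca.index = 3 := by
      rcases (Nat.dvd_prime Nat.prime_three).1 (hidx a) with h | h
      · exact absurd (show b ∈ Ca by rw [show Ca = ⊤ from Subgroup.index_eq_one.1 h]; trivial) hbM
      · exact h
    have hM9 : M.index = 9 := by
      have h1 := Subgroup.relIndex_mul_index hMa.le
      have h2 : M.relIndex Ca ≠ 1 := fun e => hMa.not_ge (Subgroup.relIndex_eq_one.1 e)
      obtain ⟨s, hs, hs'⟩ := (Nat.dvd_prime_pow Nat.prime_three).1
        (((Subgroup.relIndex_dvd_card M Ca).trans Ca.card_subgroup_dvd_card).trans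
          (show Nat.card R ∣ 3 ^ 4 from h81))
      rcases s with _ | _ | s
      · exact absurd hs' h2
      · rw [← h1, hs', hCai]; norm_num
      · exfalso
        rw [hs', hCai] at h1
        have : 9 ≤ 3 ^ (s + 2) := by
          rw [show (9 : ℕ) = 3 ^ 2 by norm_num]; exact Nat.pow_le_pow_right (by norm_num) (by omega)
        generalize 3 ^ (s + 2) = t at h1 this
        omega
    have hMc : Nat.card M = 3 ^ 2 := by
      have := Subgroup.card_mul_index M
      rw [hM9, hR81] at this
      omega
    have hMcomm : ∀ m ∈ M, ∀ m' ∈ M, m * m' = m' * m := fun m hm m' hm' =>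
      congrArg Subtype.val (IsPGroup.commutative_of_card_eq_prime_sq hMc ⟨m, hm⟩ ⟨m', hm'⟩)
    -- `M` is central
    have hMZ : M ≤ Subgroup.center R := by
      have hall : ∀ m ∈ M, (⊤ : Subgroup R) ≤ Subgroup.centralizer {m} := by
        intro m hm
        have hM' : M ≤ Subgroup.centralizer {m} := fun m' hm' =>
          Subgroup.mem_centralizer_singleton_iff.2 (hMcomm m' hm' m hm)
        have hac : a ∈ Subgroup.centralizer {m} :=
          Subgroup.mem_centralizer_singleton_iff.2 (Subgroup.mem_centralizer_singleton_iff.1 hm.1).symm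
        have hbc : b ∈ Subgroup.centralizer {m} :=
          Subgroup.mem_centralizer_singleton_iff.2 (Subgroup.mem_centralizer_singleton_iff.1 hm.2).symm
        -- a subgroup strictly between would have index 3
        by_contra hne
        have hlt : M < Subgroup.centralizer {m} ⊓ Ca := lt_of_le_of_ne (le_inf hM' inf_le_left) fun e =>
          haM ((e ▸ ⟨hac, Subgroup.mem_centralizer_singleton_iff.2 rfl⟩ : a ∈ M)).2
        have hlt2 : Subgroup.centralizer {m} ⊓ Ca < Subgroup.centralizer {m} := lt_of_le_of_ne inf_le_left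
          fun e => hbM (((SetLike.ext_iff.1 e b).2 hbc)).2
        have e1 := Subgroup.relIndex_mul_index hlt.le
        have e2 := Subgroup.relIndex_mul_index hlt2.le
        have n1 : M.relIndex (Subgroup.centralizer {m} ⊓ Ca) ≠ 1 := fun e => hlt.not_ge (Subgroup.relIndex_eq_one.1 e)
        have n2 : (Subgroup.centralizer {m} ⊓ Ca).relIndex (Subgroup.centralizer {m}) ≠ 1 := fun e =>
          hlt2.not_ge (Subgroup.relIndex_eq_one.1 e)
        have n3 : (Subgroup.centralizer {m}).index ≠ 1 := fun e => hne (Subgroup.index_eq_one.1 e ▸ le_rfl)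
        rw [← e2, hM9] at e1
        rcases (Nat.dvd_prime Nat.prime_three).1 (hidx m) with h | h
        · exact n3 h
        · rw [h, ← mul_assoc] at e1
          have e3 : M.relIndex (Subgroup.centralizer {m} ⊓ Ca) *
              (Subgroup.centralizer {m} ⊓ Ca).relIndex (Subgroup.centralizer {m}) = 3 := by omega
          rcases Nat.prime_mul_iff.1 (e3 ▸ Nat.prime_three) with ⟨-, h'⟩ | ⟨-, h'⟩
          · exact n2 h'
          · exact n1 h'
      exact fun m hm => Subgroup.mem_center_iff.2 fun g =>
        Subgroup.mem_centralizer_singleton_iff.1 (hall m hm (Subgroup.mem_top g))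
    -- a central element of order 9
    haveI := hcyc
    haveI : IsCyclic M :=
      isCyclic_of_injective (Subgroup.inclusion hMZ) (Subgroup.inclusion_injective hMZ)
    obtain ⟨c, hc⟩ := IsCyclic.exists_ofOrder_eq_natCard (α := M)
    rw [hMc] at hc
    have hc9 : orderOf (((c : R) : J)) = 9 := by
      rw [Subgroup.orderOf_coe, Subgroup.orderOf_coe, hc]; norm_num
    have hcyc' : ∀ s ∈ Subgroup.zpowers ((c : R) : J), ∀ t ∈ Subgroup.zpowers ((c : R) : J), s * t = t * s := by
      rintro _ ⟨i, rfl⟩ _ ⟨j, rfl⟩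
      exact (Commute.zpow_zpow_self _ i j).eq
    refine hxy (commute_of_irreducible _ hcyc' (fun N hN => hirr N (c : R)
      (hN _ (Subgroup.mem_zpowers _)) (hMZ c.2) hc9) ?_ ?_)
    all_goals
      refine Subgroup.mem_centralizer_iff.2 ?_
      rintro _ ⟨i, rfl⟩
    · exact (Commute.zpow_left (show Commute ((c : R) : J) x from
        congrArg Subtype.val ((Subgroup.mem_center_iff.1 (hMZ c.2) a).symm)) i).eq
    · exact (Commute.zpow_left (show Commute ((c : R) : J) y from
        congrArg Subtype.val ((Subgroup.mem_center_iff.1 (hMZ c.2) b).symm)) i).eq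
  -- the kernel on the Frattini quotient is a 3-group
  obtain ⟨n, hn'⟩ := hR.exists_card_eq
  haveI : (frattini R).Normal := inferInstance
  let φ : MulAut R →* MulAut (↥R ⧸ frattini R) :=
    { toFun := fun α => QuotientGroup.congr _ _ α (Subgroup.characteristic_iff_map_eq.1 inferInstance α)
      map_one' := by ext q; induction q using QuotientGroup.induction_on; rfl
      map_mul' := fun α β => by ext q; induction q using QuotientGroup.induction_on; rfl }
  haveI : Group.IsSolvable (MulAut (↥R ⧸ frattini R)) := isSolvable_mulAut_of_card_dvd_nine (by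
    rw [← Subgroup.index_eq_card, hri, show (9 : ℕ) = 3 ^ 2 by norm_num]
    exact pow_dvd_pow 3 hr2)
  have hker : IsPGroup 3 φ.ker := by
    have h := Cfsg.Agent.S4207.result (p := 3) hn' hri φ.ker fun α hα z => by
      have e : φ α (z : ↥R ⧸ frattini R) = z := by rw [MonoidHom.mem_ker.1 hα]; rfl
      have e' : ((α z : R) : ↥R ⧸ frattini R) = z := e
      rw [← QuotientGroup.eq_one_iff, QuotientGroup.mk_mul, QuotientGroup.mk_inv, e', mul_inv_cancel]
    obtain ⟨j, -, hj⟩ := (Nat.dvd_prime_pow Nat.prime_three).1 h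
    exact IsPGroup.of_card hj
  haveI := hker.isNilpotent
  exact Group.isSolvable_of_ker_le_range φ.ker.subtype φ (by rw [Subgroup.range_subtype])

/-- A linear group is solvable modulo a normal transitive subgroup. -/
theorem solvable_quotient (hE : ∀ e : E, e + e = 0) (I : Subgroup J) [I.Normal]
    (htr : ∀ a b : E, a ≠ 0 → b ≠ 0 → ∃ i ∈ I, i • a = b) : Group.IsSolvable (J ⧸ I) := by
  haveI : Fact (Nat.Prime 2) := ⟨Nat.prime_two⟩
  have hE2 : IsPGroup 2 (Multiplicative E) := fun x => ⟨1, by
    rw [pow_one, pow_two]; exact hE (Multiplicative.toAdd x)⟩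
  obtain ⟨n, hn⟩ := hE2.exists_card_eq
  have hn : Nat.card E = 2 ^ n := hn
  have hM2 : ∀ M : AddSubgroup E, ∃ m, m ≤ n ∧ Nat.card M = 2 ^ m := fun M =>
    (Nat.dvd_prime_pow Nat.prime_two).1 (hn ▸ AddSubgroup.card_addSubgroup_dvd_card M)
  by_cases hn1 : n ≤ 1
  · have hJ : ∀ g : J, g = 1 := fun g => eq_of_smul_eq_smul fun x : E => by
      rw [one_smul]
      by_cases hx : x = 0
      · rw [hx, smul_zero]
      by_contra hne
      have : Finite E := inferInstance
      have h3 : Nat.card ({0, x, g • x} : Set E) ≤ Nat.card E := Nat.card_le_card_of_injective _ Subtype.val_injective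
      rw [Nat.card_coe_set_eq, Set.ncard_eq_three.2 ⟨0, x, g • x, Ne.symm hx,
        fun e => hx ((smul_eq_zero_iff_eq g).1 e.symm), Ne.symm hne, rfl⟩, hn] at h3
      have : 2 ^ n ≤ 2 ^ 1 := Nat.pow_le_pow_right two_pos hn1
      omega
    haveI : Subsingleton J := ⟨fun a b => (hJ a).trans (hJ b).symm⟩
    infer_instance
  haveI : Nontrivial E := Finite.one_lt_card_iff_nontrivial.1 (by
    rw [hn]; exact Nat.one_lt_two_pow (by omega))
  -- the prime
  obtain ⟨r, e, hr, he, hdiv, hmin, hrest⟩ : ∃ r e : ℕ, r.Prime ∧ 1 ≤ e ∧ r ^ e ∣ 2 ^ n - 1 ∧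
      (∀ m, 0 < m → m < n → ¬ r ^ e ∣ 2 ^ m - 1) ∧ (e = 1 ∨ (r = 3 ∧ e = 2 ∧ n = 6)) := by
    by_cases h6 : n = 6
    · subst h6
      refine ⟨3, 2, Nat.prime_three, by norm_num, by norm_num, fun m h0 hm => ?_, Or.inr ⟨rfl, rfl, rfl⟩⟩
      interval_cases m <;> norm_num
    · obtain ⟨r, hr, hd, hm⟩ := Cfsg.Agent.S2904.result 2 n one_lt_two (by omega) (fun h => h6 h.2) (by
        rintro ⟨-, m, hm⟩
        rcases m with _ | _ | m
        · norm_num at hm
        · norm_num at hm
        · rw [pow_succ, pow_succ] at hm; omega)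
      exact ⟨r, 1, hr, le_rfl, by rwa [pow_one], fun m h0 hmn => by rw [pow_one]; exact hm m h0 hmn, Or.inl rfl⟩
  haveI := Fact.mk hr
  have hr2 : r ≠ 2 := by
    rintro rfl
    have h2 : 2 ∣ 2 ^ n - 1 := (dvd_pow_self 2 (by omega)).trans hdiv
    have h3 : 2 ∣ 2 ^ n := dvd_pow_self 2 (by omega)
    have := Nat.one_le_two_pow (n := n)
    omega
  obtain ⟨R₀⟩ : Nonempty (Sylow r I) := inferInstance
  set R : Subgroup J := (R₀ : Subgroup I).map I.subtype with hRdef
  have hRI : R ≤ I := Subgroup.map_subtype_le _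
  have hRp : IsPGroup r R := R₀.isPGroup'.map I.subtype
  -- orbit lengths
  have horb : ∀ v : E, v ≠ 0 → r ^ e ∣ Nat.card (MulAction.orbit R v) := by
    intro v hv
    have horbI : MulAction.orbit I v = {w | w ≠ 0} := by
      ext w
      refine ⟨fun ⟨i, hi⟩ h0 => hv ?_, fun hw => ?_⟩
      · have hi : (i : J) • v = w := hi
        rwa [h0, smul_eq_zero_iff_eq] at hi
      · obtain ⟨i, hi, he⟩ := htr v w hv hw
        exact ⟨⟨i, hi⟩, he⟩
    have hcI : Nat.card (MulAction.orbit I v) = 2 ^ n - 1 := by
      rw [horbI, Nat.card_coe_set_eq, show {w : E | w ≠ 0} = ({0} : Set E)ᶜ from rfl, Set.ncard_compl,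
        Set.ncard_singleton, hn]
    have e1 : Nat.card (MulAction.orbit I v) * Nat.card (MulAction.stabilizer I v) = Nat.card I := by
      rw [Nat.card_congr (MulAction.orbitEquivQuotientStabilizer I v), ← Subgroup.index_eq_card,
        Subgroup.index_mul_card]
    have e2 : Nat.card (MulAction.orbit R v) * Nat.card (MulAction.stabilizer R v) = Nat.card R := by
      rw [Nat.card_congr (MulAction.orbitEquivQuotientStabilizer R v), ← Subgroup.index_eq_card,
        Subgroup.index_mul_card]
    have e3 : Nat.card (MulAction.stabilizer R v) ∣ Nat.card (MulAction.stabilizer I v) :=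
      Subgroup.card_dvd_of_injective
        (((Subgroup.inclusion hRI).comp (MulAction.stabilizer R v).subtype).codRestrict
          (MulAction.stabilizer I v) fun s => s.2)
        fun s s' h => Subtype.ext (Subgroup.inclusion_injective hRI (congrArg Subtype.val h))
    have e4 : r ^ e * Nat.card (MulAction.stabilizer R v) ∣ Nat.card I := by
      rw [← e1, hcI]; exact Nat.mul_dvd_mul hdiv e3
    obtain ⟨k, hk⟩ := (hRp.to_subgroup (MulAction.stabilizer R v)).exists_card_eq
    rw [hk, ← pow_add] at e4
    have e5 : r ^ (e + k) ∣ Nat.card R := by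
      rw [hRdef, Subgroup.card_map_of_injective I.subtype_injective]
      exact R₀.pow_dvd_card_of_pow_dvd_card e4
    rw [← e2, hk, pow_add] at e5
    exact Nat.dvd_of_mul_dvd_mul_right (pow_pos hr.pos k) e5
  -- invariant subgroups
  have hirr : ∀ M : AddSubgroup E, (∀ a ∈ R, ∀ x ∈ M, a • x ∈ M) → M = ⊥ ∨ M = ⊤ := by
    intro M hM
    obtain ⟨m, hmn, hm⟩ := hM2 M
    rcases Nat.eq_zero_or_pos m with rfl | hm0
    · exact Or.inl (AddSubgroup.eq_bot_of_card_eq _ (by rw [hm, pow_zero]))
    rcases hmn.lt_or_eq with hlt | rfl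
    · exfalso
      refine hmin m hm0 hlt ?_
      letI : MulAction R {x : E // x ∈ M ∧ x ≠ 0} :=
        { smul := fun a x => ⟨(a : J) • (x : E), hM a a.2 x x.2.1, (smul_ne_zero_iff_ne _).2 x.2.2⟩
          one_smul := fun x => Subtype.ext (one_smul J (x : E))
          mul_smul := fun a b x => Subtype.ext (mul_smul (a : J) (b : J) (x : E)) }
      have hcard : Nat.card {x : E // x ∈ M ∧ x ≠ 0} = 2 ^ m - 1 := by
        rw [show Nat.card {x : E // x ∈ M ∧ x ≠ 0} = ((M : Set E) \ {0}).ncard from
          (Nat.card_coe_set_eq _).symm ▸ rfl, Set.ncard_sdiff (by simp), Set.ncard_singleton,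
          ← Nat.card_coe_set_eq]
        exact congrArg (· - 1) hm
      rw [← hcard, Nat.card_congr (MulAction.selfEquivSigmaOrbits R {x : E // x ∈ M ∧ x ≠ 0})]
      haveI := Fintype.ofFinite (MulAction.orbitRel.Quotient R {x : E // x ∈ M ∧ x ≠ 0})
      rw [Nat.card_sigma]
      refine Finset.dvd_sum fun q _ => ?_
      obtain ⟨x, rfl⟩ := Quotient.exists_rep q
      have himg : (Subtype.val '' MulAction.orbit R (Quotient.out (⟦x⟧ : MulAction.orbitRel.Quotient R _))) =
          MulAction.orbit R ((Quotient.out (⟦x⟧ : MulAction.orbitRel.Quotient R {x : E // x ∈ M ∧ x ≠ 0})).1) := by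
        ext w
        exact ⟨fun ⟨_, ⟨a, rfl⟩, h⟩ => ⟨a, h⟩, fun ⟨a, h⟩ => ⟨_, ⟨a, rfl⟩, h⟩⟩
      rw [← Nat.card_image_of_injective Subtype.val_injective, himg]
      exact horb _ (Quotient.out (⟦x⟧ : MulAction.orbitRel.Quotient R {x : E // x ∈ M ∧ x ≠ 0})).2.2
    · exact Or.inr (AddSubgroup.eq_top_of_card_eq _ (hm.trans hn.symm))
  -- abelian `R` is cyclic
  have hcyclic : ∀ A : Subgroup J, IsPGroup r A → (∀ a ∈ A, a ≠ 1 → ∀ v : E, a • v = v → v = 0) → IsCyclic A := by
    intro A hA hfree
    refine (Cfsg.Agent.S1160.result (P := A) (E := E) hr2 hA Nat.prime_two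
      (fun v => by rw [two_nsmul]; exact hE v) fun u v hu hv => ?_).1
    have hs : ∀ w : E, w ≠ 0 → MulAction.stabilizer A w = ⊥ := fun w hw => by
      refine (Subgroup.eq_bot_iff_forall _).2 fun a ha => ?_
      by_contra hne
      exact hw (hfree a a.2 (fun e => hne (Subtype.ext e)) w ha)
    rw [hs u hu, hs v hv]
  -- fixed vectors of central elements of `R`
  have hZfree : ∀ a ∈ R, a ∈ Subgroup.centralizer (R : Set J) → a ≠ 1 → ∀ v : E, a • v = v → v = 0 := by
    intro a _ haC hne v hv
    rcases hirr (fix E a) (fun b hb x (hx : a • x = x) => by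
      show a • b • x = b • x
      rw [smul_smul, ← Subgroup.mem_centralizer_iff.1 haC b hb, mul_smul, hx]) with h | h
    · exact (AddSubgroup.eq_bot_iff_forall _).1 h v hv
    · exfalso
      refine hne (eq_of_smul_eq_smul fun x : E => ?_)
      rw [one_smul]
      exact (h ▸ AddSubgroup.mem_top x : x ∈ fix E a)
  set Z : Subgroup J := R ⊓ Subgroup.centralizer (R : Set J)
  have hZcyc : IsCyclic Z :=
    hcyclic Z (hRp.to_le inf_le_left) fun a ha hne => hZfree a ha.1 ha.2 hne
  -- the centraliser of `R` has odd order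
  have hCodd : Odd (Nat.card (Subgroup.centralizer (R : Set J))) := by
    obtain ⟨v, hv⟩ := exists_ne (0 : E)
    by_contra hev
    obtain ⟨⟨t, htC⟩, ht⟩ := exists_prime_orderOf_dvd_card' (G := Subgroup.centralizer (R : Set J)) 2
      (even_iff_two_dvd.1 (Nat.not_odd_iff_even.1 hev))
    rw [Subgroup.orderOf_mk] at ht
    have hw : t • (t • v + v) = t • v + v := by
      rw [smul_add, smul_smul, ← pow_two, ← ht, pow_orderOf_eq_one, one_smul, add_comm]
    rcases hirr (fix E t) (fun b hb x (hx : t • x = x) => by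
      show t • b • x = b • x
      rw [smul_smul, ← Subgroup.mem_centralizer_iff.1 htC b hb, mul_smul, hx]) with h | h
    · have h0 := (AddSubgroup.eq_bot_iff_forall _).1 h _ hw
      have : t • v = v := by
        calc t • v = t • v + v + v := by rw [add_assoc, hE, add_zero]
          _ = v := by rw [h0, zero_add]
      exact hv ((AddSubgroup.eq_bot_iff_forall _).1 h v this)
    · have : t = 1 := eq_of_smul_eq_smul fun x : E => by
        rw [one_smul]; exact (h ▸ AddSubgroup.mem_top x : x ∈ fix E t)
      rw [this, orderOf_one] at ht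
      omega
  haveI : Group.IsSolvable (Subgroup.centralizer (R : Set J)) := Cfsg.Agent.S0205.result hCodd
  -- the automorphisms of `R`
  haveI : Group.IsSolvable (MulAut R) := by
    have habcyc : (∀ a ∈ R, ∀ b ∈ R, a * b = b * a) → Group.IsSolvable (MulAut R) := fun hab => by
      haveI : IsCyclic R := hcyclic R hRp fun a ha hne => hZfree a ha
        (Subgroup.mem_centralizer_iff.2 fun b hb => hab b hb a ha) hne
      exact Group.isSolvable_of_comm fun f g => by
        apply MulEquiv.ext
        intro x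
        obtain ⟨m, hm⟩ := MonoidHom.map_cyclic f.toMonoidHom
        obtain ⟨k, hk⟩ := MonoidHom.map_cyclic g.toMonoidHom
        simp only [MulEquiv.coe_toMonoidHom] at hm hk
        simp only [MulAut.mul_apply, hm, hk, ← zpow_mul, mul_comm]
    rcases hrest with rfl | ⟨rfl, rfl, rfl⟩
    · -- Zsigmondy prime: semiregular, hence cyclic
      refine habcyc ?_
      haveI : IsCyclic R := hcyclic R hRp fun a ha hne v hv => by
        by_contra hv0
        obtain ⟨m, hmn, hm⟩ := hM2 (fix E a)
        have hA : IsPGroup r (Subgroup.zpowers a) := hRp.to_le (Subgroup.zpowers_le.2 ha)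
        have hmod := hA.card_modEq_card_fixedPoints E
        have hfix : MulAction.fixedPoints (Subgroup.zpowers a) E = (fix E a : Set E) := by
          ext x
          refine ⟨fun h => h ⟨a, Subgroup.mem_zpowers a⟩, fun h g => ?_⟩
          obtain ⟨_, k, rfl⟩ := g
          have : a ∈ MulAction.stabilizer J x := h
          exact (Subgroup.zpow_mem _ this k : a ^ k ∈ MulAction.stabilizer J x)
        rw [hfix, show Nat.card (fix E a : Set E) = 2 ^ m from hm, hn] at hmod
        have h := (Nat.modEq_iff_dvd' (Nat.pow_le_pow_right two_pos hmn)).1 hmod.symm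
        rw [show 2 ^ n - 2 ^ m = 2 ^ m * (2 ^ (n - m) - 1) by
          rw [Nat.mul_sub, mul_one, ← pow_add, Nat.add_sub_cancel' hmn]] at h
        have h' := (Nat.Coprime.dvd_mul_left (Nat.Coprime.pow_right m
          ((Nat.coprime_primes hr Nat.prime_two).2 hr2))).1 h
        rcases Nat.eq_zero_or_pos m with rfl | hm0
        · exact hv0 ((AddSubgroup.eq_bot_iff_forall _).1 (AddSubgroup.eq_bot_of_card_eq _ (by rw [hm, pow_zero])) v hv)
        rcases hmn.lt_or_eq with hlt | rfl
        · exact hmin (n - m) (by omega) (by omega) (by rwa [pow_one])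
        · refine hne (eq_of_smul_eq_smul fun x : E => ?_)
          rw [one_smul]
          exact ((AddSubgroup.eq_top_of_card_eq _ (hm.trans hn.symm)) ▸ AddSubgroup.mem_top x : x ∈ fix E a)
      intro a ha b hb
      letI := IsCyclic.commGroup (α := R)
      exact congrArg Subtype.val (mul_comm (⟨a, ha⟩ : R) ⟨b, hb⟩)
    · refine isSolvable_mulAut_six hE (by rw [hn]; norm_num) R hRp (fun M a hM haR ha9 => ?_) ?_
      · obtain ⟨m, hmn, hm⟩ := hM2 M
        rcases Nat.eq_zero_or_pos m with rfl | hm0
        · exact Or.inl (AddSubgroup.eq_bot_of_card_eq _ (by rw [hm, pow_zero]))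
        rcases hmn.lt_or_eq with hlt | rfl
        swap
        · exact Or.inr (AddSubgroup.eq_top_of_card_eq _ (hm.trans hn.symm))
        exfalso
        refine hmin m hm0 hlt ?_
        have hMz : ∀ k : ℕ, ∀ x ∈ M, (a : J) ^ k • x ∈ M := by
          intro k
          induction k with
          | zero => intro x hx; rwa [pow_zero, one_smul]
          | succ k ih => intro x hx; rw [pow_succ', mul_smul]; exact hM _ (ih x hx)
        have hMA : ∀ g : Subgroup.zpowers (a : J), ∀ x ∈ M, (g : J) • x ∈ M := fun g x hx => by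
          obtain ⟨k, hk⟩ := mem_powers_iff_mem_zpowers.2 g.2
          rw [← hk]; exact hMz k x hx
        letI : MulAction (Subgroup.zpowers (a : J)) {x : E // x ∈ M ∧ x ≠ 0} :=
          { smul := fun g x => ⟨(g : J) • (x : E), hMA g x x.2.1, (smul_ne_zero_iff_ne _).2 x.2.2⟩
            one_smul := fun x => Subtype.ext (one_smul J (x : E))
            mul_smul := fun g g' x => Subtype.ext (mul_smul (g : J) (g' : J) (x : E)) }
        have haC : (a : J) ∈ Subgroup.centralizer (R : Set J) := Subgroup.mem_centralizer_iff.2 fun b hb =>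
          congrArg Subtype.val (Subgroup.mem_center_iff.1 haR ⟨b, hb⟩)
        have hstab : ∀ x : {x : E // x ∈ M ∧ x ≠ 0}, MulAction.stabilizer (Subgroup.zpowers (a : J)) x = ⊥ := by
          intro x
          refine (Subgroup.eq_bot_iff_forall _).2 fun g hg => ?_
          by_contra hne
          exact x.2.2 (hZfree g ((Subgroup.zpowers_le.2 a.2) g.2) ((Subgroup.zpowers_le.2 haC) g.2)
            (fun e => hne (Subtype.ext e)) x (congrArg Subtype.val hg))
        have hcard : Nat.card {x : E // x ∈ M ∧ x ≠ 0} = 2 ^ m - 1 := by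
          rw [show Nat.card {x : E // x ∈ M ∧ x ≠ 0} = ((M : Set E) \ {0}).ncard from
            (Nat.card_coe_set_eq _).symm ▸ rfl, Set.ncard_sdiff (by simp), Set.ncard_singleton,
            ← Nat.card_coe_set_eq]
          exact congrArg (· - 1) hm
        rw [← hcard, Nat.card_congr (MulAction.selfEquivOrbitsQuotientProd hstab), Nat.card_prod,
          Nat.card_zpowers, ha9]
        exact dvd_mul_left 9 _
      · haveI := hZcyc
        exact isCyclic_of_injective ((R.subtype.comp (Subgroup.center R).subtype).codRestrict Z fun z =>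
          ⟨z.1.2, Subgroup.mem_centralizer_iff.2 fun b hb =>
            congrArg Subtype.val (Subgroup.mem_center_iff.1 z.2 ⟨b, hb⟩)⟩)
          fun z z' h => Subtype.ext (Subtype.ext (congrArg (fun w : Z => (w : J)) h))
  -- the normaliser
  set Nr := Subgroup.normalizer (R : Set J)
  let φ : Nr →* MulAut R := R.normalizerMonoidHom
  haveI : Group.IsSolvable φ.ker := Group.isSolvable_of_isSolvable_injective
    (f := (Nr.subtype.comp φ.ker.subtype).codRestrict (Subgroup.centralizer (R : Set J)) fun g => by
      have hg := g.2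
      have e : φ.ker = (Subgroup.centralizer (R : Set J)).subgroupOf Nr := Subgroup.normalizerMonoidHom_ker R
      exact Subgroup.mem_subgroupOf.1 ((SetLike.ext_iff.1 e _).1 hg))
    fun g g' h => Subtype.ext (Subtype.ext (congrArg (fun w : Subgroup.centralizer (R : Set J) => (w : J)) h))
  haveI : Group.IsSolvable Nr := Group.isSolvable_of_ker_le_range φ.ker.subtype φ (by rw [Subgroup.range_subtype])
  refine Group.isSolvable_of_surjective (f := (QuotientGroup.mk' I).comp Nr.subtype) fun q => ?_
  obtain ⟨g, rfl⟩ := QuotientGroup.mk'_surjective I q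
  have hg : g ∈ Nr ⊔ I := (Sylow.normalizer_sup_eq_top R₀).symm ▸ Subgroup.mem_top g
  rw [sup_comm, Subgroup.mem_sup_of_normal_left] at hg
  obtain ⟨i, hi, w, hw, rfl⟩ := hg
  exact ⟨⟨w, hw⟩, by simp [(QuotientGroup.eq_one_iff i).2 hi]⟩

end Cfsg.Agent.TransAut
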