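import Mathlib
import Cfsg.Prelude.Def_FusionSystem

/-!
# Realization of a fusion system by a virtually free group

The group is the fundamental group of a graph of groups with one vertex, realized inside
`FreeGroup E ⋊ Equiv.Perm S`, `E` being the edges of the associated finite graph.
-/

namespace Cfsg.Agent.TreeReal

universe u

section Words

open FreeGroup

variable {α : Type u} [DecidableEq α]

theorem norm_mul_parity (x y : FreeGroup α) :
    FreeGroup.norm (x * y) % 2 = (FreeGroup.norm x + FreeGroup.norm y) % 2 := by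
  have h : Red (x.toWord ++ y.toWord) (x * y).toWord := by
    rw [toWord_mul]; exact reduce.red
  obtain ⟨n, hn⟩ := Red.length h
  simp only [List.length_append] at hn
  simp only [FreeGroup.norm]
  omega

theorem toWord_mul_of_norm (x y : FreeGroup α) (h : FreeGroup.norm (x * y) = FreeGroup.norm x + FreeGroup.norm y) :
    (x * y).toWord = x.toWord ++ y.toWord :=
  (toWord_mul_sublist x y).eq_of_length (by simpa [FreeGroup.norm] using h)

theorem toWord_mk_of_isReduced {L : List (α × Bool)} (h : FreeGroup.IsReduced L) : (mk L).toWord = L := by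
  rw [toWord_mk, h.reduce_eq]

theorem isReduced_invRev_append (a : List (α × Bool)) (b : List (α × Bool))
    (ha : FreeGroup.IsReduced a) (hb : FreeGroup.IsReduced b)
    (hne : ∀ x y a' b', a = x :: a' → b = y :: b' → x ≠ y) :
    FreeGroup.IsReduced (invRev a ++ b) := by
  have hinv : FreeGroup.IsReduced (invRev a) := by
    apply FreeGroup.IsReduced.of_reduce_eq
    rw [reduce_invRev, ha.reduce_eq]
  unfold FreeGroup.IsReduced at *
  rw [List.isChain_append]
  refine ⟨hinv, hb, ?_⟩
  intro p hp q hq heq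
  cases a with
  | nil => simp [invRev] at hp
  | cons x a' =>
    cases b with
    | nil => simp at hq
    | cons y b' =>
      simp only [List.head?_cons, Option.mem_def, Option.some.injEq] at hq
      subst hq
      simp [invRev] at hp
      subst hp
      have hxy := hne x y a' b' rfl rfl
      obtain ⟨x1, x2⟩ := x
      obtain ⟨y1, y2⟩ := y
      simp only at heq ⊢
      subst heq
      simp only [ne_eq, Prod.mk.injEq, true_and] at hxy
      cases x2 <;> cases y2 <;> simp_all

/-- Split two reduced words at their longest common prefix. -/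
theorem split_common : ∀ (A B : List (α × Bool)), FreeGroup.IsReduced A → FreeGroup.IsReduced B →
    ∃ P A' B', A = P ++ A' ∧ B = P ++ B' ∧ FreeGroup.norm ((mk A)⁻¹ * mk B) = A'.length + B'.length
  | [], B, _, hB => ⟨[], [], B, rfl, rfl, by
      simp [FreeGroup.norm, ← one_eq_mk, toWord_mk_of_isReduced hB, -toWord_mk]⟩
  | (x :: A), [], hA, _ => ⟨[], x :: A, [], rfl, rfl, by
      rw [← one_eq_mk, mul_one, norm_inv_eq, FreeGroup.norm, toWord_mk_of_isReduced hA,
        List.length_nil, Nat.add_zero]⟩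
  | (x :: A), (y :: B), hA, hB => by
      by_cases hxy : x = y
      · subst hxy
        obtain ⟨P, A', B', h1, h2, h3⟩ :=
          split_common A B (hA.infix (List.suffix_cons x A).isInfix)
            (hB.infix (List.suffix_cons x B).isInfix)
        refine ⟨x :: P, A', B', by simp [h1], by simp [h2], ?_⟩
        rw [← h3]
        congr 1
        have e1 : mk (x :: A) = mk [x] * mk A := by rw [mul_mk]; rfl
        have e2 : mk (x :: B) = mk [x] * mk B := by rw [mul_mk]; rfl
        rw [e1, e2]; group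
      · refine ⟨[], x :: A, y :: B, rfl, rfl, ?_⟩
        have hr : FreeGroup.IsReduced (invRev (x :: A) ++ (y :: B)) :=
          isReduced_invRev_append _ _ hA hB (by
            intro a b a' b' ha hb
            simp only [List.cons.injEq] at ha hb
            rw [← ha.1, ← hb.1]; exact hxy)
        rw [inv_mk, mul_mk, FreeGroup.norm, toWord_mk_of_isReduced hr, List.length_append,
          invRev_length]

theorem norm_prefix_le {n j : ℕ} (w u : FreeGroup α) (hw : FreeGroup.norm w = n) (hu : FreeGroup.norm u ≤ n)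
    (hd : FreeGroup.norm (w⁻¹ * u) ≤ n) (hj : j ≤ n) :
    FreeGroup.norm ((mk (w.toWord.take j))⁻¹ * u) ≤ max j (n - j) := by
  obtain ⟨P, A', B', h1, h2, h3⟩ :=
    split_common w.toWord u.toWord isReduced_toWord isReduced_toWord
  rw [mk_toWord, mk_toWord] at h3
  have hwl : P.length + A'.length = n := by
    rw [← hw, FreeGroup.norm, h1, List.length_append]
  have hul : P.length + B'.length ≤ n := by
    rw [FreeGroup.norm, h2, List.length_append] at hu; exact hu
  rw [← mk_toWord (x := u), h2, h1]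
  rcases le_total j P.length with hp | hp
  · rw [List.take_append_of_le_length hp]
    have e : P ++ B' = P.take j ++ (P.drop j ++ B') := by
      rw [← List.append_assoc, List.take_append_drop]
    rw [e, ← mul_mk, inv_mul_cancel_left]
    refine norm_mk_le.trans ?_
    simp only [List.length_append, List.length_drop]
    omega
  · rw [List.take_append, List.take_of_length_le hp, ← mul_mk, ← mul_mk, mul_inv_rev]
    calc FreeGroup.norm ((mk (A'.take (j - P.length)))⁻¹ * (mk P)⁻¹ * (mk P * mk B'))
        = FreeGroup.norm ((mk (A'.take (j - P.length)))⁻¹ * mk B') := by congr 1; group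
      _ ≤ FreeGroup.norm (mk (A'.take (j - P.length)))⁻¹ + FreeGroup.norm (mk B') := norm_mul_le _ _
      _ ≤ (j - P.length) + B'.length := by
          rw [norm_inv_eq]
          exact add_le_add (norm_mk_le.trans (List.length_take_le _ _)) norm_mk_le
      _ ≤ max j (n - j) := by omega

/-- A finite group of isometries of a free group that flips no edge fixes a prefix of an orbit
point of `1`. -/
theorem exists_fixed_prefix {H : Type*} [Group H] [Finite H]
    (T : H → FreeGroup α → FreeGroup α)
    (hmul : ∀ h k v, T (h * k) v = T h (T k v)) (hone : ∀ v, T 1 v = v)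
    (hdist : ∀ h u v, FreeGroup.norm ((T h u)⁻¹ * T h v) = FreeGroup.norm (u⁻¹ * v))
    (hflip : ∀ h a b, FreeGroup.norm (a⁻¹ * b) = 1 → T h a = b → T h b = a → False) :
    ∃ (c : FreeGroup α) (h : H), c.toWord <+: (T h 1).toWord ∧ ∀ k, T k c = c := by
  obtain ⟨h0, hmax⟩ := Finite.exists_max (fun h : H => FreeGroup.norm (T h 1))
  set w := T h0 1 with hw
  set n := FreeGroup.norm w with hn
  have hinv : ∀ k v, T k⁻¹ (T k v) = v := fun k v => by rw [← hmul, inv_mul_cancel, hone]
  have hd : ∀ i j : H, FreeGroup.norm ((T i 1)⁻¹ * T j 1) ≤ n := by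
    intro i j
    rw [← hdist i⁻¹, hinv, ← hmul, inv_one, one_mul]
    exact hmax _
  set m := n / 2 with hm
  set m' := n - m with hm'
  have hrad : ∀ j, m ≤ j → j ≤ m' → ∀ k, FreeGroup.norm ((T k 1)⁻¹ * mk (w.toWord.take j)) ≤ m' := by
    intro j hj1 hj2 k
    rw [← norm_inv_eq, mul_inv_rev, inv_inv]
    have h := norm_prefix_le (n := n) (j := j) w (T k 1) rfl (hmax k) (hd _ _) (by omega)
    omega
  have hmem : ∀ v, (∀ k, FreeGroup.norm ((T k 1)⁻¹ * v) ≤ m') →
      v = mk (w.toWord.take m) ∨ v = mk (w.toWord.take m') := by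
    intro v hv
    have h1 := hv 1
    rw [hone, inv_one, one_mul] at h1
    have h2 := hv h0
    rw [← norm_inv_eq, mul_inv_rev, inv_inv, ← hw] at h2
    have h3 := norm_mul_le v (v⁻¹ * w)
    have h4 := norm_mul_parity v (v⁻¹ * w)
    rw [mul_inv_cancel_left, ← hn] at h3 h4
    have h5 : FreeGroup.norm v + FreeGroup.norm (v⁻¹ * w) = n := by omega
    have h6 := toWord_mul_of_norm v (v⁻¹ * w) (by rw [mul_inv_cancel_left, ← hn, h5])
    rw [mul_inv_cancel_left] at h6
    have h7 : v = mk (w.toWord.take (FreeGroup.norm v)) := by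
      rw [h6, FreeGroup.norm, List.take_left, mk_toWord]
    rcases (show FreeGroup.norm v = m ∨ FreeGroup.norm v = m' by omega) with h8 | h8 <;> rw [h8] at h7
    · exact Or.inl h7
    · exact Or.inr h7
  have hmove : ∀ (k : H) v, (∀ j, FreeGroup.norm ((T j 1)⁻¹ * v) ≤ m') →
      ∀ j, FreeGroup.norm ((T j 1)⁻¹ * T k v) ≤ m' := by
    intro k v hv j
    rw [← hdist k⁻¹, hinv, ← hmul]
    exact hv _
  have hc := hrad m le_rfl (by omega)
  have hc' := hrad m' (by omega) le_rfl
  refine ⟨mk (w.toWord.take m), h0, ?_, fun k => ?_⟩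
  · rw [toWord_mk_of_isReduced (isReduced_toWord.infix (List.take_prefix _ _).isInfix)]
    exact List.take_prefix _ _
  rcases hmem _ (hmove k _ hc) with h | h
  · exact h
  by_cases hmm : m = m'
  · rw [hmm] at h ⊢; exact h
  rcases hmem _ (hmove k _ hc') with h' | h'
  · exfalso
    refine hflip k _ _ ?_ h h'
    have hm1 : m' = m + 1 := by omega
    have hlen : m < w.toWord.length := by
      simp only [hn, FreeGroup.norm] at hm hm' ⊢; omega
    rw [hm1, List.take_add_one, ← mul_mk, inv_mul_cancel_left,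
      List.getElem?_eq_getElem hlen, Option.toList_some, FreeGroup.norm,
      toWord_mk_of_isReduced FreeGroup.IsReduced.singleton]
    rfl
  · have := congrArg (T k⁻¹) (h.trans h'.symm)
    rw [hinv, hinv] at this
    rw [← this] at h
    exact h

theorem toWord_freeGroupCongr {β : Type u} [DecidableEq β] (e : α ≃ β) (x : FreeGroup α) :
    (freeGroupCongr e x).toWord = x.toWord.map (fun l => (e l.1, l.2)) := by
  conv_lhs => rw [← mk_toWord (x := x)]
  change (FreeGroup.map e (mk x.toWord)).toWord = _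
  rw [map.mk, toWord_mk_of_isReduced]
  unfold FreeGroup.IsReduced
  rw [List.isChain_map]
  exact (isReduced_toWord (x := x)).imp (fun a b h hab => h (e.injective hab))

end Words

theorem exists_perm_intertwine {T : Type u} [Group T] [Finite T] (A : Subgroup T) (f : A →* T)
    (hf : Function.Injective f) :
    ∃ σ : Equiv.Perm T, ∀ (x : A) (y : T), σ ((x : T) * y) = f x * σ y := by
  classical
  let e : ∀ A : Subgroup T, T ≃ (T ⧸ A) × A := fun A =>
    { toFun := fun g => (g, ⟨(g : T ⧸ A).out⁻¹ * g, QuotientGroup.eq.1 (QuotientGroup.out_eq' _)⟩)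
      invFun := fun p => p.1.out * (p.2 : T)
      left_inv := fun g => by simp
      right_inv := fun p => by
        have h1 : ((p.1.out * (p.2 : T) : T) : T ⧸ A) = p.1 := by
          rw [QuotientGroup.mk_mul_of_mem _ p.2.2, QuotientGroup.out_eq']
        refine Prod.ext h1 (Subtype.ext ?_)
        simp only [h1, inv_mul_cancel_left] }
  have hidx : A.index = f.range.index := by
    have h1 := A.card_mul_index
    have h2 := f.range.card_mul_index
    rw [← Nat.card_congr (MonoidHom.ofInjective hf).toEquiv] at h2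
    exact Nat.eq_of_mul_eq_mul_left Nat.card_pos (h1.trans h2.symm)
  obtain ⟨π⟩ : Nonempty ((T ⧸ A) ≃ (T ⧸ f.range)) := by
    refine Finite.card_eq.1 ?_
    exact hidx
  refine ⟨(Equiv.inv T).trans ((e A).trans ((π.prodCongr (MonoidHom.ofInjective hf).toEquiv).trans
    ((e f.range).symm.trans (Equiv.inv T)))), fun x y => ?_⟩
  have hq : ((y⁻¹ * (x : T)⁻¹ : T) : T ⧸ A) = (y⁻¹ : T) :=
    QuotientGroup.mk_mul_of_mem _ (A.inv_mem x.2)
  have key : e A ((x : T) * y)⁻¹ = ((e A y⁻¹).1, (e A y⁻¹).2 * x⁻¹) := by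
    refine Prod.ext ?_ (Subtype.ext ?_)
    · simp only [e, Equiv.coe_fn_mk, mul_inv_rev, hq]
    · simp only [e, Equiv.coe_fn_mk, mul_inv_rev, hq, Subgroup.coe_mul, Subgroup.coe_inv]
      group
  simp only [Equiv.trans_apply, Equiv.inv_apply, key]
  simp only [e, Equiv.prodCongr_apply, Prod.map, Equiv.coe_fn_symm_mk, MulEquiv.toEquiv_eq_coe,
    EquivLike.coe_coe, map_mul, map_inv, Subgroup.coe_mul, Subgroup.coe_inv, mul_inv_rev, inv_inv,
    MonoidHom.ofInjective_apply]
  group

section Tree

open FreeGroup (toWord_one toWord_mul toWord_inv toWord_of freeGroupCongr freeGroupCongr_refl freeGroupCongr_trans)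

variable {Ω : Type u} [Group Ω] {S : Subgroup Ω} (F : Cfsg.FusionSystem S)

/-- The maps of the system. -/
abbrev Idx := {p : (Σ P : Subgroup Ω, (P →* Ω)) // p.2 ∈ F.Hom p.1}

/-- A map of the system as a map into `S`. -/
def phiS (i : Idx F) : (i.1.1.subgroupOf S) →* S where
  toFun x := ⟨i.1.2 ⟨((x : S) : Ω), x.2⟩, (F.le_of_mem i.2).2 _⟩
  map_one' := Subtype.ext (show i.1.2 _ = (1 : Ω) from map_one i.1.2)
  map_mul' x y := Subtype.ext (by
    simp only [Subgroup.coe_mul]
    exact map_mul i.1.2 ⟨((x : S) : Ω), x.2⟩ ⟨((y : S) : Ω), y.2⟩)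

theorem phiS_injective (i : Idx F) : Function.Injective (phiS F i) := by
  intro x y h
  have h2 := F.injective_of_mem i.2 (congrArg Subtype.val h)
  have h3 : ((x : S) : Ω) = ((y : S) : Ω) := congrArg (fun z : i.1.1 => (z : Ω)) h2
  exact Subtype.ext (Subtype.ext h3)

variable (S) in
/-- The left regular representation of `S`. -/
def lreg : S →* Equiv.Perm S := MulAction.toPermHom S S

omit F in
theorem lreg_injective : Function.Injective (lreg S) := fun a b h => by
  simpa [lreg] using congrFun (congrArg DFunLike.coe h) 1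

variable [Finite S]

/-- A permutation of `S` inducing the map. -/
noncomputable def sig (i : Idx F) : Equiv.Perm S :=
  (exists_perm_intertwine (i.1.1.subgroupOf S) (phiS F i) (phiS_injective F i)).choose

theorem sig_mul (i : Idx F) (x : i.1.1.subgroupOf S) :
    sig F i * lreg S x = lreg S (phiS F i x) * sig F i :=
  Equiv.ext fun y =>
    (exists_perm_intertwine (i.1.1.subgroupOf S) (phiS F i) (phiS_injective F i)).choose_spec x y

theorem sig_conj (i : Idx F) (x : i.1.1.subgroupOf S) :
    sig F i * lreg S x * (sig F i)⁻¹ = lreg S (phiS F i x) := by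
  rw [sig_mul, mul_inv_cancel_right]

/-- The edge group. -/
abbrev edgeGroup (i : Idx F) : Subgroup (Equiv.Perm S) := (phiS F i).range.map (lreg S)

/-- The edges. -/
abbrev Edge := Σ i : Idx F, Equiv.Perm S ⧸ edgeGroup F i

variable (S) in
/-- The vertices. -/
abbrev Vtx := Equiv.Perm S ⧸ (lreg S).range

variable (S) in
/-- The base vertex. -/
def v0 : Vtx S := ((1 : Equiv.Perm S) : Vtx S)

omit F [Finite S] in
theorem smul_v0 (q : Equiv.Perm S) : q • v0 S = (q : Vtx S) := by
  simp [v0, MulAction.Quotient.smul_mk]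

omit F [Finite S] in
theorem smul_v0_eq_iff {q r : Equiv.Perm S} :
    q • v0 S = r • v0 S ↔ ∃ s : S, r = q * lreg S s := by
  rw [smul_v0, smul_v0, QuotientGroup.eq]
  constructor
  · rintro ⟨s, hs⟩; exact ⟨s, by rw [hs, mul_inv_cancel_left]⟩
  · rintro ⟨s, hs⟩; exact ⟨s, by rw [hs, inv_mul_cancel_left]⟩

/-- The source of an edge. -/
def src (e : Edge F) : Vtx S :=
  Quotient.liftOn' e.2 (fun q => q • v0 S) (by
    intro a b h
    rw [QuotientGroup.leftRel_apply] at h
    obtain ⟨z, -, hz⟩ := Subgroup.mem_map.1 h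
    rw [smul_v0_eq_iff]
    exact ⟨z, by rw [hz, mul_inv_cancel_left]⟩)

/-- The target of an edge. -/
noncomputable def tgt (e : Edge F) : Vtx S :=
  Quotient.liftOn' e.2 (fun q => (q * sig F e.1) • v0 S) (by
    intro a b h
    rw [QuotientGroup.leftRel_apply] at h
    obtain ⟨z, ⟨x, hx⟩, hz⟩ := Subgroup.mem_map.1 h
    rw [smul_v0_eq_iff]
    refine ⟨(x : S), ?_⟩
    rw [mul_assoc, sig_mul, hx, hz]
    group)

theorem src_mk (i : Idx F) (q : Equiv.Perm S) : src F ⟨i, (q : _ ⧸ edgeGroup F i)⟩ = q • v0 S :=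
  rfl

theorem tgt_mk (i : Idx F) (q : Equiv.Perm S) :
    tgt F ⟨i, (q : _ ⧸ edgeGroup F i)⟩ = (q * sig F i) • v0 S := rfl

/-- The permutation of the edges by an element. -/
def eperm (q : Equiv.Perm S) : Edge F ≃ Edge F :=
  Equiv.sigmaCongrRight fun i => (MulAction.toPerm q : Equiv.Perm (Equiv.Perm S ⧸ edgeGroup F i))

theorem eperm_mk (i : Idx F) (q r : Equiv.Perm S) :
    eperm F q ⟨i, (r : _ ⧸ edgeGroup F i)⟩ = ⟨i, ((q * r : Equiv.Perm S) : _ ⧸ edgeGroup F i)⟩ :=
  rfl

theorem eperm_one : eperm F 1 = Equiv.refl _ :=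
  Equiv.ext fun e => Sigma.ext rfl (heq_of_eq (one_smul (Equiv.Perm S) e.2))

theorem eperm_mul (q r : Equiv.Perm S) : eperm F (q * r) = (eperm F r).trans (eperm F q) :=
  Equiv.ext fun e => Sigma.ext rfl (heq_of_eq (mul_smul q r e.2))

theorem src_eperm (q : Equiv.Perm S) (e : Edge F) : src F (eperm F q e) = q • src F e := by
  obtain ⟨i, c⟩ := e
  induction c using QuotientGroup.induction_on with
  | H r => rw [eperm_mk, src_mk, src_mk, mul_smul]

theorem tgt_eperm (q : Equiv.Perm S) (e : Edge F) : tgt F (eperm F q e) = q • tgt F e := by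
  obtain ⟨i, c⟩ := e
  induction c using QuotientGroup.induction_on with
  | H r => rw [eperm_mk, tgt_mk, tgt_mk, mul_assoc, mul_smul]

/-- The action on the free group on the edges. -/
def act : Equiv.Perm S →* MulAut (FreeGroup (Edge F)) where
  toFun q := freeGroupCongr (eperm F q)
  map_one' := by rw [eperm_one, freeGroupCongr_refl]; rfl
  map_mul' q r := by rw [eperm_mul, ← freeGroupCongr_trans]; rfl

/-- The ambient group. -/
abbrev Amb := FreeGroup (Edge F) ⋊[act F] Equiv.Perm S

/-- The embedding of `S` into the ambient group. -/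
def emb : S →* Amb F := SemidirectProduct.inr.comp (lreg S)

/-- The stable letters. -/
noncomputable def stable (i : Idx F) : Amb F :=
  ⟨FreeGroup.of ⟨i, ((1 : Equiv.Perm S) : _ ⧸ edgeGroup F i)⟩, sig F i⟩

/-- The realizing group. -/
noncomputable def grp : Subgroup (Amb F) :=
  Subgroup.closure (Set.range (emb F) ∪ Set.range (stable F))

/-- The initial vertex of a letter. -/
noncomputable def frm (l : Edge F × Bool) : Vtx S := if l.2 then src F l.1 else tgt F l.1

/-- The final vertex of a letter. -/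
noncomputable def dst (l : Edge F × Bool) : Vtx S := if l.2 then tgt F l.1 else src F l.1

/-- Words that are paths. -/
def IsPath : Vtx S → List (Edge F × Bool) → Vtx S → Prop
  | a, [], b => a = b
  | a, l :: L, b => frm F l = a ∧ IsPath (dst F l) L b

theorem isPath_append (a b : Vtx S) (L M : List (Edge F × Bool)) :
    IsPath F a (L ++ M) b ↔ ∃ c, IsPath F a L c ∧ IsPath F c M b := by
  induction L generalizing a with
  | nil => simp [IsPath]
  | cons l L ih => simp only [List.cons_append, IsPath, ih]; tauto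

theorem isPath_unique (a b c : Vtx S) (L : List (Edge F × Bool)) (hb : IsPath F a L b)
    (hc : IsPath F a L c) : b = c := by
  induction L generalizing a with
  | nil => exact hb.symm.trans hc
  | cons l L ih => exact ih _ hb.2 hc.2

theorem isPath_map (q : Equiv.Perm S) (a b : Vtx S) (L : List (Edge F × Bool))
    (h : IsPath F a L b) :
    IsPath F (q • a) (L.map fun l => (eperm F q l.1, l.2)) (q • b) := by
  induction L generalizing a with
  | nil => exact congrArg (q • ·) h
  | cons l L ih =>
    obtain ⟨e, s⟩ := l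
    refine ⟨?_, ?_⟩
    · rw [← h.1]; cases s <;> simp [frm, src_eperm, tgt_eperm]
    · have := ih _ h.2
      cases s <;> simpa [dst, src_eperm, tgt_eperm] using this

theorem isPath_invRev (a b : Vtx S) (L : List (Edge F × Bool)) (h : IsPath F a L b) :
    IsPath F b (FreeGroup.invRev L) a := by
  induction L generalizing a with
  | nil => exact h.symm
  | cons l L ih =>
    rw [FreeGroup.invRev_cons, isPath_append]
    refine ⟨_, ih _ h.2, ?_⟩
    obtain ⟨e, s⟩ := l
    refine ⟨?_, ?_⟩
    · cases s <;> rfl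
    · rw [← h.1]; cases s <;> rfl

theorem isPath_red (a b : Vtx S) {L M : List (Edge F × Bool)} (hr : FreeGroup.Red L M)
    (h : IsPath F a L b) : IsPath F a M b := by
  induction hr with
  | refl => exact h
  | tail _ hs ih =>
    cases hs with
    | @not L₁ L₂ x s =>
      rw [isPath_append] at ih ⊢
      obtain ⟨c, h1, h2, -, h4⟩ := ih
      refine ⟨c, h1, ?_⟩
      have : dst F (x, !s) = c := by rw [← h2]; cases s <;> rfl
      rwa [this] at h4

open Classical in
theorem toWord_act (q : Equiv.Perm S) (w : FreeGroup (Edge F)) :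
    (act F q w).toWord = w.toWord.map (fun l => (eperm F q l.1, l.2)) :=
  toWord_freeGroupCongr (eperm F q) w

open Classical in
theorem isPath_of_mem {x : Amb F} (hx : x ∈ grp F) :
    IsPath F (v0 S) x.left.toWord (x.right • v0 S) := by
  induction hx using Subgroup.closure_induction with
  | mem x hx =>
    rcases hx with ⟨s, rfl⟩ | ⟨i, rfl⟩
    · simp only [emb, MonoidHom.comp_apply, SemidirectProduct.left_inr, toWord_one,
        SemidirectProduct.right_inr, IsPath]
      conv_lhs => rw [← one_smul (Equiv.Perm S) (v0 S)]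
      exact smul_v0_eq_iff.2 ⟨s, (one_mul _).symm⟩
    · simp only [stable, toWord_of, IsPath]
      exact ⟨one_smul _ _, by simp [dst, tgt_mk]⟩
  | one => simp [IsPath]
  | mul x y _ _ hx hy =>
    rw [SemidirectProduct.mul_left, SemidirectProduct.mul_right, toWord_mul, mul_smul]
    refine isPath_red F _ _ FreeGroup.reduce.red ?_
    rw [isPath_append, toWord_act]
    exact ⟨_, hx, isPath_map F x.right _ _ _ hy⟩
  | inv x _ hx =>
    rw [SemidirectProduct.inv_left, SemidirectProduct.inv_right, toWord_act, toWord_inv]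
    have := isPath_map F x.right⁻¹ _ _ _ (isPath_invRev F _ _ _ hx)
    rwa [inv_smul_smul] at this

theorem mem_of_isPath (L : List (Edge F × Bool)) : ∀ q : Equiv.Perm S,
    IsPath F (v0 S) L (q • v0 S) → (⟨FreeGroup.mk L, q⟩ : Amb F) ∈ grp F := by
  have hemb : ∀ s, emb F s ∈ grp F := fun s => Subgroup.subset_closure (Or.inl ⟨s, rfl⟩)
  have hst : ∀ i, stable F i ∈ grp F := fun i => Subgroup.subset_closure (Or.inr ⟨i, rfl⟩)
  induction L using List.reverseRecOn with
  | nil =>
    intro q hq
    have hq' : (1 : Equiv.Perm S) • v0 S = q • v0 S := by rw [one_smul]; exact hq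
    obtain ⟨s, rfl⟩ := smul_v0_eq_iff.1 hq'
    convert hemb s using 1
    ext1 <;> simp [emb, ← FreeGroup.one_eq_mk]
  | append_singleton L l ih =>
    intro q hq
    obtain ⟨c, h1, h2, h3⟩ := (isPath_append F _ _ _ _).1 hq
    obtain ⟨⟨i, d⟩, b⟩ := l
    induction d using QuotientGroup.induction_on with
    | H r =>
    rw [← FreeGroup.mul_mk]
    subst h2
    cases b
    · simp only [dst, IsPath, src_mk, Bool.false_eq_true, if_false] at h3
      simp only [frm, tgt_mk, Bool.false_eq_true, if_false] at h1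
      obtain ⟨s, rfl⟩ := smul_v0_eq_iff.1 h3
      convert mul_mem (mul_mem (ih _ h1) (inv_mem (hst i))) (hemb s) using 1
      refine SemidirectProduct.ext ?_ ?_
      · simp only [emb, stable, MonoidHom.comp_apply, SemidirectProduct.mul_left,
          SemidirectProduct.mul_right, SemidirectProduct.inv_left, SemidirectProduct.left_inr,
          map_one, mul_one]
        rw [← MulAut.mul_apply, ← map_mul, mul_inv_cancel_right, map_inv]
        change _ = FreeGroup.mk L * (FreeGroup.map (eperm F r) (FreeGroup.of _))⁻¹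
        rw [FreeGroup.map.of, eperm_mk, mul_one]
        rfl
      · simp [emb, stable]
    · simp only [dst, IsPath, tgt_mk, if_true] at h3
      simp only [frm, src_mk, if_true] at h1
      obtain ⟨s, rfl⟩ := smul_v0_eq_iff.1 h3
      convert mul_mem (mul_mem (ih _ h1) (hst i)) (hemb s) using 1
      refine SemidirectProduct.ext ?_ ?_
      · simp only [emb, stable, MonoidHom.comp_apply, SemidirectProduct.mul_left,
          SemidirectProduct.mul_right, SemidirectProduct.left_inr, map_one, mul_one]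
        change _ = FreeGroup.mk L * FreeGroup.map (eperm F r) (FreeGroup.of _)
        rw [FreeGroup.map.of, eperm_mk, mul_one]
        rfl
      · simp [emb, stable]

/-- Some map of the system on `P` is conjugation by `q`. -/
def Induced (P : Subgroup Ω) (q : Equiv.Perm S) : Prop :=
  ∃ ψ ∈ F.Hom P, ∀ (x : S) (hx : (x : Ω) ∈ P), ∃ y : S,
    (y : Ω) = ψ ⟨x, hx⟩ ∧ lreg S y = q * lreg S x * q⁻¹

omit [Finite S] in
theorem restrict_mem {A P : Subgroup Ω} {φ : A →* Ω} (hφ : φ ∈ F.Hom A) (hPA : P ≤ A) :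
    φ.comp (Subgroup.inclusion hPA) ∈ F.Hom P := by
  have hPS : P ≤ S := hPA.trans (F.le_of_mem hφ).1
  have hc := F.conj_mem hPS S.one_mem
  have hval : ∀ x : P, Cfsg.conjHom P 1 x ∈ A := fun x => by
    simpa [Cfsg.conjHom] using hPA x.2
  convert F.comp_mem hc hφ hval using 1
  ext x
  simp only [MonoidHom.comp_apply]
  congr 1
  exact Subtype.ext (by simp [Cfsg.conjHom])

omit [Finite S] in
theorem induced_lreg {P : Subgroup Ω} (hP : P ≤ S) (s : S) : Induced F P (lreg S s) :=
  ⟨_, F.conj_mem hP s.2, fun x _ => ⟨s * x * s⁻¹, by simp [Cfsg.conjHom], by simp⟩⟩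

omit [Finite S] in
theorem induced_mul {P : Subgroup Ω} {q r : Equiv.Perm S} (hq : Induced F P q)
    (hr : ∀ P' : Subgroup Ω, P' ≤ S → (∀ z : S, (z : Ω) ∈ P' → ∃ x : S, (x : Ω) ∈ P ∧
      lreg S z = q * lreg S x * q⁻¹) → Induced F P' r) : Induced F P (r * q) := by
  obtain ⟨ψ, hψ, h1⟩ := hq
  have hP := (F.le_of_mem hψ).1
  obtain ⟨χ, hχ, h2⟩ := hr ψ.range (by
      rintro _ ⟨x, rfl⟩; exact (F.le_of_mem hψ).2 x) (by
      rintro z ⟨x, hx⟩
      obtain ⟨y, hy1, hy2⟩ := h1 ⟨x, hP x.2⟩ x.2
      refine ⟨⟨x, hP x.2⟩, x.2, ?_⟩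
      rw [← hy2]
      exact congrArg _ (Subtype.ext (hx.symm.trans hy1.symm)))
  refine ⟨_, F.comp_mem hψ hχ (fun x => ⟨x, rfl⟩), fun x hx => ?_⟩
  obtain ⟨y, hy1, hy2⟩ := h1 x hx
  obtain ⟨z, hz1, hz2⟩ := h2 y ⟨⟨x, hx⟩, hy1.symm⟩
  refine ⟨z, ?_, by rw [hz2, hy2]; group⟩
  rw [hz1]
  simp only [MonoidHom.comp_apply]
  congr 1
  exact Subtype.ext hy1

theorem induced_sig (i : Idx F) {P : Subgroup Ω} (hP : P ≤ i.1.1) : Induced F P (sig F i) :=
  ⟨_, restrict_mem F i.2 hP, fun x hx => ⟨phiS F i ⟨x, hP hx⟩, rfl, (sig_conj F i ⟨x, hP hx⟩).symm⟩⟩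

theorem induced_sig_inv (i : Idx F) {P : Subgroup Ω} (hP : P ≤ i.1.2.range) :
    Induced F P (sig F i)⁻¹ := by
  obtain ⟨ψ, hψ, h⟩ := F.inv_mem i.2
  refine ⟨_, restrict_mem F hψ hP, fun z hz => ?_⟩
  obtain ⟨x, hx⟩ := hP hz
  have hxS : (x : Ω) ∈ S := (F.le_of_mem i.2).1 x.2
  refine ⟨⟨x, hxS⟩, ?_, ?_⟩
  · rw [MonoidHom.comp_apply]
    have : Subgroup.inclusion hP ⟨(z : Ω), hz⟩ = ⟨i.1.2 x, ⟨x, rfl⟩⟩ := Subtype.ext hx.symm
    rw [this, h x]
  · have h' := sig_conj F i ⟨⟨x, hxS⟩, x.2⟩
    have hz' : phiS F i ⟨⟨x, hxS⟩, x.2⟩ = z := Subtype.ext hx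
    rw [hz'] at h'
    rw [← h']
    group

theorem induced_path (L : List (Edge F × Bool)) : ∀ (q : Equiv.Perm S) (P : Subgroup Ω),
    IsPath F (v0 S) L (q • v0 S) → P ≤ S →
    (∀ x : S, (x : Ω) ∈ P → ∃ y : S, lreg S y = q * lreg S x * q⁻¹ ∧
      ∀ l ∈ L, eperm F (lreg S y) l.1 = l.1) → Induced F P q := by
  induction L using List.reverseRecOn with
  | nil =>
    intro q P hq hP _
    have hq' : (1 : Equiv.Perm S) • v0 S = q • v0 S := by rw [one_smul]; exact hq
    obtain ⟨s, rfl⟩ := smul_v0_eq_iff.1 hq'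
    rw [one_mul]
    exact induced_lreg F hP s
  | append_singleton L l ih =>
    intro q P hq hP hy
    obtain ⟨c, h1, h2, h3⟩ := (isPath_append F _ _ _ _).1 hq
    obtain ⟨⟨i, d⟩, b⟩ := l
    induction d using QuotientGroup.induction_on with
    | H r =>
    subst h2
    have hfix : ∀ x : S, (x : Ω) ∈ P → ∃ y : S, lreg S y = q * lreg S x * q⁻¹ ∧
        (∀ l ∈ L, eperm F (lreg S y) l.1 = l.1) ∧
        ∃ a : i.1.1.subgroupOf S, r⁻¹ * lreg S y * r = lreg S (phiS F i a) := by
      intro x hx
      obtain ⟨y, hy1, hy2⟩ := hy x hx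
      refine ⟨y, hy1, fun l hl => hy2 l (List.mem_append_left _ hl), ?_⟩
      have := hy2 _ (List.mem_append_right _ (List.mem_singleton_self _))
      simp only [eperm_mk, Sigma.mk.injEq, heq_eq_eq, true_and, QuotientGroup.eq] at this
      obtain ⟨z, ⟨a, rfl⟩, hz⟩ := Subgroup.mem_map.1 (inv_mem this)
      exact ⟨a, by rw [hz]; group⟩
    have hnext : ∀ (t : Equiv.Perm S), IsPath F (v0 S) L (t • v0 S) → ∀ u, q = t * u →
        Induced F P u → Induced F P q := by
      intro t ht u hu hind
      subst hu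
      refine induced_mul F hind fun P' hP' hz => ih t P' ht hP' fun z hzP => ?_
      obtain ⟨x, hx, hzx⟩ := hz z hzP
      obtain ⟨y, hy1, hy2, -⟩ := hfix x hx
      exact ⟨y, by rw [hy1, hzx]; group, hy2⟩
    cases b
    · simp only [dst, IsPath, src_mk, Bool.false_eq_true, if_false] at h3
      simp only [frm, tgt_mk, Bool.false_eq_true, if_false] at h1
      obtain ⟨s, rfl⟩ := smul_v0_eq_iff.1 h3
      refine hnext _ h1 ((sig F i)⁻¹ * lreg S s) (by group)
        (induced_mul F (induced_lreg F hP s) fun P' _ hz => induced_sig_inv F i fun z' hz' => ?_)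
      rename_i hP'
      obtain ⟨x, hx, hzx⟩ := hz ⟨z', hP' hz'⟩ hz'
      obtain ⟨y, hy1, -, a, ha⟩ := hfix x hx
      have : (⟨z', hP' hz'⟩ : S) = phiS F i a := by
        apply lreg_injective
        rw [hzx, ← ha, hy1]; group
      exact ⟨⟨_, a.2⟩, (congrArg Subtype.val this).symm⟩
    · simp only [dst, IsPath, tgt_mk, if_true] at h3
      simp only [frm, src_mk, if_true] at h1
      obtain ⟨s, rfl⟩ := smul_v0_eq_iff.1 h3
      refine hnext _ h1 (sig F i * lreg S s) (by group)
        (induced_mul F (induced_lreg F hP s) fun P' hP' hz => induced_sig F i fun z' hz' => ?_)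
      obtain ⟨x, hx, hzx⟩ := hz ⟨z', hP' hz'⟩ hz'
      obtain ⟨y, hy1, -, a, ha⟩ := hfix x hx
      have : (⟨z', hP' hz'⟩ : S) = (a : S) := by
        apply lreg_injective
        have e := sig_conj F i a
        rw [← ha, hy1] at e
        have e2 : lreg S (a : S) = (sig F i)⁻¹ * (sig F i * lreg S (a : S) * (sig F i)⁻¹) * sig F i := by
          group
        rw [e2, e, hzx]; group
      have h' := congrArg Subtype.val this
      simp only at h'
      rw [h']
      exact a.2

/-- The embedding of `S` in the realizing group. -/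
noncomputable def iota : S →* grp F :=
  (emb F).codRestrict (grp F) (fun s => Subgroup.subset_closure (Or.inl ⟨s, rfl⟩))

theorem realized : F.IsRealizedBy (iota F) := by
  classical
  refine ⟨fun a b h => lreg_injective (SemidirectProduct.inr_injective (congrArg Subtype.val h)),
    fun P hP φ hφ => ⟨fun hmem => ?_, ?_⟩⟩
  · refine ⟨⟨stable F ⟨⟨P, φ⟩, hmem⟩, Subgroup.subset_closure (Or.inr ⟨_, rfl⟩)⟩, fun x => ?_⟩
    rw [eq_mul_inv_iff_mul_eq]
    apply Subtype.ext
    set i : Idx F := ⟨⟨P, φ⟩, hmem⟩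
    set a : i.1.1.subgroupOf S := ⟨⟨(x : Ω), hP x.2⟩, x.2⟩
    have ha : phiS F i a = ⟨φ x, hφ x⟩ := rfl
    refine SemidirectProduct.ext ?_ ?_
    · simp only [iota, Subgroup.coe_mul, MonoidHom.codRestrict_apply, emb, MonoidHom.comp_apply,
        SemidirectProduct.mul_left, SemidirectProduct.left_inr, SemidirectProduct.right_inr,
        one_mul, map_one, mul_one, stable]
      change FreeGroup.map (eperm F (lreg S _)) (FreeGroup.of _) = _
      rw [FreeGroup.map.of, eperm_mk, mul_one]
      congr 1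
      refine Sigma.ext rfl (heq_of_eq (QuotientGroup.eq.2 ?_))
      rw [mul_one]
      exact inv_mem (Subgroup.mem_map.2 ⟨_, ⟨a, ha⟩, rfl⟩)
    · simp only [iota, Subgroup.coe_mul, MonoidHom.codRestrict_apply, emb, MonoidHom.comp_apply,
        SemidirectProduct.mul_right, SemidirectProduct.right_inr, stable]
      exact ((sig_mul F i a).trans (by rw [ha])).symm
  · rintro ⟨g, hg⟩
    set q := (g : Amb F).right
    have hq : ∀ x : S, (hx : (x : Ω) ∈ P) →
        lreg S ⟨φ ⟨x, hx⟩, hφ _⟩ = q * lreg S x * q⁻¹ ∧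
        ∀ l ∈ (g : Amb F).left.toWord,
          eperm F (lreg S ⟨φ ⟨x, hx⟩, hφ _⟩) l.1 = l.1 := by
      intro x hx
      have h := congrArg Subtype.val (eq_mul_inv_iff_mul_eq.1 (hg ⟨x, hx⟩))
      simp only [iota, Subgroup.coe_mul, MonoidHom.codRestrict_apply, emb,
        MonoidHom.comp_apply] at h
      have hr := congrArg SemidirectProduct.right h
      have hl := congrArg SemidirectProduct.left h
      simp only [SemidirectProduct.mul_right, SemidirectProduct.right_inr] at hr
      simp only [SemidirectProduct.mul_left, SemidirectProduct.left_inr,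
        SemidirectProduct.right_inr, one_mul, map_one, mul_one] at hl
      refine ⟨eq_mul_inv_iff_mul_eq.2 hr, fun l hl' => ?_⟩
      have h2 := congrArg FreeGroup.toWord hl
      rw [toWord_act] at h2
      have h3 := List.map_inj_left.1 (h2.trans (List.map_id _).symm) l hl'
      exact congrArg Prod.fst h3
    obtain ⟨ψ, hψ, h⟩ := induced_path F _ q P (isPath_of_mem F g.2) hP
      (fun x hx => ⟨_, hq x hx⟩)
    have hext : ψ = φ := by
      ext x
      obtain ⟨y, hy1, hy2⟩ := h ⟨x, hP x.2⟩ x.2
      have : y = ⟨φ x, hφ x⟩ := lreg_injective (hy2.trans (hq ⟨x, hP x.2⟩ x.2).1.symm)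
      rw [← hy1, this]
    rwa [← hext]

theorem finite_conj (H : Subgroup (grp F)) [Finite H] :
    ∃ g : grp F, ∀ h ∈ H, g * h * g⁻¹ ∈ (iota F).range := by
  classical
  let T : H → FreeGroup (Edge F) → FreeGroup (Edge F) :=
    fun h v => ((h : grp F) : Amb F).left * act F ((h : grp F) : Amb F).right v
  have hmul : ∀ h k v, T (h * k) v = T h (T k v) := by
    intro h k v
    simp [T, mul_assoc]
  have hdiff : ∀ h u v, (T h u)⁻¹ * T h v = act F ((h : grp F) : Amb F).right (u⁻¹ * v) := by
    intro h u v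
    simp only [T, map_mul, map_inv]
    group
  obtain ⟨c, h0, hpre, hfix⟩ := exists_fixed_prefix T hmul (fun v => by simp [T])
    (fun h u v => by rw [hdiff, FreeGroup.norm, toWord_act, List.length_map]; rfl)
    (fun h a b hn ha hb => by
      have e := hdiff h a b
      rw [ha, hb] at e
      have e2 := congrArg FreeGroup.toWord e
      rw [toWord_act, show b⁻¹ * a = (a⁻¹ * b)⁻¹ by group, toWord_inv] at e2
      obtain ⟨l, hl⟩ := List.length_eq_one_iff.1 hn
      rw [hl] at e2
      simp [FreeGroup.invRev] at e2)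
  obtain ⟨M, hM⟩ := hpre
  have hp0 := isPath_of_mem F ((h0 : grp F)).2
  have hT0 : T h0 1 = ((h0 : grp F) : Amb F).left := by simp [T]
  rw [hT0] at hM
  rw [← hM, isPath_append] at hp0
  obtain ⟨v, hv, -⟩ := hp0
  obtain ⟨q, rfl⟩ : ∃ q : Equiv.Perm S, q • v0 S = v :=
    ⟨v.out, by rw [smul_v0, QuotientGroup.out_eq']⟩
  have hg : (⟨c, q⟩ : Amb F) ∈ grp F := by
    have := mem_of_isPath F _ q hv
    rwa [FreeGroup.mk_toWord] at this
  refine ⟨(⟨⟨c, q⟩, hg⟩ : grp F)⁻¹, fun h hh => ?_⟩
  set g : grp F := ⟨⟨c, q⟩, hg⟩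
  set k := g⁻¹ * h * g⁻¹⁻¹
  have hk : g * k = h * g := by simp only [k, inv_inv]; group
  have hkl := congrArg (fun x : grp F => (x : Amb F).left) hk
  simp only [Subgroup.coe_mul, SemidirectProduct.mul_left] at hkl
  have hf : (h : Amb F).left * act F (h : Amb F).right c = c := hfix ⟨h, hh⟩
  simp only [g] at hkl
  rw [hf, mul_eq_left, map_eq_one_iff _ (MulEquiv.injective _)] at hkl
  have hkp := isPath_of_mem F k.2
  rw [hkl, toWord_one] at hkp
  have hkp' : (1 : Equiv.Perm S) • v0 S = (k : Amb F).right • v0 S := by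
    rw [one_smul]; exact hkp
  obtain ⟨s, hs⟩ := smul_v0_eq_iff.1 hkp'
  refine ⟨s, Subtype.ext (SemidirectProduct.ext ?_ ?_)⟩
  · simp [iota, emb, hkl]
  · rw [hs]; simp [iota, emb]

theorem exists_free_normal :
    ∃ N : Subgroup (grp F), N.Normal ∧ IsFreeGroup N ∧ N.index ∣ (Nat.card S).factorial := by
  let f : grp F →* Equiv.Perm S := SemidirectProduct.rightHom.comp (grp F).subtype
  refine ⟨f.ker, inferInstance, ?_, ?_⟩
  · have hk : ∀ x : f.ker, ((x : grp F) : Amb F).right = 1 := fun x => x.2
    let l : f.ker →* FreeGroup (Edge F) :=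
      { toFun := fun x => ((x : grp F) : Amb F).left
        map_one' := rfl
        map_mul' := fun x y => by simp [hk x] }
    have hl : Function.Injective l := fun x y h =>
      Subtype.ext (Subtype.ext (SemidirectProduct.ext h ((hk x).trans (hk y).symm)))
    exact IsFreeGroup.ofMulEquiv (MonoidHom.ofInjective hl).symm
  · rw [Subgroup.index_ker, ← Nat.card_perm]
    exact Subgroup.card_subgroup_dvd_card _

end Tree

end Cfsg.Agent.TreeReal
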