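import Cfsg.Agent.Lib.Fusion.GoldschmidtChain
import Cfsg.Agent.Lib.Fusion.PStableQuotient
import Cfsg.Agent.Lib.Fusion.Sections
import Cfsg.Agent.Lib.Fusion.ThompsonFactor

/-!
# The triple factorization
-/

set_option autoImplicit false
set_option linter.style.haveILetI false

open Cfsg
open scoped commutatorElement

universe u

namespace Cfsg.Agent.Fusion

variable {G : Type u} [Group G] [Finite G] {p : ℕ} [hp : Fact p.Prime] {S : Subgroup G}

/-- A `p`-subgroup containing a Sylow subgroup of its centralizer is self-centralizing modulo cores. -/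
theorem centralizer_le_pPrimePCore_of_inf_le {U : Subgroup G} (hUp : IsPGroup p U)
    (hsyl : SylIn p (S ⊓ Subgroup.normalizer (U : Set G)) (Subgroup.normalizer (U : Set G)))
    (h1 : (S ⊓ Subgroup.normalizer (U : Set G)) ⊓ Subgroup.centralizer (U : Set G) ≤ U) :
    Subgroup.centralizer (U : Set G) ≤
      (pPrimePCore p ↥(Subgroup.normalizer (U : Set G))).map (Subgroup.normalizer (U : Set G)).subtype := by
  set N := Subgroup.normalizer (U : Set G) with hN
  set K := Subgroup.centralizer (U : Set G)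
  set O := (pPrimeCore p ↥N).map N.subtype with hO
  set M := (pPrimePCore p ↥N).map N.subtype with hM
  have hKN : K ≤ N := Subgroup.centralizer_le_normalizer _
  have hKnorm : N ≤ Subgroup.normalizer (K : Set G) := fun x hx => mem_normalizer_iff_cj.2 (by
    rw [cj_centralizer, cj_eq_self hx])
  have hUN : U ≤ N := Subgroup.le_normalizer
  have hUM : U ≤ M := by
    intro u hu
    refine ⟨⟨u, hUN hu⟩, ?_, rfl⟩
    have hn : (U.subgroupOf N).Normal := ⟨fun z hz y => by
      rw [Subgroup.mem_subgroupOf] at hz ⊢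
      exact (Subgroup.mem_normalizer_iff.1 y.2 _).1 hz⟩
    exact Subgroup.mem_comap.2 (le_pCore (N := (U.subgroupOf N).map (QuotientGroup.mk' (pPrimeCore p ↥N)))
      (hn := hn.map _ (QuotientGroup.mk'_surjective _))
      ((hUp.comap_of_injective _ N.subtype_injective).map _) ⟨⟨u, hUN hu⟩, hu, rfl⟩)
  obtain ⟨P, hP⟩ := (hsyl.inf_normal hKN hKnorm).exists_sylow_subgroupOf
  have hPU : ∀ z : K, z ∈ (P : Subgroup K) → (z : G) ∈ U := fun z hz => by
    rw [hP, Subgroup.mem_subgroupOf] at hz; exact h1 hz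
  have hnpc : HasNormalPComplement p ↥K := hnpc_of_normalizer_le_centralizer P fun c _ =>
    Subgroup.mem_centralizer_iff.2 fun z hz => Subtype.ext
      (Subgroup.mem_centralizer_iff.1 c.2 _ (hPU z hz))
  have hres : (pResidual p ↥K).map K.subtype ≤ O := by
    haveI : ((pResidual p ↥K).map K.subtype |>.subgroupOf N).Normal := ⟨fun z hz y => by
      rw [Subgroup.mem_subgroupOf] at hz ⊢
      obtain ⟨w, hw, hwz⟩ := hz
      let e : K ≃* K :=
        { toFun := fun q => ⟨(y : G) * q * (y : G)⁻¹, (Subgroup.mem_normalizer_iff.1 (hKnorm y.2) _).1 q.2⟩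
          invFun := fun q => ⟨(y : G)⁻¹ * q * y, by
            simpa using (Subgroup.mem_normalizer_iff.1 (hKnorm (inv_mem y.2)) _).1 q.2⟩
          left_inv := fun q => Subtype.ext (by simp [mul_assoc])
          right_inv := fun q => Subtype.ext (by simp [mul_assoc])
          map_mul' := fun q q' => Subtype.ext (by simp [mul_assoc]) }
      refine ⟨e w, (Subgroup.characteristic_iff_map_eq.1 pResidual_characteristic e).le ⟨w, hw, rfl⟩, ?_⟩
      simp [e, ← hwz]⟩
    intro z hz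
    refine ⟨⟨z, hKN ((Subgroup.map_subtype_le _) hz)⟩, le_pPrimeCore ?_ (Subgroup.mem_subgroupOf.2 hz), rfl⟩
    rw [Nat.card_congr (Subgroup.subgroupOfEquivOfLe ((Subgroup.map_subtype_le _).trans hKN)).toEquiv,
      Subgroup.card_map_of_injective K.subtype_injective]
    exact hnpc_iff.1 hnpc
  intro z hz
  have hz' : (⟨z, hz⟩ : K) ∈ pResidual p ↥K ⊔ (P : Subgroup K) :=
    (pResidual_sup_sylow P).symm ▸ Subgroup.mem_top _
  obtain ⟨a, ha, b, hb, hab⟩ := Subgroup.mem_sup_of_normal_left.1 hz'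
  rw [show z = (a : G) * b from (congrArg Subtype.val hab).symm]
  exact mul_mem (Subgroup.map_mono pPrimeCore_le_pPrimePCore (hres ⟨a, ha, rfl⟩)) (hUM (hPU b hb))

/-- Conjugates of `Ω₁(Z(S))` under the normalizer of the first functor come from the second one. -/
theorem conj_omegaCenter_of_factor (hS : SylIn p S ⊤) (W W' : ∀ (Q : Type u) [Group Q], Subgroup Q)
    (hW : IsCharPFunctor.{u} p W) (hW' : IsCharPFunctor.{u} p W')
    (hfac : ∀ (K R : Subgroup G) [hR : (R.subgroupOf K).Normal],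
      Subgroup.centralizer ((pCore p (↥K ⧸ R.subgroupOf K) : Subgroup (↥K ⧸ R.subgroupOf K)) :
          Set (↥K ⧸ R.subgroupOf K)) ≤ pCore p (↥K ⧸ R.subgroupOf K) →
      ∀ T : Sylow p (↥K ⧸ R.subgroupOf K), ∀ x : (↥K ⧸ R.subgroupOf K),
        ∃ a ∈ Subgroup.centralizer ((omegaOne p ((T : Subgroup (↥K ⧸ R.subgroupOf K)) ⊓
            Subgroup.centralizer ((T : Subgroup (↥K ⧸ R.subgroupOf K)) : Set (↥K ⧸ R.subgroupOf K))) :
            Subgroup (↥K ⧸ R.subgroupOf K)) : Set (↥K ⧸ R.subgroupOf K)),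
        ∃ b ∈ Subgroup.normalizer ((inducedFunctor (G := (↥K ⧸ R.subgroupOf K)) W'
            (T : Subgroup (↥K ⧸ R.subgroupOf K)) : Subgroup (↥K ⧸ R.subgroupOf K)) :
            Set (↥K ⧸ R.subgroupOf K)), x = a * b)
    (hZW : omegaOne p (S ⊓ Subgroup.centralizer (S : Set G)) ≤ inducedFunctor W S)
    {x : G} (hx : x ∈ Subgroup.normalizer (inducedFunctor W S : Set G))
    {z : G} (hz : z ∈ S ⊓ Subgroup.centralizer (S : Set G)) (hzp : z ^ p = 1) :
    ∃ n ∈ Subgroup.normalizer (inducedFunctor W' S : Set G), x * z * x⁻¹ = n * z * n⁻¹ := by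
  set V := inducedFunctor W S with hV
  set N := Subgroup.normalizer (V : Set G) with hN
  set C := Subgroup.centralizer (V : Set G)
  have hWc := isConjugacyFunctor_induced (G := G) hW
  have hVS : V ≤ S := conjFunctor_le hWc hS.isPGroup
  have hSN : S ≤ N := sylow_le_normalizer_functor hWc hS.isPGroup
  have hCN : C ≤ N := Subgroup.centralizer_le_normalizer _
  have hNC : N ≤ Subgroup.normalizer (C : Set G) := fun y hy => mem_normalizer_iff_cj.2 (by
    rw [cj_centralizer, cj_eq_self hy])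
  set T₀ := S ⊓ C
  have hT₀ : SylIn p T₀ C := (hS.mono hSN le_top).inf_normal hCN hNC
  obtain ⟨c, hc, hcx⟩ := frattini_conj hT₀ hNC hx
  set Q := V ⊔ T₀ with hQ
  set K := Subgroup.normalizer (Q : Set G) with hK
  have hyK : c * x ∈ K := mem_normalizer_iff_cj.2 (by
    rw [hQ, cj_sup, cj_eq_self (mul_mem (hCN hc) hx), cj_eq_self hcx])
  have hQS : Q ≤ S := sup_le hVS inf_le_left
  have hSK : S ≤ K := fun s hs => mem_normalizer_iff_cj.2 (by
    have h1 : cj T₀ s = T₀ := by rw [cj_inf, cj_eq_self (Subgroup.le_normalizer hs), cj_eq_self (hNC (hSN hs))]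
    rw [hQ, cj_sup, cj_eq_self (hSN hs), h1])
  have hzV : z ∈ V := hZW (Subgroup.subset_closure ⟨hz, hzp⟩)
  have hzQ : z ∈ Q := Subgroup.mem_sup_left hzV
  have hfix : x * z * x⁻¹ = (c * x) * z * (c * x)⁻¹ := by
    have h1 : x * z * x⁻¹ ∈ V := (Subgroup.mem_normalizer_iff.1 hx z).1 hzV
    rw [show c * x * z * (c * x)⁻¹ = c * (x * z * x⁻¹) * c⁻¹ by group,
      ← Subgroup.mem_centralizer_iff.1 hc _ h1, mul_inv_cancel_right]
  have hsylK : SylIn p (S ⊓ K) K := by rw [inf_eq_left.2 hSK]; exact hS.mono hSK le_top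
  have hQp : IsPGroup p Q := hS.isPGroup.to_le hQS
  have hcent := centralizer_le_pPrimePCore_of_inf_le hQp hsylK (fun y hy => Subgroup.mem_sup_right
    ⟨hy.1.1, Subgroup.centralizer_le (SetLike.coe_subset_coe.2 le_sup_left) hy.2⟩)
  set R := (pPrimeCore p ↥K).map K.subtype with hR
  have hRK : R.subgroupOf K = pPrimeCore p ↥K :=
    Subgroup.comap_map_eq_self_of_injective K.subtype_injective _
  haveI hRn : (R.subgroupOf K).Normal := hRK.symm ▸ (inferInstance : (pPrimeCore p ↥K).Normal)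
  set π := QuotientGroup.mk' (R.subgroupOf K) with hπ
  have hO : (Nat.card (R.subgroupOf K)).Coprime p := hRK.symm ▸ card_pPrimeCore_coprime p K
  set Q' := Q.subgroupOf K
  have hQ'p : IsPGroup p Q' := hQp.comap_subtype
  have hinj := injOn_mk_of_coprime hO hQ'p
  have hQ'n : Q'.Normal := (Subgroup.normal_subgroupOf_iff_le_normalizer Subgroup.le_normalizer).2 le_rfl
  have hconstr : Subgroup.centralizer (pCore p (K ⧸ R.subgroupOf K) : Set (K ⧸ R.subgroupOf K)) ≤
      pCore p (K ⧸ R.subgroupOf K) := by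
    intro w hw
    haveI := hQ'n
    haveI : (Q'.map π).Normal := hQ'n.map π (QuotientGroup.mk'_surjective _)
    have hw' : w ∈ Subgroup.normalizer (Q'.map π : Set (K ⧸ R.subgroupOf K)) := by
      rw [Subgroup.normalizer_eq_top]; trivial
    obtain ⟨y, -, rfl⟩ := exists_lift_normalizer hO hQ'p hw'
    have hyc : (y : G) ∈ Subgroup.centralizer (Q : Set G) := by
      refine Subgroup.mem_centralizer_iff.2 fun q hq => ?_
      have h1 : π (y * ⟨q, Subgroup.le_normalizer hq⟩ * y⁻¹) = π ⟨q, Subgroup.le_normalizer hq⟩ := by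
        have h2 := Subgroup.mem_centralizer_iff.1 hw (π ⟨q, Subgroup.le_normalizer hq⟩)
          (le_pCore (p := p) (hQ'p.map π) ⟨_, hq, rfl⟩)
        rw [map_mul, map_mul, map_inv, ← h2, mul_inv_cancel_right]
      have h3 := congrArg Subtype.val (hinj (hQ'n.conj_mem _ hq y) hq h1)
      exact (mul_inv_eq_iff_eq_mul.1 h3).symm
    obtain ⟨y', hy', hyy⟩ := hcent hyc
    rw [← Subtype.ext (show (y' : G) = y from hyy)]
    have h4 : π y' ∈ (pPrimePCore p ↥K).map π := ⟨y', hy', rfl⟩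
    refine le_pCore (p := p) (N := (pPrimePCore p ↥K).map π)
      (hn := pPrimePCore_normal.map π (QuotientGroup.mk'_surjective _)) ?_ h4
    have e := QuotientGroup.quotientMulEquivOfEq hRK
    have : (pPrimePCore p ↥K).map π ≤ (pCore p (↥K ⧸ pPrimeCore p ↥K)).comap
        (QuotientGroup.quotientMulEquivOfEq hRK).toMonoidHom := by
      rintro _ ⟨v, hv, rfl⟩
      exact hv
    exact ((isPGroup_pCore p _).comap_of_injective _ (MulEquiv.injective _)).to_le this
  set S' := S.subgroupOf K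
  have hS' : SylIn p S' ⊤ := ⟨le_top, hS.isPGroup.comap_subtype, by
    rw [Subgroup.relIndex_top_right]; exact (hS.mono hSK le_top).not_dvd⟩
  have hinjS := injOn_mk_of_coprime hO hS'.isPGroup
  obtain ⟨T, hT⟩ := (sylIn_map_mk (N := R.subgroupOf K) hS').exists_sylow
  obtain ⟨a, ha, b, hb, hab⟩ := hfac K R hconstr T (π ⟨(c * x)⁻¹, inv_mem hyK⟩)
  rw [hT] at ha hb
  rw [inducedFunctor_map_of_injOn hW' π hinjS hS'.isPGroup] at hb
  have hVp : IsPGroup p (inducedFunctor W' S') := hS'.isPGroup.to_le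
    (conjFunctor_le (isConjugacyFunctor_induced (G := K) hW') hS'.isPGroup)
  obtain ⟨b₀, hb₀, rfl⟩ := exists_lift_normalizer hO hVp hb
  refine ⟨(b₀ : G)⁻¹, inv_mem ?_, ?_⟩
  · have h1 := mem_normalizer_iff_cj.1 hb₀
    have h2 : (inducedFunctor W' S').map K.subtype = inducedFunctor W' S := by
      rw [← inducedFunctor_map_of_injOn hW' K.subtype K.subtype_injective.injOn hS'.isPGroup,
        Subgroup.map_subgroupOf_eq_of_le hSK]
    rw [mem_normalizer_iff_cj, ← h2]
    have h3 := congrArg (Subgroup.map K.subtype) h1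
    rw [cj, Subgroup.map_map] at h3
    rw [cj, Subgroup.map_map]
    exact h3
  rw [hfix, inv_inv]
  have haz : a⁻¹ * π ⟨z, hSK hz.1⟩ * a = π ⟨z, hSK hz.1⟩ := by
    have hmem : π ⟨z, hSK hz.1⟩ ∈ omegaOne p (S'.map π ⊓ Subgroup.centralizer (S'.map π : Set _)) := by
      refine Subgroup.subset_closure ⟨⟨⟨_, hz.1, rfl⟩, Subgroup.mem_centralizer_iff.2 ?_⟩, ?_⟩
      · rintro _ ⟨s, hs, rfl⟩
        rw [← map_mul, ← map_mul]
        exact congrArg π (Subtype.ext (Subgroup.mem_centralizer_iff.1 hz.2 (s : G) hs))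
      · rw [← map_pow]
        exact (congrArg π (Subtype.ext hzp : (⟨z, hSK hz.1⟩ : K) ^ p = 1)).trans (map_one π)
    rw [mul_assoc, Subgroup.mem_centralizer_iff.1 ha _ hmem, inv_mul_cancel_left]
  have h4 : π (⟨c * x, hyK⟩ * ⟨z, hSK hz.1⟩ * ⟨c * x, hyK⟩⁻¹) = π (b₀⁻¹ * ⟨z, hSK hz.1⟩ * b₀) := by
    have e1 : π ⟨c * x, hyK⟩ = (a * π b₀)⁻¹ := by
      rw [← hab, ← map_inv]; exact congrArg π (Subtype.ext (inv_inv (c * x)).symm)
    rw [map_mul, map_mul, map_inv, e1, map_mul, map_mul, map_inv, inv_inv, mul_inv_rev]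
    conv_rhs => rw [← haz]
    group
  exact congrArg Subtype.val (hinj (hQ'n.conj_mem _ hzQ _)
    (by simpa using hQ'n.conj_mem _ hzQ b₀⁻¹) h4)

end Cfsg.Agent.Fusion
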