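import Mathlib.GroupTheory.OrderOfElement
import Mathlib.GroupTheory.Index
import Mathlib.Tactic.Group

/-!
An elementary abelian `2`-subgroup `V` whose non-identity elements fall into two classes, none fused to
the other, one of them with centralisers inside `M ⊇ N(V)`, both closed in `M`, is normal: two
involutions of different classes never generate a dihedral group of twice odd order, so the central
involution of the dihedral group they generate is available in `V`, and its parity gives a contradiction.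
-/

set_option autoImplicit false

namespace Cfsg.Agent.Fusion.TwoClass

variable {G : Type*} [Group G]

/-- in a dihedral group a translate of the first generator by an even power is conjugate to it -/
theorem conj_pow (a b : G) (ha : a * a = 1) (hb : b * b = 1) (k : ℕ) :
    (a * b) ^ k * a * ((a * b) ^ k)⁻¹ = (a * b) ^ (2 * k) * a := by
  have hai : a⁻¹ = a := inv_eq_of_mul_eq_one_right ha
  have hbi : b⁻¹ = b := inv_eq_of_mul_eq_one_right hb
  induction k with
  | zero => simp
  | succ k ih =>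
    have e1 : (a * b) ^ (k + 1) * a * ((a * b) ^ (k + 1))⁻¹
        = (a * b) * ((a * b) ^ k * a * ((a * b) ^ k)⁻¹) * (a * b)⁻¹ := by
      rw [pow_succ', mul_inv_rev]; simp only [mul_assoc]
    have e2 : a * (a * b)⁻¹ = (a * b) * a := by rw [mul_inv_rev, hai, hbi, mul_assoc]
    rw [e1, ih, show 2 * (k + 1) = 2 * k + 1 + 1 by ring, pow_succ, pow_succ']
    calc a * b * ((a * b) ^ (2 * k) * a) * (a * b)⁻¹ = a * b * (a * b) ^ (2 * k) * (a * (a * b)⁻¹) := by group
      _ = _ := by rw [e2]; group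

/-- the same for the second generator -/
theorem conj_pow_right (a b : G) (ha : a * a = 1) (hb : b * b = 1) (k : ℕ) :
    (a * b) ^ k * b * ((a * b) ^ k)⁻¹ = (a * b) ^ (2 * k) * b := by
  have e : b = a * (a * b) := by rw [← mul_assoc, ha, one_mul]
  have hc : (a * b) * ((a * b) ^ k)⁻¹ = ((a * b) ^ k)⁻¹ * (a * b) :=
    (((Commute.refl (a * b)).pow_right k).inv_right).eq
  calc (a * b) ^ k * b * ((a * b) ^ k)⁻¹ = (a * b) ^ k * a * ((a * b) * ((a * b) ^ k)⁻¹) := by
        conv_lhs => rw [e]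
        simp only [← mul_assoc]
        simp only [mul_assoc, ← e]
    _ = (a * b) ^ k * a * ((a * b) ^ k)⁻¹ * (a * b) := by rw [hc]; simp only [mul_assoc]
    _ = (a * b) ^ (2 * k) * (a * (a * b)) := by rw [conj_pow a b ha hb k, mul_assoc]
    _ = _ := by rw [← e]

/-- the hypotheses -/
structure Data (G : Type*) [Group G] where
  V : Subgroup G
  M : Subgroup G
  N : Set G
  I : Set G
  sq : ∀ v ∈ V, v * v = 1
  VM : V ≤ M
  NV : N ⊆ V
  IV : I ⊆ V
  cover : ∀ v ∈ V, v ≠ 1 → v ∈ N ∨ v ∈ I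
  disj : ∀ v, v ∈ N → v ∉ I
  oneN : (1 : G) ∉ N
  oneI : (1 : G) ∉ I
  centN : ∀ n ∈ N, ∀ g, Commute g n → g ∈ M
  closN : ∀ n ∈ N, ∀ g, g * n * g⁻¹ ∈ M → g * n * g⁻¹ ∈ N
  closI : ∀ i ∈ I, ∀ g, g * i * g⁻¹ ∈ M → g * i * g⁻¹ ∈ I
  spanN : V ≤ Subgroup.closure N
  spanI : V ≤ Subgroup.closure I
  normV : Subgroup.normalizer (V : Set G) ≤ M
  perp : ∀ y ∈ I, ∃ n ∈ N, ∀ c ∈ V, (c = 1 ∨ c ∈ I) → (c * y = 1 ∨ c * y ∈ I) → c * n ∈ N → c * y * n ∈ N

namespace Data

variable (D : Data G)

theorem comm {x y : G} (hx : x ∈ D.V) (hy : y ∈ D.V) : Commute x y := by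
  have hxi : x⁻¹ = x := inv_eq_of_mul_eq_one_right (D.sq x hx)
  have hyi : y⁻¹ = y := inv_eq_of_mul_eq_one_right (D.sq y hy)
  have h : (x * y)⁻¹ = x * y := inv_eq_of_mul_eq_one_right (D.sq _ (D.V.mul_mem hx hy))
  rw [mul_inv_rev, hxi, hyi] at h
  exact h.symm

variable [Finite G]

/-- an element carrying some member of `N` into `N` lies in `M` -/
theorem move {n g : G} (hn : n ∈ D.N) (hg : g * n * g⁻¹ ∈ D.N) : g ∈ D.M := by
  refine D.normV (Subgroup.mem_normalizer_iff_map_conj_eq.2 ?_)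
  have hle : D.V.map (MulAut.conj g).toMonoidHom ≤ D.V := by
    refine (Subgroup.map_mono D.spanN).trans ?_
    rw [MonoidHom.map_closure, Subgroup.closure_le]
    rintro _ ⟨x, hx, rfl⟩
    have hc : Commute (g * x * g⁻¹) (g * n * g⁻¹) := by
      show g * x * g⁻¹ * (g * n * g⁻¹) = g * n * g⁻¹ * (g * x * g⁻¹)
      calc g * x * g⁻¹ * (g * n * g⁻¹) = g * (x * n) * g⁻¹ := by group
        _ = g * (n * x) * g⁻¹ := by rw [(D.comm (D.NV hx) (D.NV hn)).eq]
        _ = _ := by group
    exact D.NV (D.closN x hx g (D.centN _ hg _ hc))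
  refine Subgroup.eq_of_le_of_card_ge hle ?_
  rw [Subgroup.card_map_of_injective (MulAut.conj g).injective]

omit [Finite G] in
/-- the two classes are not fused -/
theorem not_fused {n g : G} (hn : n ∈ D.N) : g * n * g⁻¹ ∉ D.I := fun h =>
  D.disj _ (D.closN n hn g (D.VM (D.IV h))) h

/-- every conjugate of a member of `I` lies in `V` -/
theorem conj_mem {i : G} (hi : i ∈ D.I) (g : G) : g * i * g⁻¹ ∈ D.V := by
  by_contra hv
  have hvv : (g * i * g⁻¹) * (g * i * g⁻¹) = 1 := by
    calc (g * i * g⁻¹) * (g * i * g⁻¹) = g * (i * i) * g⁻¹ := by group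
      _ = 1 := by rw [D.sq i (D.IV hi)]; group
  have hvM : g * i * g⁻¹ ∉ D.M := fun h => hv (D.IV (D.closI i hi g h))
  set v := g * i * g⁻¹ with hvdef
  -- the central involution
  have key : ∀ n ∈ D.N, ∃ w, w ∈ D.I ∧ Commute w v ∧ n * w ∈ D.I ∧
      ∃ h : G, h * n * h⁻¹ = w * v ∧ ∀ c ∈ D.V, Commute c v → Commute c h := by
    intro n hn
    have hnn : n * n = 1 := D.sq n (D.NV hn)
    have hno : (n * v)⁻¹ = v * n := by
      rw [mul_inv_rev, inv_eq_of_mul_eq_one_right hvv, inv_eq_of_mul_eq_one_right hnn]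
    rcases Nat.even_or_odd (orderOf (n * v)) with hev | hodd
    swap
    · exfalso
      obtain ⟨k, hk⟩ := hodd
      have h := conj_pow n v hnn hvv k
      have e : (n * v) ^ (2 * k) = v * n := by
        rw [← hno, eq_inv_iff_mul_eq_one, ← pow_succ, ← hk, pow_orderOf_eq_one]
      rw [e, mul_assoc v n n, hnn, mul_one] at h
      refine D.not_fused (g := g⁻¹ * (n * v) ^ k) hn (?_ : _ ∈ D.I)
      have : g⁻¹ * (n * v) ^ k * n * (g⁻¹ * (n * v) ^ k)⁻¹ = g⁻¹ * v * g := by
        calc g⁻¹ * (n * v) ^ k * n * (g⁻¹ * (n * v) ^ k)⁻¹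
            = g⁻¹ * ((n * v) ^ k * n * ((n * v) ^ k)⁻¹) * g := by group
          _ = _ := by rw [h]
      rw [this, hvdef]
      simpa [mul_assoc] using hi
    obtain ⟨m, hm⟩ := hev
    have hm0 : 0 < m := by have := orderOf_pos (n * v); omega
    set w := (n * v) ^ m with hw
    have hw1 : w ≠ 1 := pow_ne_one_of_lt_orderOf (by omega) (by omega)
    have hww : w * w = 1 := by rw [hw, ← pow_add, ← hm, pow_orderOf_eq_one]
    have hwi : w⁻¹ = w := inv_eq_of_mul_eq_one_right hww
    have hcn : Commute w n := by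
      have e : n * w * n⁻¹ = w := by
        have h1 : n * (n * v) * n⁻¹ = (n * v)⁻¹ := by
          rw [hno, inv_eq_of_mul_eq_one_right hnn, ← mul_assoc, hnn, one_mul]
        calc n * w * n⁻¹ = (n * (n * v) * n⁻¹) ^ m := by rw [hw]; exact (_root_.conj_pow).symm
          _ = w⁻¹ := by rw [h1, inv_pow]
          _ = w := hwi
      exact (mul_inv_eq_iff_eq_mul.1 e).symm
    have hcv : Commute w v := by
      have e : v = n * (n * v) := by rw [← mul_assoc, hnn, one_mul]
      rw [e]
      exact hcn.mul_right ((Commute.refl (n * v)).pow_left m)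
    have hwM : w ∈ D.M := D.centN n hn w hcn
    -- the product is conjugate to one of the generators
    have hwn : w * n ∈ D.M := D.M.mul_mem hwM (D.VM (D.NV hn))
    rcases Nat.even_or_odd m with ⟨l, hl⟩ | ⟨l, hl⟩
    · exfalso
      set ρ := (n * v) ^ l with hρ
      have hcon : ρ * n * ρ⁻¹ = w * n := by
        rw [hρ, conj_pow n v hnn hvv l, hw, hl, two_mul]
      have hwnN : w * n ∈ D.N := by
        have := D.closN n hn ρ (hcon ▸ hwn)
        rwa [hcon] at this
      have hρM : ρ ∈ D.M := D.move hn (hcon ▸ hwnN)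
      have hρn : ρ * n ∈ D.V := by
        have hm' : ρ * n ∈ D.M := D.M.mul_mem hρM (D.VM (D.NV hn))
        rcases Nat.even_or_odd l with ⟨k, hk⟩ | ⟨k, hk⟩
        · have e : (n * v) ^ k * n * ((n * v) ^ k)⁻¹ = ρ * n := by
            rw [conj_pow n v hnn hvv k, hρ, hk, two_mul]
          exact D.NV (e ▸ D.closN n hn _ (e.symm ▸ hm'))
        · have e : (n * v) ^ (k + 1) * g * i * ((n * v) ^ (k + 1) * g)⁻¹ = ρ * n := by
            calc (n * v) ^ (k + 1) * g * i * ((n * v) ^ (k + 1) * g)⁻¹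
                = (n * v) ^ (k + 1) * v * ((n * v) ^ (k + 1))⁻¹ := by rw [hvdef]; group
              _ = (n * v) ^ (2 * (k + 1)) * v := conj_pow_right n v hnn hvv (k + 1)
              _ = ρ * n := by
                  rw [hρ, hk, show 2 * (k + 1) = 2 * k + 1 + 1 by ring, pow_succ (n * v) (2 * k + 1)]
                  calc (n * v) ^ (2 * k + 1) * (n * v) * v = (n * v) ^ (2 * k + 1) * n * (v * v) := by group
                    _ = _ := by rw [hvv, mul_one]
          exact D.IV (e ▸ D.closI i hi _ (e.symm ▸ hm'))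
      have hρV : ρ ∈ D.V := by simpa [mul_assoc, hnn] using D.V.mul_mem hρn (D.NV hn)
      have := D.sq ρ hρV
      rw [hρ, ← pow_add, ← hl] at this
      exact hw1 this
    · have hcon : (n * v) ^ l * n * ((n * v) ^ l)⁻¹ = w * v := by
        rw [conj_pow n v hnn hvv l, hw, hl, pow_succ]
        calc (n * v) ^ (2 * l) * n = (n * v) ^ (2 * l) * n * (v * v) := by rw [hvv, mul_one]
          _ = _ := by group
      have e : (n * v) ^ (l + 1) * g * i * ((n * v) ^ (l + 1) * g)⁻¹ = w * n := by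
        calc (n * v) ^ (l + 1) * g * i * ((n * v) ^ (l + 1) * g)⁻¹
            = (n * v) ^ (l + 1) * v * ((n * v) ^ (l + 1))⁻¹ := by rw [hvdef]; group
          _ = (n * v) ^ (2 * (l + 1)) * v := conj_pow_right n v hnn hvv (l + 1)
          _ = w * n := by
              rw [hw, hl, show 2 * (l + 1) = 2 * l + 1 + 1 by ring, pow_succ (n * v) (2 * l + 1)]
              calc (n * v) ^ (2 * l + 1) * (n * v) * v = (n * v) ^ (2 * l + 1) * n * (v * v) := by group
                _ = _ := by rw [hvv, mul_one]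
      have hwnI : w * n ∈ D.I := by
        have := D.closI i hi _ (e.symm ▸ hwn)
        rwa [e] at this
      have hwV : w ∈ D.V := by simpa [mul_assoc, hnn] using D.V.mul_mem (D.IV hwnI) (D.NV hn)
      refine ⟨w, ?_, hcv, hcn.eq ▸ hwnI, _, hcon, fun c hc hcv' => ?_⟩
      · rcases D.cover w hwV hw1 with h | h
        · exact absurd (D.centN w h v hcv.symm) hvM
        · exact h
      · exact ((D.comm hc (D.NV hn)).mul_right hcv').pow_right l
  -- two members of `N`
  have hN : ∃ n, n ∈ D.N := by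
    by_contra h
    push Not at h
    have hV : D.V ≤ ⊥ := D.spanN.trans (by rw [Set.eq_empty_iff_forall_notMem.2 h]; simp)
    exact D.oneI ((Subgroup.mem_bot.1 (hV (D.IV hi))) ▸ hi)
  obtain ⟨n, hn⟩ := hN
  obtain ⟨y, hy, hyv, hny, h, hh, hhc⟩ := key n hn
  obtain ⟨n', hn', hperp⟩ := D.perp y hy
  obtain ⟨w, hw, hwv, -, h', hh', hhc'⟩ := key n' hn'
  have hyV := D.IV hy
  have hwV := D.IV hw
  set c := y * w with hcdef
  have hcV : c ∈ D.V := D.V.mul_mem hyV hwV
  have hcv : Commute c v := hyv.mul_left hwv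
  have hk : (h'⁻¹ * h) * n * (h'⁻¹ * h)⁻¹ = c * n' := by
    have hc : Commute c h' := hhc' c hcV hcv
    have hn'' : n' = h'⁻¹ * (w * v) * h' := by rw [← hh']; group
    calc (h'⁻¹ * h) * n * (h'⁻¹ * h)⁻¹ = h'⁻¹ * (h * n * h⁻¹) * h' := by group
      _ = h'⁻¹ * (c * (w * v)) * h' := by
          rw [hh, hcdef, mul_assoc y w, ← mul_assoc w w v, D.sq w hwV, one_mul]
      _ = c * (h'⁻¹ * (w * v) * h') := by
          rw [← mul_assoc h'⁻¹, ← hc.inv_right.eq]; group
      _ = _ := by rw [← hn'']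
  have hcn : c * n' ∈ D.N := by
    have := D.closN n hn (h'⁻¹ * h) (hk ▸ D.VM (D.V.mul_mem hcV (D.NV hn')))
    rwa [hk] at this
  have small : ∀ x ∈ D.V, Commute x v → x = 1 ∨ x ∈ D.I := fun x hx hxv => by
    by_cases h1 : x = 1
    · exact Or.inl h1
    · rcases D.cover x hx h1 with h2 | h2
      · exact absurd (D.centN x h2 v hxv.symm) hvM
      · exact Or.inr h2
  have hgood := hperp c hcV (small c hcV hcv) (small _ (D.V.mul_mem hcV hyV) (hcv.mul_left hyv)) hcn
  have hky : (h'⁻¹ * h) * (n * y) * (h'⁻¹ * h)⁻¹ = c * y * n' := by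
    have hyh : Commute y (h'⁻¹ * h) := (hhc' y hyV hyv).inv_right.mul_right (hhc y hyV hyv)
    calc (h'⁻¹ * h) * (n * y) * (h'⁻¹ * h)⁻¹ = (h'⁻¹ * h) * n * (y * (h'⁻¹ * h)⁻¹) := by group
      _ = (h'⁻¹ * h) * n * (h'⁻¹ * h)⁻¹ * y := by rw [hyh.inv_right.eq]; group
      _ = c * (n' * y) := by rw [hk, mul_assoc]
      _ = _ := by rw [(D.comm (D.NV hn') hyV).eq]; exact (mul_assoc _ _ _).symm
  have hbad := D.closI _ hny (h'⁻¹ * h) (hky ▸ D.VM (D.NV hgood))
  rw [hky] at hbad
  exact D.disj _ hgood hbad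

/-- `V` is normal -/
theorem normal : D.V.Normal := ⟨fun x hx g => by
  have hle : D.V.map (MulAut.conj g).toMonoidHom ≤ D.V := by
    refine (Subgroup.map_mono D.spanI).trans ?_
    rw [MonoidHom.map_closure, Subgroup.closure_le]
    rintro _ ⟨i, hi, rfl⟩
    exact D.conj_mem hi g
  exact hle ⟨x, hx, rfl⟩⟩

/-- `M` is the whole group -/
theorem top : D.M = ⊤ := by
  have := D.normal
  exact top_le_iff.1 (le_trans (by rw [Subgroup.normalizer_eq_top]) D.normV)

end Data

end Cfsg.Agent.Fusion.TwoClass
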