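import Cfsg.Agent.Lib.Fusion.NormalControl

/-!
If every element of a Sylow two-subgroup is conjugate to a central element of it, then the Sylow
two-subgroup is abelian.

The real elements of `P` have order at most two, so the involutions of `P` form an abelian strongly
closed subgroup `V`, and the normaliser of `V` controls fusion; induction modulo `V` and Burnside's
fusion lemma in the abelian quotient show that `P = Z(P) V`.
-/

set_option autoImplicit false
set_option linter.style.haveILetI false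

namespace Cfsg.Agent.Fusion.TwoCentral

open Cfsg.Agent Cfsg.Agent.Fusion
open scoped commutatorElement

universe u

variable {G : Type u} [Group G] [Finite G]

/-- Every element of `P` is conjugate to an element of `P` centralising `P`. -/
def AllCentral (P : Sylow 2 G) : Prop :=
  ∀ x ∈ (P : Subgroup G), ∃ g : G, g * x * g⁻¹ ∈ (P : Subgroup G) ∧
    g * x * g⁻¹ ∈ Subgroup.centralizer ((P : Subgroup G) : Set G)

/-- A central element of `P` conjugate to its inverse squares to one. -/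
theorem central_real (P : Sylow 2 G) {z g : G}
    (hc : z ∈ Subgroup.centralizer ((P : Subgroup G) : Set G)) (hg : g * z * g⁻¹ = z⁻¹) : z * z = 1 := by
  haveI : Fact (Nat.Prime 2) := ⟨Nat.prime_two⟩
  obtain ⟨n, hn, he⟩ := P.conj_eq_normalizer_conj_of_mem_centralizer z g⁻¹ hc
    (by rw [inv_inv, hg]; exact inv_mem hc)
  rw [inv_inv, hg] at he
  obtain ⟨a, m, hm, ho⟩ := Nat.exists_eq_two_pow_mul_odd (orderOf_pos n).ne'
  have h2 : IsPGroup 2 (Subgroup.zpowers (n ^ m)) := by
    refine IsPGroup.of_card (n := a) ?_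
    rw [Nat.card_zpowers, orderOf_pow' _ hm.pos.ne', ho, Nat.gcd_eq_right (dvd_mul_left m (2 ^ a)),
      Nat.mul_div_cancel _ hm.pos]
  have hle : Subgroup.zpowers (n ^ m) ≤ Subgroup.normalizer ((P : Subgroup G) : Set G) :=
    Subgroup.zpowers_le.2 (pow_mem hn m)
  have hP : n ^ m ∈ (P : Subgroup G) :=
    P.3 (IsPGroup.to_sup_of_normal_right' h2 P.2 hle) le_sup_right |>.le
      (Subgroup.mem_sup_left (Subgroup.mem_zpowers _))
  have hfix : (n ^ m) * z = z * n ^ m := Subgroup.mem_centralizer_iff.1 hc _ hP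
  -- conjugation by an odd power of `n` still inverts
  have hodd : ∀ k : ℕ, (n ^ (2 * k + 1))⁻¹ * z * n ^ (2 * k + 1) = z⁻¹ := by
    intro k
    induction k with
    | zero => simpa using he.symm
    | succ k ih =>
      have hb : n⁻¹ * z⁻¹ * n = z := by
        calc n⁻¹ * z⁻¹ * n = (n⁻¹ * z * n)⁻¹ := by group
          _ = z := by rw [← he, inv_inv]
      calc (n ^ (2 * (k + 1) + 1))⁻¹ * z * n ^ (2 * (k + 1) + 1)
          = n⁻¹ * (n⁻¹ * ((n ^ (2 * k + 1))⁻¹ * z * n ^ (2 * k + 1)) * n) * n := by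
            rw [show 2 * (k + 1) + 1 = (2 * k + 1) + 1 + 1 by ring, pow_succ, pow_succ]
            simp only [mul_inv_rev, mul_assoc]
        _ = n⁻¹ * (n⁻¹ * z⁻¹ * n) * n := by rw [ih]
        _ = n⁻¹ * z * n := by rw [hb]
        _ = z⁻¹ := he.symm
  obtain ⟨k, hk⟩ := hm
  have := hodd k
  rw [← hk, mul_assoc, ← hfix, ← mul_assoc, inv_mul_cancel, one_mul] at this
  exact mul_eq_one_iff_eq_inv.2 this

/-- An element of `P` conjugate to its inverse squares to one. -/
theorem real_sq {P : Sylow 2 G} (h : AllCentral P) {x g : G} (hx : x ∈ (P : Subgroup G))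
    (hg : g * x * g⁻¹ = x⁻¹) : x * x = 1 := by
  obtain ⟨a, -, hac⟩ := h x hx
  have := central_real P hac (g := a * g * a⁻¹) (by
    calc a * g * a⁻¹ * (a * x * a⁻¹) * (a * g * a⁻¹)⁻¹ = a * (g * x * g⁻¹) * a⁻¹ := by group
      _ = (a * x * a⁻¹)⁻¹ := by rw [hg]; group)
  rw [show a * x * a⁻¹ * (a * x * a⁻¹) = a * (x * x) * a⁻¹ by group] at this
  exact conj_eq_one_iff.1 this

/-- The Sylow two-subgroup is abelian when all its elements fuse into its centre. -/
theorem sylow_abelian {n : ℕ} : ∀ {G : Type u} [Group G] [Finite G] (P : Sylow 2 G),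
    Nat.card (P : Subgroup G) = n → AllCentral P →
      ∀ x ∈ (P : Subgroup G), ∀ y ∈ (P : Subgroup G), x * y = y * x := by
  induction n using Nat.strong_induction_on with
  | _ n ih =>
  intro G _ _ P hn h
  classical
  haveI : Fact (Nat.Prime 2) := ⟨Nat.prime_two⟩
  have hinv : ∀ {u : G}, u * u = 1 → u⁻¹ = u := fun hu => inv_eq_of_mul_eq_one_right hu
  have hcomm : ∀ u ∈ (P : Subgroup G), ∀ v ∈ (P : Subgroup G), u * u = 1 → v * v = 1 →
      u * v = v * u := by
    intro u hu v hv hu2 hv2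
    have := real_sq h (mul_mem hu hv) (g := u) (by
      rw [mul_inv_rev, hinv hu2, hinv hv2, ← mul_assoc u u v, hu2, one_mul])
    rw [mul_eq_one_iff_eq_inv, mul_inv_rev, hinv hu2, hinv hv2] at this
    exact this
  let V : Subgroup G :=
    { carrier := {u | u ∈ (P : Subgroup G) ∧ u * u = 1}
      one_mem' := ⟨one_mem _, one_mul 1⟩
      mul_mem' := fun {u v} hu hv => ⟨mul_mem hu.1 hv.1, by
        calc u * v * (u * v) = u * (v * u) * v := by group
          _ = u * (u * v) * v := by rw [hcomm u hu.1 v hv.1 hu.2 hv.2]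
          _ = (u * u) * (v * v) := by group
          _ = 1 := by rw [hu.2, hv.2, one_mul]⟩
      inv_mem' := fun {u} hu => by
        show u⁻¹ ∈ (P : Subgroup G) ∧ u⁻¹ * u⁻¹ = 1
        exact ⟨inv_mem hu.1, by rw [← mul_inv_rev, hu.2, inv_one]⟩ }
  have hVP : V ≤ (P : Subgroup G) := fun _ hu => hu.1
  have hVab : IsMulCommutative V :=
    ⟨⟨fun a b => Subtype.ext (hcomm a a.2.1 b b.2.1 a.2.2 b.2.2)⟩⟩
  have hclV : ∀ x ∈ V, ∀ g : G, g * x * g⁻¹ ∈ (P : Subgroup G) → g * x * g⁻¹ ∈ V :=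
    fun x hx g hg => ⟨hg, by
      rw [show g * x * g⁻¹ * (g * x * g⁻¹) = g * (x * x) * g⁻¹ by group, hx.2, mul_one, mul_inv_cancel]⟩
  have hPN : (P : Subgroup G) ≤ Subgroup.normalizer (V : Set G) := fun s hs =>
    mem_normalizer_of_cj_le (by
      rintro _ ⟨a, ha, rfl⟩
      exact hclV a ha s (mul_mem (mul_mem hs (hVP ha)) (inv_mem hs)))
  by_cases hVbot : V = ⊥
  · -- no involutions at all
    intro x hx y _
    suffices x = 1 by rw [this, one_mul, mul_one]
    by_contra hx1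
    obtain ⟨k, hk⟩ := P.2 ⟨x, hx⟩
    have hk' : x ^ 2 ^ k = 1 := congrArg Subtype.val hk
    have key : ∀ j : ℕ, x ^ 2 ^ j = 1 → x = 1 := by
      intro j
      induction j with
      | zero => intro hj; rwa [pow_zero, pow_one] at hj
      | succ j ihj =>
        intro hj
        refine ihj ?_
        have hmem : x ^ 2 ^ j ∈ V := ⟨pow_mem hx _, by rwa [← pow_add, ← two_mul, ← pow_succ']⟩
        rwa [hVbot, Subgroup.mem_bot] at hmem
    exact hx1 (key k hk')
  have hsucc : ∀ i, V.lowerCentralSeries (i + 1) = ⊥ := by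
    intro i
    rw [Subgroup.lowerCentralSeries_succ, eq_bot_iff, Subgroup.commutator_le]
    intro a ha b hb
    rw [Subgroup.mem_bot, commutatorElement_eq_one_iff_mul_comm]
    exact congrArg Subtype.val (mul_comm' (⟨a, lower_le V i ha⟩ : ↥V) ⟨b, hb⟩)
  -- the normaliser of `V` controls fusion of elements
  set N := Subgroup.normalizer (V : Set G) with hN
  have hctrl : ∀ x ∈ (P : Subgroup G), ∀ g : G, g * x * g⁻¹ ∈ (P : Subgroup G) →
      ∃ m ∈ N, m * x * m⁻¹ = g * x * g⁻¹ := by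
    intro x hx g hg
    obtain ⟨c, hc, m, hm, he⟩ := normalizer_controls_of_series (W := V) (sylIn_top P) hVP hPN
      (fun i z hz t ht => by
        rcases i with _ | i
        · simp only [Subgroup.lowerCentralSeries_zero] at hz ⊢
          exact hclV z hz t ht
        · rw [hsucc i, Subgroup.mem_bot] at hz ⊢
          rw [hz]; simp) (g := g⁻¹) (A := ({x} : Set G)) (Set.singleton_subset_iff.2 hx)
      (by rintro _ ⟨a, ha, rfl⟩; rw [Set.mem_singleton_iff] at ha; subst ha; rw [inv_inv]; exact hg)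
    refine ⟨m⁻¹, inv_mem hm, ?_⟩
    have h1 := Subgroup.mem_centralizer_iff.1 (inv_mem hc) x (Set.mem_singleton x)
    have hg' : g = (c * m)⁻¹ := by rw [← he, inv_inv]
    rw [hg']
    calc m⁻¹ * x * m⁻¹⁻¹ = m⁻¹ * (x * c⁻¹) * c * m := by group
      _ = m⁻¹ * (c⁻¹ * x) * c * m := by rw [h1]
      _ = _ := by group
  -- pass to the quotient by `V`
  let PN : Sylow 2 N := P.subtype hPN
  let q : ↥N →* ↥N ⧸ V.subgroupOf N := QuotientGroup.mk' (V.subgroupOf N)
  have hq : Function.Surjective q := QuotientGroup.mk'_surjective _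
  have hqV : ∀ u : N, q u = 1 ↔ (u : G) ∈ V := fun u =>
    (QuotientGroup.eq_one_iff u).trans Subgroup.mem_subgroupOf
  let Pb : Sylow 2 (↥N ⧸ V.subgroupOf N) := PN.mapSurjective hq
  have hmemN : ∀ u : N, u ∈ (PN : Subgroup N) ↔ (u : G) ∈ (P : Subgroup G) := fun u => Iff.rfl
  have hmem : ∀ u : N, q u ∈ (Pb : Subgroup (↥N ⧸ V.subgroupOf N)) ↔ (u : G) ∈ (P : Subgroup G) := by
    intro u
    constructor
    · rintro ⟨v, hv, he⟩
      have h1 : (v : G)⁻¹ * u ∈ V :=
        (hqV (v⁻¹ * u)).1 (by rw [map_mul, map_inv, he, inv_mul_cancel])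
      have := mul_mem ((hmemN v).1 hv) (hVP h1)
      rwa [mul_inv_cancel_left] at this
    · exact fun hu => ⟨u, (hmemN u).2 hu, rfl⟩
  have hallb : AllCentral Pb := by
    intro w hw
    obtain ⟨u, rfl⟩ := hq w
    have hu := (hmem u).1 hw
    obtain ⟨g, hgP, hgc⟩ := h u hu
    obtain ⟨m, hm, he⟩ := hctrl u hu g hgP
    refine ⟨q ⟨m, hm⟩, ?_, Subgroup.mem_centralizer_iff.2 fun w' hw' => ?_⟩
    · rw [← map_inv, ← map_mul, ← map_mul]
      exact (hmem _).2 (show m * (u : G) * m⁻¹ ∈ (P : Subgroup G) by rw [he]; exact hgP)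
    · obtain ⟨v, rfl⟩ := hq w'
      rw [← map_inv, ← map_mul, ← map_mul, ← map_mul, ← map_mul]
      congr 1
      exact Subtype.ext (show (v : G) * (m * u * m⁻¹) = m * u * m⁻¹ * v by
        rw [he]; exact Subgroup.mem_centralizer_iff.1 hgc _ ((hmem v).1 hw'))
  have hlt : Nat.card (Pb : Subgroup (↥N ⧸ V.subgroupOf N)) < n := by
    have e : Nat.card (PN : Subgroup N) = n := hn ▸ Nat.card_congr (Subgroup.subgroupOfEquivOfLe hPN).toEquiv
    let φ : ↥(PN : Subgroup N) → ↥(Pb : Subgroup (↥N ⧸ V.subgroupOf N)) :=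
      fun u => ⟨q u.1, (hmem u.1).2 u.2⟩
    have hφs : Function.Surjective φ := by
      rintro ⟨w, u, hu, rfl⟩
      exact ⟨⟨u, hu⟩, rfl⟩
    refine e ▸ lt_of_le_of_ne (Nat.card_le_card_of_surjective φ hφs) fun heq => ?_
    have hinj := ((Nat.bijective_iff_surjective_and_card φ).2 ⟨hφs, heq.symm⟩).1
    obtain ⟨⟨v, hv⟩, hv1'⟩ := V.ne_bot_iff_exists_ne_one.1 hVbot
    have hv1 : v ≠ 1 := fun e => hv1' (Subtype.ext e)
    have := @hinj ⟨⟨v, hPN (hVP hv)⟩, hVP hv⟩ 1 (Subtype.ext (by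
      show q ⟨v, _⟩ = q 1
      rw [map_one, hqV]; exact hv))
    exact hv1 (congrArg (fun z : ↥(PN : Subgroup N) => ((z : N) : G)) this)
  have habel := ih _ hlt Pb rfl hallb
  -- Burnside's lemma in the quotient
  have hdec : ∀ x ∈ (P : Subgroup G), ∃ c ∈ Subgroup.centralizer ((P : Subgroup G) : Set G),
      ∃ v ∈ V, x = c * v := by
    intro x hx
    obtain ⟨g, hgP, hgc⟩ := h x hx
    obtain ⟨m, hm, he⟩ := hctrl x hx g hgP
    set xN : N := ⟨x, hPN hx⟩
    set zN : N := ⟨g * x * g⁻¹, hPN hgP⟩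
    have hcen : ∀ u : N, (u : G) ∈ (P : Subgroup G) →
        q u ∈ Subgroup.centralizer ((Pb : Subgroup (↥N ⧸ V.subgroupOf N)) : Set (↥N ⧸ V.subgroupOf N)) :=
      fun u hu => Subgroup.mem_centralizer_iff.2 fun w hw => habel w hw _ ((hmem u).2 hu)
    have hmx : (⟨m, hm⟩ : N) * xN * (⟨m, hm⟩ : N)⁻¹ = zN := Subtype.ext he
    obtain ⟨k, hk, hke⟩ := Pb.conj_eq_normalizer_conj_of_mem_centralizer (q xN) (q ⟨m, hm⟩)⁻¹
      (hcen xN hx) (by
        rw [inv_inv, ← map_inv, ← map_mul, ← map_mul, hmx]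
        exact hcen zN hgP)
    rw [inv_inv, ← map_inv, ← map_mul, ← map_mul, hmx] at hke
    obtain ⟨t, rfl⟩ := hq k
    rw [← map_inv, ← map_mul, ← map_mul] at hke
    have hv : (t : G)⁻¹ * x * t * (g * x * g⁻¹)⁻¹ ∈ V := by
      refine (hqV (t⁻¹ * xN * t * zN⁻¹)).1 ?_
      rw [map_mul, map_inv, hke, mul_inv_cancel]
    have ht : (t : G) ∈ Subgroup.normalizer ((P : Subgroup G) : Set G) := by
      refine mem_normalizer_of_cj_le ?_
      rintro _ ⟨a, ha, rfl⟩
      have := (Subgroup.mem_normalizer_iff.1 hk (q ⟨a, hPN ha⟩)).1 ((hmem _).2 ha)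
      rw [← map_inv, ← map_mul, ← map_mul, hmem] at this
      exact this
    set z := g * x * g⁻¹ with hz
    refine ⟨(t : G) * z * (t : G)⁻¹, ?_, ((t : G) * z * (t : G)⁻¹)⁻¹ * x, ?_, (mul_inv_cancel_left _ _).symm⟩
    · refine Subgroup.mem_centralizer_iff.2 fun a ha => ?_
      have h1 : (t : G)⁻¹ * a * t ∈ (P : Subgroup G) := by
        have := (Subgroup.mem_normalizer_iff.1 (inv_mem ht) a).1 ha
        rwa [inv_inv] at this
      have h2 := Subgroup.mem_centralizer_iff.1 hgc _ h1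
      calc a * (t * z * (t : G)⁻¹) = t * (((t : G)⁻¹ * a * t) * z) * (t : G)⁻¹ := by group
        _ = t * (z * ((t : G)⁻¹ * a * t)) * (t : G)⁻¹ := by rw [h2]
        _ = t * z * (t : G)⁻¹ * a := by group
    · set r := (t : G)⁻¹ * x * t * z⁻¹ with hr
      have hzN : z⁻¹ ∈ N := inv_mem (hPN hgP)
      have h1 : z⁻¹ * r * z⁻¹⁻¹ ∈ V := (Subgroup.mem_normalizer_iff.1 hzN r).1 hv
      have h2 := (Subgroup.mem_normalizer_iff.1 t.2 _).1 h1
      convert h2 using 1
      rw [hr]; group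
  intro x hx y hy
  obtain ⟨c, hc, v, hv, rfl⟩ := hdec x hx
  obtain ⟨d, hd, w, hw, rfl⟩ := hdec y hy
  have hdP : d ∈ (P : Subgroup G) := by
    have := mul_mem hy (inv_mem (hVP hw))
    rwa [mul_inv_cancel_right] at this
  have e1 : c * (d * w) = d * w * c := (Subgroup.mem_centralizer_iff.1 hc _ hy).symm
  have e2 : v * d = d * v := Subgroup.mem_centralizer_iff.1 hd _ (hVP hv)
  have e3 : v * w = w * v := hcomm v hv.1 w hw.1 hv.2 hw.2
  calc c * v * (d * w) = c * (v * d) * w := by group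
    _ = c * d * (v * w) := by rw [e2]; group
    _ = c * (d * w) * v := by rw [e3]; group
    _ = d * w * (c * v) := by rw [e1]; group

/-- Sylow two-subgroups are abelian when all two-elements have classes of odd size. -/
theorem sylow_abelian_of_odd_classes
    (h : ∀ x : G, (∃ k : ℕ, orderOf x = 2 ^ k) → ¬ 2 ∣ (Subgroup.centralizer ({x} : Set G)).index)
    (P : Sylow 2 G) : IsMulCommutative P := by
  haveI : Fact (Nat.Prime 2) := ⟨Nat.prime_two⟩
  have hall : AllCentral P := by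
    intro x hx
    obtain ⟨k, hk⟩ := IsPGroup.iff_orderOf.1 P.2 ⟨x, hx⟩
    have hk' : orderOf x = 2 ^ k := by rw [← hk, Subgroup.orderOf_mk]
    obtain ⟨R⟩ : Nonempty (Sylow 2 (Subgroup.centralizer ({x} : Set G))) := inferInstance
    set R' := (R : Subgroup (Subgroup.centralizer ({x} : Set G))).map
      (Subgroup.centralizer ({x} : Set G)).subtype with hR'
    have hR2 : IsPGroup 2 R' := R.2.map _
    have hcx : ∀ r ∈ R', x * r = r * x := by
      rintro _ ⟨r, -, rfl⟩
      exact Subgroup.mem_centralizer_iff.1 r.2 x (Set.mem_singleton x)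
    have hidx : ¬ 2 ∣ R'.index := by
      rw [hR', Subgroup.index_map_subtype]
      exact fun hd => (Nat.prime_two.dvd_mul.1 hd).elim R.not_dvd_index (h x ⟨k, hk'⟩)
    let Q : Sylow 2 G := hR2.toSylow hidx
    obtain ⟨g, hg⟩ := MulAction.exists_smul_eq G Q P
    have hgQ : ∀ r : G, r ∈ R' ↔ g * r * g⁻¹ ∈ (P : Subgroup G) := by
      intro r
      rw [← hg, Sylow.coe_subgroup_smul, Subgroup.mem_pointwise_smul_iff_inv_smul_mem]
      simp [Q, MulAut.smul_def, mul_assoc]
    refine ⟨g, ?_, Subgroup.mem_centralizer_iff.2 fun a ha => ?_⟩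
    · rw [← hgQ]
      have hxz : IsPGroup 2 (Subgroup.zpowers x) := IsPGroup.of_card (n := k) (by rw [Nat.card_zpowers, hk'])
      have hle : Subgroup.zpowers x ≤ Subgroup.normalizer (R' : Set G) :=
        Subgroup.zpowers_le.2 (Subgroup.centralizer_le_normalizer (s := (R' : Set G))
          (Subgroup.mem_centralizer_iff.2 fun r hr => (hcx r hr).symm))
      exact (Q.3 (IsPGroup.to_sup_of_normal_right' hxz hR2 hle) le_sup_right).le
        (Subgroup.mem_sup_left (Subgroup.mem_zpowers x))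
    · have h1 : g⁻¹ * a * g ∈ R' := (hgQ _).2 (by rw [show g * (g⁻¹ * a * g) * g⁻¹ = a by group]; exact ha)
      have h2 := hcx _ h1
      calc a * (g * x * g⁻¹) = g * ((g⁻¹ * a * g) * x) * g⁻¹ := by group
        _ = g * (x * (g⁻¹ * a * g)) * g⁻¹ := by rw [h2]
        _ = g * x * g⁻¹ * a := by group
  exact ⟨⟨fun a b => Subtype.ext (sylow_abelian P rfl hall a a.2 b b.2)⟩⟩

end Cfsg.Agent.Fusion.TwoCentral
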