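import Cfsg.Prelude.Def_CaseTheorems
import Cfsg.Agent.Lib.Fusion.Dihedral
import Cfsg.Agent.Lib.Solv.UniqueSub

/-!
# The structure of wreathed 2-groups
-/

set_option autoImplicit false
set_option linter.style.haveILetI false
set_option linter.unusedSectionVars false

namespace Cfsg.Agent.Fusion

variable {S : Type*} [Group S] [Finite S]

/-- Generators of a wreathed group of order `2 ^ (2 n + 1)`. -/
structure WRData (S : Type*) [Group S] (n : ℕ) where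
  x : S
  y : S
  t : S
  hn : 2 ≤ n
  hcard : Nat.card S = 2 ^ (2 * n + 1)
  ox : orderOf x = 2 ^ n
  comm : x * y = y * x
  disj : Subgroup.zpowers x ⊓ Subgroup.zpowers y = ⊥
  ot : orderOf t = 2
  rel : t * x * t⁻¹ = y

theorem exists_wrData (hS : Cfsg.IsWreathed S) {n : ℕ} (hn : Nat.card S = 2 ^ (2 * n + 1)) :
    Nonempty (WRData S n) := by
  obtain ⟨m, hm, hc, x, y, t, hx, hxy, hd, ht, hr⟩ := hS
  rw [hc] at hn
  obtain rfl : m = n := by
    have := Nat.pow_right_injective (le_refl 2) hn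
    omega
  exact ⟨⟨x, y, t, hm, hc, hx, hxy, hd, ht, hr⟩⟩

theorem exists_wrData' (hS : Cfsg.IsWreathed S) : ∃ n, Nonempty (WRData S n) := by
  obtain ⟨n, hn, hc, x, y, t, hx, hxy, hd, ht, hr⟩ := hS
  exact ⟨n, ⟨⟨x, y, t, hn, hc, hx, hxy, hd, ht, hr⟩⟩⟩

namespace WRData

variable {n : ℕ} (D : WRData S n)

/-- The element `x ^ i * y ^ j`. -/
def el (i j : ℤ) : S := D.x ^ i * D.y ^ j

/-- The common order `2 ^ n`. -/
def N (_D : WRData S n) : ℤ := 2 ^ n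

/-- Half of the common order. -/
def h (_D : WRData S n) : ℤ := 2 ^ (n - 1)

theorem N_eq : D.N = 2 * D.h := by
  have := D.hn
  rw [N, h, ← pow_succ']; congr 1; omega

theorem h_eq : D.h = 2 * 2 ^ (n - 2) := by
  have := D.hn
  rw [h, ← pow_succ']; congr 1; omega

theorem h_pos : 0 < D.h := pow_pos two_pos _

theorem not_N_dvd_h : ¬ D.N ∣ D.h := fun hd => by
  have := Int.le_of_dvd D.h_pos hd
  have := D.h_pos
  rw [D.N_eq] at *
  omega

theorem oy : orderOf D.y = 2 ^ n := by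
  rw [← D.rel, show D.t * D.x * D.t⁻¹ = MulAut.conj D.t D.x from rfl, MulEquiv.orderOf_eq, D.ox]

theorem zpow_x (i : ℤ) : D.x ^ i = 1 ↔ D.N ∣ i := by
  rw [← orderOf_dvd_iff_zpow_eq_one, D.ox]; push_cast; rfl

theorem zpow_y (i : ℤ) : D.y ^ i = 1 ↔ D.N ∣ i := by
  rw [← orderOf_dvd_iff_zpow_eq_one, D.oy]; push_cast; rfl

theorem el_zero : D.el 0 0 = 1 := by simp [el]

theorem el_mul (i j k l : ℤ) : D.el i j * D.el k l = D.el (i + k) (j + l) := by
  simp only [el, zpow_add]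
  rw [mul_assoc, ← mul_assoc (D.y ^ j), ((show Commute D.x D.y from D.comm).symm.zpow_zpow j k).eq]
  group

theorem el_inv (i j : ℤ) : (D.el i j)⁻¹ = D.el (-i) (-j) :=
  inv_eq_of_mul_eq_one_right (by rw [D.el_mul, add_neg_cancel, add_neg_cancel, D.el_zero])

theorem el_zpow (i j k : ℤ) : D.el i j ^ k = D.el (i * k) (j * k) := by
  rw [el, el, ((show Commute D.x D.y from D.comm).zpow_zpow i j).mul_zpow, ← zpow_mul, ← zpow_mul]

theorem el_eq_one (i j : ℤ) : D.el i j = 1 ↔ D.N ∣ i ∧ D.N ∣ j := by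
  constructor
  · intro he
    have h1 : D.x ^ i = (D.y ^ j)⁻¹ := mul_eq_one_iff_eq_inv.1 he
    have h2 : D.x ^ i ∈ Subgroup.zpowers D.x ⊓ Subgroup.zpowers D.y :=
      Subgroup.mem_inf.2 ⟨Subgroup.zpow_mem_zpowers _ _, h1 ▸ inv_mem (Subgroup.zpow_mem_zpowers _ _)⟩
    rw [D.disj, Subgroup.mem_bot] at h2
    rw [h2] at h1
    exact ⟨(D.zpow_x i).1 h2, (D.zpow_y j).1 (inv_eq_one.1 h1.symm)⟩
  · rintro ⟨hi, hj⟩
    rw [el, (D.zpow_x i).2 hi, (D.zpow_y j).2 hj, one_mul]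

theorem el_eq_iff (i j k l : ℤ) : D.el i j = D.el k l ↔ D.N ∣ i - k ∧ D.N ∣ j - l := by
  rw [← mul_inv_eq_one, D.el_inv, D.el_mul, D.el_eq_one]; rfl

theorem t_sq : D.t * D.t = 1 := invol_mul_self D.ot

theorem t_inv : D.t⁻¹ = D.t := invol_inv D.ot

theorem t_mul_el (i j : ℤ) : D.t * D.el i j = D.el j i * D.t := by
  have hy : D.t * D.y * D.t⁻¹ = D.x := by
    rw [← D.rel, show D.t * (D.t * D.x * D.t⁻¹) * D.t⁻¹ = (D.t * D.t) * D.x * (D.t * D.t)⁻¹ by group,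
      D.t_sq, one_mul, inv_one, mul_one]
  rw [el, el, ← mul_inv_eq_iff_eq_mul,
    show D.t * (D.x ^ i * D.y ^ j) * D.t⁻¹ = (D.t * D.x ^ i * D.t⁻¹) * (D.t * D.y ^ j * D.t⁻¹) by group,
    ← conj_zpow, ← conj_zpow, D.rel, hy]
  exact ((show Commute D.x D.y from D.comm).zpow_zpow j i).eq.symm

/-- The abelian maximal subgroup. -/
def A : Subgroup S where
  carrier := {s | ∃ i j : ℤ, s = D.el i j}
  one_mem' := ⟨0, 0, D.el_zero.symm⟩
  mul_mem' := by rintro a b ⟨i, j, rfl⟩ ⟨k, l, rfl⟩; exact ⟨_, _, D.el_mul i j k l⟩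
  inv_mem' := by rintro a ⟨i, j, rfl⟩; exact ⟨_, _, D.el_inv i j⟩

theorem el_mem (i j : ℤ) : D.el i j ∈ D.A := ⟨i, j, rfl⟩

theorem A_comm {a b : S} (ha : a ∈ D.A) (hb : b ∈ D.A) : a * b = b * a := by
  obtain ⟨i, j, rfl⟩ := ha
  obtain ⟨k, l, rfl⟩ := hb
  rw [D.el_mul, D.el_mul, add_comm i, add_comm j]

/-- Parametrisation of `A`. -/
def elFin (p : Fin (2 ^ n) × Fin (2 ^ n)) : S := D.el (p.1.val : ℤ) (p.2.val : ℤ)

theorem fin_repr (i : ℤ) : ∃ a : Fin (2 ^ n), D.N ∣ i - (a.val : ℤ) := by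
  have hN : (0 : ℤ) < D.N := pow_pos two_pos _
  refine ⟨⟨(i % D.N).toNat, ?_⟩, ?_⟩
  · have h1 := Int.emod_lt_of_pos i hN
    have h2 := Int.emod_nonneg i hN.ne'
    have h3 : D.N = ((2 ^ n : ℕ) : ℤ) := by rw [N]; push_cast; rfl
    omega
  · simp only [Int.toNat_of_nonneg (Int.emod_nonneg i hN.ne')]
    exact ⟨i / D.N, by rw [Int.emod_def]; ring⟩

theorem fin_inj {a b : Fin (2 ^ n)} (hd : D.N ∣ (a.val : ℤ) - (b.val : ℤ)) : a = b := by
  refine Fin.ext ?_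
  have h3 : D.N = ((2 ^ n : ℕ) : ℤ) := by rw [N]; push_cast; rfl
  obtain ⟨c, hc⟩ := hd
  rw [h3] at hc
  have ha := a.isLt
  have hb := b.isLt
  rcases lt_trichotomy c 0 with hlt | rfl | hgt
  · exfalso; nlinarith [show ((2 ^ n : ℕ) : ℤ) * c ≤ ((2 ^ n : ℕ) : ℤ) * (-1) from mul_le_mul_of_nonneg_left (by omega) (Int.natCast_nonneg _), (show ((b.val : ℤ)) < ((2 ^ n : ℕ) : ℤ) by exact_mod_cast hb)]
  · simp at hc; omega
  · exfalso; nlinarith [show ((2 ^ n : ℕ) : ℤ) * 1 ≤ ((2 ^ n : ℕ) : ℤ) * c from mul_le_mul_of_nonneg_left (by omega) (Int.natCast_nonneg _), (show ((a.val : ℤ)) < ((2 ^ n : ℕ) : ℤ) by exact_mod_cast ha)]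

theorem card_A : Nat.card D.A = 2 ^ (2 * n) := by
  have hf : Function.Bijective (fun p => (⟨D.elFin p, D.el_mem _ _⟩ : D.A)) := by
    constructor
    · rintro ⟨a, b⟩ ⟨c, d⟩ he
      obtain ⟨h1, h2⟩ := (D.el_eq_iff _ _ _ _).1 (congrArg Subtype.val he)
      exact Prod.ext (D.fin_inj h1) (D.fin_inj h2)
    · rintro ⟨_, i, j, rfl⟩
      obtain ⟨a, ha⟩ := D.fin_repr i
      obtain ⟨b, hb⟩ := D.fin_repr j
      exact ⟨(a, b), Subtype.ext ((D.el_eq_iff _ _ _ _).2 ⟨(dvd_sub_comm).1 ha, (dvd_sub_comm).1 hb⟩)⟩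
  rw [← Nat.card_eq_of_bijective _ hf, Nat.card_prod, Nat.card_fin, two_mul, pow_add]

theorem index_A : D.A.index = 2 := by
  have h1 := D.A.card_mul_index
  rw [D.card_A, D.hcard, pow_succ] at h1
  exact Nat.eq_of_mul_eq_mul_left (pow_pos two_pos _) h1

theorem t_not_mem : D.t ∉ D.A := fun ht => by
  have h1 : Commute D.t (D.el 1 0) := D.A_comm ht (D.el_mem 1 0)
  have h2 : D.el 0 1 * D.t = D.el 1 0 * D.t := by rw [← D.t_mul_el, h1.eq]
  obtain ⟨h3, -⟩ := (D.el_eq_iff _ _ _ _).1 (mul_right_cancel h2)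
  rw [zero_sub, dvd_neg] at h3
  exact D.not_N_dvd_h (h3.trans (one_dvd _))

theorem out_not_mem (i j : ℤ) : D.el i j * D.t ∉ D.A := fun hm =>
  D.t_not_mem ((Subgroup.mul_mem_cancel_left _ (D.el_mem i j)).1 hm)

theorem exists_form (s : S) : ∃ i j : ℤ, s = D.el i j ∨ s = D.el i j * D.t := by
  by_cases hs : s ∈ D.A
  · obtain ⟨i, j, rfl⟩ := hs; exact ⟨i, j, Or.inl rfl⟩
  · obtain ⟨i, j, hij⟩ := (Subgroup.mul_mem_iff_of_index_two D.index_A).2
      (iff_of_false hs (fun h' => D.t_not_mem (inv_mem_iff.1 h')) : s ∈ D.A ↔ D.t⁻¹ ∈ D.A)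
    exact ⟨i, j, Or.inr (by rw [← hij, inv_mul_cancel_right])⟩

theorem out_sq (i j : ℤ) : (D.el i j * D.t) * (D.el i j * D.t) = D.el (i + j) (i + j) := by
  calc _ = D.el i j * (D.t * D.el i j) * D.t := by group
    _ = D.el i j * D.el j i * (D.t * D.t) := by rw [D.t_mul_el]; group
    _ = _ := by rw [D.t_sq, mul_one, D.el_mul, add_comm j i]

theorem out_mul_out (i j k l : ℤ) : (D.el i j * D.t) * (D.el k l * D.t) = D.el (i + l) (j + k) := by
  calc _ = D.el i j * (D.t * D.el k l) * D.t := by group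
    _ = D.el i j * D.el l k * (D.t * D.t) := by rw [D.t_mul_el]; group
    _ = _ := by rw [D.t_sq, mul_one, D.el_mul]

theorem conj_out (i j k l : ℤ) :
    D.el k l * (D.el i j * D.t) * (D.el k l)⁻¹ = D.el (i + k - l) (j + l - k) * D.t := by
  rw [D.el_inv]
  calc _ = D.el k l * D.el i j * (D.t * D.el (-k) (-l)) := by group
    _ = _ := by rw [D.t_mul_el, ← mul_assoc, D.el_mul, D.el_mul]; ring_nf

theorem commute_out_el (i j k l : ℤ) : Commute (D.el k l) (D.el i j * D.t) ↔ D.N ∣ k - l := by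
  rw [Commute, SemiconjBy, ← mul_inv_eq_iff_eq_mul, D.conj_out, mul_left_inj, D.el_eq_iff]
  rw [show i + k - l - i = k - l by ring, show j + l - k - j = -(k - l) by ring, dvd_neg, and_self]

theorem diag_central (k : ℤ) : D.el k k ∈ Subgroup.center S := by
  refine Subgroup.mem_center_iff.2 fun s => ?_
  obtain ⟨i, j, rfl | rfl⟩ := D.exists_form s
  · exact D.A_comm (D.el_mem _ _) (D.el_mem _ _)
  · exact (((D.commute_out_el i j k k).2 (by simp))).eq.symm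

theorem center_eq : Subgroup.center S = Subgroup.zpowers (D.el 1 1) := by
  refine le_antisymm (fun s hs => ?_) (Subgroup.zpowers_le.2 (D.diag_central 1))
  obtain ⟨i, j, rfl | rfl⟩ := D.exists_form s
  · have h1 : Commute (D.el i j) (D.el 0 0 * D.t) := (Subgroup.mem_center_iff.1 hs _).symm
    rw [D.commute_out_el] at h1
    refine ⟨i, ?_⟩
    show D.el 1 1 ^ i = D.el i j
    rw [D.el_zpow, D.el_eq_iff, one_mul, sub_self]
    exact ⟨dvd_zero _, h1⟩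
  · exfalso
    have h1 : Commute (D.el 1 0) (D.el i j * D.t) := Subgroup.mem_center_iff.1 hs _
    rw [D.commute_out_el] at h1
    exact D.not_N_dvd_h ((by simpa using h1 : D.N ∣ 1).trans (one_dvd _))

theorem orderOf_w : orderOf (D.el 1 1) = 2 ^ n := by
  refine Nat.dvd_antisymm (orderOf_dvd_of_pow_eq_one ?_) ?_
  · rw [← zpow_natCast, D.el_zpow, D.el_eq_one]; push_cast; simp [N]
  · have h1 := pow_orderOf_eq_one (D.el 1 1)
    rw [← zpow_natCast, D.el_zpow, D.el_eq_one, one_mul] at h1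
    exact_mod_cast (show ((2 ^ n : ℕ) : ℤ) ∣ (orderOf (D.el 1 1) : ℤ) by push_cast; exact h1.1)

theorem sq_el_eq_one {i j : ℤ} (hs : D.el i j * D.el i j = 1) : D.h ∣ i ∧ D.h ∣ j := by
  rw [D.el_mul, D.el_eq_one, ← two_mul, ← two_mul, D.N_eq, mul_dvd_mul_iff_left two_ne_zero,
    mul_dvd_mul_iff_left two_ne_zero] at hs
  exact hs

theorem h_dvd_cases {i : ℤ} (hi : D.h ∣ i) : D.N ∣ i ∨ D.N ∣ i - D.h := by
  obtain ⟨c, rfl⟩ := hi
  rw [D.N_eq]
  rcases Int.even_or_odd c with ⟨d, rfl⟩ | ⟨d, rfl⟩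
  · exact Or.inl ⟨d, by ring⟩
  · exact Or.inr ⟨d, by ring⟩

theorem invol_cases {s : S} (hs : orderOf s = 2) :
    s = D.el D.h 0 ∨ s = D.el 0 D.h ∨ s = D.el D.h D.h ∨ ∃ i : ℤ, s = D.el i (-i) * D.t := by
  have h2 := invol_mul_self hs
  obtain ⟨i, j, rfl | rfl⟩ := D.exists_form s
  · obtain ⟨hi, hj⟩ := D.sq_el_eq_one h2
    rcases D.h_dvd_cases hi with hi' | hi' <;> rcases D.h_dvd_cases hj with hj' | hj'
    · rw [(D.el_eq_one i j).2 ⟨hi', hj'⟩, orderOf_one] at hs; omega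
    · exact Or.inr (Or.inl ((D.el_eq_iff _ _ _ _).2 ⟨by rwa [sub_zero], hj'⟩))
    · exact Or.inl ((D.el_eq_iff _ _ _ _).2 ⟨hi', by rwa [sub_zero]⟩)
    · exact Or.inr (Or.inr (Or.inl ((D.el_eq_iff _ _ _ _).2 ⟨hi', hj'⟩)))
  · rw [D.out_sq, D.el_eq_one] at h2
    refine Or.inr (Or.inr (Or.inr ⟨i, ?_⟩))
    rw [mul_left_inj, D.el_eq_iff, sub_self, sub_neg_eq_add, add_comm j i]
    exact ⟨dvd_zero _, h2.1⟩

theorem outer_invol (i : ℤ) : orderOf (D.el i (-i) * D.t) = 2 :=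
  orderOf_eq_prime (by rw [sq, D.out_sq, add_neg_cancel, D.el_zero]) fun h' =>
    D.out_not_mem i (-i) (h' ▸ one_mem _)

theorem el_h_order {i j : ℤ} (hi : D.h ∣ i) (hj : D.h ∣ j) (hne : ¬ (D.N ∣ i ∧ D.N ∣ j)) :
    orderOf (D.el i j) = 2 := by
  refine orderOf_eq_prime ?_ fun h' => hne ((D.el_eq_one _ _).1 h')
  rw [sq, D.el_mul, D.el_eq_one, ← two_mul, ← two_mul, D.N_eq]
  exact ⟨mul_dvd_mul_left 2 hi, mul_dvd_mul_left 2 hj⟩

/-- A subgroup not inside `A` has twice as many elements as its intersection with `A`. -/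
theorem card_eq_two_mul (H : Subgroup S) (hH : ¬ H ≤ D.A) :
    Nat.card H = 2 * Nat.card ↥(H ⊓ D.A) := by
  have h1 := ((H ⊓ D.A).subgroupOf H).card_mul_index
  rw [Nat.card_congr (Subgroup.subgroupOfEquivOfLe inf_le_left).toEquiv] at h1
  have hd : D.A.relIndex H ∣ D.A.index := by
    haveI := Subgroup.normal_of_index_eq_two D.index_A
    exact Subgroup.relIndex_dvd_index_of_normal _ _
  rw [D.index_A] at hd
  have h2 : ((H ⊓ D.A).subgroupOf H).index = 2 := by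
    show (H ⊓ D.A).relIndex H = 2
    rw [Subgroup.inf_relIndex_left]
    exact ((Nat.dvd_prime Nat.prime_two).1 hd).resolve_left fun h' => hH (Subgroup.relIndex_eq_one.1 h')
  rw [← h1, h2, mul_comm]

theorem isPGroup (D : WRData S n) : IsPGroup 2 S := IsPGroup.of_card D.hcard

end WRData

end Cfsg.Agent.Fusion
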