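import Cfsg.Agent.Lib.Local.FS.FourLift
import Cfsg.Agent.Lib.Solv.Zipper
import Cfsg.Agent.Lib.Fusion.ZJControl

/-!
An involution inducing a transvection on a normal elementary abelian `2`-subgroup gives a section `S₄`.
-/

set_option autoImplicit false

namespace Cfsg.Agent.Fusion

open Cfsg

variable {L : Type*} [Group L] [Finite L]

theorem relIndex_cases_of_le_four {E C : Subgroup L} (hE : IsPGroup 2 E) (hCE : C ≤ E)
    (hle : C.relIndex E ≤ 4) : C.relIndex E ≤ 2 ∨ C.relIndex E = 4 := by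
  haveI : Fact (Nat.Prime 2) := ⟨Nat.prime_two⟩
  obtain ⟨k, hk⟩ := IsPGroup.iff_card.1 hE
  have h1 := Subgroup.relIndex_mul_relIndex ⊥ C E bot_le hCE
  rw [Subgroup.relIndex_bot_left, Subgroup.relIndex_bot_left, hk] at h1
  obtain ⟨i, -, hi⟩ := (Nat.dvd_prime_pow Nat.prime_two).1 (Dvd.intro_left _ h1)
  rw [hi] at hle ⊢
  rcases i with _ | _ | _ | i
  · left; norm_num
  · left; norm_num
  · right; norm_num
  · exfalso
    have h8 : 2 ^ (i + 3) = 8 * 2 ^ i := by ring
    have hpos : 0 < 2 ^ i := Nat.two_pow_pos i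
    rw [show i + 1 + 1 + 1 = i + 3 by omega, h8] at hle
    omega

theorem relIndex_sup_normal (D E : Subgroup L) [E.Normal] : D.relIndex (D ⊔ E) = (D ⊓ E).relIndex E := by
  have h1 := Subgroup.relIndex_mul_relIndex (D ⊓ E) D (D ⊔ E) inf_le_left le_sup_left
  have h2 := Subgroup.relIndex_mul_relIndex (D ⊓ E) E (D ⊔ E) inf_le_right le_sup_right
  have h3 : E.relIndex (D ⊔ E) = (D ⊓ E).relIndex D := by
    rw [Subgroup.relIndex_sup_right, inf_comm, Subgroup.inf_relIndex_right]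
  have h4 : (D ⊓ E).relIndex D ≠ 0 := Subgroup.index_ne_zero_of_finite
  rw [h3] at h2
  exact Nat.eq_of_mul_eq_mul_left (Nat.pos_of_ne_zero h4) (by rw [h1, ← h2, mul_comm])

set_option maxHeartbeats 1000000 in
/-- A transvection outside the core gives a section `S₄`. -/
theorem involves_four_of_transvection {E : Subgroup L} [E.Normal] (hab : ∀ e ∈ E, ∀ f ∈ E, e * f = f * e)
    (h2 : ∀ e ∈ E, e * e = 1) {a : L} (haa : a * a ∈ Subgroup.centralizer (E : Set L))
    (hind : (E ⊓ Subgroup.centralizer ({a} : Set L)).relIndex E ≤ 2)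
    (hO : QuotientGroup.mk' (Subgroup.centralizer (E : Set L)) a ∉ pCore 2 (L ⧸ Subgroup.centralizer (E : Set L))) :
    Involves (Equiv.Perm (Fin 4)) L := by
  haveI : Fact (Nat.Prime 2) := ⟨Nat.prime_two⟩
  haveI : Fact (Nat.Prime 3) := ⟨Nat.prime_three⟩
  set C₀ := Subgroup.centralizer (E : Set L)
  set π := QuotientGroup.mk' C₀
  have hπs : Function.Surjective π := QuotientGroup.mk'_surjective C₀
  have hmem : ∀ {l : L}, π l = 1 ↔ l ∈ C₀ := fun {l} => QuotientGroup.eq_one_iff l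
  have hEp : IsPGroup 2 E := fun e => ⟨1, Subtype.ext (by
    rw [pow_one, pow_two]; exact h2 e e.2)⟩
  -- fixed-point free action
  have trick : ∀ (l : L) (n : ℕ), Odd n → l ^ n ∈ C₀ → ∀ C' : Subgroup L, C' ≤ E →
      (∀ c ∈ C', l * c = c * l) → (∀ e ∈ E, l * e * l⁻¹ * e⁻¹ ∈ C') → l ∈ C₀ := by
    intro l n hn hln C' hC' hfix hd
    refine Subgroup.mem_centralizer_iff.2 fun e he => ?_
    set d := l * e * l⁻¹ * e⁻¹ with hdd
    have hdC := hd e he
    have hiter : ∀ i : ℕ, l ^ i * e * (l ^ i)⁻¹ = d ^ i * e := by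
      intro i
      induction i with
      | zero => simp
      | succ i ih =>
        have hcomm : l * d ^ i = d ^ i * l := hfix _ (pow_mem hdC i)
        calc l ^ (i + 1) * e * (l ^ (i + 1))⁻¹ = l * (l ^ i * e * (l ^ i)⁻¹) * l⁻¹ := by rw [pow_succ']; group
          _ = l * d ^ i * e * l⁻¹ := by rw [ih]; group
          _ = d ^ i * (l * e * l⁻¹ * e⁻¹) * e := by rw [hcomm]; group
          _ = d ^ (i + 1) * e := by rw [← hdd, pow_succ]
    have h1 := hiter n
    rw [← Subgroup.mem_centralizer_iff.1 hln e he, mul_inv_cancel_right] at h1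
    have h3 : d ^ n = 1 := right_eq_mul.1 h1
    obtain ⟨k, rfl⟩ := hn
    rw [pow_succ, pow_mul, sq, h2 d (hC' hdC), one_pow, one_mul] at h3
    rw [hdd, mul_inv_eq_one, mul_inv_eq_iff_eq_mul] at h3
    exact h3.symm
  have small : ∀ (l : L) (n : ℕ), Odd n → l ^ n ∈ C₀ → ∀ C' : Subgroup L, C' ≤ E →
      (∀ c ∈ C', l * c = c * l) → C'.relIndex E ≤ 2 → l ∈ C₀ := by
    intro l n hn hln C' hC' hfix hle
    refine trick l n hn hln C' hC' hfix fun e he => ?_
    have hlc : ∀ c ∈ C', l * c * l⁻¹ = c := fun c hc => by rw [hfix c hc, mul_inv_cancel_right]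
    have hce : l * e * l⁻¹ ∈ E := (inferInstance : E.Normal).conj_mem e he l
    have hiff : l * e * l⁻¹ ∈ C' ↔ e ∈ C' := by
      refine ⟨fun h => ?_, fun h => by rwa [hlc e h]⟩
      have h1 := hlc _ h
      rwa [mul_left_cancel (mul_right_cancel h1)] at h
    rcases Nat.lt_or_eq_of_le hle with h | h
    · have hE : E ≤ C' := Subgroup.relIndex_eq_one.1 (by
        have : 0 < C'.relIndex E := Nat.pos_of_ne_zero Subgroup.index_ne_zero_of_finite
        omega)
      exact C'.mul_mem (hE hce) (C'.inv_mem (hE he))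
    · have h1 := Subgroup.mul_mem_iff_of_index_two (H := C'.subgroupOf E) h
        (a := ⟨l * e * l⁻¹, hce⟩) (b := ⟨e⁻¹, E.inv_mem he⟩)
      exact h1.2 ⟨fun h' => C'.inv_mem (hiff.1 h'), fun h' => hiff.2 (C'.inv_mem_iff.1 h')⟩
  -- the dihedral image
  set t := π a with ht
  have ht1 : t ≠ 1 := fun h => hO (by rw [h]; exact one_mem _)
  have htt : t * t = 1 := by rw [ht, ← map_mul]; exact hmem.2 haa
  obtain ⟨h₀, hh1, hhodd, hhinv⟩ := Cfsg.Agent.Solv.exists_odd_inverted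
    (orderOf_eq_prime (by rw [pow_two]; exact htt) ht1) hO
  obtain ⟨h, rfl⟩ := hπs h₀
  set y := a * (h * a * h⁻¹) with hy
  have hπy : π y = (π h)⁻¹ * (π h)⁻¹ := by
    rw [hy, map_mul, map_mul, map_mul, map_inv, ← ht]
    calc t * (π h * t * (π h)⁻¹) = t * π h * t⁻¹ * (t * t) * (π h)⁻¹ := by group
      _ = _ := by rw [hhinv, htt, mul_one]
  have hy1 : π y ≠ 1 := by
    intro h'
    rw [hπy, ← mul_inv_rev, inv_eq_one, ← pow_two] at h'
    obtain ⟨k, hk⟩ := hhodd
    have := pow_orderOf_eq_one (π h)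
    rw [hk, pow_succ, pow_mul, h', one_pow, one_mul] at this
    exact hh1 this
  have hyinv : t * π y * t⁻¹ = (π y)⁻¹ := by
    rw [hπy, show t * ((π h)⁻¹ * (π h)⁻¹) * t⁻¹ = (t * π h * t⁻¹)⁻¹ * (t * π h * t⁻¹)⁻¹ by group, hhinv]
    rw [mul_inv_rev, inv_inv]
  obtain ⟨n, hn, hyn⟩ : ∃ n, Odd n ∧ π y ^ n = 1 := ⟨orderOf (π h), hhodd, by
    rw [hπy, ← mul_inv_rev, ← pow_two, inv_pow, ← pow_mul, mul_comm, pow_mul, pow_orderOf_eq_one, one_pow,
      inv_one]⟩
  have hync : y ^ n ∈ C₀ := hmem.1 (by rw [map_pow]; exact hyn)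
  have hyC₀ : y ∉ C₀ := fun h' => hy1 (hmem.2 h')
  -- the fixed subgroup
  clear_value y
  set C := (E ⊓ Subgroup.centralizer ({a} : Set L)) ⊓ (E ⊓ Subgroup.centralizer ({h * a * h⁻¹} : Set L))
  have hCE : C ≤ E := inf_le_left.trans inf_le_left
  have hC4 : C.relIndex E ≤ 4 := by
    refine Subgroup.relIndex_inf_le.trans ?_
    have e : E ⊓ Subgroup.centralizer ({h * a * h⁻¹} : Set L) = cj (E ⊓ Subgroup.centralizer ({a} : Set L)) h := by
      rw [cj_inf, cj_of_normal]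
      congr 1
      ext z
      rw [mem_cj, Subgroup.mem_centralizer_singleton_iff, Subgroup.mem_centralizer_singleton_iff]
      refine ⟨fun hz => ?_, fun hz => ?_⟩
      · calc h⁻¹ * z * h * a = h⁻¹ * (z * (h * a * h⁻¹)) * h := by group
          _ = h⁻¹ * ((h * a * h⁻¹) * z) * h := by rw [hz]
          _ = a * (h⁻¹ * z * h) := by group
      · calc z * (h * a * h⁻¹) = h * (h⁻¹ * z * h * a) * h⁻¹ := by group
          _ = h * (a * (h⁻¹ * z * h)) * h⁻¹ := by rw [hz]
          _ = h * a * h⁻¹ * z := by group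
    rw [e, (congrArg ((cj (E ⊓ Subgroup.centralizer ({a} : Set L)) h).relIndex) (cj_of_normal E h).symm).trans
      (relIndex_cj _ _ h)]
    calc _ ≤ 2 * 2 := Nat.mul_le_mul hind hind
      _ = 4 := by norm_num
  have hCy : ∀ c ∈ C, y * c = c * y := fun c hc => by
    have h1 := Subgroup.mem_centralizer_singleton_iff.1 hc.1.2
    have h2' := Subgroup.mem_centralizer_singleton_iff.1 hc.2.2
    rw [hy]
    exact ((Commute.mul_left (h1 : Commute c a).symm (h2' : Commute c (h * a * h⁻¹)).symm)).eq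
  have hC : C.relIndex E = 4 := (relIndex_cases_of_le_four hEp hCE hC4).resolve_left fun h' =>
    hyC₀ (small y n hn hync C hCE hCy h')
  -- the subgroup above the dihedral image
  set H := (Subgroup.zpowers (π y) ⊔ Subgroup.zpowers t).comap π
  set K₃ := (Subgroup.zpowers (π y)).comap π
  have hK₃H : K₃ ≤ H := Subgroup.comap_mono le_sup_left
  have hHK : H ≤ Subgroup.normalizer (K₃ : Set L) := by
    intro g hg
    have h1 : π g ∈ Subgroup.normalizer (Subgroup.zpowers (π y) : Set (L ⧸ C₀)) := by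
      refine (sup_le Subgroup.le_normalizer (Subgroup.zpowers_le.2 (mem_normalizer_of_cj_le ?_))) hg
      rintro _ ⟨_, ⟨i, rfl⟩, rfl⟩
      show t * π y ^ i * t⁻¹ ∈ _
      rw [← conj_zpow, hyinv, inv_zpow']
      exact ⟨-i, rfl⟩
    refine Subgroup.mem_normalizer_iff.2 fun k => ?_
    show π k ∈ Subgroup.zpowers (π y) ↔ π (g * k * g⁻¹) ∈ Subgroup.zpowers (π y)
    rw [map_mul, map_mul, map_inv]
    exact Subgroup.mem_normalizer_iff.1 h1 (π k)
  have hHC : ∀ g ∈ H, ∀ c ∈ C, g * c = c * g := by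
    intro g hg c hc
    have hle : Subgroup.zpowers (π y) ⊔ Subgroup.zpowers t ≤ (Subgroup.centralizer ({c} : Set L)).map π :=
      sup_le (Subgroup.zpowers_le.2 ⟨y, Subgroup.mem_centralizer_singleton_iff.2 (hCy c hc), rfl⟩)
        (Subgroup.zpowers_le.2 ⟨a, Subgroup.mem_centralizer_singleton_iff.2
          (Subgroup.mem_centralizer_singleton_iff.1 hc.1.2).symm, rfl⟩)
    obtain ⟨g', hg', he⟩ := hle hg
    have hk : g'⁻¹ * g ∈ C₀ := QuotientGroup.eq.1 he
    have hk' : (g'⁻¹ * g) * c = c * (g'⁻¹ * g) := (Subgroup.mem_centralizer_iff.1 hk c (hCE hc)).symm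
    calc g * c = g' * ((g'⁻¹ * g) * c) := by group
      _ = (g' * c) * (g'⁻¹ * g) := by rw [hk']; group
      _ = (c * g') * (g'⁻¹ * g) := by rw [Subgroup.mem_centralizer_singleton_iff.1 hg']
      _ = c * g := by group
  -- the automorphism has order three
  haveI : (C.subgroupOf E).Normal := ⟨fun c hc g => by
    rw [show g * c * g⁻¹ = c from Subtype.ext (mul_inv_eq_iff_eq_mul.2 (hab g g.2 c c.2))]
    exact hc⟩
  set θ : Equiv.Perm (↥E ⧸ C.subgroupOf E) := (QuotientGroup.congr (C.subgroupOf E) (C.subgroupOf E)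
    (MulAut.conjNormal y : MulAut E) (by
      ext e
      constructor
      · rintro ⟨e', he', rfl⟩
        show y * (e' : L) * y⁻¹ ∈ C
        rw [hCy _ (Subgroup.mem_subgroupOf.1 he'), mul_inv_cancel_right]
        exact he'
      · intro he
        refine ⟨e, he, Subtype.ext ?_⟩
        show y * (e : L) * y⁻¹ = e
        rw [hCy _ (Subgroup.mem_subgroupOf.1 he), mul_inv_cancel_right]
      )).toEquiv
  have hθ : ∀ (i : ℕ) (e : E), (θ ^ i) (e : ↥E ⧸ C.subgroupOf E) =
      ((⟨y ^ i * e * (y ^ i)⁻¹, (inferInstance : E.Normal).conj_mem e e.2 _⟩ : E) : ↥E ⧸ C.subgroupOf E) := by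
    intro i e
    induction i with
    | zero => simp
    | succ i ih =>
      rw [pow_succ', Equiv.Perm.mul_apply, ih]
      refine congrArg QuotientGroup.mk (Subtype.ext ?_)
      show y * (y ^ i * e * (y ^ i)⁻¹) * y⁻¹ = y ^ (i + 1) * e * (y ^ (i + 1))⁻¹
      rw [pow_succ']; group
  have hθn : θ ^ n = 1 := by
    refine Equiv.ext fun q => ?_
    obtain ⟨e, rfl⟩ := QuotientGroup.mk_surjective q
    rw [hθ]
    refine congrArg QuotientGroup.mk (Subtype.ext ?_)
    show y ^ n * (e : L) * (y ^ n)⁻¹ = e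
    rw [← Subgroup.mem_centralizer_iff.1 hync e e.2, mul_inv_cancel_right]
  have hθ3 : θ ^ 3 = 1 := by
    classical
    have hd : orderOf θ ∣ 24 := by
      have : Nat.card (Equiv.Perm (↥E ⧸ C.subgroupOf E)) = 24 := by
        rw [Nat.card_perm, show Nat.card (↥E ⧸ C.subgroupOf E) = 4 from hC]; rfl
      exact this ▸ orderOf_dvd_natCard θ
    have hodd : Odd (orderOf θ) := hn.of_dvd_nat (orderOf_dvd_of_pow_eq_one hθn)
    refine orderOf_dvd_iff_pow_eq_one.1 ?_
    refine (Nat.Coprime.dvd_of_dvd_mul_right ?_ (show orderOf θ ∣ 3 * 8 from hd))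
    exact (Nat.coprime_two_right.2 hodd).pow_right 3
  have hy3 : y ^ 3 ∈ C₀ := by
    refine trick (y ^ 3) n hn (by rw [← pow_mul, mul_comm, pow_mul]; exact pow_mem hync 3) C hCE
      (fun c hc => ((show Commute y c from hCy c hc).pow_left 3).eq) fun e he => ?_
    have h1 := hθ 3 ⟨e, he⟩
    rw [hθ3, Equiv.Perm.one_apply, eq_comm, QuotientGroup.eq_iff_div_mem, div_eq_mul_inv] at h1
    exact h1
  have hord : orderOf (π y) = 3 := orderOf_eq_prime (by rw [← map_pow]; exact hmem.2 hy3) hy1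
  -- a Sylow `3`-subgroup and its normalizer
  obtain ⟨P, hP⟩ := exists_sylIn (p := 3) K₃
  have hPy : P.map π = Subgroup.zpowers (π y) := by
    have hle : P.map π ≤ Subgroup.zpowers (π y) := (Subgroup.map_mono hP.le).trans (Subgroup.map_comap_le _ _)
    refine Subgroup.eq_of_le_of_card_ge hle ?_
    rw [Nat.card_zpowers, hord]
    obtain ⟨k, hk⟩ := IsPGroup.iff_card.1 (hP.isPGroup.map π)
    rcases k with _ | k
    · exfalso
      rw [pow_zero, Subgroup.card_eq_one, Subgroup.map_eq_bot_iff, QuotientGroup.ker_mk'] at hk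
      refine hP.not_dvd ?_
      have hC₀K : C₀ ≤ K₃ := fun c hc => by
        show π c ∈ Subgroup.zpowers (π y)
        rw [hmem.2 hc]; exact one_mem _
      rw [← Subgroup.relIndex_mul_relIndex P C₀ K₃ hk hC₀K]
      refine dvd_mul_of_dvd_right ?_ _
      rw [← QuotientGroup.ker_mk' C₀, Subgroup.relIndex_ker,
        Subgroup.map_comap_eq_self_of_surjective hπs, Nat.card_zpowers, hord]
    · rw [hk, pow_succ]
      exact Nat.le_mul_of_pos_left 3 (Nat.pos_of_ne_zero (pow_ne_zero k (by norm_num)))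
  obtain ⟨y₁, hy₁, hy₁e⟩ := hPy.ge (Subgroup.mem_zpowers (π y))
  have hy₁H : y₁ ∈ H := hK₃H (hP.le hy₁)
  have hy₁n : y₁ ^ 3 ∈ C₀ := hmem.1 (by rw [map_pow, hy₁e, ← hord, pow_orderOf_eq_one])
  have hy₁C : y₁ ∉ C₀ := fun h' => hy1 (hy₁e ▸ hmem.2 h')
  obtain ⟨k, hk, hm⟩ := frattini_conj hP hHK (show a ∈ H from Subgroup.mem_sup_right (Subgroup.mem_zpowers t))
  set m := k * a
  have hmH : m ∈ H := H.mul_mem (hK₃H hk) (show a ∈ H from Subgroup.mem_sup_right (Subgroup.mem_zpowers t))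
  set Δ := (H ⊓ Subgroup.normalizer (P : Set L)) ⊔ C
  have hHC' : H ⊓ Subgroup.normalizer (P : Set L) ≤ Subgroup.normalizer (C : Set L) := fun g hg =>
    mem_normalizer_of_cj_le (by
      rintro _ ⟨c, hc, rfl⟩
      show g * c * g⁻¹ ∈ C
      rw [hHC g hg.1 c hc, mul_inv_cancel_right]
      exact hc)
  have hΔfix : ∀ g ∈ Δ, ∀ c ∈ C, g * c = c * g := fun g hg c hc => by
    obtain ⟨u, hu, c', hc', rfl⟩ := exists_mul_of_mem_sup hHC' hg
    calc u * c' * c = u * c * c' := by rw [mul_assoc, hab c' (hCE hc') c (hCE hc), ← mul_assoc]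
      _ = c * (u * c') := by rw [hHC u hu.1 c hc, mul_assoc]
  -- `Δ` meets `E` in `C`
  have hΔE : Δ ⊓ E = C := by
    refine le_antisymm ?_ (le_inf le_sup_right hCE)
    rintro x ⟨hx, hxE⟩
    obtain ⟨u, hu, c, hc, rfl⟩ := exists_mul_of_mem_sup hHC' hx
    refine C.mul_mem ?_ hc
    have huE : u ∈ E := by simpa using E.mul_mem hxE (E.inv_mem (hCE hc))
    have hcomm : y₁ * u = u * y₁ := by
      have h3 : u * y₁ * u⁻¹ * y₁⁻¹ ∈ E ⊓ P := ⟨by
        rw [show u * y₁ * u⁻¹ * y₁⁻¹ = u * (y₁ * u⁻¹ * y₁⁻¹) by group]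
        exact E.mul_mem huE ((inferInstance : E.Normal).conj_mem _ (E.inv_mem huE) y₁),
        P.mul_mem ((Subgroup.mem_normalizer_iff.1 hu.2 y₁).1 hy₁) (P.inv_mem hy₁)⟩
      have hbot : E ⊓ P = ⊥ := by
        refine Subgroup.inf_eq_bot_of_coprime ?_
        obtain ⟨i, hi⟩ := IsPGroup.iff_card.1 hEp
        obtain ⟨j, hj⟩ := IsPGroup.iff_card.1 hP.isPGroup
        rw [hi, hj]
        exact Nat.Coprime.pow i j (by norm_num)
      rw [hbot, Subgroup.mem_bot, mul_inv_eq_one, mul_inv_eq_iff_eq_mul] at h3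
      exact h3.symm
    by_contra huC
    refine hy₁C (small y₁ 3 ⟨1, rfl⟩ hy₁n (E ⊓ Subgroup.centralizer ({y₁} : Set L)) inf_le_left
      (fun c hc => (Subgroup.mem_centralizer_singleton_iff.1 hc.2).symm) ?_)
    set C' := E ⊓ Subgroup.centralizer ({y₁} : Set L)
    have hlt : C < C' := lt_of_le_of_ne (fun d hd => ⟨hCE hd, Subgroup.mem_centralizer_singleton_iff.2
      (hHC y₁ hy₁H d hd).symm⟩) fun h' => huC (h'.ge ⟨huE, Subgroup.mem_centralizer_singleton_iff.2 hcomm.symm⟩)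
    have h1 := Subgroup.relIndex_mul_relIndex C C' E hlt.le inf_le_left
    have h2' : 2 ≤ C.relIndex C' := by
      by_contra h'
      have : 0 < C.relIndex C' := Nat.pos_of_ne_zero Subgroup.index_ne_zero_of_finite
      exact hlt.not_ge (Subgroup.relIndex_eq_one.1 (by omega))
    rw [hC] at h1
    nlinarith
  -- the group with a subgroup of index four
  set X := Δ ⊔ E
  refine involves_trans (Cfsg.Agent.Local.FS.involves_four_of_cosets (Δ.subgroupOf X) ?_ ?_)
    (involves_subgroup involves_refl X)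
  · show Δ.relIndex X = 4
    rw [relIndex_sup_normal, hΔE, hC]
  set D := Δ.subgroupOf X
  set K := D.normalCore
  have hindex : K.relIndex D * D.index = K.index := Subgroup.relIndex_mul_index (Subgroup.normalCore_le D)
  have hD4 : D.index = 4 := by
    show Δ.relIndex X = 4
    rw [relIndex_sup_normal, hΔE, hC]
  rw [← hindex, hD4]
  suffices 6 ≤ K.relIndex D by omega
  -- the core acts trivially
  set f := π.comp X.subtype
  have hKf : K ≤ f.ker := by
    intro g hg
    have hgΔ : (g : L) ∈ Δ := Subgroup.normalCore_le D hg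
    have key : ∀ g' : X, g' ∈ K → ∀ i : ℕ, Odd i → (g' : L) ^ i ∈ C₀ → (g' : L) ∈ C₀ := by
      intro g' hg' i hi hgi
      refine trick _ i hi hgi C hCE (hΔfix _ (Subgroup.normalCore_le D hg')) fun e he => ?_
      rw [← hΔE]
      refine ⟨?_, ?_⟩
      · have h5 : g' * ⟨e, Subgroup.mem_sup_right he⟩ * g'⁻¹ * ⟨e, Subgroup.mem_sup_right he⟩⁻¹ ∈ K := by
          rw [show g' * ⟨e, _⟩ * g'⁻¹ * (⟨e, Subgroup.mem_sup_right he⟩ : X)⁻¹ =
            g' * ((⟨e, Subgroup.mem_sup_right he⟩ : X) * g'⁻¹ * (⟨e, Subgroup.mem_sup_right he⟩ : X)⁻¹) by group]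
          exact K.mul_mem hg' ((inferInstance : K.Normal).conj_mem _ (K.inv_mem hg') _)
        exact Subgroup.normalCore_le D h5
      · exact E.mul_mem ((inferInstance : E.Normal).conj_mem e he g') (E.inv_mem he)
    have hgH : π g ∈ Subgroup.zpowers (π y) ⊔ Subgroup.zpowers t := by
      obtain ⟨u, hu, c, hc, he⟩ := exists_mul_of_mem_sup hHC' hgΔ
      rw [← he, map_mul, show π c = 1 from hmem.2 (Subgroup.mem_centralizer_iff.2 fun f hf => hab f hf c (hCE hc)),
        mul_one]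
      exact hu.1
    have hnorm : Subgroup.zpowers t ≤ Subgroup.normalizer (Subgroup.zpowers (π y) : Set (L ⧸ C₀)) :=
      Subgroup.zpowers_le.2 (mem_normalizer_of_cj_le (by
        rintro _ ⟨_, ⟨i, rfl⟩, rfl⟩
        show t * π y ^ i * t⁻¹ ∈ _
        rw [← conj_zpow, hyinv, inv_zpow']
        exact ⟨-i, rfl⟩))
    obtain ⟨s, hs, w, hw, hws⟩ := exists_mul_of_mem_sup hnorm (show π g ∈ Subgroup.zpowers t ⊔ Subgroup.zpowers (π y) by rw [sup_comm]; exact hgH)
    obtain ⟨i, rfl⟩ := hw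
    have hs' : s = 1 ∨ s = t := by
      obtain ⟨j, rfl⟩ := hs
      rcases Int.even_or_odd j with ⟨l, rfl⟩ | ⟨l, rfl⟩
      · left
        show t ^ (l + l) = 1
        rw [zpow_add, ← (Commute.refl t).mul_zpow, htt, one_zpow]
      · right
        show t ^ (2 * l + 1) = t
        rw [zpow_add, zpow_one, zpow_mul, zpow_two, htt, one_zpow, one_mul]
    rcases hs' with rfl | rfl
    · refine hmem.2 (key g hg 3 ⟨1, rfl⟩ (hmem.1 ?_))
      rw [one_mul] at hws
      rw [map_pow, ← hws, ← zpow_natCast, ← zpow_mul, mul_comm, zpow_mul, zpow_natCast, ← hord,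
        pow_orderOf_eq_one, one_zpow]
    · exfalso
      let y₁' : X := ⟨y₁, Subgroup.mem_sup_left (Subgroup.mem_sup_left ⟨hy₁H, Subgroup.le_normalizer hy₁⟩)⟩
      have hcK : g * y₁' * g⁻¹ * y₁'⁻¹ ∈ K := by
        rw [show g * y₁' * g⁻¹ * y₁'⁻¹ = g * (y₁' * g⁻¹ * y₁'⁻¹) by group]
        exact K.mul_mem hg ((inferInstance : K.Normal).conj_mem _ (K.inv_mem hg) _)
      have hπc : π ((g * y₁' * g⁻¹ * y₁'⁻¹ : X) : L) = (π y)⁻¹ * (π y)⁻¹ := by
        show π ((g : L) * y₁ * (g : L)⁻¹ * y₁⁻¹) = _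
        rw [map_mul, map_mul, map_mul, map_inv, map_inv, ← hws, hy₁e,
          show t * π y ^ i * π y * (t * π y ^ i)⁻¹ * (π y)⁻¹ = (t * π y * t⁻¹) * (π y)⁻¹ by group,
          hyinv]
      have h6 := key _ hcK 3 ⟨1, rfl⟩ (hmem.1 (by
        rw [map_pow, hπc, ← mul_inv_rev, ← pow_two, inv_pow, ← pow_mul, mul_comm, pow_mul, ← hord,
          pow_orderOf_eq_one, one_pow, inv_one]))
      rw [← hmem, hπc, ← mul_inv_rev, inv_eq_one, ← pow_two] at h6
      have h7 := orderOf_dvd_of_pow_eq_one h6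
      rw [hord] at h7
      omega
  refine le_trans ?_ (Nat.le_of_dvd (Nat.pos_of_ne_zero Subgroup.index_ne_zero_of_finite)
    (Subgroup.relIndex_dvd_of_le_left D hKf))
  rw [Subgroup.relIndex_ker]
  have hyD : π y ∈ D.map f := ⟨⟨y₁, Subgroup.mem_sup_left (Subgroup.mem_sup_left ⟨hy₁H, Subgroup.le_normalizer hy₁⟩)⟩,
    Subgroup.mem_sup_left ⟨hy₁H, Subgroup.le_normalizer hy₁⟩, hy₁e⟩
  have hmD : π m ∈ D.map f := ⟨⟨m, Subgroup.mem_sup_left (Subgroup.mem_sup_left ⟨hmH, hm⟩)⟩,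
    Subgroup.mem_sup_left ⟨hmH, hm⟩, rfl⟩
  have hlt : Subgroup.zpowers (π y) < D.map f := by
    refine lt_of_le_of_ne (Subgroup.zpowers_le.2 hyD) fun he => ?_
    rw [← he, show π m = π k * π a from map_mul π k a, Subgroup.mul_mem_cancel_left _ (show π k ∈ Subgroup.zpowers (π y) from hk), ← ht] at hmD
    have h8 := Subgroup.orderOf_dvd_natCard _ hmD
    rw [Nat.card_zpowers, hord, orderOf_eq_prime (by rw [pow_two]; exact htt) ht1] at h8
    norm_num at h8
  have hdvd := Subgroup.card_dvd_of_le hlt.le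
  have hlt' := replacement_property.card_lt_card_of_lt hlt
  rw [Nat.card_zpowers, hord] at hdvd hlt'
  omega

end Cfsg.Agent.Fusion
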