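import Cfsg.Agent.Lib.Fusion.WeakClosedTools
import Cfsg.Agent.Lib.Fusion.WeakClosedFour
import Cfsg.Agent.Lib.Local.FS.ThompsonFour

/-!
Glauberman's theorem on weakly closed elements in a constrained group.
-/

set_option autoImplicit false

open scoped commutatorElement

universe u

namespace Cfsg.Agent.Fusion

open Cfsg Cfsg.Agent.Local.FS

theorem thompsonA_eq_sSup {G : Type*} [Group G] (H : Subgroup G) :
    thompsonSubgroupAOf H = sSup (maxIn (fun A : Subgroup G => IsMulCommutative A) H) := by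
  rw [thompsonSubgroupAOf, thompsonSubgroupA, map_sSup_subtype, image_maxAbelian]

theorem comm_sup {G : Type*} [Group G] {A B : Subgroup G} (hA : ∀ a ∈ A, ∀ b ∈ A, a * b = b * a)
    (hB : ∀ a ∈ B, ∀ b ∈ B, a * b = b * a) (hAB : ∀ a ∈ A, ∀ b ∈ B, a * b = b * a) :
    IsMulCommutative (A ⊔ B : Subgroup G) := by
  have h : A ⊔ B ≤ Subgroup.centralizer ((A ⊔ B : Subgroup G) : Set G) := by
    refine sup_le ?_ ?_ <;> rw [Subgroup.le_centralizer_iff] <;> refine sup_le ?_ ?_
    · exact fun a ha => Subgroup.mem_centralizer_iff.2 fun b hb => hA b hb a ha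
    · exact fun b hb => Subgroup.mem_centralizer_iff.2 fun a ha => hAB a ha b hb
    · exact fun a ha => Subgroup.mem_centralizer_iff.2 fun b hb => (hAB a ha b hb).symm
    · exact fun a ha => Subgroup.mem_centralizer_iff.2 fun b hb => hB b hb a ha
  exact ⟨⟨fun a b => Subtype.ext (Subgroup.mem_centralizer_iff.1 (h b.2) a a.2)⟩⟩

/-- The hypothesis of Glauberman's theorem. -/
def GlaubCase {L : Type*} [Group L] (p : ℕ) (T : Subgroup L) (x : L) : Prop :=
  p ≠ 2 ∨ (∃ z ∈ T, (∀ t ∈ T, t * z = z * t) ∧ z ^ p = x) ∨ ¬ Involves (Equiv.Perm (Fin 4)) L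

set_option maxHeartbeats 2000000 in
/-- **Glauberman's theorem on weakly closed elements**, in a constrained group. -/
theorem glauberman_fixed {p : ℕ} [Fact p.Prime] : ∀ (n : ℕ) (L : Type u) [Group L] [Finite L] (T : Sylow p L) (x : L),
    Nat.card L ≤ n → Subgroup.centralizer ((pCore p L : Subgroup L) : Set L) ≤ pCore p L → x ∈ (T : Subgroup L) →
    (∀ g ∈ Subgroup.normalizer (thompsonSubgroupAOf (T : Subgroup L) : Set L), g * x = x * g) →
    GlaubCase p (T : Subgroup L) x → ∀ g : L, g * x = x * g := by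
  intro n
  induction n using Nat.strong_induction_on with
  | _ n ihn =>
  suffices key : ∀ (m : ℕ) (L : Type u) [Group L] [Finite L] (T : Sylow p L) (x : L),
      orderOf x ≤ m → Nat.card L ≤ n → Subgroup.centralizer ((pCore p L : Subgroup L) : Set L) ≤ pCore p L →
      x ∈ (T : Subgroup L) →
      (∀ g ∈ Subgroup.normalizer (thompsonSubgroupAOf (T : Subgroup L) : Set L), g * x = x * g) →
      GlaubCase p (T : Subgroup L) x → ∀ g : L, g * x = x * g from
    fun L _ _ T x => key _ L T x le_rfl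
  intro m
  induction m using Nat.strong_induction_on with
  | _ m ihm =>
  intro L _ _ T x hm hn hc hxT hloc hcase
  have hp : p.Prime := Fact.out
  set Q := pCore p L
  set J := thompsonSubgroupAOf (T : Subgroup L)
  set 𝒜 := maxIn (fun A : Subgroup L => IsMulCommutative A) (T : Subgroup L) with h𝒜
  have hJA : ∀ A ∈ 𝒜, A ≤ J := fun A hA => by
    show A ≤ thompsonSubgroupAOf _
    rw [thompsonA_eq_sSup]; exact le_sSup hA
  have hJe : ∀ H : Subgroup L, inducedFunctor wJA H = thompsonSubgroupAOf H := inducedFunctor_wJA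
  have hcf := isConjugacyFunctor_induced (G := L) (isCharPFunctor_wJA (p := p))
  have hTJ : (T : Subgroup L) ≤ Subgroup.normalizer (J : Set L) := by
    show _ ≤ Subgroup.normalizer ((thompsonSubgroupAOf (T : Subgroup L) : Subgroup L) : Set L)
    rw [← hJe]; exact sylow_le_normalizer_functor hcf T.2
  have hTx : ∀ t ∈ (T : Subgroup L), t * x = x * t := fun t ht => hloc t (hTJ ht)
  -- the power
  have hxp : ∀ g : L, g * x ^ p * g⁻¹ = x ^ p := by
    rcases eq_or_ne x 1 with rfl | hx1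
    · simp
    intro g
    refine mul_inv_eq_iff_eq_mul.2 (ihm (orderOf (x ^ p)) ?_ L T (x ^ p) le_rfl hn hc (pow_mem hxT p)
      (fun g hg => ((show Commute g x from hloc g hg).pow_right p).eq) ?_ g)
    · obtain ⟨k, hk⟩ := T.isPGroup' ⟨x, hxT⟩
      obtain ⟨i, -, hi⟩ := (Nat.dvd_prime_pow hp).1 (orderOf_dvd_of_pow_eq_one (congrArg Subtype.val hk : x ^ p ^ k = 1))
      rcases i with _ | i
      · exact absurd (orderOf_eq_one_iff.1 (by rw [hi, pow_zero])) hx1
      · refine lt_of_lt_of_le ?_ hm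
        rw [orderOf_pow, hi, Nat.gcd_eq_right (dvd_pow_self p (Nat.succ_ne_zero i))]
        exact Nat.div_lt_self (pow_pos hp.pos _) hp.one_lt
    · rcases hcase with h | ⟨z, hz, hzc, rfl⟩ | h
      · exact Or.inl h
      · exact Or.inr (Or.inl ⟨z ^ p, pow_mem hz p, fun t ht => ((show Commute t z from hzc t ht).pow_right p).eq, rfl⟩)
      · exact Or.inr (Or.inr h)
  -- the generator of the module
  obtain ⟨z, hzT, hzc, hzx, hzcase⟩ : ∃ z ∈ (T : Subgroup L), (∀ t ∈ (T : Subgroup L), t * z = z * t) ∧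
      (z = x ∨ z ^ p = x) ∧ (p ≠ 2 ∨ z ^ p = x ∨ ¬ Involves (Equiv.Perm (Fin 4)) L) := by
    rcases hcase with h | ⟨z, hz, hzc, he⟩ | h
    · exact ⟨x, hxT, hTx, Or.inl rfl, Or.inl h⟩
    · exact ⟨z, hz, hzc, Or.inr he, Or.inr (Or.inl he)⟩
    · exact ⟨x, hxT, hTx, Or.inl rfl, Or.inr (Or.inr h)⟩
  have hQT : Q ≤ (T : Subgroup L) := pCore_le_sylow T
  set Z := Q ⊓ Subgroup.centralizer (Q : Set L)
  haveI : Z.Normal := Subgroup.normal_inf_normal Q (Subgroup.centralizer (Q : Set L))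
  have hzZ : z ∈ Z := by
    have h1 : z ∈ Subgroup.centralizer (Q : Set L) := Subgroup.mem_centralizer_iff.2 fun q hq => hzc q (hQT hq)
    exact ⟨hc h1, h1⟩
  set V := Subgroup.normalClosure ({z} : Set L) with hVdef
  have hVZ : V ≤ Z := Subgroup.normalClosure_le_normal (Set.singleton_subset_iff.2 hzZ)
  have hVT : V ≤ (T : Subgroup L) := fun v hv => hQT (hVZ hv).1
  have hVp : IsPGroup p V := T.2.to_le hVT
  have hVab : ∀ a ∈ V, ∀ b ∈ V, a * b = b * a := fun a ha b hb =>
    Subgroup.mem_centralizer_iff.1 (hVZ hb).2 a (hVZ ha).1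
  have hzV : z ∈ V := Subgroup.subset_normalClosure rfl
  have hxV : x ∈ V := by
    rcases hzx with h | h
    · exact h ▸ hzV
    · exact h ▸ pow_mem hzV p
  set C₀ := Subgroup.centralizer (V : Set L)
  have hC₀z : ∀ c ∈ C₀, c * z = z * c := fun c hc => (Subgroup.mem_centralizer_iff.1 hc z hzV).symm
  have hC₀x : ∀ c ∈ C₀, c * x = x * c := fun c hc => (Subgroup.mem_centralizer_iff.1 hc x hxV).symm
  have hQC₀ : Q ≤ C₀ := fun q hq => Subgroup.mem_centralizer_iff.2 fun v hv =>
    (Subgroup.mem_centralizer_iff.1 (hVZ hv).2 q hq).symm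
  have hVC₀ : V ≤ C₀ := fun v hv => Subgroup.mem_centralizer_iff.2 fun w hw => hVab w hw v hv
  set π := QuotientGroup.mk' C₀
  have hπs : Function.Surjective π := QuotientGroup.mk'_surjective C₀
  have hmem : ∀ {l : L}, π l = 1 ↔ l ∈ C₀ := fun {l} => QuotientGroup.eq_one_iff l
  by_cases hall : ∀ A ∈ 𝒜, A ≤ C₀
  · intro g
    have hJC : thompsonSubgroupAOf (T : Subgroup L) ≤ (T : Subgroup L) ⊓ C₀ := by
      rw [thompsonA_eq_sSup]
      exact sSup_le fun A hA => le_inf hA.1 (hall A hA)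
    have hsyl : SylIn p ((T : Subgroup L) ⊓ C₀) C₀ :=
      (sylIn_top T).inf_normal le_top (by rw [Subgroup.normalizer_eq_top])
    obtain ⟨c, hc', hcg⟩ := frattini_conj hsyl (H := ⊤) (by rw [Subgroup.normalizer_eq_top]) (Subgroup.mem_top g)
    have h1 : c * g ∈ Subgroup.normalizer (J : Set L) := by
      have h2 := conjFunctor_normalizer_le hcf hsyl.isPGroup hcg
      rwa [hJe, thompsonSubgroupAOf_eq_of_le inf_le_left hJC] at h2
    have h3 : Commute (c⁻¹ * (c * g)) x :=
      ((show Commute c x from hC₀x c hc').inv_left).mul_left (hloc _ h1)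
    rw [inv_mul_cancel_left] at h3
    exact h3.eq
  push Not at hall
  -- minimal members
  obtain ⟨A₁, ⟨hA₁, hA₁C⟩, hmin⟩ := Set.exists_min_image {A : Subgroup L | A ∈ 𝒜 ∧ ¬ A ≤ C₀}
    (fun A => Nat.card (A.map π)) (Set.toFinite _) hall
  set k₀ := Nat.card (A₁.map π)
  set 𝒬 := {A : Subgroup L | A ∈ 𝒜 ∧ ¬ A ≤ C₀ ∧ Nat.card (A.map π) = k₀ ∧ V ≤ Subgroup.normalizer (A : Set L)}
  have hVn : (T : Subgroup L) ≤ Subgroup.normalizer (V : Set L) := by
    rw [Subgroup.normalizer_eq_top]; exact le_top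
  have h𝒬ne : 𝒬.Nonempty := by
    obtain ⟨A, ⟨hA, hAC, hAk⟩, hmax⟩ := Set.exists_max_image
      {A : Subgroup L | A ∈ 𝒜 ∧ ¬ A ≤ C₀ ∧ Nat.card (A.map π) = k₀}
      (fun A => Nat.card (A ⊓ V : Subgroup L)) (Set.toFinite _) ⟨A₁, hA₁, hA₁C, rfl⟩
    refine ⟨A, hA, hAC, hAk, ?_⟩
    by_contra hnot
    obtain ⟨R, hRT, hRc, hR, hlt, hltV, b, hb, hle⟩ :=
      exists_replacement_abelian T.2 hVT hVn hVab hA.1 hA.2.1 hnot
    have hR𝒜 : R ∈ 𝒜 := ⟨hRT, hR, fun B hB hB' => hRc ▸ hA.2.2 B hB hB'⟩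
    have hRC : ¬ R ≤ C₀ := fun h => by
      have h1 : IsMulCommutative (R ⊔ V : Subgroup L) := comm_sup
        (fun a ha b hb => congrArg Subtype.val (hR.1.1 ⟨a, ha⟩ ⟨b, hb⟩)) hVab
        fun a ha v hv => (Subgroup.mem_centralizer_iff.1 (h ha) v hv).symm
      have h2 := hR𝒜.2.2 (R ⊔ V) (sup_le hRT hVT) h1
      have h3 : R = R ⊔ V := Subgroup.eq_of_le_of_card_ge le_sup_left h2
      exact hltV.ne (inf_eq_right.2 (le_sup_right.trans h3.ge))
    have hbπ : π b = 1 := hmem.2 (hVC₀ hb)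
    have hRπ : R.map π ≤ A.map π := (Subgroup.map_mono hle).trans (by
      rw [Subgroup.map_sup]
      refine sup_le le_rfl ?_
      rintro _ ⟨_, ⟨a, ha, rfl⟩, rfl⟩
      refine ⟨a, ha, ?_⟩
      show π a = π (b * a * b⁻¹)
      rw [map_mul, map_mul, map_inv, hbπ, one_mul, inv_one, mul_one])
    exact absurd (hmax R ⟨hR𝒜, hRC, le_antisymm (hAk ▸ Subgroup.card_le_of_le hRπ) (hmin R ⟨hR𝒜, hRC⟩)⟩)
      (not_le.2 (replacement_property.card_lt_card_of_lt hlt))
  have hquad : ∀ A ∈ 𝒬, ∀ a ∈ A, ∀ w ∈ V, a * (a * w * a⁻¹ * w⁻¹) = a * w * a⁻¹ * w⁻¹ * a := by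
    intro A hA a ha w hw
    have h1 : a * w * a⁻¹ * w⁻¹ ∈ A := by
      rw [show a * w * a⁻¹ * w⁻¹ = a * (w * a⁻¹ * w⁻¹) by group]
      exact A.mul_mem ha ((Subgroup.mem_normalizer_iff.1 (hA.2.2.2 hw) _).1 (A.inv_mem ha))
    exact congrArg Subtype.val (hA.1.2.1.1.1 ⟨a, ha⟩ ⟨_, h1⟩)
  set K := sSup 𝒬
  have hKT : K ≤ (T : Subgroup L) := sSup_le fun A hA => hA.1.1
  have hKweak : ∀ g : L, cj K g ≤ (T : Subgroup L) → cj K g = K := by
    intro g hg
    refine Subgroup.eq_of_le_of_card_ge ?_ (card_cj K g).ge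
    rw [cj_le_iff]
    refine sSup_le fun A hA => cj_le_iff.1 (le_sSup ?_)
    have hAg : cj A g ≤ (T : Subgroup L) := (cj_mono (le_sSup hA) g).trans hg
    have hAgp : IsMulCommutative (cj A g) := isMulCommutative_map _ hA.1.2.1
    refine ⟨⟨hAg, hAgp, fun B hB hB' => card_cj A g ▸ hA.1.2.2 B hB hB'⟩, fun h => hA.2.1 ?_, ?_, ?_⟩
    · exact (cj_le_iff.1 h).trans (cj_of_normal C₀ _).le
    · rw [← hA.2.2.1]
      have e : (cj A g).map π = cj (A.map π) (π g) := by
        show (A.map (MulAut.conj g).toMonoidHom).map π = (A.map π).map (MulAut.conj (π g)).toMonoidHom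
        rw [Subgroup.map_map, Subgroup.map_map]
        congr 1
      rw [e, card_cj]
    · rw [← cj_normalizer, ← cj_of_normal V g]
      exact cj_mono hA.2.2.2 g
  have hTH : (T : Subgroup L) ≤ Subgroup.normalizer (K : Set L) := fun t ht =>
    mem_normalizer_iff_cj.2 (hKweak t ((cj_mono hKT t).trans (cj_eq_self (Subgroup.le_normalizer ht)).le))
  -- the normalizer of `K`
  have hNK : ∀ g ∈ Subgroup.normalizer (K : Set L), g * x = x * g := by
    set H := Subgroup.normalizer (K : Set L)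
    have hHtop : H ≠ ⊤ := fun h => by
      haveI := Subgroup.normalizer_eq_top_iff.1 h
      obtain ⟨A, hA⟩ := h𝒬ne
      exact hA.2.1 ((le_sSup hA).trans ((le_pCore (T.2.to_le hKT)).trans hQC₀))
    have hlt : Nat.card H < n := lt_of_lt_of_le (lt_of_le_of_ne (Subgroup.card_le_card_group H)
      fun h => hHtop (Subgroup.eq_top_of_card_eq H h)) hn
    have hpc : Q.subgroupOf H ≤ pCore p H := le_pCore ((isPGroup_pCore p L).comap_subtype)
    have hQH : Q ≤ H := hQT.trans hTH
    have hmap : ((T.subtype hTH : Subgroup H)).map H.subtype = (T : Subgroup L) := by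
      rw [Sylow.coe_subtype, Subgroup.map_subgroupOf_eq_of_le hTH]
    have h := ihn _ hlt H (T.subtype hTH) ⟨x, hTH hxT⟩ le_rfl
      (fun y hy => hpc (Subgroup.mem_subgroupOf.2 (hc (Subgroup.mem_centralizer_iff.2 fun q hq => by
        exact congrArg Subtype.val (Subgroup.mem_centralizer_iff.1 hy ⟨q, hQH hq⟩ (hpc (Subgroup.mem_subgroupOf.2 hq)))))))
      (show (⟨x, hTH hxT⟩ : H) ∈ (T.subtype hTH : Subgroup H) from hxT)
      (fun y hy => Subtype.ext (hloc y (by
        have h1 := Subgroup.le_normalizer_map H.subtype ⟨y, hy, rfl⟩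
        rwa [← inducedFunctor_wJA, ← inducedFunctor_map_of_injOn (isCharPFunctor_wJA (p := p)) H.subtype
          H.subtype_injective.injOn (T.subtype hTH).2, hmap, hJe] at h1))) ?_
    · exact fun g hg => congrArg Subtype.val (h ⟨g, hg⟩)
    · rcases hcase with h | ⟨z, hz, hzc, he⟩ | h
      · exact Or.inl h
      · exact Or.inr (Or.inl ⟨⟨z, hTH hz⟩, hz, fun t ht => Subtype.ext (hzc t ht), Subtype.ext he⟩)
      · exact Or.inr (Or.inr fun hi => h (involves_of_injective H.subtype H.subtype_injective hi))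
  -- the core of the image is trivial
  have hcore : pCore p (L ⧸ C₀) = ⊥ := by
    set K₁ := (pCore p (L ⧸ C₀)).comap π
    obtain ⟨T', hT'⟩ := (sylIn_map_mk (N := C₀) (sylIn_top T)).exists_sylow
    have hle : K₁ ≤ Subgroup.centralizer ({z} : Set L) := fun l hl => by
      obtain ⟨t, ht, he⟩ : π l ∈ (T : Subgroup L).map π := hT' ▸ pCore_le_sylow T' hl
      have hk : t⁻¹ * l ∈ C₀ := QuotientGroup.eq.1 he
      have h3 : Commute (t * (t⁻¹ * l)) z := (show Commute t z from hzc t ht).mul_left (hC₀z _ hk)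
      rw [mul_inv_cancel_left] at h3
      exact Subgroup.mem_centralizer_singleton_iff.2 h3.eq
    have h2 : K₁ ≤ C₀ := by
      rw [Subgroup.le_centralizer_iff]
      refine Subgroup.normalClosure_le_normal (Set.singleton_subset_iff.2 ?_)
      exact Subgroup.mem_centralizer_iff.2 fun l hl => Subgroup.mem_centralizer_singleton_iff.1 (hle hl)
    rw [eq_bot_iff]
    intro y hy
    obtain ⟨l, rfl⟩ := hπs y
    exact Subgroup.mem_bot.2 (hmem.2 (h2 hy))
  -- the elements of order `p`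
  set E : Subgroup L :=
    { carrier := {v | v ∈ V ∧ v ^ p = 1}
      one_mem' := ⟨one_mem _, one_pow _⟩
      mul_mem' := fun {a b} ha hb => ⟨mul_mem ha.1 hb.1, by
        rw [(show Commute a b from hVab a ha.1 b hb.1).mul_pow, ha.2, hb.2, one_mul]⟩
      inv_mem' := fun {a} ha => ⟨inv_mem ha.1, by rw [inv_pow, ha.2, inv_one]⟩ } with hEdef
  haveI hEn : E.Normal := ⟨fun v hv g => ⟨(inferInstance : V.Normal).conj_mem v hv.1 g, by
    rw [conj_pow, hv.2, mul_one, mul_inv_cancel]⟩⟩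
  have hEC : Subgroup.centralizer (E : Set L) ≤ C₀ := by
    haveI : (Subgroup.centralizer (E : Set L)).Normal := Subgroup.normal_centralizer (H := E)
    haveI : ((Subgroup.centralizer (E : Set L)).map π).Normal := Subgroup.Normal.map inferInstance _ hπs
    have hp' : IsPGroup p ((Subgroup.centralizer (E : Set L)).map π) := by
      rintro ⟨_, l, hl, rfl⟩
      obtain ⟨i, j, hj, hij⟩ := Nat.exists_eq_pow_mul_and_not_dvd (orderOf_pos l).ne' p hp.ne_one
      refine ⟨i, Subtype.ext ?_⟩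
      show π l ^ p ^ i = 1
      rw [← map_pow]
      refine hmem.2 (Subgroup.mem_centralizer_iff.2 fun v hv => ?_)
      refine (commute_of_coprime_fixed_omega hVp hVab (y := l ^ p ^ i) (by rw [Subgroup.normalizer_eq_top]; trivial)
        hj (fun w _ => by rw [← pow_mul, ← hij, pow_orderOf_eq_one, one_mul, mul_one]) (fun w hw hwp => ?_) v hv).symm
      exact (Subgroup.mem_centralizer_iff.1 (Subgroup.pow_mem _ hl _) w ⟨hw, hwp⟩).symm
    intro l hl
    have h1 := le_pCore (p := p) hp' (Subgroup.mem_map_of_mem π hl)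
    rw [hcore, Subgroup.mem_bot] at h1
    exact hmem.1 h1
  have hapow : ∀ A ∈ 𝒬, ∀ a ∈ A, a ^ p ∈ C₀ := by
    intro A hA a ha
    refine hEC (Subgroup.mem_centralizer_iff.2 fun v hv => ?_)
    set d := a * v * a⁻¹ * v⁻¹ with hd
    have hdc : Commute a d := hquad A hA a ha v hv.1
    have hdE : d ∈ E := E.mul_mem (hEn.conj_mem v hv a) (E.inv_mem hv)
    have hiter : ∀ i : ℕ, a ^ i * v * (a ^ i)⁻¹ = d ^ i * v := by
      intro i
      induction i with
      | zero => simp
      | succ i hi =>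
        calc a ^ (i + 1) * v * (a ^ (i + 1))⁻¹ = a * (a ^ i * v * (a ^ i)⁻¹) * a⁻¹ := by rw [pow_succ']; group
          _ = a * d ^ i * v * a⁻¹ := by rw [hi]; group
          _ = d ^ i * (a * v * a⁻¹ * v⁻¹) * v := by rw [(hdc.pow_right i).eq]; group
          _ = d ^ (i + 1) * v := by rw [← hd, pow_succ]
    have h1 := hiter p
    rw [hdE.2, one_mul, mul_inv_eq_iff_eq_mul] at h1
    exact h1.symm
  have hxN : Subgroup.normalClosure ({x} : Set L) ≤ V :=
    Subgroup.normalClosure_le_normal (Set.singleton_subset_iff.2 hxV)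
  -- the norm argument
  refine fixed_of_norm (p := p) (sylIn_top T) hKT hTx hxT (fun a ha b hb => hVab a (hxN ha) b (hxN hb)) hxp ?_ ?_
  · intro g hg
    have hTM : SylIn p (T : Subgroup L) (Subgroup.centralizer ({x} : Set L)) := (sylIn_top T).mono
      (fun t ht => Subgroup.mem_centralizer_singleton_iff.2 (hTx t ht)) le_top
    obtain ⟨k, hk, hle⟩ := hTM.conj_le (isPGroup_cj (T.2.to_le hKT) g⁻¹) hg
    rw [cj_cj] at hle
    have h1 : Commute (k * g⁻¹) x := hNK _ (mem_normalizer_iff_cj.2 (hKweak _ hle))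
    have h2 : Commute (k⁻¹ * (k * g⁻¹)) x :=
      ((show Commute k x from Subgroup.mem_centralizer_singleton_iff.1 hk).inv_left).mul_left h1
    rw [inv_mul_cancel_left] at h2
    exact (inv_inv g ▸ h2.inv_left : Commute g x).eq
  intro B hBn hBco w hw hBw
  obtain ⟨A, hA, a, haA, haB⟩ : ∃ A ∈ 𝒬, ∃ a : K, (a : L) ∈ A ∧ a ∉ B := by
    by_contra hcon
    push Not at hcon
    refine hBco.1 (eq_top_iff.2 fun k _ => ?_)
    have hle : K ≤ B.map K.subtype := sSup_le fun A hA a ha =>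
      ⟨⟨a, le_sSup hA ha⟩, hcon A hA ⟨a, le_sSup hA ha⟩ ha, rfl⟩
    exact (Subgroup.mem_map_iff_mem K.subtype_injective).1 (hle k.2)
  refine ⟨a, haB, hquad A hA a haA w (hxN hw), ?_⟩
  rcases eq_or_ne p 2 with hp2 | hp2
  swap
  · exact Or.inl hp2
  right
  subst hp2
  rcases hzcase with h | h | h
  · exact absurd rfl h
  · -- the square case
    obtain ⟨W, hW, rfl⟩ : ∃ W ∈ V, W ^ 2 = w := by
      let Vp : Subgroup L :=
        { carrier := {v | ∃ W ∈ V, W ^ 2 = v}
          one_mem' := ⟨1, one_mem _, one_pow _⟩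
          mul_mem' := by
            rintro _ _ ⟨U, hU, rfl⟩ ⟨W, hW, rfl⟩
            exact ⟨U * W, mul_mem hU hW, (show Commute U W from hVab U hU W hW).mul_pow 2⟩
          inv_mem' := by
            rintro _ ⟨U, hU, rfl⟩
            exact ⟨U⁻¹, inv_mem hU, inv_pow U 2⟩ }
      haveI : Vp.Normal := ⟨by
        rintro _ ⟨U, hU, rfl⟩ g
        exact ⟨g * U * g⁻¹, (inferInstance : V.Normal).conj_mem U hU g, conj_pow⟩⟩
      exact Subgroup.normalClosure_le_normal (N := Vp) (Set.singleton_subset_iff.2 ⟨z, hzV, h⟩) hw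
    set d := (a : L) * W * (a : L)⁻¹ * W⁻¹ with hd
    have hdc : Commute (a : L) d := hquad A hA a haA W hW
    have h4 : d ^ 2 = 1 := by
      have h5 : W * (a : L) ^ 2 = (a : L) ^ 2 * W := Subgroup.mem_centralizer_iff.1 (hapow A hA a haA) W hW
      have h6 : (a : L) ^ 2 * W * ((a : L) ^ 2)⁻¹ = d ^ 2 * W := by
        calc (a : L) ^ 2 * W * ((a : L) ^ 2)⁻¹ = (a : L) * d * W * (a : L)⁻¹ := by rw [hd, pow_two]; group
          _ = d * ((a : L) * W * (a : L)⁻¹ * W⁻¹) * W := by rw [hdc.eq]; group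
          _ = d ^ 2 * W := by rw [← hd, pow_two]
      rw [← h5, mul_inv_cancel_right] at h6
      exact right_eq_mul.1 h6
    have e : (a : L) * W ^ 2 * (a : L)⁻¹ * (W ^ 2)⁻¹ = d ^ 2 := by
      have hab' : Commute ((a : L) * W * (a : L)⁻¹) W⁻¹ :=
        hVab _ ((inferInstance : V.Normal).conj_mem W hW a) _ (inv_mem hW)
      rw [hd, hab'.mul_pow, conj_pow, inv_pow]
    rw [e, h4]
  -- the `S₄`-free case
  by_contra hc1
  have hzx' : z = x ∨ z ^ 2 = x := hzx
  obtain ⟨u, hu, huw⟩ : ∃ u ∈ E, ∃ j : ℤ, w = x ^ j * u := by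
    have hconj : ∀ g : L, g * x * g⁻¹ * x⁻¹ ∈ E := fun g => ⟨V.mul_mem
      ((inferInstance : V.Normal).conj_mem x hxV g) (inv_mem hxV), by
        rw [(show Commute (g * x * g⁻¹) x⁻¹ from hVab _ ((inferInstance : V.Normal).conj_mem x hxV g) _ (inv_mem hxV)).mul_pow,
          conj_pow, hxp, inv_pow, mul_inv_cancel]⟩
    have hle : Subgroup.normalClosure ({x} : Set L) ≤ Subgroup.zpowers x ⊔ E := by
      refine (Subgroup.closure_le _).2 fun y hy => ?_
      obtain ⟨x', hx', hc'⟩ := Group.mem_conjugatesOfSet_iff.1 hy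
      rw [Set.mem_singleton_iff] at hx'
      subst hx'
      obtain ⟨g, rfl⟩ := isConj_iff.1 hc'
      have := Subgroup.mul_mem_sup (Subgroup.mem_zpowers x') (hconj g)
      rwa [← mul_assoc, hVab x' hxV _ ((inferInstance : V.Normal).conj_mem x' hxV g), mul_assoc, mul_inv_cancel,
        mul_one] at this
    obtain ⟨_, ⟨j, rfl⟩, u, hu, he⟩ := Subgroup.mem_sup_of_normal_right.1 (hle hw)
    exact ⟨u, hu, j, he.symm⟩
  obtain ⟨j, hj⟩ := huw
  have haT : (a : L) ∈ (T : Subgroup L) := hKT a.2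
  have hcu : ∀ t ∈ (T : Subgroup L), (t * w = w * t ↔ t * u = u * t) := fun t ht => by
    have h1 : Commute t (x ^ j) := (show Commute t x from hTx t ht).zpow_right j
    rw [hj]
    constructor
    · intro h2
      calc t * u = (x ^ j)⁻¹ * (t * (x ^ j * u)) := by rw [← mul_assoc t, h1.eq]; group
        _ = u * t := by rw [h2]; group
    · intro h2
      exact ((h1 : Commute t (x ^ j)).mul_right h2).eq
  have hau : ¬ (a : L) * u = u * a := fun h' => hc1 (by
    rw [(hcu a haT).2 h', mul_inv_cancel_right, mul_inv_cancel])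
  -- the subgroup fixing `u`
  set B' := A ⊓ Subgroup.centralizer ({u} : Set L)
  have hB'lt : B' < A := lt_of_le_of_ne inf_le_left fun he =>
    hau (Subgroup.mem_centralizer_singleton_iff.1 ((he.ge haA : (a : L) ∈ B')).2)
  have ha2 : (a : L) * a ∈ C₀ := by
    have := hapow A hA a haA
    rwa [pow_two] at this
  have haB2 : a * a ∈ B := by
    by_contra h'
    have htop : B ⊔ Subgroup.zpowers (a * a) = ⊤ :=
      hBco.2 _ (lt_of_le_of_ne le_sup_left fun he => h' (he ▸ Subgroup.mem_sup_right (Subgroup.mem_zpowers _)))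
    have h8 : Commute (a : L) w := by
      obtain ⟨b, hb, _, ⟨i, rfl⟩, he⟩ := Subgroup.mem_sup_of_normal_left.1 (htop.ge (Subgroup.mem_top a))
      have h9 : Commute (((a : L) * a) ^ i) w :=
        (show Commute ((a : L) * a) w from (Subgroup.mem_centralizer_iff.1 ha2 w (hxN hw)).symm).zpow_left i
      have h10 := (show Commute (b : L) w from hBw b hb).mul_left h9
      have e : (a : L) = (b : L) * ((a : L) * a) ^ i := by
        conv_lhs => rw [← he]
        rw [Subgroup.coe_mul, Subgroup.coe_zpow, Subgroup.coe_mul]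
      rwa [← e] at h10
    exact hau ((hcu a haT).1 h8.eq)
  have hcos : ∀ b ∈ A, b ∈ B' ∨ b * (a : L)⁻¹ ∈ B' := by
    intro b hb
    set b' : K := ⟨b, le_sSup hA hb⟩
    have hfix : ∀ k : K, k ∈ B → (k : L) ∈ A → (k : L) ∈ B' := fun k hk hkA =>
      ⟨hkA, Subgroup.mem_centralizer_singleton_iff.2 ((hcu k (hKT k.2)).1 (hBw k hk))⟩
    by_cases hb' : b' ∈ B
    · exact Or.inl (hfix b' hb' hb)
    refine Or.inr (hfix (b' * a⁻¹) ?_ (A.mul_mem hb (A.inv_mem haA)))
    have htop : Subgroup.zpowers a ⊔ B = ⊤ :=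
      hBco.2 _ (lt_of_le_of_ne le_sup_right fun he => haB (he ▸ Subgroup.mem_sup_left (Subgroup.mem_zpowers _)))
    obtain ⟨_, ⟨i, rfl⟩, b₀, hb₀, he⟩ := Subgroup.mem_sup_of_normal_right.1 (htop.ge (Subgroup.mem_top b'))
    rcases Int.even_or_odd i with ⟨l, rfl⟩ | ⟨l, rfl⟩
    · refine absurd ?_ hb'
      rw [← he]
      show a ^ (l + l) * b₀ ∈ B
      rw [zpow_add, ← (Commute.refl a).mul_zpow]
      exact B.mul_mem (B.zpow_mem haB2 l) hb₀
    · rw [← he]
      show a ^ (2 * l + 1) * b₀ * a⁻¹ ∈ B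
      rw [zpow_add, zpow_one, zpow_mul, zpow_two, mul_assoc, mul_assoc, ← mul_assoc a]
      exact B.mul_mem (B.zpow_mem haB2 l) (hBn.conj_mem b₀ hb₀ a)
  have hcard2 : Nat.card A ≤ 2 * Nat.card B' := by
    classical
    let f : B' × Bool → A := fun q => if q.2 then ⟨(q.1 : L) * a, A.mul_mem q.1.2.1 haA⟩ else ⟨q.1, q.1.2.1⟩
    have hf : Function.Surjective f := fun b => by
      rcases hcos b b.2 with h' | h'
      · exact ⟨(⟨b, h'⟩, false), Subtype.ext rfl⟩
      · exact ⟨(⟨_, h'⟩, true), Subtype.ext (inv_mul_cancel_right _ _)⟩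
    have := Nat.card_le_card_of_surjective f hf
    rw [Nat.card_prod, Nat.card_eq_fintype_card (α := Bool), Fintype.card_bool] at this
    omega
  set R := B' ⊔ Subgroup.zpowers u
  have huV : u ∈ V := hu.1
  have hAab : ∀ a ∈ A, ∀ b ∈ A, a * b = b * a := fun a ha b hb =>
    congrArg Subtype.val (hA.1.2.1.1.1 ⟨a, ha⟩ ⟨b, hb⟩)
  have hRab : IsMulCommutative R := comm_sup (fun a ha b hb => hAab a ha.1 b hb.1)
    (fun a ha b hb => by
      obtain ⟨i, rfl⟩ := ha
      obtain ⟨k, rfl⟩ := hb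
      exact ((Commute.refl u).zpow_zpow i k).eq)
    (fun a ha b hb => by
      obtain ⟨i, rfl⟩ := hb
      exact ((show Commute a u from Subgroup.mem_centralizer_singleton_iff.1 ha.2).zpow_right i).eq)
  have hRT : R ≤ (T : Subgroup L) := sup_le (inf_le_left.trans hA.1.1) (Subgroup.zpowers_le.2 (hVT huV))
  have huB' : u ∉ B' := fun h' => hau (hAab a haA u h'.1)
  have hRcard : Nat.card A ≤ Nat.card R := by
    refine hcard2.trans ?_
    have hlt' : B' < R := lt_of_le_of_ne le_sup_left fun he =>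
      huB' (he ▸ Subgroup.mem_sup_right (Subgroup.mem_zpowers u))
    obtain ⟨c, hc'⟩ := Subgroup.card_dvd_of_le hlt'.le
    have hl := replacement_property.card_lt_card_of_lt hlt'
    rw [hc'] at hl ⊢
    rcases c with _ | _ | c
    · omega
    · omega
    · rw [mul_comm 2]; exact Nat.mul_le_mul_left _ (by omega)
  have hR𝒜 : R ∈ 𝒜 := ⟨hRT, hRab, fun X hX hX' => (hA.1.2.2 X hX hX').trans hRcard⟩
  have hRπ : R.map π ≤ B'.map π := by
    rw [Subgroup.map_sup]
    refine sup_le le_rfl ?_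
    rw [MonoidHom.map_zpowers, hmem.2 (hVC₀ huV)]
    exact Subgroup.zpowers_le.2 (one_mem _)
  by_cases hB'C : B' ≤ C₀
  · -- a transvection
    refine h ?_
    have hE2 : ∀ e ∈ E, e * e = 1 := fun e he => by rw [← pow_two]; exact he.2
    have hCE : Subgroup.centralizer (E : Set L) = C₀ :=
      le_antisymm hEC (Subgroup.centralizer_le (fun e (he : e ∈ E) => he.1))
    have haC₀ : (a : L) ∉ C₀ := fun h' => hau (Subgroup.mem_centralizer_iff.1 h' u huV).symm
    refine involves_four_of_transvection (E := E) (fun e he f hf => hVab e he.1 f hf.1) hE2 (a := (a : L)) ?_ ?_ ?_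
    · rw [hCE]; exact ha2
    · have hR2 : IsMulCommutative (B' ⊔ E : Subgroup L) := comm_sup (fun a ha b hb => hAab a ha.1 b hb.1)
        (fun a ha b hb => hVab a ha.1 b hb.1)
        (fun b hb e he => (Subgroup.mem_centralizer_iff.1 (hB'C hb) e he.1).symm)
      have hle2 := hA.1.2.2 (B' ⊔ E) (sup_le (inf_le_left.trans hA.1.1) (fun e he => hVT he.1)) hR2
      have h1 := Subgroup.relIndex_mul_relIndex ⊥ B' (B' ⊔ E) bot_le le_sup_left
      rw [Subgroup.relIndex_bot_left, Subgroup.relIndex_bot_left, relIndex_sup_normal] at h1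
      have hidx : (B' ⊓ E).relIndex E ≤ 2 := by
        refine (Nat.mul_le_mul_left_iff (Nat.card_pos (α := B'))).1 ?_
        rw [h1, mul_comm _ 2]
        exact hle2.trans hcard2
      refine (Nat.le_of_dvd (Nat.pos_of_ne_zero Subgroup.index_ne_zero_of_finite) ?_).trans hidx
      refine Subgroup.relIndex_dvd_of_le_left _ fun e he => ⟨he.2, Subgroup.mem_centralizer_singleton_iff.2 ?_⟩
      exact hAab e he.1.1 a haA
    · have key : ∀ (C : Subgroup L) [C.Normal], C = C₀ →
          QuotientGroup.mk' C (a : L) ∉ pCore 2 (L ⧸ C) := by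
        intro C _ he
        subst he
        intro h'
        rw [hcore, Subgroup.mem_bot, QuotientGroup.mk'_apply, QuotientGroup.eq_one_iff] at h'
        exact haC₀ h'
      exact key _ hCE
  · have hRC : ¬ R ≤ C₀ := fun h' => hB'C (le_sup_left.trans h')
    have h1 := hmin R ⟨hR𝒜, hRC⟩
    refine absurd (h1.trans (Subgroup.card_le_of_le hRπ)) (not_le.2 ?_)
    show Nat.card (B'.map π) < k₀
    rw [← hA.2.2.1]
    refine replacement_property.card_lt_card_of_lt (lt_of_le_of_ne (Subgroup.map_mono inf_le_left) fun he => ?_)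
    obtain ⟨b, hb, hbe⟩ := he.ge (Subgroup.mem_map_of_mem π haA)
    have hk : b⁻¹ * (a : L) ∈ C₀ := QuotientGroup.eq.1 hbe
    have h3 : Commute (b * (b⁻¹ * (a : L))) u :=
      (show Commute b u from Subgroup.mem_centralizer_singleton_iff.1 hb.2).mul_left
        (Subgroup.mem_centralizer_iff.1 hk u huV).symm
    rw [mul_inv_cancel_left] at h3
    exact hau h3.eq

end Cfsg.Agent.Fusion
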