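import Cfsg.Agent.Lib.Fusion.WeakClosedElements
import Cfsg.Agent.Lib.Fusion.JTildeTransfer
import Cfsg.Agent.Lib.PushUp.OffProd.Bound

/-!
# Central subgroups normalized by `N(J)`, for odd `p`

Either the subgroup is normal, or a `p'`-element acts on it by a group transitive on its commutator.
-/

set_option autoImplicit false

universe u

namespace Cfsg.Agent.Fusion

open Cfsg Cfsg.Agent.Local.FS

/-- An element normalizing `T`, of order prime to `p` on `T`, transitive on a subgroup containing `[T, x]`. -/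
def CycAuto (p : ℕ) {L : Type*} [Group L] (T : Subgroup L) : Prop :=
  ∃ x ∈ Subgroup.normalizer (T : Set L), ∃ (L₀ : Subgroup L) (m : ℕ), m.Coprime p ∧
    (∀ t ∈ T, x ^ m * t * (x ^ m)⁻¹ = t) ∧ (∃ t ∈ T, x * t * x⁻¹ ≠ t) ∧
    (∀ i : ℕ, ∀ t ∈ T, x ^ i * t * (x ^ i)⁻¹ * t⁻¹ ∈ L₀) ∧
    ∀ a ∈ L₀, ∀ b ∈ L₀, a ≠ 1 → b ≠ 1 → ∃ i : ℕ, x ^ i * a * (x ^ i)⁻¹ = b

theorem CycAuto.map {p : ℕ} {H L : Type*} [Group H] [Group L] {f : H →* L} (hf : Function.Injective f)
    {T : Subgroup H} (h : CycAuto p T) : CycAuto p (T.map f) := by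
  obtain ⟨x, hx, L₀, m, hm, h1, ⟨t, ht, hne⟩, h2, h3⟩ := h
  refine ⟨f x, Subgroup.le_normalizer_map f ⟨x, hx, rfl⟩, L₀.map f, m, hm, ?_,
    ⟨f t, ⟨t, ht, rfl⟩, fun e => hne (hf (by rw [map_mul, map_mul, map_inv]; exact e))⟩, ?_, ?_⟩
  · rintro _ ⟨s, hs, rfl⟩
    rw [← map_pow, ← map_inv, ← map_mul, ← map_mul, h1 s hs]
  · rintro i _ ⟨s, hs, rfl⟩
    exact ⟨_, h2 i s hs, by simp only [map_mul, map_inv, map_pow]⟩
  · rintro _ ⟨a, ha, rfl⟩ _ ⟨b, hb, rfl⟩ ha1 hb1
    obtain ⟨i, hi⟩ := h3 a ha b hb (fun e => ha1 (by rw [e, map_one])) fun e => hb1 (by rw [e, map_one])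
    exact ⟨i, by rw [← map_pow, ← map_inv, ← map_mul, ← map_mul, hi]⟩

variable {p : ℕ} [hp : Fact p.Prime]

/-- A fixed point argument: if the fixed points of `V` in `Ω₁` are central, so is `T`. -/
theorem central_of_fixed_central {L : Type u} [Group L] [Finite L] (V : Sylow p L) {W T : Subgroup L} [W.Normal]
    (hWp : IsPGroup p W) (hWab : ∀ a ∈ W, ∀ b ∈ W, a * b = b * a) (hTW : T ≤ W)
    (hTV : ∀ t ∈ T, ∀ v ∈ (V : Subgroup L), v * t = t * v)
    (hfix : ∀ e ∈ W, e ^ p = 1 → (∀ v ∈ (V : Subgroup L), v * e = e * v) → ∀ g : L, g * e * g⁻¹ = e) :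
    ∀ t ∈ T, ∀ g : L, g * t * g⁻¹ = t := by
  classical
  intro t
  induction h : orderOf t using Nat.strong_induction_on generalizing t with
  | _ n ih =>
  intro ht g
  rcases eq_or_ne t 1 with rfl | ht1
  · simp
  have htp : ∀ g : L, g * t ^ p * g⁻¹ = t ^ p := by
    obtain ⟨k, hk⟩ := hWp ⟨t, hTW ht⟩
    obtain ⟨i, -, hi⟩ := (Nat.dvd_prime_pow hp.out).1
      (orderOf_dvd_of_pow_eq_one (congrArg Subtype.val hk : t ^ p ^ k = 1))
    rcases i with _ | i
    · exact absurd (orderOf_eq_one_iff.1 (by rw [hi, pow_zero])) ht1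
    refine ih (orderOf (t ^ p)) ?_ (t ^ p) rfl (pow_mem ht p)
    rw [← h, orderOf_pow, hi, Nat.gcd_eq_right (dvd_pow_self p (Nat.succ_ne_zero i))]
    exact Nat.div_lt_self (pow_pos hp.out.pos _) hp.out.one_lt
  have hconjW : ∀ g : L, ∀ w ∈ W, g * w * g⁻¹ ∈ W := fun g w hw => (inferInstance : W.Normal).conj_mem w hw g
  let E : Subgroup L :=
    { carrier := {v | v ∈ W ∧ v ^ p = 1}
      one_mem' := ⟨one_mem _, one_pow _⟩
      mul_mem' := fun {a b} ha hb => ⟨mul_mem ha.1 hb.1, by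
        rw [(show Commute a b from hWab a ha.1 b hb.1).mul_pow, ha.2, hb.2, one_mul]⟩
      inv_mem' := fun {a} ha => ⟨inv_mem ha.1, by rw [inv_pow, ha.2, inv_one]⟩ }
  haveI : E.Normal := ⟨fun v hv g => ⟨hconjW g v hv.1, by rw [conj_pow, hv.2, mul_one, mul_inv_cancel]⟩⟩
  have hδ : ∀ g : L, g * t * g⁻¹ * t⁻¹ ∈ E := fun g => ⟨mul_mem (hconjW g t (hTW ht)) (inv_mem (hTW ht)), by
    rw [(show Commute (g * t * g⁻¹) t⁻¹ from hWab _ (hconjW g t (hTW ht)) _ (inv_mem (hTW ht))).mul_pow,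
      conj_pow, htp, inv_pow, mul_inv_cancel]⟩
  letI : CommGroup E := { (inferInstance : Group E) with mul_comm := fun a b => Subtype.ext (hWab a a.2.1 b b.2.1) }
  let δ : L → E := fun g => ⟨g * t * g⁻¹ * t⁻¹, hδ g⟩
  let c : L → E →* E := fun g => (MulAut.conjNormal g : MulAut E).toMonoidHom
  have hc : ∀ g h, c g (δ h) * δ g = δ (g * h) := fun g h => Subtype.ext (by
    show ((MulAut.conjNormal g (δ h) : E) : L) * (g * t * g⁻¹ * t⁻¹) = g * h * t * (g * h)⁻¹ * t⁻¹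
    rw [MulAut.conjNormal_apply]
    show g * (h * t * h⁻¹ * t⁻¹) * g⁻¹ * (g * t * g⁻¹ * t⁻¹) = _
    group)
  have hcongr : ∀ g h : L, (g : L ⧸ (V : Subgroup L)) = h → δ g = δ h := fun g h e => by
    have h1 := hTV t ht _ (QuotientGroup.eq.1 e)
    refine Subtype.ext ?_
    show g * t * g⁻¹ * t⁻¹ = h * t * h⁻¹ * t⁻¹
    congr 1
    calc g * t * g⁻¹ = g * (t * (g⁻¹ * h)) * h⁻¹ := by group
      _ = g * ((g⁻¹ * h) * t) * h⁻¹ := by rw [h1]
      _ = h * t * h⁻¹ := by group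
  have : Fintype (L ⧸ (V : Subgroup L)) := Fintype.ofFinite _
  let e : E := ∏ q : L ⧸ (V : Subgroup L), δ q.out
  have hkey : ∀ g, c g e * δ g ^ Fintype.card (L ⧸ (V : Subgroup L)) = e := fun g => by
    simp only [e, map_prod]
    rw [← Finset.card_univ, ← Finset.prod_const, ← Finset.prod_mul_distrib]
    simp only [hc]
    refine Fintype.prod_equiv (MulAction.toPerm g) _ _ fun q => hcongr _ _ ?_
    rw [QuotientGroup.out_eq']
    show ((g * q.out : L) : L ⧸ (V : Subgroup L)) = g • q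
    nth_rewrite 2 [← QuotientGroup.out_eq' q]
    rfl
  have heV : ∀ v ∈ (V : Subgroup L), v * (e : L) = e * v := fun v hv => by
    have h1 := hkey v
    rw [show δ v = 1 from Subtype.ext (by
      show v * t * v⁻¹ * t⁻¹ = 1
      rw [hTV t ht v hv, mul_inv_cancel_right, mul_inv_cancel]), one_pow, mul_one] at h1
    have h2 : v * (e : L) * v⁻¹ = e := (MulAut.conjNormal_apply v e).symm.trans (congrArg Subtype.val h1)
    exact mul_inv_eq_iff_eq_mul.1 h2
  have hm : δ g ^ Fintype.card (L ⧸ (V : Subgroup L)) = 1 := by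
    have h1 := hkey g
    rw [show c g e = e from Subtype.ext ((MulAut.conjNormal_apply g e).trans (hfix e e.2.1 e.2.2 heV g))] at h1
    exact mul_eq_left.1 h1
  have hp1 : δ g ^ p = 1 := Subtype.ext (hδ g).2
  have hco : Nat.Coprime (Fintype.card (L ⧸ (V : Subgroup L))) p := by
    rw [← Nat.card_eq_fintype_card, ← Subgroup.index_eq_card, Nat.coprime_comm, hp.out.coprime_iff_not_dvd]
    exact (sylIn_top V).not_dvd ∘ fun hd => by rwa [Subgroup.relIndex_top_right]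
  have h1 := pow_gcd_eq_one.2 ⟨hm, hp1⟩
  rw [hco.gcd_eq_one, pow_one] at h1
  exact mul_inv_eq_one.1 (congrArg Subtype.val h1)

set_option maxHeartbeats 4000000 in
/-- A central subgroup of a Sylow subgroup normalized by `N(J)` is normal, or has a transitive automorphism. -/
theorem normal_or_cycAuto (hp2 : p ≠ 2) : ∀ (n : ℕ) (L : Type u) [Group L] [Finite L] (V : Sylow p L) (T : Subgroup L),
    Nat.card L ≤ n → Subgroup.centralizer ((pCore p L : Subgroup L) : Set L) ≤ pCore p L →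
    T ≤ (V : Subgroup L) → (∀ t ∈ T, ∀ v ∈ (V : Subgroup L), v * t = t * v) →
    Subgroup.normalizer (thompsonSubgroupAOf (V : Subgroup L) : Set L) ≤ Subgroup.normalizer (T : Set L) →
    Subgroup.normalizer (T : Set L) = ⊤ ∨ CycAuto p T := by
  intro n
  induction n using Nat.strong_induction_on with
  | _ n ihn =>
  intro L _ _ V T hn hQc hTV hcomm hloc
  classical
  by_contra hcon
  obtain ⟨hMne, hnoC⟩ := not_or.1 hcon
  set M := Subgroup.normalizer (T : Set L)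
  set Q := pCore p L
  have hQV : Q ≤ (V : Subgroup L) := pCore_le_sylow V
  set J := thompsonSubgroupAOf (V : Subgroup L)
  have hJe : ∀ H : Subgroup L, inducedFunctor wJA H = thompsonSubgroupAOf H := inducedFunctor_wJA
  have hcf := isConjugacyFunctor_induced (G := L) (isCharPFunctor_wJA (p := p))
  have hVM : (V : Subgroup L) ≤ M := fun v hv => Subgroup.centralizer_le_normalizer _
    (Subgroup.mem_centralizer_iff.2 fun t ht => (hcomm t ht v hv).symm)
  -- every proper subgroup over `V` lies in `M`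
  have hHM : ∀ H : Subgroup L, (V : Subgroup L) ≤ H → H ≠ ⊤ → H ≤ M := by
    intro H hVH hH
    have hlt : Nat.card H < n := lt_of_lt_of_le (lt_of_le_of_ne (Subgroup.card_le_card_group H)
      fun h => hH (Subgroup.eq_top_of_card_eq H h)) hn
    have hpc : Q.subgroupOf H ≤ pCore p H := le_pCore ((isPGroup_pCore p L).comap_subtype)
    have hTH : T ≤ H := hTV.trans hVH
    have hmap : ((V.subtype hVH : Subgroup H)).map H.subtype = (V : Subgroup L) := by
      rw [Sylow.coe_subtype, Subgroup.map_subgroupOf_eq_of_le hVH]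
    rcases ihn _ hlt H (V.subtype hVH) (T.subgroupOf H) le_rfl
      (fun y hy => hpc (Subgroup.mem_subgroupOf.2 (hQc (Subgroup.mem_centralizer_iff.2 fun q hq => by
        exact congrArg Subtype.val (Subgroup.mem_centralizer_iff.1 hy ⟨q, (hQV.trans hVH) hq⟩
          (hpc (Subgroup.mem_subgroupOf.2 hq)))))))
      (fun t ht => show (t : L) ∈ (V : Subgroup L) from hTV ht)
      (fun t ht v hv => Subtype.ext (hcomm t ht v hv))
      (fun y hy => by
        have h1 : (y : L) ∈ M := hloc (by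
          have h1 := Subgroup.le_normalizer_map H.subtype ⟨y, hy, rfl⟩
          rwa [← inducedFunctor_wJA, ← inducedFunctor_map_of_injOn (isCharPFunctor_wJA (p := p)) H.subtype
            H.subtype_injective.injOn (V.subtype hVH).2, hmap, hJe] at h1)
        refine Subgroup.mem_normalizer_iff.2 fun z => ?_
        exact Subgroup.mem_normalizer_iff.1 h1 (z : L)) with h | h
    · intro g hg
      refine Subgroup.mem_normalizer_iff.2 fun z => ?_
      constructor
      · intro hz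
        exact (Subgroup.mem_normalizer_iff.1 (h.ge (Subgroup.mem_top (⟨g, hg⟩ : H))) ⟨z, hTH hz⟩).1 hz
      · intro hz
        have h1 := (Subgroup.mem_normalizer_iff.1 (h.ge (Subgroup.mem_top (⟨g⁻¹, inv_mem hg⟩ : H))) ⟨_, hTH hz⟩).1 hz
        have h2 : g⁻¹ * (g * z * g⁻¹) * g⁻¹⁻¹ ∈ T := h1
        rwa [show g⁻¹ * (g * z * g⁻¹) * g⁻¹⁻¹ = z by group] at h2
    · exact absurd ((Subgroup.map_subgroupOf_eq_of_le hTH) ▸ h.map H.subtype_injective) hnoC
  -- the module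
  set Z := Q ⊓ Subgroup.centralizer (Q : Set L)
  haveI : Z.Normal := Subgroup.normal_inf_normal Q (Subgroup.centralizer (Q : Set L))
  have hTZ : T ≤ Z := fun t ht => by
    have h1 : t ∈ Subgroup.centralizer (Q : Set L) :=
      Subgroup.mem_centralizer_iff.2 fun q hq => hcomm t ht q (hQV hq)
    exact ⟨hQc h1, h1⟩
  set W := Subgroup.normalClosure (T : Set L)
  have hTW : T ≤ W := Subgroup.le_normalClosure
  have hWZ : W ≤ Z := Subgroup.normalClosure_le_normal hTZ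
  have hWV : W ≤ (V : Subgroup L) := fun v hv => hQV (hWZ hv).1
  have hWp : IsPGroup p W := V.2.to_le hWV
  have hWab : ∀ a ∈ W, ∀ b ∈ W, a * b = b * a := fun a ha b hb =>
    Subgroup.mem_centralizer_iff.1 (hWZ hb).2 a (hWZ ha).1
  have hWc : ∀ a ∈ W, ∀ g : L, g * a * g⁻¹ ∈ W := fun a ha g => (inferInstance : W.Normal).conj_mem a ha g
  set C := Subgroup.centralizer (W : Set L)
  haveI hCn : C.Normal := Subgroup.normal_centralizer (H := W)
  have hCW : ∀ c ∈ C, ∀ w ∈ W, c * w * c⁻¹ = w := fun c hc w hw => by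
    rw [← Subgroup.mem_centralizer_iff.1 hc w hw, mul_inv_cancel_right]
  have hWC : W ≤ C := fun v hv => Subgroup.mem_centralizer_iff.2 fun w hw => hWab w hw v hv
  have hCM : C ≤ M := (Subgroup.centralizer_le hTW).trans (Subgroup.centralizer_le_normalizer _)
  set π := QuotientGroup.mk' C
  have hπs : Function.Surjective π := QuotientGroup.mk'_surjective C
  have hmem : ∀ {l : L}, π l = 1 ↔ l ∈ C := fun {l} => QuotientGroup.eq_one_iff l
  have hconjC : ∀ {g g' : L}, π g = π g' → ∀ w ∈ W, g * w * g⁻¹ = g' * w * g'⁻¹ := by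
    intro g g' e w hw
    have h1 := hCW _ (QuotientGroup.eq.1 e) w hw
    calc g * w * g⁻¹ = g * (g⁻¹ * g' * w * (g⁻¹ * g')⁻¹) * g⁻¹ := by rw [h1]
      _ = g' * w * g'⁻¹ := by group
  have hkerM : ∀ {g : L}, π g ∈ M.map π ↔ g ∈ M := by
    intro g
    refine ⟨fun h => ?_, fun h => ⟨g, h, rfl⟩⟩
    obtain ⟨m, hm, e⟩ := h
    have : m⁻¹ * g ∈ C := QuotientGroup.eq.1 e
    simpa using mul_mem hm (hCM this)
  set 𝒜 := maxIn (fun A : Subgroup L => IsMulCommutative A) (V : Subgroup L)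
  obtain ⟨A, hA, hAC⟩ : ∃ A ∈ 𝒜, ¬ A ≤ C := by
    by_contra hall
    push Not at hall
    refine hMne (top_le_iff.1 fun g _ => ?_)
    have hJC : thompsonSubgroupAOf (V : Subgroup L) ≤ (V : Subgroup L) ⊓ C := by
      rw [thompsonA_eq_sSup]
      exact sSup_le fun A hA => le_inf hA.1 (hall A hA)
    have hsyl : SylIn p ((V : Subgroup L) ⊓ C) C :=
      (sylIn_top V).inf_normal le_top (by rw [Subgroup.normalizer_eq_top])
    obtain ⟨c, hc', hcg⟩ := frattini_conj hsyl (H := ⊤) (by rw [Subgroup.normalizer_eq_top]) (Subgroup.mem_top g)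
    have h1 : c * g ∈ Subgroup.normalizer (J : Set L) := by
      have h2 := conjFunctor_normalizer_le hcf hsyl.isPGroup hcg
      rwa [hJe, thompsonSubgroupAOf_eq_of_le inf_le_left hJC] at h2
    simpa using mul_mem (inv_mem (hCM hc')) (hloc h1)
  have hAab : ∀ a ∈ A, ∀ b ∈ A, a * b = b * a := fun a ha b hb =>
    congrArg Subtype.val (hA.2.1.1.1 ⟨a, ha⟩ ⟨b, hb⟩)
  -- the core of the image is trivial
  have hcore : pCore p (L ⧸ C) = ⊥ := by
    set K₁ := (pCore p (L ⧸ C)).comap π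
    haveI : K₁.Normal := Subgroup.Normal.comap inferInstance π
    obtain ⟨V', hV'⟩ := (sylIn_map_mk (N := C) (sylIn_top V)).exists_sylow
    have hle : K₁ ≤ Subgroup.centralizer (T : Set L) := fun l hl => by
      obtain ⟨v, hv, he⟩ : π l ∈ (V : Subgroup L).map π := hV' ▸ pCore_le_sylow V' hl
      refine Subgroup.mem_centralizer_iff.2 fun t ht => ?_
      have h1 := hconjC he t (hTW ht)
      rw [hcomm t ht v hv, mul_inv_cancel_right] at h1
      exact eq_mul_inv_iff_mul_eq.1 h1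
    have h2 : K₁ ≤ C := by
      rw [Subgroup.le_centralizer_iff]
      haveI : (Subgroup.centralizer (K₁ : Set L)).Normal := Subgroup.normal_centralizer (H := K₁)
      exact Subgroup.normalClosure_le_normal (Subgroup.le_centralizer_iff.1 hle)
    rw [eq_bot_iff]
    intro y hy
    obtain ⟨l, rfl⟩ := hπs y
    exact Subgroup.mem_bot.2 (hmem.2 (h2 hy))
  -- the elements of order `p`
  set E : Subgroup L :=
    { carrier := {v | v ∈ W ∧ v ^ p = 1}
      one_mem' := ⟨one_mem _, one_pow _⟩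
      mul_mem' := fun {a b} ha hb => ⟨mul_mem ha.1 hb.1, by
        rw [(show Commute a b from hWab a ha.1 b hb.1).mul_pow, ha.2, hb.2, one_mul]⟩
      inv_mem' := fun {a} ha => ⟨inv_mem ha.1, by rw [inv_pow, ha.2, inv_one]⟩ } with hEdef
  haveI hEn : E.Normal := ⟨fun v hv g => ⟨hWc v hv.1 g, by
    rw [conj_pow, hv.2, mul_one, mul_inv_cancel]⟩⟩
  have hEW : E ≤ W := fun v hv => hv.1
  have hEC : C = Subgroup.centralizer (E : Set L) := by
    refine le_antisymm (Subgroup.centralizer_le hEW) ?_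
    haveI : (Subgroup.centralizer (E : Set L)).Normal := Subgroup.normal_centralizer (H := E)
    haveI : ((Subgroup.centralizer (E : Set L)).map π).Normal := Subgroup.Normal.map inferInstance _ hπs
    have hp' : IsPGroup p ((Subgroup.centralizer (E : Set L)).map π) := by
      rintro ⟨_, l, hl, rfl⟩
      obtain ⟨i, j, hj, hij⟩ := Nat.exists_eq_pow_mul_and_not_dvd (orderOf_pos l).ne' p hp.out.ne_one
      refine ⟨i, Subtype.ext ?_⟩
      show π l ^ p ^ i = 1
      rw [← map_pow]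
      refine hmem.2 (Subgroup.mem_centralizer_iff.2 fun v hv => ?_)
      refine (commute_of_coprime_fixed_omega hWp hWab (y := l ^ p ^ i) (by rw [Subgroup.normalizer_eq_top]; trivial)
        hj (fun w _ => by rw [← pow_mul, ← hij, pow_orderOf_eq_one, one_mul, mul_one]) (fun w hw hwp => ?_) v hv).symm
      exact (Subgroup.mem_centralizer_iff.1 (Subgroup.pow_mem _ hl _) w ⟨hw, hwp⟩).symm
    intro l hl
    have h1 := le_pCore (p := p) hp' (Subgroup.mem_map_of_mem π hl)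
    rw [hcore, Subgroup.mem_bot] at h1
    exact hmem.1 h1
  have hEc : IsMulCommutative E := ⟨⟨fun a b => Subtype.ext (hWab a a.2.1 b b.2.1)⟩⟩
  letI : CommGroup E := { (inferInstance : Group E) with mul_comm := hEc.1.1 }
  obtain ⟨φ, hφ, hfaith⟩ := exists_quotient_action hEc C hEC
  let ι : Additive E → L := fun v => ((Additive.toMul v : E) : L)
  have hιφ : ∀ (g : L) v, ι (φ (π g) v) = g * ι v * g⁻¹ := fun g v => hφ g (Additive.toMul v)
  have hιinj : Function.Injective ι := fun a b e => Additive.toMul.injective (Subtype.ext e)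
  have hιW : ∀ v, ι v ∈ W := fun v => (Additive.toMul v : E).2.1
  have hι0 : ι 0 = 1 := rfl
  have hιadd : ∀ v w, ι (v + w) = ι v * ι w := fun _ _ => rfl
  have hιneg : ∀ v, ι (-v) = (ι v)⁻¹ := fun _ => rfl
  have hexp : ∀ v : Additive E, p • v = 0 := fun v => by
    show p • Additive.ofMul (Additive.toMul v) = 0
    rw [← ofMul_pow, show (Additive.toMul v : E) ^ p = 1 from Subtype.ext (Additive.toMul v : E).2.2]
    rfl
  have hVπ : SylIn p ((V : Subgroup L).map π) ⊤ := sylIn_map_mk (sylIn_top V)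
  have hVπM : (V : Subgroup L).map π ≤ M.map π := Subgroup.map_mono hVM
  -- the fixed vectors of `V` are moved
  set EV := E ⊓ Subgroup.centralizer ((V : Subgroup L) : Set L)
  have hEVM : Subgroup.centralizer (EV : Set L) ≤ M := by
    refine hHM _ (Subgroup.le_centralizer_iff.1 inf_le_right) fun htop => hMne ?_
    have hfix : ∀ e ∈ W, e ^ p = 1 → (∀ v ∈ (V : Subgroup L), v * e = e * v) → ∀ g : L, g * e * g⁻¹ = e :=
      fun e he hep hev g => by
        rw [← Subgroup.mem_centralizer_iff.1 (htop.ge (Subgroup.mem_top g)) e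
          ⟨⟨he, hep⟩, Subgroup.mem_centralizer_iff.2 hev⟩, mul_inv_cancel_right]
    refine top_le_iff.1 fun g _ => Subgroup.centralizer_le_normalizer _ (Subgroup.mem_centralizer_iff.2 fun t ht => ?_)
    exact eq_mul_inv_iff_mul_eq.1 (central_of_fixed_central V hWp hWab hTW hcomm hfix t ht g).symm
  have K : OffProd.Ctx φ p (M.map π) :=
    { exp := hexp
      faithful := hfaith
      two := hp2
      M_ne := fun h => hMne (top_le_iff.1 fun g _ => hkerM.1 (h ▸ Subgroup.mem_top _))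
      exT := ⟨_, hVπ, hVπM, fun h => hAC (hA.1.trans (((Subgroup.map_eq_bot_iff _).1 h).trans
        (QuotientGroup.ker_mk' C).le))⟩
      core := hcore
      uniq := fun S hS hSM H hSH hH => by
        obtain ⟨x, hx, hxS⟩ := (hVπ.mono hVπM le_top).conj_eq (hS.mono hSM le_top)
        obtain ⟨m, hm, rfl⟩ := hx
        have hH' : cj H (π m)⁻¹ ≤ M.map π := by
          have hle : (V : Subgroup L).map π ≤ cj H (π m)⁻¹ := by
            have := cj_mono (hxS ▸ hSH : cj ((V : Subgroup L).map π) (π m) ≤ H) (π m)⁻¹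
            rwa [cj_cj_inv] at this
          rw [← Subgroup.map_comap_eq_self_of_surjective hπs (cj H (π m)⁻¹)]
          refine Subgroup.map_mono (hHM _ (Subgroup.map_le_iff_le_comap.1 hle) fun h => hH ?_)
          have h2 : cj H (π m)⁻¹ = ⊤ := Subgroup.comap_injective hπs (h.trans (Subgroup.comap_top π).symm)
          rw [← cj_inv_cj H (π m), h2]
          exact cj_of_normal _ _
        have := cj_mono hH' (π m)
        rwa [cj_inv_cj, cj_eq_self_of_mem (show π m ∈ M.map π from ⟨m, hm, rfl⟩)] at this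
      moved := fun S hS hSM g hg => by
        obtain ⟨x, hx, hxS⟩ := (hVπ.mono hVπM le_top).conj_eq (hS.mono hSM le_top)
        obtain ⟨m, hm, rfl⟩ := hx
        obtain ⟨g, rfl⟩ := hπs g
        have hgM : m⁻¹ * g * m ∉ Subgroup.centralizer (EV : Set L) := fun h => hg (hkerM.2 (by
          simpa [mul_assoc] using mul_mem (mul_mem hm (hEVM h)) (inv_mem hm)))
        rw [mem_centralizer_set] at hgM
        simp only [not_forall] at hgM
        obtain ⟨z, hz, hzm⟩ := hgM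
        refine ⟨Additive.ofMul (⟨m * z * m⁻¹, hEn.conj_mem z hz.1 m⟩ : E), ?_, ?_⟩
        · rw [← hxS]
          rintro _ ⟨_, ⟨s, hs, rfl⟩, rfl⟩
          refine hιinj ?_
          show ι (φ (π (m * s * m⁻¹)) _) = _
          rw [hιφ]
          show m * s * m⁻¹ * (m * z * m⁻¹) * (m * s * m⁻¹)⁻¹ = m * z * m⁻¹
          rw [show m * s * m⁻¹ * (m * z * m⁻¹) * (m * s * m⁻¹)⁻¹ = m * (s * z * s⁻¹) * m⁻¹ by group,
            Subgroup.mem_centralizer_iff.1 hz.2 s hs, mul_inv_cancel_right]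
        · intro e
          refine hzm ?_
          have := congrArg ι e
          rw [hιφ] at this
          have e2 : g * (m * z * m⁻¹) * g⁻¹ = m * z * m⁻¹ := this
          calc m⁻¹ * g * m * z * (m⁻¹ * g * m)⁻¹ = m⁻¹ * (g * (m * z * m⁻¹) * g⁻¹) * m := by group
            _ = z := by rw [e2]; group }
  -- `A` is an offender and centralizes `W` modulo `E`
  set U := W ⊓ Subgroup.centralizer (A : Set L)
  have hcard : Nat.card W ≤ Nat.card (A.map π) * Nat.card U := by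
    have h1 : Nat.card (W ⊔ (A ⊓ C) : Subgroup L) ≤ Nat.card A := by
      refine hA.2.2 _ (sup_le hWV (inf_le_left.trans hA.1)) ?_
      exact comm_sup hWab (fun a ha b hb => hAab a ha.1 b hb.1) fun w hw a ha =>
        Subgroup.mem_centralizer_iff.1 ha.2 w hw
    rw [Cfsg.Agent.PushUp.card_sup_normal] at h1
    have h2 : W.relIndex (A ⊓ C) * Nat.card (W ⊓ (A ⊓ C) : Subgroup L) = Nat.card (A ⊓ C : Subgroup L) := by
      rw [← Subgroup.inf_relIndex_right, mul_comm, ← Subgroup.relIndex_bot_left, ← Subgroup.relIndex_bot_left]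
      exact Subgroup.relIndex_mul_relIndex _ _ _ bot_le inf_le_right
    have h3 : Nat.card (W ⊓ (A ⊓ C) : Subgroup L) ≤ Nat.card U :=
      Subgroup.card_le_of_le fun v hv => ⟨hv.1, Subgroup.mem_centralizer_iff.2 fun a ha => hAab a ha v hv.2.1⟩
    have h4 : Nat.card (A.map π) * Nat.card (A ⊓ C : Subgroup L) = Nat.card A := by
      have e1 : π.ker.relIndex A = Nat.card (A.map π) := Subgroup.relIndex_ker A π
      rw [← e1, QuotientGroup.ker_mk', ← Subgroup.inf_relIndex_left A C, mul_comm,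
        ← Subgroup.relIndex_bot_left, ← Subgroup.relIndex_bot_left]
      exact Subgroup.relIndex_mul_relIndex _ _ _ bot_le inf_le_left
    refine Nat.le_of_mul_le_mul_right ?_ (Nat.card_pos (α := (A ⊓ C : Subgroup L)))
    calc Nat.card W * Nat.card (A ⊓ C : Subgroup L)
        = W.relIndex (A ⊓ C) * Nat.card W * Nat.card (W ⊓ (A ⊓ C) : Subgroup L) := by rw [← h2]; ring
      _ ≤ Nat.card A * Nat.card U := Nat.mul_le_mul h1 h3
      _ = _ := by rw [← h4]; ring
  have hEU : Nat.card (E ⊔ U : Subgroup L) * Nat.card (E ⊓ U : Subgroup L) = Nat.card E * Nat.card U := by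
    rw [Cfsg.Agent.PushUp.card_sup_normal, mul_comm (E.relIndex U), mul_assoc]
    congr 1
    rw [← Subgroup.inf_relIndex_right, mul_comm, ← Subgroup.relIndex_bot_left, ← Subgroup.relIndex_bot_left]
    exact Subgroup.relIndex_mul_relIndex _ _ _ bot_le inf_le_right
  have hEUfix : Nat.card (E ⊓ U : Subgroup L) ≤ Nat.card (BestOff.fixed φ (A.map π)) := by
    refine Nat.card_le_card_of_injective (fun v : (E ⊓ U : Subgroup L) => (⟨Additive.ofMul (⟨v, v.2.1⟩ : E), ?_⟩ :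
      BestOff.fixed φ (A.map π))) fun a b e => Subtype.ext ?_
    · rintro _ ⟨a, ha, rfl⟩
      refine hιinj ?_
      rw [hιφ]
      show a * (v : L) * a⁻¹ = v
      rw [Subgroup.mem_centralizer_iff.1 v.2.2.2 a ha, mul_inv_cancel_right]
    · exact congrArg (fun x : BestOff.fixed φ (A.map π) => ι x) e
  have hAπc : ∀ a ∈ A.map π, ∀ b ∈ A.map π, Commute a b := by
    rintro _ ⟨a, ha, rfl⟩ _ ⟨b, hb, rfl⟩
    exact (show Commute a b from hAab a ha b hb).map π
  have hX : Nat.card (Additive E) = Nat.card E := Nat.card_congr Additive.toMul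
  have hoff : Nat.card (Additive E) ≤ OffProd.off φ (A.map π) := by
    rw [hX]
    refine Nat.le_of_mul_le_mul_right ?_ (Nat.card_pos (α := U))
    calc Nat.card E * Nat.card U = Nat.card (E ⊔ U : Subgroup L) * Nat.card (E ⊓ U : Subgroup L) := hEU.symm
      _ ≤ Nat.card W * Nat.card (BestOff.fixed φ (A.map π)) :=
        Nat.mul_le_mul (Subgroup.card_le_of_le (sup_le hEW inf_le_left)) hEUfix
      _ ≤ Nat.card (A.map π) * Nat.card U * Nat.card (BestOff.fixed φ (A.map π)) := Nat.mul_le_mul_right _ hcard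
      _ = _ := by rw [OffProd.off]; ring
  have hsplitW : E ⊔ U = W := by
    refine Subgroup.eq_of_le_of_card_ge (sup_le hEW inf_le_left) ?_
    refine Nat.le_of_mul_le_mul_right ?_ (Nat.card_pos (α := (E ⊓ U : Subgroup L)))
    have hb := OffProd.off_le_card K hVπ hVπM (Subgroup.map_mono hA.1) hAπc
    rw [hX] at hb
    calc Nat.card W * Nat.card (E ⊓ U : Subgroup L)
        ≤ Nat.card (A.map π) * Nat.card U * Nat.card (BestOff.fixed φ (A.map π)) := Nat.mul_le_mul hcard hEUfix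
      _ = Nat.card U * OffProd.off φ (A.map π) := by rw [OffProd.off]; ring
      _ ≤ Nat.card U * Nat.card E := Nat.mul_le_mul_left _ hb
      _ = _ := by rw [hEU, mul_comm]
  -- the block
  obtain ⟨D, hDA, hD⟩ := OffProd.exists_mem_le (φ := φ) (p := p)
    (fun h => hAC (((Subgroup.map_eq_bot_iff _).1 h).trans (QuotientGroup.ker_mk' C).le))
    (hVπ.isPGroup.to_le (Subgroup.map_mono hA.1)) hAπc hoff
  have hDm : D ∈ OffProd.mems φ p ((V : Subgroup L).map π) := ⟨hD, hDA.trans (Subgroup.map_mono hA.1)⟩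
  obtain ⟨H, t, b⟩ := OffProd.exists_blk K hVπ hVπM hDm
  obtain ⟨tt, htt⟩ := hπs t
  obtain ⟨h₁, hh₁, hh₁M⟩ := b.nat.exH
  obtain ⟨h₀, rfl⟩ := hπs h₁
  set K₁ : Subgroup L :=
    { carrier := {g | ∀ w ∈ W, g * w * g⁻¹ * w⁻¹ ∈ E}
      one_mem' := fun w _ => by simp
      mul_mem' := fun {g h} hg hh w hw => by
        rw [show g * h * w * (g * h)⁻¹ * w⁻¹ = g * (h * w * h⁻¹ * w⁻¹) * g⁻¹ * (g * w * g⁻¹ * w⁻¹) by group]
        exact mul_mem (hEn.conj_mem _ (hh w hw) g) (hg w hw)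
      inv_mem' := fun {g} hg w hw => by
        rw [show g⁻¹ * w * g⁻¹⁻¹ * w⁻¹ = g⁻¹ * (g * w * g⁻¹ * w⁻¹)⁻¹ * g⁻¹⁻¹ by group]
        exact hEn.conj_mem _ (inv_mem (hg w hw)) _ }
  haveI : K₁.Normal := ⟨fun g hg k w hw => by
    rw [show k * g * k⁻¹ * w * (k * g * k⁻¹)⁻¹ * w⁻¹ =
      k * (g * (k⁻¹ * w * k⁻¹⁻¹) * g⁻¹ * (k⁻¹ * w * k⁻¹⁻¹)⁻¹) * k⁻¹ by group]
    exact hEn.conj_mem _ (hg _ (hWc w hw _)) k⟩
  have hAdec : ∀ w ∈ W, ∃ e ∈ E, ∀ a ∈ A, a * w * a⁻¹ * w⁻¹ = a * e * a⁻¹ * e⁻¹ := fun w hw => by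
    obtain ⟨e, he, c, hc, rfl⟩ := Subgroup.mem_sup_of_normal_left.1 (hsplitW.ge hw)
    refine ⟨e, he, fun a ha => ?_⟩
    calc a * (e * c) * a⁻¹ * (e * c)⁻¹ = a * e * (a⁻¹ * (a * c)) * a⁻¹ * c⁻¹ * e⁻¹ := by group
      _ = a * e * (a⁻¹ * (c * a)) * a⁻¹ * c⁻¹ * e⁻¹ := by rw [Subgroup.mem_centralizer_iff.1 hc.2 a ha]
      _ = a * e * a⁻¹ * e⁻¹ := by group
  have hAK : A ≤ K₁ := fun a ha w hw => by
    obtain ⟨e, he, h⟩ := hAdec w hw
    rw [h a ha]
    exact mul_mem (hEn.conj_mem e he a) (inv_mem he)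
  have hK₁C : C ≤ K₁ := fun c hc w hw => by rw [hCW c hc w hw, mul_inv_cancel]; exact one_mem _
  have hHK : ∀ g, π g ∈ H → g ∈ K₁ := by
    intro g hg
    have hle : H ≤ K₁.map π := by
      haveI : (K₁.map π).Normal := Subgroup.Normal.map inferInstance _ hπs
      rw [← b.nat.gen _ hh₁ hh₁M]
      exact sup_le (hDA.trans (Subgroup.map_mono hAK))
        ((cj_mono (hDA.trans (Subgroup.map_mono hAK)) _).trans (cj_of_normal _ _).le)
    obtain ⟨k, hk, e⟩ := hle hg
    have h1 : k⁻¹ * g ∈ C := QuotientGroup.eq.1 e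
    simpa using mul_mem hk (hK₁C h1)
  have htH : π tt ∈ H := htt ▸ b.nat.t_mem
  have hfixD : ∀ d, π d ∈ D → ∀ w ∈ W, tt * w * tt⁻¹ = w → d * w * d⁻¹ = w := by
    intro d hd w hw hwt
    obtain ⟨a, ha, hae⟩ := hDA hd
    obtain ⟨e, he, hwe⟩ := hAdec w hw
    set e' : Additive E := Additive.ofMul ⟨e, he⟩
    set x := φ (π d) e' - e'
    have hιx : ι x = d * w * d⁻¹ * w⁻¹ := by
      rw [hconjC hae.symm w hw, hwe a ha]
      show ι (φ (π d) e' - e') = _
      rw [sub_eq_add_neg, hιadd, hιneg, hιφ, hconjC hae.symm _ (hιW _)]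
      rfl
    have hxn : φ t x = -x := b.nat.cen_neg (OffProd.sub_mem_cen φ hd e')
    have hxt : φ t x = x := by
      refine hιinj ?_
      rw [← htt, hιφ, hιx]
      have hcm : π (tt * d) = π (d * tt) := by
        rw [map_mul, map_mul]; exact htt ▸ (b.nat.t_comm _ (b.nat.C_le hd)).eq
      calc tt * (d * w * d⁻¹ * w⁻¹) * tt⁻¹ = (tt * d) * w * (tt * d)⁻¹ * (tt * w * tt⁻¹)⁻¹ := by group
        _ = (d * tt) * w * (d * tt)⁻¹ * w⁻¹ := by rw [hconjC hcm w hw, hwt]
        _ = d * (tt * w * tt⁻¹) * d⁻¹ * w⁻¹ := by group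
        _ = d * w * d⁻¹ * w⁻¹ := by rw [hwt]
    have hx0 : x = 0 := OffProd.eq_zero_of_eq_neg hp.out hp2 (hexp x) (hxt.symm.trans hxn)
    rw [hx0, hι0] at hιx
    exact mul_inv_eq_one.1 hιx.symm
  have hfixH : ∀ g, π g ∈ H → ∀ w ∈ W, tt * w * tt⁻¹ = w → g * w * g⁻¹ = w := by
    intro g hg
    set F₀ := Subgroup.centralizer {w : L | w ∈ W ∧ tt * w * tt⁻¹ = w}
    have hle : H ≤ F₀.map π := by
      rw [← b.nat.gen _ hh₁ hh₁M]
      refine sup_le (fun d hd => ?_) ?_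
      · obtain ⟨d, rfl⟩ := hπs d
        exact ⟨d, Subgroup.mem_centralizer_iff.2 fun w hw => (mul_inv_eq_iff_eq_mul.1 (hfixD d hd w hw.1 hw.2)).symm, rfl⟩
      · rintro _ ⟨d, hd, rfl⟩
        obtain ⟨d, rfl⟩ := hπs d
        refine ⟨h₀ * d * h₀⁻¹, Subgroup.mem_centralizer_iff.2 fun w hw => ?_, by simp⟩
        have hcm : π (tt * h₀⁻¹) = π (h₀⁻¹ * tt) := by
          rw [map_mul, map_mul]
          refine htt ▸ (b.nat.t_comm _ ?_).eq
          rw [map_inv]; exact inv_mem hh₁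
        have h1 : tt * (h₀⁻¹ * w * h₀⁻¹⁻¹) * tt⁻¹ = h₀⁻¹ * w * h₀⁻¹⁻¹ := by
          calc tt * (h₀⁻¹ * w * h₀⁻¹⁻¹) * tt⁻¹ = (tt * h₀⁻¹) * w * (tt * h₀⁻¹)⁻¹ := by group
            _ = (h₀⁻¹ * tt) * w * (h₀⁻¹ * tt)⁻¹ := hconjC hcm w hw.1
            _ = h₀⁻¹ * (tt * w * tt⁻¹) * h₀⁻¹⁻¹ := by group
            _ = _ := by rw [hw.2]
        have h2 := hfixD d hd _ (hWc w hw.1 _) h1
        refine (mul_inv_eq_iff_eq_mul.1 ?_).symm
        calc h₀ * d * h₀⁻¹ * w * (h₀ * d * h₀⁻¹)⁻¹ = h₀ * (d * (h₀⁻¹ * w * h₀⁻¹⁻¹) * d⁻¹) * h₀⁻¹ := by group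
          _ = w := by rw [h2]; group
    obtain ⟨k, hk, e⟩ := hle hg
    intro w hw hwt
    rw [← hconjC e w hw, ← Subgroup.mem_centralizer_iff.1 hk w ⟨hw, hwt⟩, mul_inv_cancel_right]
  obtain ⟨k, hk⟩ : ∃ k, 2 * k = p + 1 := by
    obtain ⟨m, hm⟩ := hp.out.odd_of_ne_two hp2
    exact ⟨m + 1, by omega⟩
  -- the plane component of an element of `W`
  have hsplit : ∀ w ∈ W, ∃ u ∈ OffProd.neg φ t,
      ∀ g, π g ∈ H → g * w * g⁻¹ * w⁻¹ = ι (φ (π g) u - u) := by
    intro w hw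
    set δ : Additive E := Additive.ofMul (⟨_, hHK tt htH w hw⟩ : E)
    have hδv : ι δ = tt * w * tt⁻¹ * w⁻¹ := rfl
    have htt2 : π (tt * tt) = π 1 := by rw [map_mul, htt, b.nat.t_sq, map_one]
    have hδn : φ t δ = -δ := by
      refine hιinj ?_
      rw [← htt, hιφ, hιneg, hδv]
      calc tt * (tt * w * tt⁻¹ * w⁻¹) * tt⁻¹ = (tt * tt) * w * (tt * tt)⁻¹ * (tt * w * tt⁻¹)⁻¹ := by group
        _ = 1 * w * 1⁻¹ * (tt * w * tt⁻¹)⁻¹ := by rw [hconjC htt2 w hw]
        _ = _ := by group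
    set u := k • (-δ)
    have huu : u + u = -δ := OffProd.halve hk (hexp _)
    have hun : φ t u = -u := by rw [map_nsmul, map_neg, hδn, ← smul_neg]
    refine ⟨u, hun, fun g hg => ?_⟩
    set w₀ := w * (ι u)⁻¹
    have hw₀ : w₀ ∈ W := mul_mem hw (inv_mem (hιW u))
    have hfixw : tt * w₀ * tt⁻¹ = w₀ := by
      have h1 : tt * ι u * tt⁻¹ = (ι u)⁻¹ := by rw [← hιφ, htt, hun, hιneg]
      have h2 : ι δ * ι u = (ι u)⁻¹ := by
        rw [← hιadd, ← hιneg]
        congr 1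
        rw [← neg_neg δ, ← huu]; abel
      calc tt * w₀ * tt⁻¹ = (tt * w * tt⁻¹ * w⁻¹) * w * (tt * ι u * tt⁻¹)⁻¹ := by simp only [w₀]; group
        _ = ι δ * w * ι u := by rw [h1, inv_inv, hδv]
        _ = w * (ι δ * ι u) := by rw [hWab _ (hιW δ) w hw, mul_assoc]
        _ = w₀ := by rw [h2]
    have h3 : ι (φ (π g) u - u) = g * ι u * g⁻¹ * (ι u)⁻¹ := by rw [sub_eq_add_neg, hιadd, hιneg, hιφ]
    have h4 := hfixH g hg w₀ hw₀ hfixw
    calc g * w * g⁻¹ * w⁻¹ = (g * w₀ * g⁻¹) * (g * ι u * g⁻¹ * (ι u)⁻¹) * w₀⁻¹ := by simp only [w₀]; group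
      _ = ι (φ (π g) u - u) := by rw [h4, ← h3, hWab w₀ hw₀ _ (hιW _), mul_inv_cancel_right]
  -- the component of an element of `T` lies on the line of `D`
  have hTu : ∀ s ∈ T, ∃ u ∈ OffProd.cen φ D, ∀ g, π g ∈ H → g * s * g⁻¹ * s⁻¹ = ι (φ (π g) u - u) := by
    intro s hs
    obtain ⟨u, hu, hcu⟩ := hsplit s (hTW hs)
    refine ⟨u, b.nat.fix_cen u (fun d hd => ?_) hu, hcu⟩
    obtain ⟨a, ha, rfl⟩ := hDA hd
    refine sub_eq_zero.1 (hιinj ?_)
    rw [← hcu a (b.nat.C_le hd), hι0, hcomm s hs a (hA.1 ha), mul_inv_cancel_right, mul_inv_cancel]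
  obtain ⟨x₁, hx₁, hxD, hxord, htrans⟩ := b.nat.torus
  obtain ⟨x, rfl⟩ := hπs x₁
  have hxM : x ∈ M := by
    refine hkerM.1 ?_
    by_contra hne
    have h1 := b.nat.gen _ hx₁ hne
    rw [hxD, sup_idem] at h1
    exact hne (hVπM (hDm.2 (h1 ▸ hx₁ : π x ∈ D)))
  have hxpow : ∀ i : ℕ, ∀ v ∈ OffProd.cen φ D, φ (π x ^ i) v ∈ OffProd.cen φ D := fun i v hv => by
    have := OffProd.act_mem_cen φ (π x ^ i) hv
    rwa [cj_eq_self (pow_mem (mem_normalizer_iff_cj.2 hxD) i)] at this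
  let L₀ : Subgroup L :=
    { carrier := {a | ∃ v ∈ OffProd.cen φ D, ι v = a}
      one_mem' := ⟨0, zero_mem _, hι0⟩
      mul_mem' := fun ⟨v, hv, e⟩ ⟨w, hw, e'⟩ => ⟨v + w, add_mem hv hw, by rw [hιadd, e, e']⟩
      inv_mem' := fun ⟨v, hv, e⟩ => ⟨-v, neg_mem hv, by rw [hιneg, e]⟩ }
  obtain ⟨r, hr⟩ := IsPGroup.iff_card.1 hD.isP
  have hr0 : r ≠ 0 := fun h => hD.ne (Subgroup.card_eq_one.1 (by rw [hr, h, pow_zero]))
  refine hnoC ⟨x, hxM, L₀, Nat.card D - 1, ?_, fun s hs => ?_, ?_, fun i s hs => ?_, ?_⟩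
  · rw [Nat.coprime_comm, hp.out.coprime_iff_not_dvd, hr]
    intro hd
    have h1 : p ∣ p ^ r := dvd_pow_self p hr0
    have h2 := Nat.dvd_sub h1 hd
    rw [Nat.sub_sub_self (Nat.one_le_pow _ _ hp.out.pos)] at h2
    exact hp.out.one_lt.ne' (Nat.dvd_one.1 h2)
  · exact hCW _ (hmem.1 (by rw [map_pow, hxord])) s (hTW hs)
  · obtain ⟨s, hs, hne⟩ : ∃ s ∈ T, h₀ * s * h₀⁻¹ ≠ s := by
      by_contra hall
      push Not at hall
      exact hh₁M (hkerM.2 (Subgroup.centralizer_le_normalizer _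
        (Subgroup.mem_centralizer_iff.2 fun s hs => (mul_inv_eq_iff_eq_mul.1 (hall s hs)).symm)))
    obtain ⟨u, hu, hcu⟩ := hTu s hs
    have hu0 : u ≠ 0 := fun e => hne (mul_inv_eq_one.1 (by rw [hcu h₀ hh₁, e, map_zero, sub_zero, hι0]))
    refine ⟨s, hs, fun e => ?_⟩
    have h1 : φ (π x) u = u := sub_eq_zero.1 (hιinj (by rw [← hcu x hx₁, e, mul_inv_cancel, hι0]))
    have h2 : ∀ i : ℕ, φ (π x ^ i) u = u := fun i => by
      induction i with
      | zero => rw [pow_zero, BestOff.act_one]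
      | succ i ih => rw [pow_succ, BestOff.act_mul, h1, ih]
    obtain ⟨i, hi⟩ := htrans u hu (-u) (neg_mem hu) hu0 (neg_ne_zero.2 hu0)
    rw [h2] at hi
    exact hu0 (OffProd.eq_zero_of_eq_neg hp.out hp2 (hexp u) hi)
  · obtain ⟨u, hu, hcu⟩ := hTu s hs
    refine ⟨φ (π x ^ i) u - u, sub_mem (hxpow i u hu) hu, ?_⟩
    rw [← map_pow]
    exact (hcu (x ^ i) (by rw [map_pow]; exact pow_mem hx₁ i)).symm
  · rintro a ⟨v, hv, rfl⟩ c ⟨v', hv', rfl⟩ ha hc
    obtain ⟨i, hi⟩ := htrans v hv v' hv' (fun e => ha (e ▸ hι0)) fun e => hc (e ▸ hι0)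
    exact ⟨i, by rw [← hιφ, map_pow, hi]⟩

end Cfsg.Agent.Fusion
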