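import Mathlib
import Cfsg.Prelude.Def_Transfer

/-!
# A nontrivial norm in an elementary abelian subgroup of index `p`
-/

set_option autoImplicit false
set_option linter.style.haveILetI false

open Polynomial

namespace Cfsg.Agent.Fusion

theorem factorization_factorial_sq {p : ℕ} [hp : Fact p.Prime] :
    (Nat.factorial (p ^ 2)).factorization p = p + 1 := by
  have h1 : padicValNat p (p * 1).factorial = 1 := by
    rw [padicValNat_factorial_mul]; simp
  rw [mul_one] at h1
  rw [Nat.factorization_def _ hp.out, sq, padicValNat_factorial_mul, h1, add_comm]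

/-- If a fixed functional is nonzero on `(σ - 1)^(p-1) x`, invariant subspaces in its kernel have
codimension at least `p`. -/
theorem pow_le_card_quotient_of_norm {p : ℕ} [hp : Fact p.Prime] {V : Type*} [AddCommGroup V]
    [Module (ZMod p) V] [Finite V] (σ : Module.End (ZMod p) V) (hσ : σ ^ p = 1) {x : V}
    (W : Submodule (ZMod p) V) (hW : ∀ w ∈ W, σ w ∈ W)
    (hx : (∑ i ∈ Finset.range p, (σ ^ i) x) ∉ W) :
    p ^ p ≤ Nat.card (V ⧸ W) := by
  set D : Module.End (ZMod p) V := σ - 1 with hD
  have hpoly : ((X : (ZMod p)[X]) - 1) ^ p = X ^ p - 1 := by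
    rw [sub_pow_expChar, one_pow]
  have hD0 : D ^ p = 0 := by
    have := congrArg (Polynomial.aeval σ) hpoly
    simp only [map_pow, map_sub, map_one, aeval_X] at this
    rw [hD, this, hσ, sub_self]
  have hgeom : ((X : (ZMod p)[X]) - 1) ^ (p - 1) = ∑ i ∈ Finset.range p, X ^ i := by
    have hne : (X : (ZMod p)[X]) - 1 ≠ 0 := by simpa using X_sub_C_ne_zero (1 : ZMod p)
    refine mul_right_cancel₀ hne ?_
    rw [geom_sum_mul, ← pow_succ, Nat.sub_add_cancel hp.out.one_le, hpoly]
  have hDgeom : (D ^ (p - 1)) x = ∑ i ∈ Finset.range p, (σ ^ i) x := by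
    have := congrArg (Polynomial.aeval σ) hgeom
    simp only [map_pow, map_sub, map_one, map_sum, aeval_X] at this
    rw [hD, this, LinearMap.sum_apply]
  have hDW : ∀ w ∈ W, D w ∈ W := fun w hw => by
    rw [hD, LinearMap.sub_apply, Module.End.one_apply]; exact sub_mem (hW w hw) hw
  have hDpW : ∀ (m : ℕ), ∀ w ∈ W, (D ^ m) w ∈ W := by
    intro m
    induction m with
    | zero => intro w hw; simpa using hw
    | succ m ih => intro w hw; rw [pow_succ, Module.End.mul_apply]; exact ih _ (hDW w hw)
  let Φ : (Fin p → ZMod p) → V ⧸ W := fun c => Submodule.Quotient.mk (∑ k : Fin p, c k • (D ^ (k : ℕ)) x)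
  have hinj : Function.Injective Φ := by
    intro c c' h
    rw [Submodule.Quotient.eq] at h
    simp only [← Finset.sum_sub_distrib, ← sub_smul] at h
    funext k
    by_contra hk
    classical
    set T := Finset.univ.filter fun j : Fin p => c j - c' j ≠ 0
    have hT : T.Nonempty := ⟨k, Finset.mem_filter.2 ⟨Finset.mem_univ _, sub_ne_zero.2 hk⟩⟩
    set j := T.min' hT
    have hj : c j - c' j ≠ 0 := (Finset.mem_filter.1 (T.min'_mem hT)).2
    have h1 := hDpW (p - 1 - j) _ h
    simp only [map_sum, map_smul, ← Module.End.mul_apply, ← pow_add] at h1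
    rw [Finset.sum_eq_single j] at h1
    · rw [Nat.sub_add_cancel (by omega : (j : ℕ) ≤ p - 1), hDgeom] at h1
      exact hx ((W.smul_mem_iff hj).1 h1)
    · intro i _ hij
      by_cases hi : i ∈ T
      · have hlt : (j : ℕ) < i := lt_of_le_of_ne (T.min'_le i hi) fun e => hij (Fin.ext e.symm)
        rw [show p - 1 - (j : ℕ) + i = p + ((i : ℕ) - (j : ℕ) - 1) by omega, pow_add, hD0, zero_mul,
          LinearMap.zero_apply, smul_zero]
      · rw [show c i - c' i = 0 by simpa [T] using hi, zero_smul]
    · simp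
  have : Finite (V ⧸ W) := Finite.of_surjective (Submodule.Quotient.mk) (Submodule.Quotient.mk_surjective W)
  have := Nat.card_le_card_of_injective Φ hinj
  simpa [Nat.card_fun, Nat.card_zmod] using this

/-- The wreathed quotient. -/
theorem exists_surjective_perm_sylow {P : Type*} [Group P] [Finite P] {p : ℕ} [hp : Fact p.Prime]
    (hP : IsPGroup p P) (A : Subgroup P) [A.Normal] (hA : Cfsg.IsElementaryAbelian p A) (hidx : A.index = p)
    (x y : P) (hx : x ∈ A)
    (hprod : ((List.range p).map (fun i => (y ^ i)⁻¹ * x * y ^ i)).prod ≠ 1) :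
    ∃ (Q : Sylow p (Equiv.Perm (Fin (p ^ 2))))
      (f : P →* ↥(Q : Subgroup (Equiv.Perm (Fin (p ^ 2))))), Function.Surjective f := by
  letI : CommGroup A := { (inferInstance : Group A) with mul_comm := fun a b => hA.1.1.comm a b }
  have hexp : ∀ v : Additive A, p • v = 0 := fun v =>
    Subtype.ext (hA.2 _ (Additive.toMul v).2 : ((Additive.toMul v : A) : P) ^ p = 1)
  have : Module (ZMod p) (Additive A) := AddCommGroup.zmodModule hexp
  let toV : ∀ a : P, a ∈ A → Additive A := fun a ha => Additive.ofMul ⟨a, ha⟩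
  let σ₀ : Additive A →+ Additive A := AddMonoidHom.mk'
    (fun v => toV (y⁻¹ * ((Additive.toMul v : A) : P) * y)
      (by simpa using (inferInstance : A.Normal).conj_mem _ (Additive.toMul v).2 y⁻¹))
    (fun u v => Subtype.ext (by
      show y⁻¹ * ((Additive.toMul u : A) * (Additive.toMul v : A) : P) * y =
        y⁻¹ * ((Additive.toMul u : A) : P) * y * (y⁻¹ * ((Additive.toMul v : A) : P) * y)
      group))
  let σ : Module.End (ZMod p) (Additive A) := σ₀.toZModLinearMap p
  have hσi : ∀ (i : ℕ) (v : Additive A),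
      ((Additive.toMul ((σ ^ i) v) : A) : P) = (y ^ i)⁻¹ * ((Additive.toMul v : A) : P) * y ^ i := by
    intro i
    induction i with
    | zero => intro v; simp
    | succ i ih =>
      intro v
      rw [pow_succ σ, Module.End.mul_apply, ih]
      show (y ^ i)⁻¹ * (y⁻¹ * _ * y) * y ^ i = _
      rw [pow_succ' y]; group
  have hσp : σ ^ p = 1 := by
    refine LinearMap.ext fun v => Subtype.ext ?_
    show ((Additive.toMul ((σ ^ p) v) : A) : P) = _
    rw [hσi]
    have hyp : y ^ p ∈ A := by rw [← hidx]; exact A.pow_index_mem y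
    have hc : ((Additive.toMul v : A) : P) * y ^ p = y ^ p * ((Additive.toMul v : A) : P) :=
      congrArg Subtype.val (mul_comm (Additive.toMul v : A) ⟨_, hyp⟩)
    rw [mul_assoc, hc, inv_mul_cancel_left]
    rfl
  set v₀ : Additive A := toV x hx
  set w := ∑ i ∈ Finset.range p, (σ ^ i) v₀ with hw
  have hwne : w ≠ 0 := by
    intro h
    refine hprod ?_
    have hkey : ∀ n : ℕ, ((Additive.toMul (∑ i ∈ Finset.range n, (σ ^ i) v₀) : A) : P) =
        ((List.range n).map (fun i => (y ^ i)⁻¹ * x * y ^ i)).prod := by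
      intro n
      induction n with
      | zero => simp
      | succ n ih =>
        rw [Finset.sum_range_succ, List.range_succ, List.map_append, List.prod_append, ← ih,
          toMul_add, Subgroup.coe_mul, hσi]
        simp [v₀, toV]
    rw [← hkey p, ← hw, h]
    rfl
  obtain ⟨φ, hφ⟩ : ∃ φ : Module.Dual (ZMod p) (Additive A), φ w ≠ 0 := by
    by_contra hc
    push Not at hc
    exact hwne ((Module.forall_dual_apply_eq_zero_iff (ZMod p) w).1 hc)
  let B : Subgroup P :=
    { carrier := {a | ∃ ha : a ∈ A, φ (toV a ha) = 0}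
      one_mem' := ⟨one_mem _, map_zero φ⟩
      mul_mem' := by
        rintro a b ⟨ha, ha'⟩ ⟨hb, hb'⟩
        exact ⟨mul_mem ha hb, by rw [show toV (a * b) (mul_mem ha hb) = toV a ha + toV b hb from rfl,
          map_add, ha', hb', add_zero]⟩
      inv_mem' := by
        rintro a ⟨ha, ha'⟩
        exact ⟨inv_mem ha, by rw [show toV a⁻¹ (inv_mem ha) = -toV a ha from rfl, map_neg, ha', neg_zero]⟩ }
  have hBA : B ≤ A := fun a ⟨ha, _⟩ => ha
  have hBrel : B.relIndex A = p := by
    let ψ : A →* Multiplicative (ZMod p) := φ.toAddMonoidHom.toMultiplicativeRight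
    have hker : B.subgroupOf A = ψ.ker := by
      ext a
      constructor
      · rintro ⟨_, h⟩; exact h
      · intro h; exact ⟨a.2, h⟩
    have hsurj : Function.Surjective ψ := fun c => by
      obtain ⟨v, hv⟩ := LinearMap.surjective (fun e => hφ (LinearMap.congr_fun e w)) (Multiplicative.toAdd c)
      exact ⟨Additive.toMul v, hv⟩
    rw [Subgroup.relIndex, hker, Subgroup.index_ker, MonoidHom.range_eq_top.2 hsurj, Subgroup.card_top,
      Nat.card_congr Multiplicative.toAdd, Nat.card_zmod]
  have hBidx : B.index = p ^ 2 := by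
    rw [← Subgroup.relIndex_mul_index hBA, hBrel, hidx, sq]
  set K := B.normalCore with hK
  have hKB : K ≤ B := B.normalCore_le
  have hKA : K ≤ A := hKB.trans hBA
  let W : Submodule (ZMod p) (Additive A) :=
    AddSubgroup.toZModSubmodule p (Subgroup.toAddSubgroup (K.subgroupOf A))
  have hWmem : ∀ v, v ∈ W ↔ ((Additive.toMul v : A) : P) ∈ K := fun v => Iff.rfl
  have hbound := pow_le_card_quotient_of_norm σ hσp (x := v₀) W
    (fun v hv => by
      rw [hWmem] at hv ⊢
      have h1 := (Subgroup.normalCore_normal B).conj_mem _ hv y⁻¹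
      rw [inv_inv] at h1
      exact h1)
    (fun h => hφ (by obtain ⟨ha, h2⟩ := hKB h; exact h2))
  have hKrel : p ^ p ≤ K.relIndex A := by
    refine hbound.trans (le_of_eq ?_)
    rw [Subgroup.relIndex, Subgroup.index_eq_card]
    exact Nat.card_congr (Quot.congr Additive.toMul fun a b => by
      rw [Submodule.quotientRel_def, QuotientGroup.leftRel_apply, hWmem, Subgroup.mem_subgroupOf,
        ← Subgroup.inv_mem_iff]
      simp only [toMul_sub, div_eq_mul_inv, mul_inv_rev, inv_inv, Subgroup.coe_mul,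
        InvMemClass.coe_inv]
      rw [show ((Additive.toMul b : A) : P) * ((Additive.toMul a : A) : P)⁻¹ =
        ((Additive.toMul a : A) : P)⁻¹ * (Additive.toMul b : A) from
        congrArg Subtype.val (mul_comm (Additive.toMul b : A) (Additive.toMul a : A)⁻¹)])
  have hcard : Nat.card (P ⧸ B) = p ^ 2 := by rw [← Subgroup.index_eq_card]; exact hBidx
  let e : P ⧸ B ≃ Fin (p ^ 2) := (Finite.equivFinOfCardEq hcard)
  let g : P →* Equiv.Perm (Fin (p ^ 2)) :=
    e.permCongrHom.toMonoidHom.comp (MulAction.toPermHom P (P ⧸ B))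
  have hgker : g.ker = K := by
    rw [hK, Subgroup.normalCore_eq_ker, MonoidHom.ker_comp_of_injective _ _ e.permCongrHom.injective]
  have hrange : p ^ (p + 1) ≤ Nat.card g.range := by
    rw [← Subgroup.index_ker, hgker, ← Subgroup.relIndex_mul_index hKA, hidx, pow_succ]
    exact Nat.mul_le_mul_right p hKrel
  have hgp : IsPGroup p g.range := hP.of_surjective g.rangeRestrict g.rangeRestrict_surjective
  obtain ⟨Q, hQ⟩ := hgp.exists_le_sylow
  have hQcard : Nat.card Q = p ^ (p + 1) := by
    rw [Q.card_eq_multiplicity, Nat.card_perm, Nat.card_fin, factorization_factorial_sq]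
  have hQeq : g.range = (Q : Subgroup (Equiv.Perm (Fin (p ^ 2)))) :=
    Subgroup.eq_of_le_of_card_ge hQ (by rw [hQcard]; exact hrange)
  refine ⟨Q, g.codRestrict (Q : Subgroup _) (fun a => hQ ⟨a, rfl⟩), fun q => ?_⟩
  obtain ⟨a, ha⟩ := (hQeq.ge q.2 : (q : Equiv.Perm (Fin (p ^ 2))) ∈ g.range)
  exact ⟨a, Subtype.ext ha⟩

end Cfsg.Agent.Fusion
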