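import Mathlib

/-!
A homomorphism from a maximal subgroup of a `p`-group with nonzero norm gives a quotient isomorphic to a
Sylow subgroup of the symmetric group of degree `p ^ 2`.
-/

set_option autoImplicit false

namespace Cfsg.Agent.Fusion

universe u

variable {p : ℕ} [Fact p.Prime]

/-- A subspace of functions on `ZMod p` invariant under the shift and not inside the sum-zero functions is
everything. -/
theorem shift_invariant_eq_top (R : Submodule (ZMod p) (ZMod p → ZMod p))
    (hR : ∀ f ∈ R, (fun i => f (i + 1)) ∈ R) {v : ZMod p → ZMod p} (hv : v ∈ R) (hs : ∑ i, v i ≠ 0) :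
    R = ⊤ := by
  set τ : Module.End (ZMod p) (ZMod p → ZMod p) := LinearMap.funLeft (ZMod p) (ZMod p) (fun i => i + 1) with hτ
  set D := τ - 1 with hD
  have hτv : ∀ (f : ZMod p → ZMod p) i, τ f i = f (i + 1) := fun f i => rfl
  have hτn : ∀ (n : ℕ) (f : ZMod p → ZMod p) i, (τ ^ n) f i = f (i + n) := by
    intro n
    induction n with
    | zero => intro f i; simp
    | succ n ih =>
      intro f i
      rw [pow_succ']
      show (τ ^ n) f (i + 1) = _
      rw [ih]; push_cast; ring_nf
  have hτp : τ ^ p = 1 := by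
    refine LinearMap.ext fun f => funext fun i => ?_
    rw [hτn, ZMod.natCast_self, add_zero]; rfl
  haveI : CharP (Module.End (ZMod p) (ZMod p → ZMod p)) p :=
    charP_of_injective_algebraMap (RingHom.injective (algebraMap (ZMod p) (Module.End (ZMod p) (ZMod p → ZMod p)))) p
  have hDp : D ^ p = 0 := by
    rw [hD, sub_pow_char_of_commute p (Commute.one_right τ), hτp, one_pow, sub_self]
  set N := R ⊔ LinearMap.range D with hN
  have hδ : ∀ n : ℕ, Pi.single (n : ZMod p) (1 : ZMod p) - Pi.single 0 1 ∈ N := by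
    intro n
    induction n with
    | zero => simp
    | succ n ih =>
      have h1 : D (Pi.single ((n + 1 : ℕ) : ZMod p) 1) ∈ N := Submodule.mem_sup_right ⟨_, rfl⟩
      have e : D (Pi.single ((n + 1 : ℕ) : ZMod p) (1 : ZMod p)) =
          Pi.single (n : ZMod p) 1 - Pi.single ((n + 1 : ℕ) : ZMod p) 1 := by
        funext i
        show τ (Pi.single _ 1) i - _ = _
        rw [hτv]
        simp [Pi.single_apply]
      have h2 := N.sub_mem ih h1
      rw [e] at h2
      simpa using h2
  have hδ' : ∀ i : ZMod p, Pi.single i (1 : ZMod p) - Pi.single 0 1 ∈ N := fun i => by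
    simpa using hδ i.val
  have hw : ∀ w : ZMod p → ZMod p, w - (∑ i, w i) • Pi.single 0 1 ∈ N := fun w => by
    have e : w - (∑ i, w i) • Pi.single 0 1 = ∑ i, w i • (Pi.single i (1 : ZMod p) - Pi.single 0 1) := by
      simp only [smul_sub, Finset.sum_sub_distrib, ← Finset.sum_smul]
      congr 1
      funext j
      simp [Pi.single_apply]
    rw [e]
    exact N.sum_mem fun i _ => N.smul_mem _ (hδ' i)
  have h0 : Pi.single 0 (1 : ZMod p) ∈ N := by
    have h1 := N.sub_mem (Submodule.mem_sup_left hv : v ∈ N) (hw v)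
    rw [sub_sub_cancel] at h1
    exact (N.smul_mem_iff hs).1 h1
  have hNtop : N = ⊤ := eq_top_iff.2 fun w _ => by
    have := N.add_mem (hw w) (N.smul_mem (∑ i, w i) h0)
    rwa [sub_add_cancel] at this
  have hDR : ∀ (k : ℕ) (f : ZMod p → ZMod p), f ∈ R → (D ^ k) f ∈ R := by
    intro k
    induction k with
    | zero => exact fun f hf => hf
    | succ k ih =>
      intro f hf
      rw [pow_succ']
      exact R.sub_mem (hR _ (ih f hf)) (ih f hf)
  have key : ∀ (k : ℕ) (w : ZMod p → ZMod p), w ∈ R ⊔ LinearMap.range (D ^ k) := by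
    intro k
    induction k with
    | zero => exact fun w => Submodule.mem_sup_right ⟨w, rfl⟩
    | succ k ih =>
      intro w
      obtain ⟨r, hr, _, ⟨y, rfl⟩, rfl⟩ := Submodule.mem_sup.1 (ih w)
      obtain ⟨r', hr', _, ⟨z, rfl⟩, rfl⟩ := Submodule.mem_sup.1 (hNtop.ge (Submodule.mem_top (x := y)))
      refine Submodule.add_mem _ (Submodule.mem_sup_left hr) ?_
      rw [map_add]
      exact Submodule.add_mem _ (Submodule.mem_sup_left (hDR k r' hr'))
        (Submodule.mem_sup_right ⟨z, by rw [pow_succ]; rfl⟩)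
  refine eq_top_iff.2 fun w _ => ?_
  have := key p w
  rwa [hDp, LinearMap.range_zero, sup_bot_eq] at this

/-- The order of a Sylow subgroup of the symmetric group of degree `p ^ 2`. -/
theorem card_sylow_perm_sq (W : Sylow p (Equiv.Perm (Fin (p ^ 2)))) :
    Nat.card (W : Subgroup (Equiv.Perm (Fin (p ^ 2)))) = p ^ (p + 1) := by
  rw [W.card_eq_multiplicity, Nat.card_perm, Nat.card_eq_fintype_card, Fintype.card_fin]
  congr 1
  have hp : p.Prime := Fact.out
  rw [Nat.factorization_def _ hp, pow_two, padicValNat_factorial_mul]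
  have h : padicValNat p (p * 1).factorial = padicValNat p (Nat.factorial 1) + 1 := padicValNat_factorial_mul 1
  rw [mul_one] at h
  rw [h, Nat.factorial_one, padicValNat.one]
  omega

/-- **Wreath quotient**: a homomorphism of nonzero norm on a normal subgroup of index `p`. -/
theorem exists_surj_of_norm {G : Type u} [Group G] [Finite G] (hG : IsPGroup p G) {M : Subgroup G} [M.Normal]
    (hMi : M.index = p) (u : G) (μ : M →* Multiplicative (ZMod p)) (m₀ : M)
    (hm₀ : ∏ i ∈ Finset.range p, μ ⟨u ^ i * m₀ * (u ^ i)⁻¹, (inferInstance : M.Normal).conj_mem _ m₀.2 _⟩ ≠ 1) :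
    ∃ (W : Sylow p (Equiv.Perm (Fin (p ^ 2)))) (f : G →* ↥(W : Subgroup (Equiv.Perm (Fin (p ^ 2))))),
      Function.Surjective f := by
  classical
  have hp : p.Prime := Fact.out
  have hup : u ^ p ∈ M := hMi ▸ M.pow_index_mem u
  let ψ : ℕ → M → Multiplicative (ZMod p) := fun n m =>
    μ ⟨u ^ n * m * (u ^ n)⁻¹, (inferInstance : M.Normal).conj_mem _ m.2 _⟩
  have hψp : ∀ n m, ψ (n + p) m = ψ n m := by
    intro n m
    show μ _ = μ _
    have e : (⟨u ^ (n + p) * m * (u ^ (n + p))⁻¹, (inferInstance : M.Normal).conj_mem _ m.2 _⟩ : M) =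
        ⟨u ^ p, hup⟩ * ⟨u ^ n * m * (u ^ n)⁻¹, (inferInstance : M.Normal).conj_mem _ m.2 _⟩ * ⟨u ^ p, hup⟩⁻¹ := by
      refine Subtype.ext ?_
      show u ^ (n + p) * (m : G) * (u ^ (n + p))⁻¹ = u ^ p * (u ^ n * m * (u ^ n)⁻¹) * (u ^ p)⁻¹
      rw [add_comm n p, pow_add]; group
    rw [e, map_mul, map_mul, map_inv, mul_comm (μ _) (μ _), mul_inv_cancel_right]
  have hψmod : ∀ n m, ψ (n % p) m = ψ n m := by
    intro n m
    conv_rhs => rw [← Nat.mod_add_div n p]
    induction n / p with
    | zero => simp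
    | succ k ih => rw [Nat.mul_succ, ← add_assoc, hψp, ih]
  -- the coordinates
  let Φ : M →* Multiplicative (ZMod p → ZMod p) :=
    MonoidHom.mk' (fun m => Multiplicative.ofAdd fun i => Multiplicative.toAdd (ψ i.val m)) fun a b => by
      refine congrArg Multiplicative.ofAdd (funext fun i => ?_)
      show Multiplicative.toAdd (μ _) = Multiplicative.toAdd (μ _) + Multiplicative.toAdd (μ _)
      rw [← toAdd_mul, ← map_mul]
      refine congrArg (fun x => Multiplicative.toAdd (μ x)) (Subtype.ext ?_)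
      show u ^ i.val * (a * b : G) * (u ^ i.val)⁻¹ = _
      simp [mul_assoc]
  let R : Submodule (ZMod p) (ZMod p → ZMod p) :=
    AddSubgroup.toZModSubmodule p (MonoidHom.toAdditiveLeft Φ).range
  have hmemR : ∀ f, f ∈ R ↔ ∃ m, (fun i : ZMod p => Multiplicative.toAdd (ψ i.val m)) = f := fun f =>
    ⟨fun ⟨m, hm⟩ => ⟨Additive.toMul m, hm⟩, fun ⟨m, hm⟩ => ⟨Additive.ofMul m, hm⟩⟩
  have hRtop : R = ⊤ := by
    refine shift_invariant_eq_top R (fun f hf => ?_) ((hmemR _).2 ⟨m₀, rfl⟩) ?_
    · obtain ⟨m, rfl⟩ := (hmemR f).1 hf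
      refine (hmemR _).2 ⟨⟨u * m * u⁻¹, (inferInstance : M.Normal).conj_mem _ m.2 _⟩, funext fun i => ?_⟩
      show Multiplicative.toAdd (ψ i.val _) = Multiplicative.toAdd (ψ (i + 1).val m)
      have hv : (i + 1).val = (i.val + 1) % p := by
        rw [ZMod.val_add, ZMod.val_one]
      rw [hv, hψmod]
      refine congrArg (fun x => Multiplicative.toAdd (μ x)) (Subtype.ext ?_)
      show u ^ i.val * (u * (m : G) * u⁻¹) * (u ^ i.val)⁻¹ = u ^ (i.val + 1) * m * (u ^ (i.val + 1))⁻¹
      rw [pow_succ]; group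
    · intro h
      refine hm₀ ?_
      rw [← toAdd_eq_zero, toAdd_prod, ← h]
      refine Finset.sum_nbij (fun i => (i : ZMod p)) (fun i _ => Finset.mem_univ _) ?_ ?_ fun i hi => ?_
      · intro a ha b hb hab
        have h1 := congrArg ZMod.val hab
        rwa [ZMod.val_natCast_of_lt (Finset.mem_range.1 ha), ZMod.val_natCast_of_lt (Finset.mem_range.1 hb)] at h1
      · intro j _
        exact ⟨j.val, Finset.mem_range.2 j.val_lt, ZMod.natCast_zmod_val j⟩
      · show Multiplicative.toAdd (μ _) = Multiplicative.toAdd (ψ (i : ZMod p).val m₀)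
        rw [ZMod.val_natCast_of_lt (Finset.mem_range.1 hi)]
  have hΦ : Function.Surjective Φ := fun y => by
    obtain ⟨m, hm⟩ := (hmemR (Multiplicative.toAdd y)).1 (hRtop ▸ Submodule.mem_top)
    exact ⟨m, congrArg Multiplicative.ofAdd hm⟩
  -- the action on the cosets of the kernel
  set K := μ.ker.map M.subtype
  have hμs : Function.Surjective μ := by
    rw [← MonoidHom.range_eq_top]
    have hc : Nat.card (Multiplicative (ZMod p)) = p := by
      rw [Nat.card_congr Multiplicative.toAdd, Nat.card_zmod]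
    haveI : Fact (Nat.card (Multiplicative (ZMod p))).Prime := ⟨hc.symm ▸ hp⟩
    refine (Subgroup.eq_bot_or_eq_top_of_prime_card μ.range).resolve_left fun h => hm₀ ?_
    exact Finset.prod_eq_one fun i _ => Subgroup.mem_bot.1 (h ▸ ⟨_, rfl⟩)
  have hKi : K.index = p * p := by
    rw [Subgroup.index_map_subtype, Subgroup.index_ker, MonoidHom.range_eq_top.2 hμs, Subgroup.card_top,
      Nat.card_congr Multiplicative.toAdd, Nat.card_zmod, hMi]
  have hcard : Nat.card (G ⧸ K) = p ^ 2 := by rw [← Subgroup.index_eq_card, hKi, pow_two]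
  let e : G ⧸ K ≃ Fin (p ^ 2) := (Finite.equivFinOfCardEq hcard)
  let φ : G →* Equiv.Perm (Fin (p ^ 2)) := e.permCongrHom.toMonoidHom.comp (MulAction.toPermHom G (G ⧸ K))
  have hker : φ.ker ≤ Φ.ker.map M.subtype := by
    intro g hg
    have hfix : ∀ x : G, x⁻¹ * g * x ∈ K := fun x => by
      have h1 : MulAction.toPermHom G (G ⧸ K) g = 1 := e.permCongrHom.injective (hg.trans (map_one _).symm)
      have h2 : ((g * x : G) : G ⧸ K) = (x : G ⧸ K) := congrArg (fun σ : Equiv.Perm (G ⧸ K) => σ (x : G ⧸ K)) h1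
      have h3 := K.inv_mem (QuotientGroup.eq.1 h2)
      simpa [mul_assoc] using h3
    obtain ⟨g₀, -, hg₀⟩ := hfix 1
    have hgM : g ∈ M := by
      have h : g = (g₀ : G) := by rw [show (g₀ : G) = _ from hg₀]; simp
      rw [h]; exact g₀.2
    refine ⟨⟨g, hgM⟩, congrArg Multiplicative.ofAdd (funext fun i => ?_), rfl⟩
    obtain ⟨w, hw, he⟩ := hfix (u ^ i.val)⁻¹
    have : (⟨u ^ i.val * g * (u ^ i.val)⁻¹, (inferInstance : M.Normal).conj_mem _ hgM _⟩ : M) = w :=
      Subtype.ext (by rw [show (w : G) = _ from he, inv_inv])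
    show Multiplicative.toAdd (μ _) = 0
    rw [this, MonoidHom.mem_ker.1 hw]; rfl
  have hle : p ^ (p + 1) ≤ Nat.card φ.range := by
    rw [← Subgroup.index_ker φ]
    refine le_trans (le_of_eq ?_) (Nat.le_of_dvd (Nat.pos_of_ne_zero Subgroup.index_ne_zero_of_finite)
      (Subgroup.index_dvd_of_le hker))
    rw [Subgroup.index_map_subtype, Subgroup.index_ker, MonoidHom.range_eq_top.2 hΦ, Subgroup.card_top,
      Nat.card_congr Multiplicative.toAdd, Nat.card_fun, Nat.card_zmod, hMi, pow_succ]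
  have hpg : IsPGroup p φ.range := hG.of_surjective φ.rangeRestrict φ.rangeRestrict_surjective
  obtain ⟨W, hW⟩ := hpg.exists_le_sylow
  have hWe : φ.range = (W : Subgroup (Equiv.Perm (Fin (p ^ 2)))) :=
    Subgroup.eq_of_le_of_card_ge hW ((card_sylow_perm_sq W).le.trans hle)
  exact ⟨W, φ.codRestrict _ fun g => hW ⟨g, rfl⟩, fun w => by
    obtain ⟨g, hg⟩ := hWe.ge w.2
    exact ⟨g, Subtype.ext hg⟩⟩

end Cfsg.Agent.Fusion
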