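import Cfsg.Agent.Lib.Fusion.WreathedIsolated
import Cfsg.Agent.Lib.Fusion.WreathedQuat

/-!
# The subgroups `Q * Z(S)` of a wreathed group
-/

set_option autoImplicit false
set_option linter.unusedSectionVars false
set_option linter.style.haveILetI false

namespace Cfsg.Agent.Fusion

theorem quaternion_two_facts :
    (∀ p q : QuaternionGroup 2, p * q ≠ q * p →
      p * p = q * q ∧ p * p ≠ 1 ∧ (p * p) * (p * p) = 1 ∧ q * p * q⁻¹ = p⁻¹ ∧ (p * q) * q ≠ q * (p * q)) ∧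
    (∀ p q r : QuaternionGroup 2, p * q ≠ q * p →
      r = 1 ∨ r = p ∨ r = p * p ∨ r = p⁻¹ ∨ r = q ∨ r = p * q ∨ r = p * p * q ∨ r = p⁻¹ * q) ∧
    (∃ p q : QuaternionGroup 2, p * q ≠ q * p) := by
  decide

namespace WRData

variable {S : Type*} [Group S] [Finite S] {n : ℕ} (D : WRData S n)

include D

/-- Half of `D.h`. -/
def q4 (_D : WRData S n) : ℤ := 2 ^ (n - 2)

theorem two_q4 : 2 * D.q4 = D.h := D.h_eq.symm

theorem q4_dvd_h : D.q4 ∣ D.h := ⟨2, by rw [mul_comm]; exact D.two_q4.symm⟩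

theorem four_q4 : 4 * D.q4 = D.N := by rw [D.N_eq, ← D.two_q4]; ring

theorem two_dvd_h : (2 : ℤ) ∣ D.h := ⟨D.q4, D.two_q4.symm⟩

/-- An element is in `A` with coordinates determined modulo `N`. -/
theorem el_congr {i j k l : ℤ} (h : D.el i j = D.el k l) {d : ℤ} (hd : d ∣ D.h) :
    d ∣ (i - j) - (k - l) := by
  obtain ⟨h1, h2⟩ := (D.el_eq_iff _ _ _ _).1 h
  have h3 : d ∣ D.N := hd.trans ⟨2, by rw [D.N_eq]; ring⟩
  rw [show i - j - (k - l) = (i - k) - (j - l) by ring]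
  exact dvd_sub (h3.trans h1) (h3.trans h2)

/-- The subgroup `Q * Z(S)` attached to the outer involution `el i (-i) * t`. -/
def E (i : ℤ) : Subgroup S where
  carrier := {s | (∃ k l : ℤ, D.h ∣ k - l ∧ s = D.el k l) ∨
    ∃ k l : ℤ, D.h ∣ k - l - 2 * i ∧ s = D.el k l * D.t}
  one_mem' := Or.inl ⟨0, 0, by simp, D.el_zero.symm⟩
  mul_mem' := by
    rintro a b (⟨p, q, hpq, rfl⟩ | ⟨p, q, hpq, rfl⟩) (⟨k, l, hkl, rfl⟩ | ⟨k, l, hkl, rfl⟩)
    · exact Or.inl ⟨p + k, q + l, by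
        rw [show p + k - (q + l) = (p - q) + (k - l) by ring]; exact dvd_add hpq hkl, D.el_mul _ _ _ _⟩
    · exact Or.inr ⟨p + k, q + l, by
        rw [show p + k - (q + l) - 2 * i = (p - q) + (k - l - 2 * i) by ring]; exact dvd_add hpq hkl,
        by rw [← mul_assoc, D.el_mul]⟩
    · exact Or.inr ⟨p + l, q + k, by
        rw [show p + l - (q + k) - 2 * i = (p - q - 2 * i) - (k - l) by ring]; exact dvd_sub hpq hkl,
        by rw [mul_assoc, D.t_mul_el, ← mul_assoc, D.el_mul]⟩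
    · exact Or.inl ⟨p + l, q + k, by
        rw [show p + l - (q + k) = (p - q - 2 * i) - (k - l - 2 * i) by ring]; exact dvd_sub hpq hkl,
        D.out_mul_out _ _ _ _⟩
  inv_mem' := by
    rintro a (⟨p, q, hpq, rfl⟩ | ⟨p, q, hpq, rfl⟩)
    · exact Or.inl ⟨-p, -q, by rw [show -p - -q = -(p - q) by ring]; exact hpq.neg_right, D.el_inv _ _⟩
    · exact Or.inr ⟨-q, -p, by rw [show -q - -p - 2 * i = p - q - 2 * i by ring]; exact hpq,
        by rw [mul_inv_rev, D.t_inv, D.el_inv, D.t_mul_el]⟩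

theorem el_mem_E {i k l : ℤ} : D.el k l ∈ D.E i ↔ D.h ∣ k - l := by
  refine ⟨?_, fun h => Or.inl ⟨k, l, h, rfl⟩⟩
  rintro (⟨p, q, hpq, he⟩ | ⟨p, q, -, he⟩)
  · have h1 := D.el_congr he dvd_rfl
    rw [show k - l = (k - l - (p - q)) + (p - q) by ring]
    exact dvd_add h1 hpq
  · exact absurd (he ▸ D.el_mem k l) (D.out_not_mem p q)

theorem out_mem_E {i k l : ℤ} : D.el k l * D.t ∈ D.E i ↔ D.h ∣ k - l - 2 * i := by
  refine ⟨?_, fun h => Or.inr ⟨k, l, h, rfl⟩⟩
  rintro (⟨p, q, -, he⟩ | ⟨p, q, hpq, he⟩)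
  · exact absurd (he ▸ D.el_mem p q) (D.out_not_mem k l)
  · have h1 := D.el_congr (mul_right_cancel he) dvd_rfl
    rw [show k - l - 2 * i = (k - l - (p - q)) + (p - q - 2 * i) by ring]
    exact dvd_add h1 hpq

theorem center_le_E (i : ℤ) : Subgroup.center S ≤ D.E i := by
  rw [D.center_eq, Subgroup.zpowers_le]
  exact D.el_mem_E.2 (by simp)

theorem el_h_mem_E (i : ℤ) : D.el D.h 0 ∈ D.E i := D.el_mem_E.2 (by simp)

theorem refl_mem_E (i : ℤ) : D.el i (-i) * D.t ∈ D.E i := D.out_mem_E.2 (by ring_nf; simp)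

/-- Elements of `E i` in normal form. -/
theorem E_cases {i : ℤ} {s : S} (hs : s ∈ D.E i) :
    ∃ z ∈ Subgroup.center S, s = z ∨ s = z * D.el D.h 0 ∨ s = z * (D.el i (-i) * D.t) ∨
      s = z * (D.el D.h 0 * (D.el i (-i) * D.t)) := by
  rcases hs with ⟨k, l, hkl, rfl⟩ | ⟨k, l, hkl, rfl⟩
  · refine ⟨D.el l l, D.diag_central l, ?_⟩
    rcases D.h_dvd_cases hkl with h | h
    · exact Or.inl ((D.el_eq_iff _ _ _ _).2 ⟨h, by simp⟩)
    · refine Or.inr (Or.inl ?_)
      rw [D.el_mul, D.el_eq_iff]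
      exact ⟨by rw [show k - (l + D.h) = k - l - D.h by ring]; exact h, by simp⟩
  · refine ⟨D.el (l + i) (l + i), D.diag_central _, ?_⟩
    rcases D.h_dvd_cases hkl with h | h
    · refine Or.inr (Or.inr (Or.inl ?_))
      rw [← mul_assoc, D.el_mul, mul_left_inj, D.el_eq_iff]
      exact ⟨by rw [show k - (l + i + i) = k - l - 2 * i by ring]; exact h, by simp⟩
    · refine Or.inr (Or.inr (Or.inr ?_))
      rw [← mul_assoc, ← mul_assoc, D.el_mul, D.el_mul, mul_left_inj, D.el_eq_iff]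
      exact ⟨by rw [show k - (l + i + D.h + i) = k - l - 2 * i - D.h by ring]; exact h, by simp⟩

theorem E_le_iff {i : ℤ} {H : Subgroup S} (h1 : Subgroup.center S ≤ H) (h2 : D.el D.h 0 ∈ H)
    (h3 : D.el i (-i) * D.t ∈ H) : D.E i ≤ H := fun s hs => by
  obtain ⟨z, hz, rfl | rfl | rfl | rfl⟩ := D.E_cases hs
  · exact h1 hz
  · exact mul_mem (h1 hz) h2
  · exact mul_mem (h1 hz) h3
  · exact mul_mem (h1 hz) (mul_mem h2 h3)

theorem card_E (i j : ℤ) : Nat.card (D.E i) = Nat.card (D.E j) := by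
  have h : ∀ k, ¬ D.E k ≤ D.A := fun k hle => D.out_not_mem k (-k) (hle (D.refl_mem_E k))
  have h2 : ∀ k, D.E k ⊓ D.A = D.E 0 ⊓ D.A := fun k => by
    ext s
    constructor <;> rintro ⟨hs, hsA⟩ <;> refine ⟨?_, hsA⟩ <;> obtain ⟨a, b, rfl⟩ := hsA <;>
      exact D.el_mem_E.2 (D.el_mem_E.1 hs)
  rw [D.card_eq_two_mul _ (h i), D.card_eq_two_mul _ (h j), h2 i, h2 j]

theorem conj_el_h (a b : ℤ) : (D.el a b * D.t) * D.el D.h 0 * (D.el a b * D.t)⁻¹ = D.el 0 D.h := by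
  rw [show D.el a b * D.t * D.el D.h 0 * (D.el a b * D.t)⁻¹ =
    D.el a b * (D.t * D.el D.h 0) * D.t⁻¹ * (D.el a b)⁻¹ by group, D.t_mul_el, ← mul_assoc,
    mul_inv_cancel_right, D.el_inv, D.el_mul, D.el_mul]
  congr 1 <;> ring

theorem el_zero_h : D.el 0 D.h = D.el D.h 0 * D.el D.h D.h := by
  rw [D.el_mul, D.el_eq_iff]
  exact ⟨⟨-1, by rw [D.N_eq]; ring⟩, by simp⟩

theorem refl_add_h (i : ℤ) :
    D.el (i + D.h) (-(i + D.h)) * D.t = D.el i (-i) * D.t * D.el D.h D.h := by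
  rw [mul_assoc (D.el i (-i)), D.t_mul_el, ← mul_assoc, D.el_mul, mul_left_inj, D.el_eq_iff]
  exact ⟨by simp, ⟨-1, by rw [D.N_eq]; ring⟩⟩

/-- Two outer involutions commute only when they differ by the central involution. -/
theorem refl_commute {i k : ℤ} (h : Commute (D.el k (-k) * D.t) (D.el i (-i) * D.t)) :
    D.el k (-k) * D.t = D.el i (-i) * D.t ∨ D.el k (-k) * D.t = D.el i (-i) * D.t * D.el D.h D.h := by
  have h1 := h.eq
  rw [D.out_mul_out, D.out_mul_out, D.el_eq_iff] at h1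
  have h2 : D.N ∣ 2 * (k - i) := by
    rw [show 2 * (k - i) = k + -i - (i + -k) by ring]; exact h1.1
  rw [D.N_eq, mul_dvd_mul_iff_left two_ne_zero] at h2
  rcases D.h_dvd_cases h2 with h3 | h3
  · left
    rw [mul_left_inj, D.el_eq_iff]
    exact ⟨h3, by rw [show -k - -i = -(k - i) by ring]; exact h3.neg_right⟩
  · right
    rw [← D.refl_add_h, mul_left_inj, D.el_eq_iff]
    exact ⟨by rw [show k - (i + D.h) = k - i - D.h by ring]; exact h3,
      by rw [show -k - -(i + D.h) = -(k - i - D.h) by ring]; exact h3.neg_right⟩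

/-- The conjugates of `el i (-i) * t` under `A`. -/
theorem conj_refl_el (i k : ℤ) :
    D.el k 0 * (D.el i (-i) * D.t) * (D.el k 0)⁻¹ = D.el (i + k) (-(i + k)) * D.t := by
  rw [D.conj_out]; congr 2 <;> ring

theorem quat_sup_center {Q : Subgroup S} (e : Q ≃* QuaternionGroup 2) :
    ∃ i : ℤ, Q ⊔ Subgroup.center S = D.E i := by
  obtain ⟨hrel, hgen, p₀, q₀, hpq⟩ := quaternion_two_facts
  let ι : QuaternionGroup 2 →* S := Q.subtype.comp e.symm.toMonoidHom
  have hι : Function.Injective ι := Q.subtype_injective.comp e.symm.injective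
  have hne : ∀ a b : QuaternionGroup 2, a * b ≠ b * a → ι a * ι b ≠ ι b * ι a := fun a b hab h =>
    hab (hι (by rw [map_mul, map_mul]; exact h))
  obtain ⟨p, q, hpq, hpA, hqA⟩ : ∃ p q, p * q ≠ q * p ∧ ι p ∈ D.A ∧ ι q ∉ D.A := by
    by_cases hp : ι p₀ ∈ D.A
    · exact ⟨p₀, q₀, hpq, hp, fun hq => hne _ _ hpq (D.A_comm hp hq)⟩
    by_cases hq : ι q₀ ∈ D.A
    · exact ⟨q₀, p₀, fun h => hpq h.symm, hq, hp⟩
    refine ⟨p₀ * q₀, q₀, (hrel p₀ q₀ hpq).2.2.2.2, ?_, hq⟩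
    rw [map_mul]
    exact (Subgroup.mul_mem_iff_of_index_two D.index_A).2 (iff_of_false hp hq)
  obtain ⟨r1, r2, r3, r4, -⟩ := hrel p q hpq
  obtain ⟨k, l, hkl⟩ := hpA
  obtain ⟨i, j, hij | hij⟩ := D.exists_form (ι q)
  · exact absurd (hij ▸ D.el_mem i j) hqA
  have e1 := congrArg ι r4
  rw [map_mul, map_mul, map_inv, map_inv, hkl, hij, show D.el i j * D.t * D.el k l * (D.el i j * D.t)⁻¹ =
    D.el i j * (D.t * D.el k l) * D.t⁻¹ * (D.el i j)⁻¹ by group, D.t_mul_el, ← mul_assoc,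
    mul_inv_cancel_right, D.el_inv, D.el_mul, D.el_mul, D.el_inv, D.el_eq_iff] at e1
  have hsum : D.N ∣ k + l := by
    rw [show k + l = i + l + -i - -k by ring]; exact e1.1
  have e2 := congrArg ι r1
  rw [map_mul, map_mul, hkl, hij, D.out_sq, D.el_mul, D.el_eq_iff] at e2
  have hN2 : D.N = 2 * D.h := D.N_eq
  have hd : D.h ∣ k - l := by
    have h1 : D.N ∣ 2 * (k - l) := by
      rw [show 2 * (k - l) = (k + k - (i + j)) - (l + l - (i + j)) by ring]; exact dvd_sub e2.1 e2.2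
    rwa [hN2, mul_dvd_mul_iff_left two_ne_zero] at h1
  have h2k : D.N ∣ 2 * k - D.h := by
    have h1 : ¬ (D.N ∣ k + k ∧ D.N ∣ l + l) := by
      intro h
      refine r2 (hι ?_)
      rw [map_mul, map_one, hkl, D.el_mul, D.el_eq_one]
      exact h
    have h4 : D.el (k + k) (l + l) * D.el (k + k) (l + l) = 1 := by
      have := congrArg ι r3
      rwa [map_mul, map_mul, map_one, hkl, D.el_mul] at this
    obtain ⟨h5, h6⟩ := D.sq_el_eq_one h4
    rcases D.h_dvd_cases h5 with h7 | h7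
    · refine absurd ⟨h7, ?_⟩ h1
      rw [show l + l = 2 * (k + l) - (k + k) by ring]
      exact dvd_sub (hsum.mul_left 2) h7
    · rw [two_mul]; exact h7
  have hijh : D.h ∣ i + j := by
    have h8 : D.N ∣ i + j - D.h := by
      rw [show i + j - D.h = (2 * k - D.h) - (k + k - (i + j)) by ring]; exact dvd_sub h2k e2.1
    rw [show i + j = (i + j - D.h) + D.h by ring]
    exact dvd_add ((show D.h ∣ D.N from ⟨2, by rw [hN2]; ring⟩).trans h8) dvd_rfl
  have hEa : ι p ∈ D.E i := hkl ▸ D.el_mem_E.2 hd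
  have hEb : ι q ∈ D.E i := hij ▸ D.out_mem_E.2 (by
    rw [show i - j - 2 * i = -(i + j) by ring]; exact hijh.neg_right)
  refine ⟨i, le_antisymm (sup_le (fun s hs => ?_) (D.center_le_E i)) ?_⟩
  · obtain ⟨r, hr⟩ : ∃ r, ι r = s := ⟨e ⟨s, hs⟩, by simp [ι]⟩
    rw [← hr]
    rcases hgen p q r hpq with rfl | rfl | rfl | rfl | rfl | rfl | rfl | rfl <;>
      (try simp only [map_one, map_mul, map_inv]) <;>
      first
        | exact one_mem _
        | exact hEa
        | exact hEb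
        | exact inv_mem hEa
        | exact mul_mem hEa hEa
        | exact mul_mem hEa hEb
        | exact mul_mem (mul_mem hEa hEa) hEb
        | exact mul_mem (inv_mem hEa) hEb
  have hQ : ∀ r, ι r ∈ Q ⊔ Subgroup.center S := fun r => Subgroup.mem_sup_left (e.symm r).2
  have hZ : ∀ c, D.el c c ∈ Q ⊔ Subgroup.center S := fun c => Subgroup.mem_sup_right (D.diag_central c)
  have hH : D.el D.h 0 ∈ Q ⊔ Subgroup.center S := by
    have he : D.el D.h 0 = ι p * D.el (-l) (-l) := by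
      rw [hkl, D.el_mul, D.el_eq_iff]
      exact ⟨by
        rw [show D.h - (k + -l) = (k + l) - (2 * k - D.h) by ring]
        exact dvd_sub hsum h2k, by simp⟩
    rw [he]; exact mul_mem (hQ p) (hZ _)
  refine D.E_le_iff le_sup_right hH ?_
  obtain ⟨c, hc⟩ := hijh
  -- the outer involution differs from `ι q` by a central element, up to `el h 0`
  have hcases : D.el i (-i) * D.t ∈ ({D.el (-i - j) (-i - j) * (D.el D.h 0 * ι q),
      D.el (-i - j) (-i - j) * ι q} : Set S) := by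
    rcases Int.even_or_odd c with ⟨d, hd'⟩ | ⟨d, hd'⟩
    · right
      rw [Set.mem_singleton_iff, hij, ← mul_assoc, D.el_mul, mul_left_inj, D.el_eq_iff]
      exact ⟨⟨d, by rw [hN2]; linear_combination hc + D.h * hd'⟩, by ring_nf; simp⟩
    · left
      rw [hij, ← mul_assoc, ← mul_assoc, D.el_mul, D.el_mul, mul_left_inj, D.el_eq_iff]
      exact ⟨⟨d, by rw [hN2]; linear_combination hc + D.h * hd'⟩, by ring_nf; simp⟩
  rcases hcases with h | h
  · rw [h]; exact mul_mem (hZ _) (mul_mem hH (hQ q))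
  · rw [h]; exact mul_mem (hZ _) (hQ q)

end WRData

end Cfsg.Agent.Fusion
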