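import Cfsg.Agent.Lib.Fusion.Wreathed

/-!
# Subgroups of wreathed 2-groups
-/

set_option autoImplicit false
set_option linter.style.haveILetI false
set_option linter.unusedSectionVars false

open scoped commutatorElement

namespace Cfsg.Agent.Fusion

variable {S : Type*} [Group S] [Finite S]

namespace WRData

variable {n : ℕ} (D : WRData S n)
include D

theorem classes : Nat.card {C : ConjClasses S // ∃ t : S, orderOf t = 2 ∧ ConjClasses.mk t = C} = 3 := by
  have h0 : ¬ D.N ∣ D.h := D.not_N_dvd_h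
  have o1 : orderOf (D.el D.h D.h) = 2 := D.el_h_order dvd_rfl dvd_rfl (fun h' => h0 h'.1)
  have o2 : orderOf (D.el D.h 0) = 2 := D.el_h_order dvd_rfl (dvd_zero _) (fun h' => h0 h'.1)
  have o3 : orderOf (D.el 0 0 * D.t) = 2 := by simpa using D.outer_invol 0
  let f : Fin 3 → {C : ConjClasses S // ∃ t : S, orderOf t = 2 ∧ ConjClasses.mk t = C} :=
    ![⟨ConjClasses.mk (D.el D.h D.h), _, o1, rfl⟩, ⟨ConjClasses.mk (D.el D.h 0), _, o2, rfl⟩,
      ⟨ConjClasses.mk (D.el 0 0 * D.t), _, o3, rfl⟩]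
  haveI := Subgroup.normal_of_index_eq_two D.index_A
  have hcen : ∀ g : S, g * D.el D.h D.h * g⁻¹ = D.el D.h D.h := fun g => by
    rw [Subgroup.mem_center_iff.1 (D.diag_central D.h) g, mul_inv_cancel_right]
  have hout : ∀ (g : S) (i j : ℤ), g * D.el i j * g⁻¹ ≠ D.el 0 0 * D.t := fun g i j he =>
    D.out_not_mem 0 0 (he ▸ Subgroup.Normal.conj_mem inferInstance _ (D.el_mem i j) g)
  have hf : Function.Bijective f := by
    constructor
    · intro a b hab
      obtain ⟨ga, hga⟩ : ∃ g : S, g * (![D.el D.h D.h, D.el D.h 0, D.el 0 0 * D.t] a) * g⁻¹ =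
          ![D.el D.h D.h, D.el D.h 0, D.el 0 0 * D.t] b := by
        have h' := congrArg Subtype.val hab
        refine isConj_iff.1 (ConjClasses.mk_eq_mk_iff_isConj.1 ?_)
        fin_cases a <;> fin_cases b <;> simpa [f] using h'
      fin_cases a <;> fin_cases b <;> simp at hga ⊢
      · rw [hcen, D.el_eq_iff] at hga
        exact h0 (by simpa using hga.2)
      · exact hout ga _ _ hga
      · have hga' := congrArg (fun s => ga⁻¹ * s * ga) hga
        simp only [show ga⁻¹ * (ga * D.el D.h 0 * ga⁻¹) * ga = D.el D.h 0 by group] at hga'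
        have hc := hcen ga⁻¹
        rw [inv_inv] at hc
        rw [hc, D.el_eq_iff] at hga'
        exact h0 (by simpa using hga'.2)
      · exact hout ga _ _ hga
      · have := hcen ga⁻¹
        rw [inv_inv, ← hga] at this
        refine D.out_not_mem 0 0 ?_
        rw [show ga⁻¹ * (ga * (D.el 0 0 * D.t) * ga⁻¹) * ga = D.el 0 0 * D.t by group] at this
        rw [this, hga]; exact D.el_mem _ _
      · exact hout ga⁻¹ D.h 0 (by rw [← hga]; group)
    · rintro ⟨_, s, hs, rfl⟩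
      rcases D.invol_cases hs with rfl | rfl | rfl | ⟨i, rfl⟩
      · exact ⟨1, rfl⟩
      · refine ⟨1, Subtype.ext (ConjClasses.mk_eq_mk_iff_isConj.2 (isConj_iff.2 ⟨D.t, ?_⟩))⟩
        rw [D.t_mul_el, mul_inv_cancel_right]
      · exact ⟨0, rfl⟩
      · refine ⟨2, Subtype.ext (ConjClasses.mk_eq_mk_iff_isConj.2 (isConj_iff.2 ⟨D.el i 0, ?_⟩))⟩
        rw [D.conj_out]; simp
  rw [← Nat.card_eq_of_bijective f hf, Nat.card_fin]

theorem abelian_max {U : Subgroup S} (hU : IsMulCommutative U) (hc : Nat.card U = 2 ^ (2 * n)) : U = D.A := by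
  by_cases hle : U ≤ D.A
  · exact Subgroup.eq_of_le_of_card_ge hle (by rw [hc, D.card_A])
  exfalso
  have h1 := D.card_eq_two_mul U hle
  obtain ⟨s, hs, hsA⟩ := SetLike.not_le_iff_exists.1 hle
  obtain ⟨i, j, rfl | rfl⟩ := D.exists_form s
  · exact hsA (D.el_mem _ _)
  have h2 : U ⊓ D.A ≤ Subgroup.zpowers (D.el 1 1) := by
    intro a ha
    obtain ⟨haU, haA⟩ := Subgroup.mem_inf.1 ha
    obtain ⟨k, l, rfl⟩ := haA
    have hca : Commute (D.el k l) (D.el i j * D.t) :=
      congrArg Subtype.val (hU.is_comm.comm ⟨_, haU⟩ ⟨_, hs⟩)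
    rw [D.commute_out_el] at hca
    refine ⟨k, ?_⟩
    show D.el 1 1 ^ k = D.el k l
    rw [D.el_zpow, D.el_eq_iff, one_mul, sub_self]
    exact ⟨dvd_zero _, hca⟩
  have h3 := Subgroup.card_le_of_le h2
  rw [Nat.card_zpowers, D.orderOf_w] at h3
  have h4 : 2 * 2 ^ n < 2 ^ (2 * n) := by
    rw [← pow_succ']; exact Nat.pow_lt_pow_right one_lt_two (by have := D.hn; omega)
  omega

theorem A_equiv : Nonempty (D.A ≃* Multiplicative (ZMod (2 ^ n) × ZMod (2 ^ n))) := by
  haveI : NeZero (2 ^ n : ℕ) := ⟨pow_ne_zero _ two_ne_zero⟩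
  have hN : D.N = ((2 ^ n : ℕ) : ℤ) := by rw [N]; push_cast; rfl
  let f : Multiplicative (ZMod (2 ^ n) × ZMod (2 ^ n)) →* D.A :=
    { toFun := fun p => ⟨D.el ((p.toAdd.1.val : ℕ) : ℤ) ((p.toAdd.2.val : ℕ) : ℤ), D.el_mem _ _⟩
      map_one' := Subtype.ext (by simp [D.el_zero])
      map_mul' := fun p q => Subtype.ext (by
        show D.el _ _ = D.el _ _ * D.el _ _
        rw [D.el_mul, D.el_eq_iff, hN]
        constructor <;> rw [← ZMod.intCast_zmod_eq_zero_iff_dvd] <;> simp) }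
  have hinj : Function.Injective f := fun p q hpq => by
    obtain ⟨h1, h2⟩ := (D.el_eq_iff _ _ _ _).1 (congrArg Subtype.val hpq)
    rw [hN, ← ZMod.intCast_zmod_eq_zero_iff_dvd] at h1 h2
    simp [sub_eq_zero] at h1 h2
    exact Multiplicative.toAdd.injective (Prod.ext h1 h2)
  exact ⟨(MulEquiv.ofBijective f (hinj.bijective_of_nat_card_le (by
    rw [D.card_A, Nat.card_eq_fintype_card, Fintype.card_multiplicative, Fintype.card_prod, ZMod.card,
      two_mul, pow_add]))).symm⟩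

theorem center_facts : Nat.card (Subgroup.center S) = 2 ^ n ∧ IsCyclic (Subgroup.center S) := by
  rw [D.center_eq]; exact ⟨by rw [Nat.card_zpowers, D.orderOf_w], inferInstance⟩

theorem commutator_eq : commutator S = Subgroup.zpowers (D.el 1 (-1)) := by
  have hn : (Subgroup.zpowers (D.el 1 (-1))).Normal := by
    refine ⟨fun s hs g => ?_⟩
    obtain ⟨k, rfl⟩ := Subgroup.mem_zpowers_iff.1 hs
    obtain ⟨i, j, rfl | rfl⟩ := D.exists_form g
    · rw [D.A_comm (D.el_mem i j) (zpow_mem (D.el_mem 1 (-1)) k), mul_inv_cancel_right]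
      exact Subgroup.zpow_mem_zpowers _ _
    · refine ⟨-k, ?_⟩
      show D.el 1 (-1) ^ (-k) = D.el i j * D.t * D.el 1 (-1) ^ k * (D.el i j * D.t)⁻¹
      rw [D.el_zpow, D.el_zpow, show D.el i j * D.t * D.el (1 * k) (-1 * k) * (D.el i j * D.t)⁻¹ =
          D.el i j * (D.t * D.el (1 * k) (-1 * k)) * D.t⁻¹ * (D.el i j)⁻¹ by group, D.t_mul_el,
        ← mul_assoc, mul_inv_cancel_right, D.el_inv, D.el_mul, D.el_mul]
      ring_nf
  refine le_antisymm ?_ ?_
  · rw [commutator_def, Subgroup.commutator_le]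
    intro a _ b _
    have key : ∀ i j : ℤ, D.N ∣ i + j → D.el i j ∈ Subgroup.zpowers (D.el 1 (-1)) := fun i j hij => by
      refine ⟨i, ?_⟩
      show D.el 1 (-1) ^ i = D.el i j
      rw [D.el_zpow, D.el_eq_iff, one_mul, sub_self]
      exact ⟨dvd_zero _, by rw [show -1 * i - j = -(i + j) by ring]; exact hij.neg_right⟩
    obtain ⟨i, j, rfl | rfl⟩ := D.exists_form a <;> obtain ⟨k, l, rfl | rfl⟩ := D.exists_form b
    · rw [commutatorElement_eq_one_iff_mul_comm.2 (D.A_comm (D.el_mem _ _) (D.el_mem _ _))]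
      exact one_mem _
    · rw [commutatorElement_def, show D.el i j * (D.el k l * D.t) * (D.el i j)⁻¹ * (D.el k l * D.t)⁻¹ =
        (D.el i j * (D.el k l * D.t) * (D.el i j)⁻¹) * D.t⁻¹ * (D.el k l)⁻¹ by group, D.conj_out,
        mul_inv_cancel_right, D.el_inv, D.el_mul]
      exact key _ _ ⟨0, by ring⟩
    · rw [← commutatorElement_inv]
      refine inv_mem ?_
      rw [commutatorElement_def, show D.el k l * (D.el i j * D.t) * (D.el k l)⁻¹ * (D.el i j * D.t)⁻¹ =
        (D.el k l * (D.el i j * D.t) * (D.el k l)⁻¹) * D.t⁻¹ * (D.el i j)⁻¹ by group, D.conj_out,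
        mul_inv_cancel_right, D.el_inv, D.el_mul]
      exact key _ _ ⟨0, by ring⟩
    · rw [commutatorElement_def, D.out_mul_out]
      rw [show D.el (i + l) (j + k) * (D.el i j * D.t)⁻¹ * (D.el k l * D.t)⁻¹ =
          D.el (i + l) (j + k) * ((D.el k l * D.t) * (D.el i j * D.t))⁻¹ by group, D.out_mul_out, D.el_inv, D.el_mul]
      exact key _ _ ⟨0, by ring⟩
  · rw [Subgroup.zpowers_le]
    have h2 := Subgroup.commutator_mem_commutator (Subgroup.mem_top (D.el 1 0)) (Subgroup.mem_top (D.el 0 0 * D.t))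
    rw [commutatorElement_def, D.conj_out, show D.el 0 0 * D.t = D.t by rw [D.el_zero, one_mul],
      mul_inv_cancel_right] at h2
    rw [commutator_def]
    simpa using h2

theorem commutator_facts : Nat.card (commutator S) = 2 ^ n ∧ IsCyclic (commutator S) := by
  rw [D.commutator_eq]
  refine ⟨?_, inferInstance⟩
  rw [Nat.card_zpowers]
  refine Nat.dvd_antisymm (orderOf_dvd_of_pow_eq_one ?_) ?_
  · rw [← zpow_natCast, D.el_zpow, D.el_eq_one]; push_cast; simp [N]
  · have h1 := pow_orderOf_eq_one (D.el 1 (-1))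
    rw [← zpow_natCast, D.el_zpow, D.el_eq_one, one_mul] at h1
    exact_mod_cast (show ((2 ^ n : ℕ) : ℤ) ∣ (orderOf (D.el 1 (-1)) : ℤ) by push_cast; exact h1.1)

theorem quotient_dihedral : Nonempty (S ⧸ Subgroup.center S ≃* DihedralGroup (2 ^ n)) := by
  obtain ⟨π, hπ⟩ : ∃ π, π = QuotientGroup.mk' (Subgroup.center S) := ⟨_, rfl⟩
  have hker : ∀ c, π c = 1 ↔ c ∈ Subgroup.center S := fun c => by
    rw [hπ, QuotientGroup.mk'_apply, QuotientGroup.eq_one_iff]
  have hA : Subgroup.center S ≤ D.A := by rw [D.center_eq, Subgroup.zpowers_le]; exact D.el_mem _ _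
  have ho : orderOf (π D.t) = 2 := orderOf_eq_prime (by rw [sq, ← map_mul, D.t_sq, map_one])
    fun h' => D.t_not_mem (hA ((hker _).1 h'))
  have hu : D.t * D.el 1 0 * (D.t * D.el 1 0) = D.el 1 1 := by
    rw [D.t_mul_el, D.out_sq, zero_add]
  have ho2 : orderOf (π (D.t * D.el 1 0)) = 2 := orderOf_eq_prime
    (by rw [sq, ← map_mul, hker, hu]; exact D.diag_central 1)
    fun h' => D.out_not_mem 0 1 (by rw [← D.t_mul_el]; exact hA ((hker _).1 h'))
  have hox : orderOf (π (D.el 1 0)) = 2 ^ n := by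
    refine Nat.dvd_antisymm (orderOf_dvd_of_pow_eq_one ?_) ?_
    · rw [← map_pow, hker, ← zpow_natCast, D.el_zpow, (D.el_eq_one _ _).2 (by push_cast; simp [N])]
      exact one_mem _
    · have h1 := pow_orderOf_eq_one (π (D.el 1 0))
      rw [← map_pow, hker, ← zpow_natCast, D.el_zpow] at h1
      obtain ⟨k, hk⟩ := Subgroup.mem_zpowers_iff.1 (D.center_eq.le h1)
      rw [D.el_zpow, D.el_eq_iff, zero_mul, sub_zero] at hk
      have h2 := dvd_sub hk.2 hk.1
      rw [show 1 * k - (1 * k - 1 * (orderOf (π (D.el 1 0)) : ℤ)) = (orderOf (π (D.el 1 0)) : ℤ) by ring] at h2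
      exact_mod_cast (show ((2 ^ n : ℕ) : ℤ) ∣ (orderOf (π (D.el 1 0)) : ℤ) by push_cast; exact h2)
  have hne : π D.t ≠ π (D.t * D.el 1 0) := fun h' => by
    rw [map_mul, left_eq_mul] at h'
    rw [h', orderOf_one] at hox
    exact absurd hox (Nat.one_lt_pow (by have := D.hn; omega) (by norm_num)).ne
  obtain ⟨e⟩ := closure_pair_equiv_dihedral ho ho2 hne
  have htop : Subgroup.closure ({π D.t, π (D.t * D.el 1 0)} : Set (S ⧸ Subgroup.center S)) = ⊤ := by
    set K := Subgroup.closure ({π D.t, π (D.t * D.el 1 0)} : Set (S ⧸ Subgroup.center S))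
    have ht : π D.t ∈ K := Subgroup.subset_closure (by simp)
    have hx : π (D.el 1 0) ∈ K := by
      have := mul_mem (inv_mem ht) (Subgroup.subset_closure (by simp : π (D.t * D.el 1 0) ∈ ({π D.t, π (D.t * D.el 1 0)} : Set _)))
      rwa [map_mul, inv_mul_cancel_left] at this
    have hel : ∀ i j : ℤ, π (D.el i j) ∈ K := fun i j => by
      have he : D.el i j = D.el 1 0 ^ i * (D.t * D.el 1 0 ^ j * D.t⁻¹) := by
        rw [D.el_zpow, D.el_zpow, D.t_mul_el, mul_inv_cancel_right, D.el_mul]; ring_nf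
      rw [he]
      simp only [map_mul, map_zpow, map_inv]
      exact mul_mem (zpow_mem hx i) (mul_mem (mul_mem ht (zpow_mem hx j)) (inv_mem ht))
    refine (Subgroup.eq_top_iff' _).2 fun a => ?_
    obtain ⟨a, rfl⟩ := (hπ ▸ QuotientGroup.mk'_surjective (Subgroup.center S) : Function.Surjective π) a
    obtain ⟨i, j, rfl | rfl⟩ := D.exists_form a
    · exact hel i j
    · rw [map_mul]; exact mul_mem (hel i j) ht
  rw [show π D.t * π (D.t * D.el 1 0) = π (D.el 1 0) by rw [← map_mul, ← mul_assoc, D.t_sq, one_mul], hox] at e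
  exact ⟨((MulEquiv.subgroupCongr htop).trans Subgroup.topEquiv).symm.trans e⟩

theorem four_cases {T : Subgroup S} (hT : IsKleinFour T) :
    T ≤ D.A ∨ ∃ i : ℤ, T = Subgroup.closure ({D.el D.h D.h, D.el i (-i) * D.t} : Set S) := by
  haveI := hT
  by_cases hle : T ≤ D.A
  · exact Or.inl hle
  obtain ⟨s, hs, hsA⟩ := SetLike.not_le_iff_exists.1 hle
  have hs2 : orderOf s = 2 := orderOf_eq_prime (by
    rw [sq]; exact congrArg Subtype.val (IsKleinFour.mul_self (⟨s, hs⟩ : T))) (fun h' => hsA (h' ▸ one_mem _))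
  rcases D.invol_cases hs2 with rfl | rfl | rfl | ⟨i, rfl⟩
  · exact absurd (D.el_mem _ _) hsA
  · exact absurd (D.el_mem _ _) hsA
  · exact absurd (D.el_mem _ _) hsA
  refine Or.inr ⟨i, ?_⟩
  have h1 := D.card_eq_two_mul T hle
  rw [hT.card_four] at h1
  obtain ⟨⟨a, ha⟩, ha1⟩ : ∃ a : ↥(T ⊓ D.A), a ≠ 1 := by
    haveI : Nontrivial ↥(T ⊓ D.A) := Finite.one_lt_card_iff_nontrivial.1 (by omega)
    exact exists_ne 1
  obtain ⟨haT, haA⟩ := Subgroup.mem_inf.1 ha
  obtain ⟨k, l, rfl⟩ := haA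
  have hca : Commute (D.el k l) (D.el i (-i) * D.t) :=
    congrArg Subtype.val ((IsKleinFour.isMulCommutative (G := T)).is_comm.comm ⟨_, haT⟩ ⟨_, hs⟩)
  rw [D.commute_out_el] at hca
  obtain ⟨hk, hl⟩ := D.sq_el_eq_one (congrArg Subtype.val (IsKleinFour.mul_self (⟨_, haT⟩ : T)))
  have hkl : D.el k l = D.el D.h D.h := by
    rw [D.el_eq_iff]
    rcases D.h_dvd_cases hk with hk' | hk'
    · refine absurd (Subtype.ext ((D.el_eq_one _ _).2 ⟨hk', ?_⟩)) ha1
      have := dvd_sub hk' hca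
      rwa [sub_sub_cancel] at this
    · refine ⟨hk', ?_⟩
      have := dvd_sub hk' hca
      rwa [show k - D.h - (k - l) = l - D.h by ring] at this
  refine (Subgroup.eq_of_le_of_card_ge ((Subgroup.closure_le _).2 ?_) ?_).symm
  · rintro w (rfl | rfl)
    · exact hkl ▸ haT
    · exact hs
  · rw [hT.card_four, D.card_eq_two_mul _ (fun hle' => D.out_not_mem i (-i) (hle' (Subgroup.subset_closure (by simp))))]
    have h2 : D.el D.h D.h ∈ Subgroup.closure ({D.el D.h D.h, D.el i (-i) * D.t} : Set S) ⊓ D.A :=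
      Subgroup.mem_inf.2 ⟨Subgroup.subset_closure (by simp), D.el_mem _ _⟩
    have h3 := Subgroup.card_le_of_le (Subgroup.zpowers_le.2 h2)
    rw [Nat.card_zpowers, D.el_h_order dvd_rfl dvd_rfl (fun h' => D.not_N_dvd_h h'.1)] at h3
    omega

end WRData

end Cfsg.Agent.Fusion
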