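import Cfsg.Agent.Lib.Fusion.WreathedE
import Cfsg.Agent.Lib.Fusion.QuasiDihedralFusion
import Cfsg.Agent.S1201

/-!
# Fusion in a group with wreathed Sylow 2-subgroups
-/

set_option autoImplicit false
set_option linter.unusedSectionVars false
set_option linter.style.haveILetI false

namespace Cfsg.Agent.Fusion

open Cfsg

variable {G : Type*} [Group G] [Finite G] {S : Sylow 2 G} {n : ℕ} (D : WRData (S : Subgroup G) n)

namespace WRData

include D

/-- The abelian maximal subgroup, inside the ambient group. -/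
def Ag : Subgroup G := D.A.map (S : Subgroup G).subtype

/-- The centre of the Sylow subgroup, inside the ambient group. -/
def Zg (_D : WRData (S : Subgroup G) n) : Subgroup G := (Subgroup.center (S : Subgroup G)).map (S : Subgroup G).subtype

/-- The subgroup `Q * Z(S)`, inside the ambient group. -/
def Eg (i : ℤ) : Subgroup G := (D.E i).map (S : Subgroup G).subtype

/-- The central involution. -/
def ug : G := (D.el D.h D.h : G)

/-- The noncentral involution of `A`. -/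
def eg : G := (D.el D.h 0 : G)

/-- An outer involution. -/
def fg (i : ℤ) : G := ((D.el i (-i) * D.t : ↥(S : Subgroup G)) : G)

/-- The two classes of involutions of `A` fuse. -/
def FusedA : Prop := IsConj D.ug D.eg

/-- The outer involutions fuse with the noncentral involutions of `A`. -/
def FusedE : Prop := IsConj D.eg (D.fg 0)

theorem Ag_le : D.Ag ≤ (S : Subgroup G) := Subgroup.map_subtype_le _

theorem Zg_le : D.Zg ≤ (S : Subgroup G) := Subgroup.map_subtype_le _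

theorem Eg_le (i : ℤ) : D.Eg i ≤ (S : Subgroup G) := Subgroup.map_subtype_le _

theorem Zg_le_Ag : D.Zg ≤ D.Ag := Subgroup.map_mono D.center_le_A

theorem Ag_comm {a b : G} (ha : a ∈ D.Ag) (hb : b ∈ D.Ag) : a * b = b * a := by
  obtain ⟨a, ha, rfl⟩ := ha
  obtain ⟨b, hb, rfl⟩ := hb
  exact congrArg Subtype.val (D.A_comm ha hb)

theorem Zg_central {z s : G} (hz : z ∈ D.Zg) (hs : s ∈ (S : Subgroup G)) : s * z = z * s := by
  obtain ⟨z, hz, rfl⟩ := hz
  exact congrArg Subtype.val (Subgroup.mem_center_iff.1 hz ⟨s, hs⟩)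

theorem mem_Ag {s : ↥(S : Subgroup G)} : (s : G) ∈ D.Ag ↔ s ∈ D.A :=
  Subgroup.mem_map_iff_mem (S : Subgroup G).subtype_injective

theorem mem_Eg {i : ℤ} {s : ↥(S : Subgroup G)} : (s : G) ∈ D.Eg i ↔ s ∈ D.E i :=
  Subgroup.mem_map_iff_mem (S : Subgroup G).subtype_injective

theorem mem_Zg {s : ↥(S : Subgroup G)} : (s : G) ∈ D.Zg ↔ s ∈ Subgroup.center (S : Subgroup G) :=
  Subgroup.mem_map_iff_mem (S : Subgroup G).subtype_injective

theorem orderOf_u : orderOf (D.el D.h D.h) = 2 :=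
  D.el_h_order dvd_rfl dvd_rfl fun h => D.not_N_dvd_h h.1

theorem orderOf_ug : orderOf D.ug = 2 := by
  rw [ug, Subgroup.orderOf_coe]; exact D.orderOf_u

theorem orderOf_eg : orderOf D.eg = 2 := by
  rw [eg, Subgroup.orderOf_coe]
  exact D.el_h_order dvd_rfl (dvd_zero _) fun h => D.not_N_dvd_h h.1

theorem orderOf_fg (i : ℤ) : orderOf (D.fg i) = 2 := by
  rw [fg, Subgroup.orderOf_coe]; exact D.outer_invol i

theorem el_h_not_center : D.el D.h 0 ∉ Subgroup.center (S : Subgroup G) := fun h => by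
  have h1 : Commute (D.el D.h 0) (D.el 0 0 * D.t) := (Subgroup.mem_center_iff.1 h _).symm
  rw [D.commute_out_el] at h1
  exact D.not_N_dvd_h (by simpa using h1)

theorem center_invol {v : ↥(S : Subgroup G)} (hv : v ∈ Subgroup.center (S : Subgroup G))
    (hv2 : orderOf v = 2) : v = D.el D.h D.h := by
  rcases D.invol_cases hv2 with rfl | rfl | rfl | ⟨i, rfl⟩
  · exact absurd hv D.el_h_not_center
  · refine absurd ?_ D.el_h_not_center
    have h := Subgroup.mul_mem _ hv (D.diag_central D.h)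
    rwa [D.el_mul, show D.el (0 + D.h) (D.h + D.h) = D.el D.h 0 by
      rw [D.el_eq_iff]; exact ⟨by simp, ⟨1, by rw [D.N_eq]; ring⟩⟩] at h
  · rfl
  · exact absurd (D.center_le_A hv) (D.out_not_mem i (-i))

theorem Ag_unique {H : Subgroup G} (hH : H ≤ (S : Subgroup G))
    (hab : ∀ a ∈ H, ∀ b ∈ H, a * b = b * a) (hc : Nat.card H = Nat.card D.Ag) : H = D.Ag := by
  have hcard : Nat.card D.Ag = 2 ^ (2 * n) := by
    rw [Ag, Subgroup.card_map_of_injective (S : Subgroup G).subtype_injective, D.card_A]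
  refine Subgroup.eq_of_le_of_card_ge (fun a ha => ⟨⟨a, hH ha⟩, ?_, rfl⟩) hc.ge
  refine D.le_A_of_abelian (H.subgroupOf (S : Subgroup G))
    (fun p hp q hq => Subtype.ext (hab _ hp _ hq)) ?_ ha
  rw [Nat.card_congr (Subgroup.subgroupOfEquivOfLe hH).toEquiv, hc, hcard]
  exact Nat.pow_lt_pow_right one_lt_two (by have := D.hn; omega)

theorem cj_Ag_eq {g : G} (h : cj D.Ag g ≤ (S : Subgroup G)) : cj D.Ag g = D.Ag := by
  refine D.Ag_unique h ?_ (card_cj _ _)
  rintro _ ⟨a, ha, rfl⟩ _ ⟨b, hb, rfl⟩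
  rw [← map_mul, D.Ag_comm ha hb, map_mul]

theorem sylow_le_normalizer_Ag : (S : Subgroup G) ≤ Subgroup.normalizer (D.Ag : Set G) := fun s hs => by
  refine mem_normalizer_iff_cj.2 (D.cj_Ag_eq ?_)
  exact (cj_mono D.Ag_le s).trans (cj_eq_self_of_mem hs).le

theorem sylIn_conj_centralizer {c x g : G} (hc : c ∈ D.Zg) (hx : g * c * g⁻¹ = x) :
    SylIn 2 (cj (S : Subgroup G) g) (Subgroup.centralizer ({x} : Set G)) := by
  haveI : Fact (Nat.Prime 2) := ⟨Nat.prime_two⟩
  refine (sylIn_top_cj S g).mono ?_ le_top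
  rintro _ ⟨s, hs, rfl⟩
  rw [Subgroup.mem_centralizer_singleton_iff, ← hx]
  show g * s * g⁻¹ * (g * c * g⁻¹) = g * c * g⁻¹ * (g * s * g⁻¹)
  calc g * s * g⁻¹ * (g * c * g⁻¹) = g * (s * c) * g⁻¹ := by group
    _ = g * (c * s) * g⁻¹ := by rw [D.Zg_central hc hs]
    _ = _ := by group

/-- `N(A)` controls fusion of the elements of `A`. -/
theorem fusion_in_A {x x' : G} (hx : x ∈ D.Ag) (hx' : x' ∈ D.Ag) (hc : IsConj x x') :
    ∃ a ∈ Subgroup.normalizer (D.Ag : Set G), a * x * a⁻¹ = x' := by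
  haveI : Fact (Nat.Prime 2) := ⟨Nat.prime_two⟩
  have hL0 : ∀ c ∈ D.Zg, ∀ y ∈ D.Ag, IsConj c y →
      ∃ a ∈ Subgroup.normalizer (D.Ag : Set G), a * c * a⁻¹ = y := by
    intro c hc y hy hcy
    obtain ⟨g, hg⟩ := isConj_iff.1 hcy
    have hAC : D.Ag ≤ Subgroup.centralizer ({y} : Set G) := fun a ha =>
      Subgroup.mem_centralizer_singleton_iff.2 (D.Ag_comm ha hy)
    obtain ⟨d, hd, hdS⟩ := (D.sylIn_conj_centralizer hc hg).conj_le
      (S.isPGroup'.to_le D.Ag_le) hAC
    have h1 : cj D.Ag (g⁻¹ * d) = D.Ag := D.cj_Ag_eq (by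
      rw [← cj_cj, cj_le_iff, inv_inv]; exact hdS)
    refine ⟨(g⁻¹ * d)⁻¹, inv_mem (mem_normalizer_iff_cj.2 h1), ?_⟩
    have hd' : d * y = y * d := Subgroup.mem_centralizer_singleton_iff.1 hd
    calc (g⁻¹ * d)⁻¹ * c * (g⁻¹ * d)⁻¹⁻¹ = d⁻¹ * (g * c * g⁻¹) * d := by group
      _ = y := by rw [hg, mul_assoc, ← hd', inv_mul_cancel_left]
  by_cases hcen : ∃ c ∈ D.Zg, IsConj c x'
  · obtain ⟨c, hc', hcx'⟩ := hcen
    obtain ⟨a, ha, hax⟩ := hL0 c hc' x hx (hcx'.trans hc.symm)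
    obtain ⟨b, hb, hbx⟩ := hL0 c hc' x' hx' hcx'
    refine ⟨b * a⁻¹, mul_mem hb (inv_mem ha), ?_⟩
    calc b * a⁻¹ * x * (b * a⁻¹)⁻¹ = b * (a⁻¹ * (a * c * a⁻¹) * a) * b⁻¹ := by rw [hax]; group
      _ = x' := by rw [← hbx]; group
  have hA' : SylIn 2 D.Ag (Subgroup.centralizer ({x'} : Set G)) := by
    obtain ⟨P, hP, hle⟩ := exists_sylIn_ge (S.isPGroup'.to_le D.Ag_le)
      (H := Subgroup.centralizer ({x'} : Set G))
      (fun a ha => Subgroup.mem_centralizer_singleton_iff.2 (D.Ag_comm ha hx'))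
    obtain ⟨h, -, hh⟩ := (sylIn_top S).conj_le hP.isPGroup le_top
    have hAh : cj D.Ag h = D.Ag := D.cj_Ag_eq ((cj_mono hle h).trans hh)
    have hPA : cj P h ≤ D.Ag := by
      intro w hw
      by_contra hwA
      obtain ⟨w0, hw0⟩ : ∃ w0 : ↥(S : Subgroup G), (w0 : G) = w := ⟨⟨w, hh hw⟩, rfl⟩
      obtain ⟨x0, hx0, hx0e⟩ : h * x' * h⁻¹ ∈ D.Ag := hAh.le (conj_mem_cj hx')
      have hx0e' : (x0 : G) = h * x' * h⁻¹ := hx0e
      have hcm : (x0 : G) * w0 = w0 * x0 := by
        rw [hw0, hx0e']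
        have h1 : h⁻¹ * w * h * x' = x' * (h⁻¹ * w * h) :=
          Subgroup.mem_centralizer_singleton_iff.1 (hP.le (mem_cj.1 hw))
        calc h * x' * h⁻¹ * w = h * (x' * (h⁻¹ * w * h)) * h⁻¹ := by group
          _ = h * (h⁻¹ * w * h * x') * h⁻¹ := by rw [h1]
          _ = _ := by group
      have hz := D.mem_center_of_commute_out hx0 (b := w0)
        (fun h' => hwA (hw0 ▸ D.mem_Ag.2 h')) (Subtype.ext hcm)
      exact hcen ⟨x0, D.mem_Zg.2 hz, (isConj_iff.2 ⟨h, hx0e'.symm⟩).symm⟩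
    have hPe : P = D.Ag := by
      refine (Subgroup.eq_of_le_of_card_ge hle ?_).symm
      rw [← card_cj P h]
      exact Subgroup.card_le_of_le hPA
    exact hPe ▸ hP
  obtain ⟨g, hg⟩ := isConj_iff.1 hc
  have hgA : cj D.Ag g ≤ Subgroup.centralizer ({x'} : Set G) := by
    rintro _ ⟨a, ha, rfl⟩
    rw [Subgroup.mem_centralizer_singleton_iff, ← hg]
    show g * a * g⁻¹ * (g * x * g⁻¹) = g * x * g⁻¹ * (g * a * g⁻¹)
    calc g * a * g⁻¹ * (g * x * g⁻¹) = g * (a * x) * g⁻¹ := by group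
      _ = g * (x * a) * g⁻¹ := by rw [D.Ag_comm ha hx]
      _ = _ := by group
  obtain ⟨d, hd, hdA⟩ := hA'.conj_le (isPGroup_cj (S.isPGroup'.to_le D.Ag_le) g) hgA
  rw [cj_cj] at hdA
  refine ⟨d * g, mem_normalizer_of_cj_le hdA, ?_⟩
  have hd' : d * x' = x' * d := Subgroup.mem_centralizer_singleton_iff.1 hd
  calc d * g * x * (d * g)⁻¹ = d * (g * x * g⁻¹) * d⁻¹ := by group
    _ = x' := by rw [hg, hd', mul_inv_cancel_right]

/-- The automiser of `A`. -/
theorem A_action :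
    let N := Subgroup.normalizer (D.Ag : Set G)
    let K := Subgroup.centralizer (D.Ag : Set G)
    (K.relIndex N = 2 ∨ K.relIndex N = 6) ∧
      (K.relIndex N = 2 → ∀ a ∈ N, (∀ x ∈ D.Ag, a * x * a⁻¹ = x) ∨
        (∀ x ∈ D.Ag, a * x * a⁻¹ = (D.t : G) * x * (D.t : G)⁻¹)) ∧
      (K.relIndex N = 6 → ∃ a ∈ N, Odd (orderOf a) ∧ a * D.ug * a⁻¹ = D.eg ∧
        a * D.eg * a⁻¹ = (D.el 0 D.h : G)) ∧
      (D.FusedA → K.relIndex N = 6) := by
  intro N K
  haveI : Fact (Nat.Prime 2) := ⟨Nat.prime_two⟩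
  let e : Fin 3 → ↥(S : Subgroup G) := ![D.el D.h D.h, D.el D.h 0, D.el 0 D.h]
  let M : Fin 3 → Subgroup G := fun j => Subgroup.zpowers ((e j : G))
  have ho0h : orderOf (D.el 0 D.h) = 2 :=
    D.el_h_order (dvd_zero _) dvd_rfl fun h => D.not_N_dvd_h h.2
  have he2 : ∀ j, orderOf ((e j : G)) = 2 := fun j => by
    fin_cases j
    · exact D.orderOf_ug
    · exact D.orderOf_eg
    · rw [Subgroup.orderOf_coe]; exact ho0h
  have heA : ∀ j, ((e j : G)) ∈ D.Ag := fun j =>
    D.mem_Ag.2 (by fin_cases j <;> exact D.el_mem _ _)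
  have hcases : ∀ w ∈ D.Ag, orderOf w = 2 → ∃ j, w = (e j : G) := by
    rintro _ ⟨w, hw, rfl⟩ hw2
    rw [Subgroup.coe_subtype, Subgroup.orderOf_coe] at hw2
    rcases D.invol_cases hw2 with rfl | rfl | rfl | ⟨i, rfl⟩
    · exact ⟨1, rfl⟩
    · exact ⟨2, rfl⟩
    · exact ⟨0, rfl⟩
    · exact absurd hw (D.out_not_mem i (-i))
  have hinj : Function.Injective M := by
    intro a b hab
    have h := Subtype.ext (zpowers_eq_two (he2 a) hab (he2 b))
    have h0 : ¬ D.N ∣ D.h := D.not_N_dvd_h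
    fin_cases a <;> fin_cases b <;> simp [e, D.el_eq_iff] at h ⊢ <;> first
      | exact h0 h.1
      | exact h0 h.2
      | exact h0 h
  have hst : ∀ a ∈ N, ∀ j, ∃ k, cj (M j) a = M k := by
    intro a ha j
    obtain ⟨k, hk⟩ := hcases (a * (e j : G) * a⁻¹) ((Subgroup.mem_normalizer_iff.1 ha _).1 (heA j))
      (by rw [show a * (e j : G) * a⁻¹ = MulAut.conj a (e j : G) from rfl, MulEquiv.orderOf_eq, he2 j])
    exact ⟨k, by rw [cj_zpowers, hk]⟩
  have hKN : K ≤ N := fun a ha => mem_normalizer_of_cj_le fun w hw => by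
    have h1 := Subgroup.mem_centralizer_iff.1 ha _ (mem_cj.1 hw)
    rw [show w = a⁻¹ * w * a by
      calc w = a * (a⁻¹ * w * a) * a⁻¹ := by group
        _ = a⁻¹ * w * a := by rw [← h1, mul_inv_cancel_right]]
    exact mem_cj.1 hw
  -- elements fixing every involution of `A` centralise it
  let K0 : Subgroup G := N ⊓ Subgroup.centralizer (Set.range fun j => (e j : G))
  have hK0A : SylIn 2 D.Ag K0 := by
    have hle : D.Ag ≤ K0 := le_inf Subgroup.le_normalizer fun a ha =>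
      Subgroup.mem_centralizer_iff.2 (by rintro _ ⟨j, rfl⟩; exact D.Ag_comm (heA j) ha)
    obtain ⟨P, hP, hAP⟩ := exists_sylIn_ge (S.isPGroup'.to_le D.Ag_le) hle
    obtain ⟨h, -, hh⟩ := (sylIn_top S).conj_le hP.isPGroup le_top
    have hAh : cj D.Ag h = D.Ag := D.cj_Ag_eq ((cj_mono hAP h).trans hh)
    have hPA : cj P h ≤ D.Ag := by
      intro w hw
      by_contra hwA
      obtain ⟨w0, hw0⟩ : ∃ w0 : ↥(S : Subgroup G), (w0 : G) = w := ⟨⟨w, hh hw⟩, rfl⟩
      obtain ⟨-, hwc⟩ := Subgroup.mem_inf.1 (hP.le (mem_cj.1 hw))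
      obtain ⟨k, hk⟩ := hcases (h⁻¹ * (e 1 : G) * h) (mem_cj.1 (hAh.ge (heA 1))) (by
        rw [show h⁻¹ * (e 1 : G) * h = MulAut.conj h⁻¹ (e 1 : G) by simp, MulEquiv.orderOf_eq, he2 1])
      have hcm : (e 1 : G) * w = w * (e 1 : G) := by
        have h1 := Subgroup.mem_centralizer_iff.1 hwc _ ⟨k, hk.symm⟩
        rw [hk] at h1
        calc (e 1 : G) * w = h * ((h⁻¹ * (e 1 : G) * h) * (h⁻¹ * w * h)) * h⁻¹ := by group
          _ = h * ((h⁻¹ * w * h) * (h⁻¹ * (e 1 : G) * h)) * h⁻¹ := by rw [hk, h1]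
          _ = _ := by group
      exact D.el_h_not_center (D.mem_center_of_commute_out (D.el_mem D.h 0) (b := w0)
        (fun h' => hwA (hw0 ▸ D.mem_Ag.2 h')) (Subtype.ext (by rw [← hw0] at hcm; exact hcm)))
    have hPe : P = D.Ag := by
      refine (Subgroup.eq_of_le_of_card_ge hAP ?_).symm
      rw [← card_cj P h]
      exact Subgroup.card_le_of_le hPA
    exact hPe ▸ hP
  have hker : ∀ a ∈ N, a ∈ K ↔ ∀ j, cj (M j) a = M j := by
    intro a ha
    constructor
    · intro haK j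
      rw [cj_zpowers, ← Subgroup.mem_centralizer_iff.1 haK _ (heA j), mul_inv_cancel_right]
    · intro hfix
      have haK0 : a ∈ K0 := Subgroup.mem_inf.2 ⟨ha, Subgroup.mem_centralizer_iff.2 (by
        rintro _ ⟨j, rfl⟩
        have h1 := hfix j
        rw [cj_zpowers] at h1
        exact (mul_inv_eq_iff_eq_mul.1 (zpowers_eq_two (by
          rw [show a * (e j : G) * a⁻¹ = MulAut.conj a (e j : G) from rfl, MulEquiv.orderOf_eq, he2 j])
          h1 (he2 j))).symm)⟩
      refine Subgroup.mem_centralizer_iff.2 fun x hx => (normalizer_centralizes hK0A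
        (y := x) (fun b hb => D.Ag_comm hb hx) (fun b hb ho => ?_) a haK0).symm
      obtain ⟨hbN, hbc⟩ := Subgroup.mem_inf.1 hb
      refine odd_centralizes_of_fix_invol (S.isPGroup'.to_le D.Ag_le) (fun p hp q hq => D.Ag_comm hp hq)
        hbN ho (fun v hv hv2 => ?_) x hx
      by_cases hv1 : v = 1
      · simp [hv1]
      obtain ⟨k, rfl⟩ := hcases v hv (orderOf_eq_prime hv2 hv1)
      exact (Subgroup.mem_centralizer_iff.1 hbc _ ⟨k, rfl⟩).symm
  have htN : (D.t : G) ∈ N := D.sylow_le_normalizer_Ag D.t.2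
  have htc : ∀ k l : ℤ, (D.t : G) * (D.el k l : G) * (D.t : G)⁻¹ = (D.el l k : G) := fun k l => by
    rw [← Subgroup.coe_inv, ← Subgroup.coe_mul, ← Subgroup.coe_mul, D.t_mul_el, mul_inv_cancel_right]
  obtain ⟨hA, hB, hC⟩ := three_action hinj hst hKN hker htN
    (by rw [cj_zpowers]; exact congrArg Subgroup.zpowers (htc D.h D.h))
    (by rw [cj_zpowers]; exact congrArg Subgroup.zpowers (htc D.h 0))
  refine ⟨hA, fun h2 a ha => ?_, fun h6 => ?_, fun hf => ?_⟩
  · rcases (hB h2 a ha).2 with h | h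
    · exact Or.inl fun x hx => by rw [← Subgroup.mem_centralizer_iff.1 h x hx, mul_inv_cancel_right]
    · refine Or.inr fun x hx => ?_
      have hx' : (D.t : G) * x * (D.t : G)⁻¹ ∈ D.Ag :=
        (Subgroup.mem_normalizer_iff.1 htN x).1 hx
      have h1 := Subgroup.mem_centralizer_iff.1 h _ hx'
      have htt : (D.t : G) * (D.t : G) = 1 := congrArg Subtype.val D.t_sq
      have ht' : (D.t : G)⁻¹ = (D.t : G) := inv_eq_of_mul_eq_one_right htt
      calc a * x * a⁻¹ = (a * (D.t : G)) * ((D.t : G) * x * (D.t : G)⁻¹) * (a * (D.t : G))⁻¹ := by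
            rw [ht']
            simp only [mul_inv_rev, ht', mul_assoc]
            rw [← mul_assoc (D.t : G) (D.t : G), htt, one_mul, ← mul_assoc (D.t : G) (D.t : G), htt,
              one_mul]
        _ = _ := by rw [← h1, mul_inv_cancel_right]
  · obtain ⟨a, ha, hao, h0, h1, -⟩ := hC h6
    refine ⟨a, ha, hao, ?_, ?_⟩
    · refine zpowers_eq_two ?_ (by rw [← cj_zpowers]; exact h0) D.orderOf_eg
      rw [show a * D.ug * a⁻¹ = MulAut.conj a D.ug from rfl, MulEquiv.orderOf_eq, D.orderOf_ug]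
    · refine zpowers_eq_two ?_ (by rw [← cj_zpowers]; exact h1) (he2 2)
      rw [show a * D.eg * a⁻¹ = MulAut.conj a D.eg from rfl, MulEquiv.orderOf_eq, D.orderOf_eg]
  · refine hA.resolve_left fun h2 => ?_
    obtain ⟨a, ha, hae⟩ := D.fusion_in_A (heA 0) (heA 1) hf
    have h0 := (hB h2 a ha).1
    rw [cj_zpowers, hae] at h0
    exact absurd (hinj h0) (by decide)

theorem E_invol_cases {i : ℤ} {s : ↥(S : Subgroup G)} (hs : s ∈ D.E i) (hs2 : orderOf s = 2)
    (hsZ : s ∉ Subgroup.center (S : Subgroup G)) :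
    (s = D.el D.h 0 ∨ s = D.el 0 D.h) ∨
      (s = D.el i (-i) * D.t ∨ s = D.el i (-i) * D.t * D.el D.h D.h) ∨
      (s = D.el (i - D.q4) (-(i - D.q4)) * D.t ∨
        s = D.el (i - D.q4) (-(i - D.q4)) * D.t * D.el D.h D.h) := by
  rcases D.invol_cases hs2 with rfl | rfl | rfl | ⟨k, rfl⟩
  · exact Or.inl (Or.inl rfl)
  · exact Or.inl (Or.inr rfl)
  · exact absurd (D.diag_central _) hsZ
  right
  have h1 := D.out_mem_E.1 hs
  rw [show k - -k - 2 * i = 2 * (k - i) by ring, ← D.two_q4, mul_dvd_mul_iff_left two_ne_zero] at h1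
  obtain ⟨c, hc⟩ := h1
  have key : ∀ k' : ℤ, D.h ∣ k - k' → D.el k (-k) * D.t = D.el k' (-k') * D.t ∨
      D.el k (-k) * D.t = D.el k' (-k') * D.t * D.el D.h D.h := by
    intro k' hk
    refine D.refl_commute ?_
    have : D.N ∣ 2 * (k - k') := by rw [D.N_eq]; exact mul_dvd_mul_left 2 hk
    rw [Commute, SemiconjBy, D.out_mul_out, D.out_mul_out, D.el_eq_iff]
    exact ⟨by rw [show k + -k' - (k' + -k) = 2 * (k - k') by ring]; exact this,
      by rw [show -k + k' - (-k' + k) = -(2 * (k - k')) by ring]; exact this.neg_right⟩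
  rcases Int.even_or_odd c with ⟨d, rfl⟩ | ⟨d, rfl⟩
  · exact Or.inl (key i ⟨d, by rw [hc, ← D.two_q4]; ring⟩)
  · exact Or.inr (key (i - D.q4) ⟨d + 1, by
      rw [show k - (i - D.q4) = (k - i) + D.q4 by ring, hc, ← D.two_q4]; ring⟩)

theorem el_refl_not_commute (i : ℤ) : ¬ Commute (D.el D.h 0) (D.el i (-i) * D.t) := by
  rw [D.commute_out_el]; simpa using D.not_N_dvd_h

theorem E_center {i : ℤ} {s : ↥(S : Subgroup G)} (hs : s ∈ D.E i)
    (he : Commute s (D.el D.h 0)) (hf : Commute s (D.el i (-i) * D.t)) :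
    s ∈ Subgroup.center (S : Subgroup G) := by
  rcases hs with ⟨k, l, -, rfl⟩ | ⟨k, l, -, rfl⟩
  · exact D.mem_center_of_commute_out (D.el_mem k l) (D.out_not_mem i (-i)) hf
  · exact absurd (D.mem_center_of_commute_out (D.el_mem D.h 0) (D.out_not_mem k l) he.symm)
      D.el_h_not_center

theorem cj_centralizer_inf (E : Subgroup G) (x a : G) (ha : a ∈ Subgroup.normalizer (E : Set G)) :
    cj (E ⊓ Subgroup.centralizer ({x} : Set G)) a =
      E ⊓ Subgroup.centralizer ({a * x * a⁻¹} : Set G) := by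
  ext w
  rw [mem_cj, Subgroup.mem_inf, Subgroup.mem_inf, Subgroup.mem_centralizer_singleton_iff,
    Subgroup.mem_centralizer_singleton_iff]
  refine and_congr ?_ ?_
  · rw [← mem_cj, cj_eq_self ha]
  · constructor
    · intro h
      calc w * (a * x * a⁻¹) = a * (a⁻¹ * w * a * x) * a⁻¹ := by group
        _ = a * (x * (a⁻¹ * w * a)) * a⁻¹ := by rw [h]
        _ = _ := by group
    · intro h
      calc a⁻¹ * w * a * x = a⁻¹ * (w * (a * x * a⁻¹)) * a := by group
        _ = a⁻¹ * (a * x * a⁻¹ * w) * a := by rw [h]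
        _ = _ := by group

theorem normalizer_Eg_fixes_Zg {i : ℤ} {a : G} (ha : a ∈ Subgroup.normalizer (D.Eg i : Set G))
    {z : G} (hz : z ∈ D.Zg) : a * z = z * a := by
  haveI : Fact (Nat.Prime 2) := ⟨Nat.prime_two⟩
  have hZE : D.Zg ≤ D.Eg i := Subgroup.map_mono (D.center_le_E i)
  have hnorm : ∀ b ∈ Subgroup.normalizer (D.Eg i : Set G), ∀ w ∈ D.Zg, b * w * b⁻¹ ∈ D.Zg := by
    intro b hb w hw
    obtain ⟨s, hs, hse⟩ : b * w * b⁻¹ ∈ D.Eg i := (Subgroup.mem_normalizer_iff.1 hb w).1 (hZE hw)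
    have hse' : (s : G) = b * w * b⁻¹ := hse
    have hcomm : ∀ x ∈ D.Eg i, Commute (b * w * b⁻¹) x := by
      intro x hx
      have hx' : b⁻¹ * x * b ∈ D.Eg i := by
        rw [← mem_cj, cj_eq_self hb]; exact hx
      have := D.Zg_central hw (D.Eg_le i hx')
      calc b * w * b⁻¹ * x = b * (w * (b⁻¹ * x * b)) * b⁻¹ := by group
        _ = b * (b⁻¹ * x * b * w) * b⁻¹ := by rw [this]
        _ = _ := by group
    rw [← hse']
    exact D.mem_Zg.2 (D.E_center hs
      (Subtype.ext (by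
        have := hcomm _ (D.mem_Eg.2 (D.el_h_mem_E i)); rw [← hse'] at this; exact this))
      (Subtype.ext (by
        have := hcomm _ (D.mem_Eg.2 (D.refl_mem_E i)); rw [← hse'] at this; exact this)))
  obtain ⟨P, hP⟩ := exists_sylIn (p := 2) (Subgroup.normalizer (D.Eg i : Set G))
  obtain ⟨R, hR, hER⟩ := exists_sylIn_ge (S.isPGroup'.to_le (D.Eg_le i))
    (H := Subgroup.normalizer (D.Eg i : Set G)) Subgroup.le_normalizer
  refine normalizer_centralizes hR (fun b hb => ?_) (fun b hb ho => ?_) a ha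
  · obtain ⟨h, -, hh⟩ := (sylIn_top S).conj_le hR.isPGroup le_top
    set E'' := (cj (D.Eg i) h).subgroupOf (S : Subgroup G) with hE''
    have hle : cj (D.Eg i) h ≤ (S : Subgroup G) := (cj_mono hER h).trans hh
    have hnc : ¬ IsMulCommutative E'' := by
      intro hc
      have h1 := hc.is_comm.comm ⟨⟨_, hle (conj_mem_cj (D.mem_Eg.2 (D.el_h_mem_E i)))⟩,
          conj_mem_cj (D.mem_Eg.2 (D.el_h_mem_E i))⟩
        ⟨⟨_, hle (conj_mem_cj (D.mem_Eg.2 (D.refl_mem_E i)))⟩, conj_mem_cj (D.mem_Eg.2 (D.refl_mem_E i))⟩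
      have h2 : h * (D.el D.h 0 : G) * h⁻¹ * (h * ((D.el i (-i) * D.t : ↥(S : Subgroup G)) : G) * h⁻¹) =
          h * ((D.el i (-i) * D.t : ↥(S : Subgroup G)) : G) * h⁻¹ * (h * (D.el D.h 0 : G) * h⁻¹) :=
        congrArg (fun t => ((t : E'') : ↥(S : Subgroup G)).1) h1
      refine D.el_refl_not_commute i (Subtype.ext ?_)
      have h3 := congrArg (fun t => h⁻¹ * t * h) h2
      simpa [mul_assoc] using h3
    have hwS : h * z * h⁻¹ ∈ (S : Subgroup G) := hle (conj_mem_cj (hZE hz))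
    have hmem : (⟨h * z * h⁻¹, hwS⟩ : ↥(S : Subgroup G)) ∈ (Subgroup.center E'').map E''.subtype := by
      refine ⟨⟨⟨h * z * h⁻¹, hwS⟩, conj_mem_cj (hZE hz)⟩, Subgroup.mem_center_iff.2 fun x => ?_, rfl⟩
      refine Subtype.ext (Subtype.ext ?_)
      show ((x : ↥(S : Subgroup G)) : G) * (h * z * h⁻¹) = h * z * h⁻¹ * ((x : ↥(S : Subgroup G)) : G)
      have hx : h⁻¹ * ((x : ↥(S : Subgroup G)) : G) * h ∈ D.Eg i := mem_cj.1 x.2
      have := D.Zg_central hz (D.Eg_le i hx)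
      calc _ = h * (h⁻¹ * ((x : ↥(S : Subgroup G)) : G) * h * z) * h⁻¹ := by group
        _ = h * (z * (h⁻¹ * ((x : ↥(S : Subgroup G)) : G) * h)) * h⁻¹ := by rw [this]
        _ = _ := by group
    have hcen := Cfsg.Agent.S1201.result
      ⟨n, D.hn, D.hcard, D.x, D.y, D.t, D.ox, D.comm, D.disj, D.ot, D.rel⟩ E'' hnc hmem
    have h1 : h * b * h⁻¹ * (h * z * h⁻¹) = h * z * h⁻¹ * (h * b * h⁻¹) :=
      congrArg Subtype.val (Subgroup.mem_center_iff.1 hcen ⟨_, hh (conj_mem_cj hb)⟩)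
    calc b * z = h⁻¹ * (h * b * h⁻¹ * (h * z * h⁻¹)) * h := by group
      _ = z * b := by rw [h1]; group
  · refine odd_centralizes_of_fix_invol (S.isPGroup'.to_le D.Zg_le)
      (fun p hp q hq => D.Zg_central hq (D.Zg_le hp)) ?_ ho (fun v hv hv2 => ?_) z hz
    · refine mem_normalizer_of_cj_le fun w hw => ?_
      have := hnorm b hb _ (mem_cj.1 hw)
      rwa [show b * (b⁻¹ * w * b) * b⁻¹ = w by group] at this
    · by_cases hv1 : v = 1
      · simp [hv1]
      have key : ∀ w ∈ D.Zg, orderOf w = 2 → w = D.ug := by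
        rintro _ ⟨w, hw, rfl⟩ hw2
        rw [Subgroup.coe_subtype, Subgroup.orderOf_coe] at hw2
        exact congrArg Subtype.val (D.center_invol hw hw2)
      have hv2' := orderOf_eq_prime hv2 hv1
      refine mul_inv_eq_iff_eq_mul.1 ((key _ (hnorm b hb v hv) ?_).trans (key v hv hv2').symm)
      rw [show b * v * b⁻¹ = MulAut.conj b v from rfl, MulEquiv.orderOf_eq, hv2']

/-- The automiser of `Q * Z(S)`. -/
theorem E_action (i : ℤ) :
    let N := Subgroup.normalizer (D.Eg i : Set G)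
    let K := D.Eg i ⊔ Subgroup.centralizer (D.Eg i : Set G)
    (K.relIndex N = 2 ∨ K.relIndex N = 6) ∧
      (K.relIndex N = 2 → ∀ a ∈ N, ¬ IsConj D.eg (D.fg i) ∨
        a * D.fg i * a⁻¹ ∉ ({D.eg, (D.el 0 D.h : G)} : Set G)) ∧
      (K.relIndex N = 6 → ∃ a ∈ N, Odd (orderOf a) ∧
        cj (D.Eg i ⊓ Subgroup.centralizer ({D.eg} : Set G)) a =
          D.Eg i ⊓ Subgroup.centralizer ({D.fg i} : Set G) ∧
        cj (D.Eg i ⊓ Subgroup.centralizer ({D.fg i} : Set G)) a =
          D.Eg i ⊓ Subgroup.centralizer ({D.fg (i - D.q4)} : Set G) ∧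
        (a * D.eg * a⁻¹ = D.fg i ∨ a * D.eg * a⁻¹ = D.fg (i + D.h))) ∧
      ((∃ a ∈ N, a * D.fg i * a⁻¹ ∈ ({D.eg, (D.el 0 D.h : G)} : Set G)) → K.relIndex N = 6) := by
  intro N K
  haveI : Fact (Nat.Prime 2) := ⟨Nat.prime_two⟩
  let x : Fin 3 → ↥(S : Subgroup G) := ![D.el D.h 0, D.el i (-i) * D.t,
    D.el (i - D.q4) (-(i - D.q4)) * D.t]
  let M : Fin 3 → Subgroup G := fun j => D.Eg i ⊓ Subgroup.centralizer ({(x j : G)} : Set G)
  have hxE : ∀ j, x j ∈ D.E i := fun j => by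
    fin_cases j
    · exact D.el_h_mem_E i
    · exact D.refl_mem_E i
    · refine D.out_mem_E.2 ⟨-1, ?_⟩
      rw [← D.two_q4]; ring
  have hx2 : ∀ j, orderOf (x j) = 2 := fun j => by
    fin_cases j
    · exact D.el_h_order dvd_rfl (dvd_zero _) fun h => D.not_N_dvd_h h.1
    · exact D.outer_invol i
    · exact D.outer_invol _
  have hxZ : ∀ j, x j ∉ Subgroup.center (S : Subgroup G) := fun j => by
    fin_cases j
    · exact D.el_h_not_center
    · exact fun h => D.out_not_mem _ _ (D.center_le_A h)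
    · exact fun h => D.out_not_mem _ _ (D.center_le_A h)
  have hclass : ∀ s ∈ D.E i, orderOf s = 2 → s ∉ Subgroup.center (S : Subgroup G) →
      ∃ j, s = x j ∨ s = x j * D.el D.h D.h := by
    intro s hs h2 hZ
    rcases D.E_invol_cases hs h2 hZ with (h | h) | (h | h) | (h | h)
    · exact ⟨0, Or.inl h⟩
    · exact ⟨0, Or.inr (h.trans D.el_zero_h)⟩
    · exact ⟨1, Or.inl h⟩
    · exact ⟨1, Or.inr h⟩
    · exact ⟨2, Or.inl h⟩
    · exact ⟨2, Or.inr h⟩
  have hMu : ∀ (s : ↥(S : Subgroup G)) j, s = x j ∨ s = x j * D.el D.h D.h →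
      D.Eg i ⊓ Subgroup.centralizer ({(s : G)} : Set G) = M j := by
    rintro s j (rfl | rfl)
    · rfl
    · ext w
      simp only [M, Subgroup.mem_inf, Subgroup.mem_centralizer_singleton_iff]
      refine and_congr_right fun hw => ?_
      have hu : w * D.ug = D.ug * w := D.Zg_central (D.mem_Zg.2 (D.diag_central D.h)) (D.Eg_le i hw)
      rw [Subgroup.coe_mul]
      constructor
      · intro h
        refine mul_right_cancel (b := D.ug) ?_
        calc w * (x j : G) * D.ug = w * ((x j : G) * D.ug) := by group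
          _ = (x j : G) * D.ug * w := h
          _ = (x j : G) * w * D.ug := by rw [mul_assoc, ← hu, ← mul_assoc]
      · intro h
        calc w * ((x j : G) * (D.el D.h D.h : G)) = (x j : G) * w * D.ug := by
              rw [← mul_assoc, h]; rfl
          _ = _ := by rw [mul_assoc, hu, ← mul_assoc]; rfl
  have hnc : ∀ a b, a ≠ b → ¬ Commute (x a) (x b) := by
    have h12 : ¬ Commute (D.el i (-i) * D.t) (D.el (i - D.q4) (-(i - D.q4)) * D.t) := by
      intro h
      have h1 := h.eq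
      rw [D.out_mul_out, D.out_mul_out, D.el_eq_iff] at h1
      have h2 := h1.1
      rw [show i + -(i - D.q4) - (i - D.q4 + -i) = 2 * D.q4 by ring, D.two_q4] at h2
      exact D.not_N_dvd_h h2
    intro a b hab
    fin_cases a <;> fin_cases b <;> first
      | exact absurd rfl hab
      | exact D.el_refl_not_commute _
      | exact fun h => D.el_refl_not_commute _ h.symm
      | exact h12
      | exact fun h => h12 h.symm
  have hMinj : Function.Injective M := by
    intro a b hab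
    by_contra hne
    have h1 : (x a : G) ∈ M a :=
      Subgroup.mem_inf.2 ⟨D.mem_Eg.2 (hxE a), Subgroup.mem_centralizer_singleton_iff.2 rfl⟩
    rw [hab] at h1
    exact hnc a b hne (Subtype.ext
      (Subgroup.mem_centralizer_singleton_iff.1 (Subgroup.mem_inf.1 h1).2))
  have himg : ∀ a ∈ N, ∀ j, ∃ s : ↥(S : Subgroup G), (s : G) = a * (x j : G) * a⁻¹ ∧ s ∈ D.E i ∧
      orderOf s = 2 ∧ s ∉ Subgroup.center (S : Subgroup G) := by
    intro a ha j
    obtain ⟨s, hs, hse⟩ : a * (x j : G) * a⁻¹ ∈ D.Eg i :=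
      (Subgroup.mem_normalizer_iff.1 ha _).1 (D.mem_Eg.2 (hxE j))
    refine ⟨s, hse, hs, ?_, fun hZ => hxZ j ?_⟩
    · rw [← Subgroup.orderOf_coe, show (s : G) = MulAut.conj a (x j : G) from hse, MulEquiv.orderOf_eq,
        Subgroup.orderOf_coe, hx2 j]
    · refine D.mem_Zg.1 ?_
      have h1 := D.normalizer_Eg_fixes_Zg ha (D.mem_Zg.2 hZ)
      rw [show (x j : G) = a⁻¹ * ((s : G) * a) by
        rw [show (s : G) = a * (x j : G) * a⁻¹ from hse]; group, ← h1, inv_mul_cancel_left]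
      exact D.mem_Zg.2 hZ
  have hst : ∀ a ∈ N, ∀ j, ∃ k, cj (M j) a = M k := by
    intro a ha j
    obtain ⟨s, hse, hs, h2, hZ⟩ := himg a ha j
    obtain ⟨k, hk⟩ := hclass s hs h2 hZ
    exact ⟨k, by rw [D.cj_centralizer_inf _ _ _ ha, ← hse]; exact hMu s k hk⟩
  have hKN : K ≤ N := sup_le Subgroup.le_normalizer fun a ha =>
    mem_normalizer_of_cj_le fun w hw => by
      have h1 := Subgroup.mem_centralizer_iff.1 ha _ (mem_cj.1 hw)
      rw [show w = a⁻¹ * w * a by
        calc w = a * (a⁻¹ * w * a) * a⁻¹ := by group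
          _ = a⁻¹ * w * a := by rw [← h1, mul_inv_cancel_right]]
      exact mem_cj.1 hw
  have hfix : ∀ a ∈ N, ∀ j, cj (M j) a = M j →
      a * (x j : G) * a⁻¹ = (x j : G) ∨ a * (x j : G) * a⁻¹ = (x j : G) * D.ug := by
    intro a ha j hj
    obtain ⟨s, hse, hs, h2, hZ⟩ := himg a ha j
    obtain ⟨k, hk⟩ := hclass s hs h2 hZ
    have : k = j := hMinj (by
      rw [← hMu s k hk, hse, ← D.cj_centralizer_inf _ _ _ ha]; exact hj)
    subst this
    rw [← hse]
    rcases hk with h | h <;> rw [h]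
    · exact Or.inl rfl
    · exact Or.inr rfl
  have hef : ∀ p q : ↥(S : Subgroup G), p * q * p⁻¹ = q * D.el D.h D.h →
      (p : G) * q * (p : G)⁻¹ = (q : G) * D.ug := fun p q h => congrArg Subtype.val h
  have hfe : (x 1 : G) * (x 0 : G) * (x 1 : G)⁻¹ = (x 0 : G) * D.ug :=
    hef _ _ ((D.conj_el_h i (-i)).trans D.el_zero_h)
  have hef' : (x 0 : G) * (x 1 : G) * (x 0 : G)⁻¹ = (x 1 : G) * D.ug :=
    hef _ _ ((D.conj_refl_el i D.h).trans (D.refl_add_h i))
  have hker : ∀ a ∈ N, a ∈ K ↔ ∀ j, cj (M j) a = M j := by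
    intro a ha
    constructor
    · intro haK j
      suffices hK : K ≤ Subgroup.normalizer (M j : Set G) from cj_eq_self (hK haK)
      refine sup_le ?_ fun b hb => mem_normalizer_iff_cj.2 ?_
      · intro b hb
        obtain ⟨b, hbE, rfl⟩ := hb
        refine mem_normalizer_iff_cj.2 ?_
        show cj (M j) (b : G) = M j
        rw [D.cj_centralizer_inf _ _ _ (Subgroup.le_normalizer (D.mem_Eg.2 hbE))]
        refine hMu (b * x j * b⁻¹) j ?_
        obtain ⟨z, hz, hb'⟩ := D.E_cases hbE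
        have hzc : ∀ p : ↥(S : Subgroup G), (z * p) * x j * (z * p)⁻¹ = p * x j * p⁻¹ := fun p => by
          rw [mul_inv_rev, mul_assoc z p (x j), ← mul_assoc, mul_assoc z (p * x j) p⁻¹,
            ← Subgroup.mem_center_iff.1 hz (p * x j * p⁻¹), mul_inv_cancel_right]
        have hgen : ∀ p, p = D.el D.h 0 ∨ p = D.el i (-i) * D.t →
            p * x j * p⁻¹ = x j ∨ p * x j * p⁻¹ = x j * D.el D.h D.h := by
          have hu2 : D.el D.h D.h * D.el D.h D.h = 1 := invol_mul_self D.orderOf_u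
          rintro p (rfl | rfl) <;> fin_cases j
          · exact Or.inl (mul_inv_cancel_right _ _)
          · exact Or.inr ((D.conj_refl_el i D.h).trans (D.refl_add_h i))
          · exact Or.inr ((D.conj_refl_el _ D.h).trans (D.refl_add_h _))
          · exact Or.inr ((D.conj_el_h i (-i)).trans D.el_zero_h)
          · exact Or.inl (mul_inv_cancel_right _ _)
          · right
            show D.el i (-i) * D.t * (D.el (i - D.q4) (-(i - D.q4)) * D.t) * (D.el i (-i) * D.t)⁻¹ =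
              D.el (i - D.q4) (-(i - D.q4)) * D.t * D.el D.h D.h
            rw [← D.refl_add_h, mul_inv_rev, D.t_inv, D.el_inv, D.out_mul_out, ← mul_assoc,
              mul_assoc (D.el _ _) D.t (D.el _ _), D.t_mul_el,
              ← mul_assoc, D.el_mul, mul_left_inj, D.el_eq_iff]
            constructor
            · refine ⟨0, ?_⟩; rw [← D.two_q4]; ring
            · refine ⟨0, ?_⟩; rw [← D.two_q4]; ring
        rcases hb' with rfl | rfl | rfl | rfl
        · left
          rw [← Subgroup.mem_center_iff.1 hz (x j), mul_inv_cancel_right]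
        · rw [hzc]; exact hgen _ (Or.inl rfl)
        · rw [hzc]; exact hgen _ (Or.inr rfl)
        · rw [hzc]
          have hd : D.el D.h 0 * (D.el i (-i) * D.t) * x j * (D.el D.h 0 * (D.el i (-i) * D.t))⁻¹ =
              D.el D.h 0 * ((D.el i (-i) * D.t) * x j * (D.el i (-i) * D.t)⁻¹) * (D.el D.h 0)⁻¹ := by
            group
          rw [hd]
          have hu' : D.el D.h 0 * D.el D.h D.h * (D.el D.h 0)⁻¹ = D.el D.h D.h := by
            rw [Subgroup.mem_center_iff.1 (D.diag_central D.h), mul_inv_cancel_right]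
          rcases hgen _ (Or.inr rfl) with h1 | h1 <;> rw [h1]
          · exact hgen _ (Or.inl rfl)
          · rw [← conj_mul, hu']
            rcases hgen _ (Or.inl rfl) with h2 | h2 <;> rw [h2]
            · exact Or.inr rfl
            · left; rw [mul_assoc, invol_mul_self D.orderOf_u, mul_one]
      · rw [D.cj_centralizer_inf _ _ _ (hKN (Subgroup.mem_sup_right hb)),
          ← Subgroup.mem_centralizer_iff.1 hb _ (D.mem_Eg.2 (hxE j)), mul_inv_cancel_right]
    · intro hfx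
      obtain ⟨q, hq, hq0, hq1⟩ : ∃ q ∈ D.Eg i, q * a * (x 0 : G) * (q * a)⁻¹ = (x 0 : G) ∧
          q * a * (x 1 : G) * (q * a)⁻¹ = (x 1 : G) := by
        have hd : ∀ q b : G, q * a * b * (q * a)⁻¹ = q * (a * b * a⁻¹) * q⁻¹ := fun q b => by group
        have hu : ∀ q ∈ D.Eg i, q * D.ug * q⁻¹ = D.ug := fun q hq => by
          rw [show q * D.ug = D.ug * q from D.Zg_central (D.mem_Zg.2 (D.diag_central D.h)) (D.Eg_le i hq),
            mul_inv_cancel_right]
        have hu2 : D.ug * D.ug = 1 := invol_mul_self D.orderOf_ug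
        simp only [hd]
        have h0 := D.mem_Eg.2 (hxE 0)
        have h1 := D.mem_Eg.2 (hxE 1)
        rcases hfix a ha 0 (hfx 0) with p0 | p0 <;> rcases hfix a ha 1 (hfx 1) with p1 | p1 <;>
          rw [p0, p1]
        · exact ⟨1, one_mem _, by simp, by simp⟩
        · refine ⟨_, h0, by rw [mul_inv_cancel_right], ?_⟩
          rw [← conj_mul, hu _ h0, hef', mul_assoc, hu2, mul_one]
        · refine ⟨_, h1, ?_, by rw [mul_inv_cancel_right]⟩
          rw [← conj_mul, hu _ h1, hfe, mul_assoc, hu2, mul_one]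
        · refine ⟨_, mul_mem h0 h1, ?_, ?_⟩
          · rw [show (x 0 : G) * (x 1 : G) * ((x 0 : G) * D.ug) * ((x 0 : G) * (x 1 : G))⁻¹ =
              (x 0 : G) * ((x 1 : G) * ((x 0 : G) * D.ug) * (x 1 : G)⁻¹) * (x 0 : G)⁻¹ by group,
              ← conj_mul (b := (x 1 : G)), hu _ h1, hfe, mul_assoc _ D.ug D.ug, hu2, mul_one, mul_inv_cancel_right]
          · rw [show (x 0 : G) * (x 1 : G) * ((x 1 : G) * D.ug) * ((x 0 : G) * (x 1 : G))⁻¹ =
              (x 0 : G) * ((x 1 : G) * ((x 1 : G) * D.ug) * (x 1 : G)⁻¹) * (x 0 : G)⁻¹ by group,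
              ← conj_mul (b := (x 1 : G)), hu _ h1, mul_inv_cancel_right, ← conj_mul, hu _ h0, hef', mul_assoc, hu2, mul_one]
      have hqa : q * a ∈ Subgroup.centralizer (D.Eg i : Set G) := by
        refine Subgroup.mem_centralizer_iff.2 ?_
        rintro _ ⟨s, hs, rfl⟩
        obtain ⟨z, hz, hs'⟩ := D.E_cases hs
        have hzq : Commute (z : G) (q * a) :=
          (D.normalizer_Eg_fixes_Zg (mul_mem (Subgroup.le_normalizer hq) ha) (D.mem_Zg.2 hz)).symm
        have c0 : Commute (x 0 : G) (q * a) := (mul_inv_eq_iff_eq_mul.1 hq0).symm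
        have c1 : Commute (x 1 : G) (q * a) := (mul_inv_eq_iff_eq_mul.1 hq1).symm
        show Commute (s : G) (q * a)
        rcases hs' with rfl | rfl | rfl | rfl
        · exact hzq
        · exact hzq.mul_left c0
        · exact hzq.mul_left c1
        · exact hzq.mul_left (c0.mul_left c1)
      rw [show a = q⁻¹ * (q * a) by group]
      exact mul_mem (Subgroup.mem_sup_left (inv_mem hq)) (Subgroup.mem_sup_right hqa)
  have hsN : (D.el (-D.q4) 0 : G) ∈ N := by
    refine mem_normalizer_of_cj_le ?_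
    rintro _ ⟨_, ⟨s, hs, rfl⟩, rfl⟩
    show ((D.el (-D.q4) 0 * s * (D.el (-D.q4) 0)⁻¹ : ↥(S : Subgroup G)) : G) ∈ D.Eg i
    refine D.mem_Eg.2 ?_
    rcases hs with ⟨k, l, hkl, rfl⟩ | ⟨k, l, hkl, rfl⟩
    · rw [D.A_comm (D.el_mem _ _) (D.el_mem k l), mul_inv_cancel_right]; exact D.el_mem_E.2 hkl
    · rw [D.conj_out]
      refine D.out_mem_E.2 ?_
      rw [show k + -D.q4 - 0 - (l + 0 - -D.q4) - 2 * i = (k - l - 2 * i) - 2 * D.q4 by ring, D.two_q4]
      exact dvd_sub hkl dvd_rfl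
  have hs0 : cj (M 0) (D.el (-D.q4) 0 : G) = M 0 := by
    rw [D.cj_centralizer_inf _ _ _ hsN]
    refine hMu (D.el (-D.q4) 0 * x 0 * (D.el (-D.q4) 0)⁻¹) 0 (Or.inl ?_)
    rw [D.A_comm (D.el_mem _ _) (show x 0 ∈ D.A from D.el_mem _ _), mul_inv_cancel_right]
  have hs1 : cj (M 1) (D.el (-D.q4) 0 : G) = M 2 := by
    rw [D.cj_centralizer_inf _ _ _ hsN]
    refine hMu (D.el (-D.q4) 0 * x 1 * (D.el (-D.q4) 0)⁻¹) 2 (Or.inl ?_)
    exact (D.conj_refl_el i (-D.q4)).trans rfl
  obtain ⟨hA, hB, hC⟩ := three_action hMinj hst hKN hker hsN hs0 hs1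
  have hnot : ∀ a ∈ N, a * D.fg i * a⁻¹ ∈ ({D.eg, (D.el 0 D.h : G)} : Set G) → cj (M 1) a = M 0 := by
    intro a ha h
    rw [D.cj_centralizer_inf _ _ _ ha]
    rcases h with h | h
    · exact (congrArg (fun w => D.Eg i ⊓ Subgroup.centralizer ({w} : Set G)) h).trans
        (hMu (D.el D.h 0) 0 (Or.inl rfl))
    · exact (congrArg (fun w => D.Eg i ⊓ Subgroup.centralizer ({w} : Set G)) h).trans
        (hMu (D.el 0 D.h) 0 (Or.inr D.el_zero_h))
  refine ⟨hA, fun h2 a ha => Or.inr fun h => ?_, fun h6 => ?_, fun ⟨a, ha, h⟩ => ?_⟩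
  · exact absurd (hMinj (Subgroup.map_injective (MulAut.conj a).injective
      ((hB h2 a ha).1.trans (hnot a ha h).symm))) (by decide)
  · obtain ⟨a, ha, hao, h0, h1, -⟩ := hC h6
    refine ⟨a, ha, hao, h0, h1, ?_⟩
    obtain ⟨s, hse, hs, hs2, hZ⟩ := himg a ha 0
    obtain ⟨k, hk⟩ := hclass s hs hs2 hZ
    have : k = 1 := hMinj (by
      rw [← hMu s k hk, hse, ← D.cj_centralizer_inf _ _ _ ha]; exact h0)
    subst this
    show a * (x 0 : G) * a⁻¹ = _ ∨ a * (x 0 : G) * a⁻¹ = _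
    rw [← hse]
    rcases hk with h | h <;> rw [h]
    · exact Or.inl rfl
    · exact Or.inr (congrArg Subtype.val (D.refl_add_h i).symm)
  · refine hA.resolve_left fun h2 => ?_
    exact absurd (hMinj (Subgroup.map_injective (MulAut.conj a).injective
      ((hB h2 a ha).1.trans (hnot a ha h).symm))) (by decide)

end WRData

end Cfsg.Agent.Fusion
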