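import Cfsg.Agent.Lib.Fusion.Wreathed
import Cfsg.Agent.Lib.Fusion.CentralIsolated
import Cfsg.Agent.Lib.Fusion.WeakClosedTools
import Cfsg.Agent.Lib.Fusion.Cores

/-!
# Wreathed Sylow 2-subgroups with an isolated involution
-/

set_option autoImplicit false
set_option linter.unusedSectionVars false
set_option linter.style.haveILetI false

namespace Cfsg.Agent.Fusion

open Cfsg

namespace WRData

variable {S : Type*} [Group S] [Finite S] {n : ℕ} (D : WRData S n)

include D

/-- An element commuting with an outer element lies in the centre or is outer. -/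
theorem mem_center_of_commute_out {a : S} (ha : a ∈ D.A) {b : S} (hb : b ∉ D.A)
    (hc : Commute a b) : a ∈ Subgroup.center S := by
  obtain ⟨i, j, rfl | rfl⟩ := D.exists_form b
  · exact absurd (D.el_mem i j) hb
  · obtain ⟨k, l, rfl⟩ := ha
    rw [D.commute_out_el] at hc
    have : D.el k l = D.el k k := by
      rw [D.el_eq_iff]; exact ⟨by simp, by rw [← dvd_neg, neg_sub]; exact hc⟩
    rw [this]
    exact D.diag_central k

theorem card_center : Nat.card (Subgroup.center S) = 2 ^ n := by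
  rw [D.center_eq, Nat.card_zpowers, D.orderOf_w]

theorem center_le_A : Subgroup.center S ≤ D.A := by
  rw [D.center_eq, Subgroup.zpowers_le]; exact D.el_mem 1 1

/-- The only abelian subgroup of order `2 ^ (2 n)` is `A`. -/
theorem le_A_of_abelian (H : Subgroup S) (hab : ∀ a ∈ H, ∀ b ∈ H, a * b = b * a)
    (hc : 2 ^ (n + 1) < Nat.card H) : H ≤ D.A := by
  by_contra hH
  obtain ⟨b, hb, hbA⟩ := SetLike.not_le_iff_exists.1 hH
  have h1 : H ⊓ D.A ≤ Subgroup.center S := fun a ha =>
    D.mem_center_of_commute_out (Subgroup.mem_inf.1 ha).2 hbA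
      (hab a (Subgroup.mem_inf.1 ha).1 b hb)
  have h2 := Subgroup.card_le_of_le h1
  rw [D.card_center] at h2
  rw [D.card_eq_two_mul H hH, pow_succ] at hc
  omega

theorem center_le_of_abelian_outer (T : Subgroup S) (hab : ∀ a ∈ T, ∀ b ∈ T, a * b = b * a)
    (hT : ¬ T ≤ D.A) (hc : Nat.card T = 2 ^ (n + 1)) :
    T ⊓ D.A = Subgroup.center S := by
  obtain ⟨b, hb, hbA⟩ := SetLike.not_le_iff_exists.1 hT
  have h1 : T ⊓ D.A ≤ Subgroup.center S := fun a ha =>
    D.mem_center_of_commute_out (Subgroup.mem_inf.1 ha).2 hbA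
      (hab a (Subgroup.mem_inf.1 ha).1 b hb)
  refine Subgroup.eq_of_le_of_card_ge h1 ?_
  rw [D.card_center]
  rw [D.card_eq_two_mul T hT, pow_succ] at hc
  omega

/-- The normaliser of an outer abelian subgroup of order `2 ^ (n + 1)` has twice its order. -/
theorem card_normalizer_outer_le (T : Subgroup S) (hab : ∀ a ∈ T, ∀ b ∈ T, a * b = b * a)
    (hT : ¬ T ≤ D.A) (hc : Nat.card T = 2 ^ (n + 1)) :
    Nat.card (Subgroup.normalizer (T : Set S)) ≤ 2 ^ (n + 2) := by
  obtain ⟨b, hb, hbA⟩ := SetLike.not_le_iff_exists.1 hT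
  set M := Subgroup.normalizer (T : Set S) with hM
  have hMA : ¬ M ≤ D.A := fun h => hbA (h (Subgroup.le_normalizer hb))
  rw [D.card_eq_two_mul M hMA]
  suffices Nat.card ↥(M ⊓ D.A) ≤ 2 * Nat.card (Subgroup.center S) by
    rw [D.card_center] at this
    rw [pow_succ, pow_succ]
    omega
  have hform : ∀ a ∈ M ⊓ D.A, a ∈ Subgroup.center S ∨ a * D.el D.h 0 ∈ Subgroup.center S := by
    intro a ha
    obtain ⟨haM, k, l, rfl⟩ := Subgroup.mem_inf.1 ha
    obtain ⟨i, j, hij | hij⟩ := D.exists_form b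
    · exact absurd (hij ▸ D.el_mem i j) hbA
    have h1 : D.el k l * b * (D.el k l)⁻¹ * b⁻¹ ∈ T ⊓ D.A := by
      refine Subgroup.mem_inf.2 ⟨mul_mem ((Subgroup.mem_normalizer_iff.1 haM b).1 hb) (inv_mem hb), ?_⟩
      rw [hij, D.conj_out, mul_inv_rev, mul_assoc, mul_inv_cancel_left, D.el_inv, D.el_mul]
      exact D.el_mem _ _
    rw [D.center_le_of_abelian_outer T hab hT hc, D.center_eq, Subgroup.mem_zpowers_iff] at h1
    obtain ⟨m, hm⟩ := h1
    rw [hij, D.conj_out, mul_inv_rev, mul_assoc, mul_inv_cancel_left, D.el_inv, D.el_mul,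
      D.el_zpow, one_mul, D.el_eq_iff] at hm
    have h2 : D.N ∣ 2 * (k - l) := by
      rw [show 2 * (k - l) = (m - (j + l - k + -j)) - (m - (i + k - l + -i)) by ring]
      exact dvd_sub hm.2 hm.1
    rw [D.N_eq, mul_dvd_mul_iff_left two_ne_zero] at h2
    rcases D.h_dvd_cases h2 with h3 | h3
    · left
      rw [show D.el k l = D.el l l by rw [D.el_eq_iff]; exact ⟨h3, by simp⟩]
      exact D.diag_central l
    · right
      rw [D.el_mul, show D.el (k + D.h) (l + 0) = D.el l l by
        rw [D.el_eq_iff]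
        refine ⟨?_, by simp⟩
        rw [show k + D.h - l = (k - l - D.h) + D.N by rw [D.N_eq]; ring]
        exact dvd_add h3 dvd_rfl]
      exact D.diag_central l
  classical
  let f : ↥(M ⊓ D.A) → Bool × Subgroup.center S := fun a =>
    if ha : (a : S) ∈ Subgroup.center S then (true, ⟨a, ha⟩)
    else (false, ⟨(a : S) * D.el D.h 0, (hform a a.2).resolve_left ha⟩)
  have hf : Function.Injective f := by
    intro a a' he
    by_cases ha : (a : S) ∈ Subgroup.center S <;> by_cases ha' : (a' : S) ∈ Subgroup.center S <;>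
      simp only [f, dif_pos, dif_neg, ha, ha', not_false_iff, Prod.mk.injEq,
        reduceCtorEq, false_and, Subtype.mk.injEq, true_and] at he
    · exact Subtype.ext he
    · exact Subtype.ext (mul_right_cancel he)
  refine (Nat.card_le_card_of_injective f hf).trans ?_
  simp [Nat.card_prod]

end WRData

universe u

variable {G : Type u} [Group G] [Finite G]

theorem sylIn_top_cj (S : Sylow 2 G) (g : G) : SylIn 2 (cj (S : Subgroup G) g) ⊤ := by
  haveI : Fact (Nat.Prime 2) := ⟨Nat.prime_two⟩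
  simpa only [cj_of_normal] using (sylIn_top S).cj g

/-- Conditions forcing a subgroup to centralise an element. -/
theorem normalizer_centralizes {N P : Subgroup G} (hP : SylIn 2 P N) {y : G}
    (h1 : ∀ a ∈ P, a * y = y * a) (h2 : ∀ a ∈ N, Odd (orderOf a) → a * y = y * a) :
    ∀ a ∈ N, a * y = y * a := by
  haveI : Fact (Nat.Prime 2) := ⟨Nat.prime_two⟩
  obtain ⟨Q, hQ⟩ := hP.exists_sylow_subgroupOf
  have h3 := pResidual_sup_sylow Q
  have h4 : pResidual 2 N ⊔ (Q : Subgroup N) ≤
      (Subgroup.centralizer ({y} : Set G)).subgroupOf N := by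
    refine sup_le ((Subgroup.closure_le _).2 fun a ha => ?_) ?_
    · refine Subgroup.mem_subgroupOf.2 (Subgroup.mem_centralizer_singleton_iff.2 ?_)
      exact (h2 a a.2 (by rw [Subgroup.orderOf_coe]; exact Nat.coprime_two_right.1 ha))
    · rw [hQ]
      exact fun a ha => Subgroup.mem_centralizer_singleton_iff.2 (h1 _ ha)
  rw [h3] at h4
  exact fun a ha => Subgroup.mem_centralizer_singleton_iff.1
    (h4 (Subgroup.mem_top (⟨a, ha⟩ : N)))

/-- An element of odd order fixing the involutions of an abelian 2-group it normalises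
centralises it. -/
theorem odd_centralizes_of_fix_invol {T : Subgroup G} (hT : IsPGroup 2 T)
    (hab : ∀ a ∈ T, ∀ b ∈ T, a * b = b * a) {a : G}
    (ha : a ∈ Subgroup.normalizer (T : Set G)) (hodd : Odd (orderOf a))
    (hfix : ∀ v ∈ T, v ^ 2 = 1 → a * v = v * a) : ∀ v ∈ T, a * v = v * a := by
  haveI : Fact (Nat.Prime 2) := ⟨Nat.prime_two⟩
  exact commute_of_coprime_fixed_omega hT hab ha (n := orderOf a)
    (by rw [← even_iff_two_dvd, Nat.not_even_iff_odd]; exact hodd)
    (fun v _ => by rw [pow_orderOf_eq_one, one_mul, mul_one]) hfix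

/-- If the central involution of a wreathed Sylow subgroup is isolated, so is each element of its
centre. -/
theorem center_isolated_of_wreathed (S : Sylow 2 G) {n : ℕ} (D : WRData (S : Subgroup G) n)
    (hu : ∀ g : G, g * (D.el D.h D.h : G) * g⁻¹ ∈ (S : Subgroup G) →
      g * (D.el D.h D.h : G) * g⁻¹ = (D.el D.h D.h : G))
    {y : ↥(S : Subgroup G)} (hy : y ∈ Subgroup.center (S : Subgroup G)) :
    ∀ g : G, g * (y : G) * g⁻¹ ∈ (S : Subgroup G) → g * (y : G) * g⁻¹ = y := by
  haveI : Fact (Nat.Prime 2) := ⟨Nat.prime_two⟩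
  obtain ⟨j, hj⟩ := IsPGroup.iff_orderOf.1 S.isPGroup' y
  induction j using Nat.strong_induction_on generalizing y with
  | _ j IH =>
  set u : G := (D.el D.h D.h : G) with hudef
  have hz_unique : ∀ v : ↥(S : Subgroup G), v ∈ Subgroup.center (S : Subgroup G) → v ^ 2 = 1 →
      v = 1 ∨ v = D.el D.h D.h := by
    intro v hv hv2
    by_cases hv1 : v = 1
    · exact Or.inl hv1
    right
    rcases D.invol_cases (orderOf_eq_prime hv2 hv1) with rfl | rfl | rfl | ⟨i, rfl⟩
    · have h1 : Commute (D.el D.h 0) (D.el 0 0 * D.t) := (Subgroup.mem_center_iff.1 hv _).symm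
      rw [D.commute_out_el] at h1
      exact absurd (by simpa using h1) D.not_N_dvd_h
    · have h1 : Commute (D.el 0 D.h) (D.el 0 0 * D.t) := (Subgroup.mem_center_iff.1 hv _).symm
      rw [D.commute_out_el] at h1
      exact absurd (by simpa using h1) D.not_N_dvd_h
    · rfl
    · exact absurd (D.center_le_A hv) (D.out_not_mem i (-i))
  intro g hg
  have hju : j ≤ 1 → g * (y : G) * g⁻¹ = y := by
    intro hj1
    have hy2 : y ^ 2 = 1 := by
      apply orderOf_dvd_iff_pow_eq_one.1
      rw [hj]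
      exact (pow_dvd_pow 2 hj1).trans (by norm_num)
    rcases hz_unique y hy hy2 with rfl | rfl
    · simp
    · exact hu g hg
  by_contra hne
  have hj2 : 2 ≤ j := by
    by_contra h
    exact hne (hju (by omega))
  have hIH : ∀ c : G, c * (y : G) * c⁻¹ ∈ (S : Subgroup G) →
      (c * (y : G) * c⁻¹) ^ 2 = (y : G) ^ 2 := by
    intro c hc
    have hord : orderOf (y ^ 2) = 2 ^ (j - 1) := by
      rw [orderOf_pow_of_dvd two_ne_zero (hj ▸ dvd_pow_self 2 (by omega)), hj]
      exact Nat.div_eq_of_eq_mul_left two_pos (by rw [← pow_succ, show j - 1 + 1 = j by omega])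
    have h1 := IH (j - 1) (by omega) (pow_mem hy 2) hord c (by
      rw [Subgroup.coe_pow, ← conj_pow]; exact pow_mem hc 2)
    rwa [Subgroup.coe_pow, ← conj_pow] at h1
  have hyS : ∀ s ∈ (S : Subgroup G), s * (y : G) = (y : G) * s := fun s hs =>
    congrArg Subtype.val (Subgroup.mem_center_iff.1 hy ⟨s, hs⟩)
  have hhalf : y ^ 2 ^ (j - 1) = D.el D.h D.h := by
    rcases hz_unique _ (pow_mem hy (2 ^ (j - 1))) (by
      rw [← pow_mul, ← pow_succ, show j - 1 + 1 = j by omega, ← hj, pow_orderOf_eq_one]) with h | h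
    · have h2 := orderOf_dvd_of_pow_eq_one h
      rw [hj] at h2
      have := (Nat.pow_dvd_pow_iff_le_right one_lt_two).1 h2
      omega
    · exact h
  -- a conjugate inside `A` is equal to `y`
  set A : Subgroup G := D.A.map (S : Subgroup G).subtype with hA
  have hAle : A ≤ (S : Subgroup G) := Subgroup.map_subtype_le _
  have hAab : ∀ a ∈ A, ∀ b ∈ A, a * b = b * a := by
    rintro _ ⟨a, ha, rfl⟩ _ ⟨b, hb, rfl⟩
    exact congrArg Subtype.val (D.A_comm ha hb)
  have hAcard : Nat.card A = 2 ^ (2 * n) := by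
    rw [hA, Subgroup.card_map_of_injective (S : Subgroup G).subtype_injective, D.card_A]
  have hyA : (y : G) ∈ A := ⟨y, D.center_le_A hy, rfl⟩
  have hAuniq : ∀ H : Subgroup G, H ≤ (S : Subgroup G) → (∀ a ∈ H, ∀ b ∈ H, a * b = b * a) →
      Nat.card H = 2 ^ (2 * n) → H = A := by
    intro H hHS hab hc
    refine Subgroup.eq_of_le_of_card_ge (fun a ha => ⟨⟨a, hHS ha⟩, ?_, rfl⟩) (by rw [hc, hAcard])
    refine D.le_A_of_abelian (H.subgroupOf (S : Subgroup G))
      (fun p hp q hq => Subtype.ext (hab _ hp _ hq)) ?_ ha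
    rw [Nat.card_congr (Subgroup.subgroupOfEquivOfLe hHS).toEquiv, hc]
    exact Nat.pow_lt_pow_right one_lt_two (by have := D.hn; omega)
  have hSC : SylIn 2 (S : Subgroup G) (Subgroup.centralizer ({(y : G)} : Set G)) :=
    (sylIn_top S).mono (fun s hs => Subgroup.mem_centralizer_singleton_iff.2 (hyS s hs)) le_top
  have huA : u ∈ A := ⟨D.el D.h D.h, D.el_mem _ _, rfl⟩
  have hyodd : ∀ a ∈ Subgroup.normalizer (A : Set G), Odd (orderOf a) →
      a * (y : G) = (y : G) * a := by
    intro a ha hodd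
    refine odd_centralizes_of_fix_invol (S.isPGroup'.to_le hAle) hAab ha hodd ?_ _ hyA
    have hau : a * u * a⁻¹ = u := hu a (hAle ((Subgroup.mem_normalizer_iff.1 ha u).1 huA))
    intro v hv hv2
    by_cases hv1 : v = 1
    · subst hv1; simp
    -- `a²` fixes each involution of `A`, hence so does `a`
    have hperm : ∀ w ∈ A, w ^ 2 = 1 → w ≠ 1 → w ≠ u →
        w = (D.el D.h 0 : G) ∨ w = (D.el 0 D.h : G) := by
      rintro _ ⟨w, hw, rfl⟩ hw2 hw1 hwu
      have hwo : orderOf w = 2 :=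
        orderOf_eq_prime (Subtype.ext (by simpa using hw2)) (fun h => hw1 (by simp [h]))
      rcases D.invol_cases hwo with rfl | rfl | rfl | ⟨i, rfl⟩
      · exact Or.inl rfl
      · exact Or.inr rfl
      · exact absurd rfl hwu
      · exact absurd hw (D.out_not_mem i (-i))
    by_cases hvu : v = u
    · subst hvu; exact mul_inv_eq_iff_eq_mul.1 hau
    have himg : ∀ w ∈ A, w ^ 2 = 1 → w ≠ 1 → w ≠ u →
        a * w * a⁻¹ ∈ A ∧ (a * w * a⁻¹) ^ 2 = 1 ∧ a * w * a⁻¹ ≠ 1 ∧ a * w * a⁻¹ ≠ u := by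
      intro w hw hw2 hw1 hwu
      refine ⟨(Subgroup.mem_normalizer_iff.1 ha w).1 hw, by rw [conj_pow, hw2]; group,
        fun h => hw1 (conj_eq_one_iff.1 h), fun h => hwu ?_⟩
      calc w = a⁻¹ * (a * w * a⁻¹) * a := by group
        _ = a⁻¹ * (a * u * a⁻¹) * a := by rw [h, hau]
        _ = u := by group
    have hsq : (a ^ 2) * v = v * (a ^ 2) := by
      obtain ⟨m1, m2, m3, m4⟩ := himg v hv hv2 hv1 hvu
      obtain ⟨n1, n2, n3, n4⟩ := himg _ m1 m2 m3 m4
      rw [← mul_inv_eq_iff_eq_mul, show a ^ 2 * v * (a ^ 2)⁻¹ = a * (a * v * a⁻¹) * a⁻¹ by rw [sq]; group]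
      by_cases hfix : a * v * a⁻¹ = v
      · rw [hfix, hfix]
      have hne2 : a * (a * v * a⁻¹) * a⁻¹ ≠ a * v * a⁻¹ := by
        intro h
        apply hfix
        exact mul_left_cancel (mul_right_cancel h)
      rcases hperm v hv hv2 hv1 hvu with h1 | h1 <;>
        rcases hperm _ m1 m2 m3 m4 with h2 | h2 <;>
        rcases hperm _ n1 n2 n3 n4 with h3 | h3
      all_goals first
        | exact h3.trans h1.symm
        | exact absurd (h2.trans h1.symm) hfix
        | exact absurd (h3.trans h2.symm) hne2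
    obtain ⟨c, hc⟩ := hodd
    have h5 : Commute ((a ^ 2) ^ (c + 1)) v := (show Commute (a ^ 2) v from hsq).pow_left _
    rw [← pow_mul, show 2 * (c + 1) = orderOf a + 1 by omega, pow_succ, pow_orderOf_eq_one,
      one_mul] at h5
    exact h5.eq
  have hAn : SylIn 2 (S : Subgroup G) (Subgroup.normalizer (A : Set G)) := by
    refine (sylIn_top S).mono (fun s hs => ?_) le_top
    refine mem_normalizer_of_cj_le fun w hw => ?_
    obtain ⟨a, ha, hae⟩ := mem_cj.1 hw
    haveI := Subgroup.normal_of_index_eq_two D.index_A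
    refine ⟨⟨s, hs⟩ * a * (⟨s, hs⟩ : ↥(S : Subgroup G))⁻¹,
      Subgroup.Normal.conj_mem inferInstance a ha _, ?_⟩
    simp only [Subgroup.coe_subtype, Subgroup.coe_mul, Subgroup.coe_inv] at hae ⊢
    rw [hae]; group
  have hNA : ∀ a ∈ Subgroup.normalizer (A : Set G), a * (y : G) = (y : G) * a :=
    normalizer_centralizes hAn hyS hyodd
  have hcaseA : ∀ c : G, c * (y : G) * c⁻¹ ∈ A → c * (y : G) * c⁻¹ = y := by
    intro c hc
    set y' := c * (y : G) * c⁻¹ with hy'
    have hAC : A ≤ Subgroup.centralizer ({y'} : Set G) := fun a ha =>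
      Subgroup.mem_centralizer_singleton_iff.2 (hAab a ha y' hc)
    have hT : SylIn 2 (cj (S : Subgroup G) c) (Subgroup.centralizer ({y'} : Set G)) := by
      refine (sylIn_top_cj S c).mono ?_ le_top
      intro w hw
      rw [Subgroup.mem_centralizer_singleton_iff, hy']
      have := hyS _ (mem_cj.1 hw)
      calc w * (c * (y : G) * c⁻¹) = c * (c⁻¹ * w * c * (y : G)) * c⁻¹ := by group
        _ = c * ((y : G) * (c⁻¹ * w * c)) * c⁻¹ := by rw [this]
        _ = c * (y : G) * c⁻¹ * w := by group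
    obtain ⟨d, hd, hdA⟩ := hT.conj_le (S.isPGroup'.to_le hAle) hAC
    have h1 : cj A (c⁻¹ * d) = A := by
      refine hAuniq _ ?_ ?_ (by rw [card_cj, hAcard])
      · rw [← cj_cj, cj_le_iff, inv_inv]; exact hdA
      · intro a ha b hb
        have := hAab _ (mem_cj.1 ha) _ (mem_cj.1 hb)
        calc a * b = (c⁻¹ * d) * (((c⁻¹ * d)⁻¹ * a * (c⁻¹ * d)) *
              ((c⁻¹ * d)⁻¹ * b * (c⁻¹ * d))) * (c⁻¹ * d)⁻¹ := by group
          _ = _ := by rw [this]; group
    have h2 := hNA _ (mem_normalizer_iff_cj.2 h1)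
    have hd' : d * y' = y' * d := Subgroup.mem_centralizer_singleton_iff.1 hd
    calc y' = d * y' * d⁻¹ := by rw [hd', mul_inv_cancel_right]
      _ = c * (c⁻¹ * d * y') * d⁻¹ := by group
      _ = y := ?_
    have h3 : d⁻¹ * c * (y : G) * (d⁻¹ * c)⁻¹ = (y : G) := by
      have h4 : (c⁻¹ * d)⁻¹ * (y : G) = (y : G) * (c⁻¹ * d)⁻¹ := by
        rw [inv_mul_eq_iff_eq_mul, ← mul_assoc, h2, mul_inv_cancel_right]
      rw [show d⁻¹ * c = (c⁻¹ * d)⁻¹ by group, h4, mul_inv_cancel_right]
    calc c * (c⁻¹ * d * y') * d⁻¹ = d * y' * d⁻¹ := by group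
      _ = y' := by rw [hd', mul_inv_cancel_right]
      _ = d⁻¹ * y' * d := by rw [mul_assoc, ← hd', inv_mul_cancel_left]
      _ = d⁻¹ * c * (y : G) * (d⁻¹ * c)⁻¹ := by rw [hy']; group
      _ = y := h3
  -- every conjugate of `y` in `S` other than `y` gives an outer subgroup
  have houter : ∀ (T : Subgroup G) (y' c : G), y' = c * (y : G) * c⁻¹ → y' ≠ y → T ≤ (S : Subgroup G) →
      (y : G) ∈ T → y' ∈ T → (∀ a ∈ T, ∀ b ∈ T, a * b = b * a) → Nat.card T = 2 ^ (n + 1) →
      ∀ a ∈ Subgroup.normalizer (T : Set G), a * (y : G) = (y : G) * a := by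
    intro T y' c hy' hne' hTS hyT hy'T hTab hTc
    have houtA : ∀ (T' : Subgroup G) (h : G), cj T h = T' → ¬ T' ≤ A := by
      rintro T' h rfl hle
      have hAT : cj A h⁻¹ ≤ Subgroup.centralizer ({(y : G)} : Set G) := by
        intro w hw
        have h1 : h * (y : G) * h⁻¹ ∈ A := hle (conj_mem_cj hyT)
        have h2 := hAab _ (mem_cj.1 hw) _ h1
        rw [Subgroup.mem_centralizer_singleton_iff]
        calc w * (y : G) = h⁻¹ * ((h⁻¹⁻¹ * w * h⁻¹) * (h * (y : G) * h⁻¹)) * h := by group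
          _ = _ := by rw [h2]; group
      obtain ⟨d, hd, hdS⟩ := hSC.conj_le (isPGroup_cj (S.isPGroup'.to_le hAle) _) hAT
      rw [cj_cj] at hdS
      have h3 : cj A (d * h⁻¹) = A := by
        refine hAuniq _ hdS ?_ (by rw [card_cj, hAcard])
        rintro _ ⟨a, ha, rfl⟩ _ ⟨b, hb, rfl⟩
        rw [← map_mul, hAab a ha b hb, map_mul]
      have h4 : h * y' * h⁻¹ ∈ A := hle (conj_mem_cj hy'T)
      have h5 := conj_mem_cj (g := d * h⁻¹) h4
      rw [h3] at h5
      rw [show d * h⁻¹ * (h * y' * h⁻¹) * (d * h⁻¹)⁻¹ = d * c * (y : G) * (d * c)⁻¹ by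
        rw [hy']; group] at h5
      have h6 := hcaseA _ h5
      have hd' : d * (y : G) = (y : G) * d := Subgroup.mem_centralizer_singleton_iff.1 hd
      apply hne'
      calc y' = d⁻¹ * (d * c * (y : G) * (d * c)⁻¹) * d := by rw [hy']; group
        _ = d⁻¹ * ((y : G) * d) := by rw [h6, mul_assoc]
        _ = y := by rw [← hd', inv_mul_cancel_left]
    have hsub : ∀ T' : Subgroup G, T' ≤ (S : Subgroup G) → (∀ a ∈ T', ∀ b ∈ T', a * b = b * a) →
        Nat.card T' = 2 ^ (n + 1) → ¬ T' ≤ A →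
        Nat.card ((S : Subgroup G) ⊓ Subgroup.normalizer (T' : Set G) : Subgroup G) ≤ 2 ^ (n + 2) ∧
          (Subgroup.center (S : Subgroup G)).map (S : Subgroup G).subtype ≤ T' := by
      intro T' hle hab hc hnA
      set T0 := T'.subgroupOf (S : Subgroup G) with hT0
      have hab0 : ∀ a ∈ T0, ∀ b ∈ T0, a * b = b * a := fun a ha b hb => Subtype.ext (hab _ ha _ hb)
      have hc0 : Nat.card T0 = 2 ^ (n + 1) := by
        rw [hT0, Nat.card_congr (Subgroup.subgroupOfEquivOfLe hle).toEquiv, hc]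
      have hnA0 : ¬ T0 ≤ D.A := fun h => hnA fun a ha => ⟨⟨a, hle ha⟩, h ha, rfl⟩
      constructor
      · have h1 := D.card_normalizer_outer_le T0 hab0 hnA0 hc0
        rw [hT0, ← Subgroup.subgroupOf_normalizer_eq hle] at h1
        rw [← Nat.card_congr (Subgroup.subgroupOfEquivOfLe
          (inf_le_left : (S : Subgroup G) ⊓ Subgroup.normalizer (T' : Set G) ≤ S)).toEquiv,
          Subgroup.inf_subgroupOf_left]
        exact h1
      · rintro _ ⟨w, hw, rfl⟩
        rw [← D.center_le_of_abelian_outer T0 hab0 hnA0 hc0] at hw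
        exact (Subgroup.mem_inf.1 hw).1
    have hTnA : ¬ T ≤ A := houtA T 1 (cj_one T)
    obtain ⟨hNc, hZT⟩ := hsub T hTS hTab hTc hTnA
    set N := Subgroup.normalizer (T : Set G) with hN
    have hNS : SylIn 2 ((S : Subgroup G) ⊓ N) N := by
      obtain ⟨P, hP, hle⟩ := exists_sylIn_ge (S.isPGroup'.to_inf_left (K := N)) inf_le_right
      have hTlt : T < (S : Subgroup G) ⊓ N := by
        refine SylIn.normalizer_growth (p := 2) hTS (fun h => ?_) S.isPGroup'
        have := D.hn
        have h1 : Nat.card (S : Subgroup G) = 2 ^ (2 * n + 1) := D.hcard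
        rw [← h, hTc] at h1
        have := Nat.pow_right_injective (le_refl 2) h1
        omega
      have hge : 2 ^ (n + 2) ≤ Nat.card ((S : Subgroup G) ⊓ N : Subgroup G) := by
        obtain ⟨k, hk⟩ := IsPGroup.iff_card.1
          (S.isPGroup'.to_inf_left (K := N) : IsPGroup 2 ((S : Subgroup G) ⊓ N : Subgroup G))
        have h1 : Nat.card T < Nat.card ((S : Subgroup G) ⊓ N : Subgroup G) := by
          by_contra hle'
          exact hTlt.ne (Subgroup.eq_of_le_of_card_ge hTlt.le (not_lt.1 hle'))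
        rw [hk, hTc, Nat.pow_lt_pow_iff_right one_lt_two] at h1
        rw [hk]
        exact Nat.pow_le_pow_right two_pos (by omega)
      obtain ⟨h, -, hhS⟩ := (sylIn_top S).conj_le hP.isPGroup le_top
      have hT' : cj T h ≤ (S : Subgroup G) :=
        (cj_mono ((le_inf hTS Subgroup.le_normalizer).trans hle) h).trans hhS
      have hle2 : cj P h ≤ (S : Subgroup G) ⊓ Subgroup.normalizer (cj T h : Set G) :=
        le_inf hhS ((cj_mono hP.le h).trans (cj_normalizer T h).le)
      have hb : Nat.card P ≤ 2 ^ (n + 2) := by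
        rw [← card_cj P h]
        refine (Subgroup.card_le_of_le hle2).trans
          (hsub _ hT' ?_ (by rw [card_cj, hTc]) (houtA _ h rfl)).1
        rintro _ ⟨a, ha, rfl⟩ _ ⟨b, hb, rfl⟩
        rw [← map_mul, hTab a ha b hb, map_mul]
      rw [Subgroup.eq_of_le_of_card_ge hle (hb.trans hge)]
      exact hP
    refine normalizer_centralizes hNS (fun a ha => hyS a (Subgroup.mem_inf.1 ha).1) fun a ha ho => ?_
    have huT : u ∈ T := hZT ⟨D.el D.h D.h, D.diag_central _, rfl⟩
    refine odd_centralizes_of_fix_invol (S.isPGroup'.to_le hTS) hTab ha ho ?_ _ hyT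
    intro v hv hv2
    by_contra hvne
    have hau : a * u * a⁻¹ = u := hu a (hTS ((Subgroup.mem_normalizer_iff.1 ha u).1 huT))
    -- the involutions of `T` are `u` and two others, which are not both in the centre
    have hin : ∀ w ∈ T, w ^ 2 = 1 → w ∈ A → w = 1 ∨ w = u := by
      intro w hw hw2 hwA
      obtain ⟨w0, hw0, rfl⟩ := hwA
      have h1 : w0 ∈ T.subgroupOf (S : Subgroup G) ⊓ D.A := ⟨hw, hw0⟩
      rw [D.center_le_of_abelian_outer (T.subgroupOf (S : Subgroup G))
        (fun p hp q hq => Subtype.ext (hTab _ hp _ hq))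
        (fun h => hTnA fun b hb => ⟨⟨b, hTS hb⟩, h hb, rfl⟩)
        (by rw [Nat.card_congr (Subgroup.subgroupOfEquivOfLe hTS).toEquiv, hTc])] at h1
      rcases hz_unique w0 h1 (Subtype.ext (by simpa using hw2)) with h | h
      · exact Or.inl (by simp [h])
      · exact Or.inr (by simp [h, hudef])
    have hmul : ∀ w ∈ T, w ^ 2 = 1 → w ∉ A → w * v ∈ A → a * w * a⁻¹ ∈ T := fun w hw _ _ _ =>
      (Subgroup.mem_normalizer_iff.1 ha w).1 hw
    have hvA : v ∉ A := fun h => by
      rcases hin v hv hv2 h with rfl | rfl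
      · exact hvne (by simp)
      · exact hvne (mul_inv_eq_iff_eq_mul.1 hau)
    have hv' : (a * v * a⁻¹) ∈ T := (Subgroup.mem_normalizer_iff.1 ha v).1 hv
    have hv'2 : (a * v * a⁻¹) ^ 2 = 1 := by rw [conj_pow, hv2]; group
    have hv'A : a * v * a⁻¹ ∉ A := fun h => by
      rcases hin _ hv' hv'2 h with h1 | h1
      · exact hvne (by rw [conj_eq_one_iff.1 h1]; simp)
      · refine hvA ?_
        rw [show v = a⁻¹ * (a * v * a⁻¹) * a by group, h1, ← hau]
        rw [show a⁻¹ * (a * u * a⁻¹) * a = u by group]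
        exact huA
    have hprod : v * (a * v * a⁻¹) ∈ A := by
      haveI := Subgroup.normal_of_index_eq_two D.index_A
      have h1 : (⟨v, hTS hv⟩ : ↥(S : Subgroup G)) ∉ D.A := fun h => hvA ⟨_, h, rfl⟩
      have h2 : (⟨a * v * a⁻¹, hTS hv'⟩ : ↥(S : Subgroup G)) ∉ D.A := fun h => hv'A ⟨_, h, rfl⟩
      exact ⟨_, (Subgroup.mul_mem_iff_of_index_two D.index_A).2 (iff_of_false h1 h2), rfl⟩
    rcases hin _ (mul_mem hv hv') (by
      rw [(show Commute v (a * v * a⁻¹) from hTab _ hv _ hv').mul_pow, hv2, hv'2, one_mul]) hprod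
      with h1 | h1
    · apply hvne
      have h2 : a * v * a⁻¹ = v := by
        rw [eq_inv_of_mul_eq_one_right h1]
        exact inv_eq_of_mul_eq_one_right (by rw [← sq]; exact hv2)
      exact mul_inv_eq_iff_eq_mul.1 h2
    · -- conjugation by `a` would swap two elements
      have h2 : a * v * a⁻¹ = v * u := by
        rw [← h1, ← mul_assoc, ← sq, hv2, one_mul]
      have h3 : ∀ i : ℕ, a ^ i * v * (a ^ i)⁻¹ = v * u ^ i := by
        intro i
        induction i with
        | zero => simp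
        | succ i ih =>
          calc a ^ (i + 1) * v * (a ^ (i + 1))⁻¹ = a * (a ^ i * v * (a ^ i)⁻¹) * a⁻¹ := by
                rw [pow_succ']; group
            _ = (a * v * a⁻¹) * (a * u * a⁻¹) ^ i := by rw [ih, conj_pow]; group
            _ = v * u ^ (i + 1) := by rw [h2, hau, pow_succ', mul_assoc]
      have h4 := h3 (orderOf a)
      rw [pow_orderOf_eq_one, one_mul, inv_one, mul_one] at h4
      have h5 : u ^ orderOf a = 1 := mul_eq_left.1 h4.symm
      have hu2 : u ^ 2 = 1 := by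
        rw [hudef, ← Subgroup.coe_pow, ← Subgroup.coe_one (S : Subgroup G)]
        refine congrArg Subtype.val ?_
        rw [sq, D.el_mul, D.el_eq_one, ← two_mul, ← D.N_eq]
        exact ⟨dvd_rfl, dvd_rfl⟩
      have h6 := pow_gcd_eq_one.2 ⟨h5, hu2⟩
      rw [Nat.coprime_two_right.2 ho, pow_one] at h6
      apply hvne
      rw [h6, mul_one] at h2
      exact mul_inv_eq_iff_eq_mul.1 h2
  -- the outer conjugate
  set y' := g * (y : G) * g⁻¹ with hy'
  have hy'A : y' ∉ A := fun h => hne (hcaseA g h)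
  set T := (S : Subgroup G) ⊓ Subgroup.centralizer ({y'} : Set G) with hT
  set b : ↥(S : Subgroup G) := ⟨y', hg⟩ with hb
  have hbA : b ∉ D.A := fun h => hy'A ⟨b, h, rfl⟩
  have hcent : T.subgroupOf (S : Subgroup G) = Subgroup.centralizer ({b} : Set ↥(S : Subgroup G)) := by
    ext s
    rw [Subgroup.mem_subgroupOf, hT, Subgroup.mem_inf, Subgroup.mem_centralizer_singleton_iff,
      Subgroup.mem_centralizer_singleton_iff, Subtype.ext_iff]
    exact ⟨fun h => h.2, fun h => ⟨s.2, h⟩⟩
  set T0 := Subgroup.centralizer ({b} : Set ↥(S : Subgroup G)) with hT0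
  have hT0A : T0 ⊓ D.A = Subgroup.center (S : Subgroup G) := by
    refine le_antisymm (fun a ha => D.mem_center_of_commute_out (Subgroup.mem_inf.1 ha).2 hbA
      (Subgroup.mem_centralizer_singleton_iff.1 (Subgroup.mem_inf.1 ha).1)) (le_inf ?_ D.center_le_A)
    exact fun a ha => Subgroup.mem_centralizer_singleton_iff.2 (Subgroup.mem_center_iff.1 ha b).symm
  have hT0ab : ∀ a ∈ T0, ∀ c ∈ T0, a * c = c * a := by
    have hdec : ∀ a ∈ T0, ∃ w ∈ Subgroup.center (S : Subgroup G), a = w ∨ a = w * b := by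
      intro a ha
      by_cases haA : a ∈ D.A
      · exact ⟨a, hT0A ▸ Subgroup.mem_inf.2 ⟨ha, haA⟩, Or.inl rfl⟩
      refine ⟨a * b⁻¹, hT0A ▸ Subgroup.mem_inf.2 ⟨mul_mem ha (inv_mem ?_), ?_⟩, Or.inr (by group)⟩
      · exact Subgroup.mem_centralizer_singleton_iff.2 rfl
      · exact (Subgroup.mul_mem_iff_of_index_two D.index_A).2
          (iff_of_false haA (fun h => hbA (inv_mem_iff.1 h)))
    intro a ha c hc
    obtain ⟨w, hw, rfl | rfl⟩ := hdec a ha
    · exact (Subgroup.mem_center_iff.1 hw c).symm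
    obtain ⟨w', hw', rfl | rfl⟩ := hdec c hc
    · exact Subgroup.mem_center_iff.1 hw' _
    · calc w * b * (w' * b) = w * w' * (b * b) := by
            rw [mul_assoc w b, ← mul_assoc b, Subgroup.mem_center_iff.1 hw' b]; group
        _ = w' * w * (b * b) := by rw [Subgroup.mem_center_iff.1 hw' w]
        _ = w' * b * (w * b) := by
            rw [mul_assoc w' b, ← mul_assoc b w, Subgroup.mem_center_iff.1 hw b]; group
  have hT0c : Nat.card T0 = 2 ^ (n + 1) := by
    rw [D.card_eq_two_mul T0 (fun h => hbA (h (Subgroup.mem_centralizer_singleton_iff.2 rfl))),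
      hT0A, D.card_center, pow_succ, mul_comm]
  have hTS : T ≤ (S : Subgroup G) := inf_le_left
  have hTab : ∀ a ∈ T, ∀ c ∈ T, a * c = c * a := by
    intro a ha c hc
    have h1 : (⟨a, hTS ha⟩ : ↥(S : Subgroup G)) ∈ T0 := hcent ▸ (show a ∈ T from ha)
    have h2 : (⟨c, hTS hc⟩ : ↥(S : Subgroup G)) ∈ T0 := hcent ▸ (show c ∈ T from hc)
    exact congrArg Subtype.val (hT0ab _ h1 _ h2)
  have hTc : Nat.card T = 2 ^ (n + 1) := by
    rw [← Nat.card_congr (Subgroup.subgroupOfEquivOfLe hTS).toEquiv, hcent, hT0c]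
  have hyT : (y : G) ∈ T :=
    ⟨y.2, Subgroup.mem_centralizer_singleton_iff.2 (hyS y' hg).symm⟩
  have hy'T : y' ∈ T := ⟨hg, Subgroup.mem_centralizer_singleton_iff.2 rfl⟩
  have hN1 := houter T y' g hy' hne hTS hyT hy'T hTab hTc
  -- transport: the normaliser also centralises `y'`
  have hN2 : ∀ a ∈ Subgroup.normalizer (T : Set G), a * y' = y' * a := by
    have hRC : SylIn 2 (cj (S : Subgroup G) g) (Subgroup.centralizer ({y'} : Set G)) := by
      refine (sylIn_top_cj S g).mono ?_ le_top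
      intro w hw
      rw [Subgroup.mem_centralizer_singleton_iff, hy']
      have := hyS _ (mem_cj.1 hw)
      calc w * (g * (y : G) * g⁻¹) = g * (g⁻¹ * w * g * (y : G)) * g⁻¹ := by group
        _ = g * ((y : G) * (g⁻¹ * w * g)) * g⁻¹ := by rw [this]
        _ = g * (y : G) * g⁻¹ * w := by group
    obtain ⟨d, hd, hdT⟩ := hRC.conj_le (S.isPGroup'.to_le hTS) inf_le_right
    set h := g⁻¹ * d with hh
    have hd' : d * y' = y' * d := Subgroup.mem_centralizer_singleton_iff.1 hd
    have hhy : h * y' * h⁻¹ = y := by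
      rw [hh, show g⁻¹ * d * y' * (g⁻¹ * d)⁻¹ = g⁻¹ * (d * y' * d⁻¹) * g by group, hd',
        mul_inv_cancel_right, hy']
      group
    have hTS' : cj T h ≤ (S : Subgroup G) := by
      rw [hh, ← cj_cj, cj_le_iff, inv_inv]; exact hdT
    have hne'' : h * (y : G) * h⁻¹ ≠ y := by
      intro he
      apply hne
      exact mul_left_cancel (mul_right_cancel (hhy.trans he.symm))
    have h1 := houter (cj T h) (h * (y : G) * h⁻¹) h rfl hne'' hTS' (hhy ▸ conj_mem_cj hy'T)
      (conj_mem_cj hyT) (by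
        rintro _ ⟨a, ha, rfl⟩ _ ⟨c, hc, rfl⟩
        rw [← map_mul, hTab a ha c hc, map_mul]) (by rw [card_cj, hTc])
    intro a ha
    have h2 := h1 (h * a * h⁻¹) (by rw [← cj_normalizer]; exact conj_mem_cj ha)
    rw [← hhy] at h2
    calc a * y' = h⁻¹ * (h * a * h⁻¹ * (h * y' * h⁻¹)) * h := by group
      _ = y' * a := by rw [h2]; group
  have hlt : T < (S : Subgroup G) ⊓ Subgroup.normalizer (T : Set G) := by
    refine SylIn.normalizer_growth (p := 2) hTS (fun h => ?_) S.isPGroup'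
    have := D.hn
    have h1 : Nat.card (S : Subgroup G) = 2 ^ (2 * n + 1) := D.hcard
    rw [← h, hTc] at h1
    have := Nat.pow_right_injective (le_refl 2) h1
    omega
  obtain ⟨s, hs, hsT⟩ := SetLike.exists_of_lt hlt
  exact hsT ⟨(Subgroup.mem_inf.1 hs).1,
    Subgroup.mem_centralizer_singleton_iff.2 (hN2 s (Subgroup.mem_inf.1 hs).2)⟩

end Cfsg.Agent.Fusion
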