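import Cfsg.Agent.Lib.Fusion.ZJFamily

/-!
# The ZJ theorem
-/

set_option autoImplicit false

open scoped commutatorElement

namespace Cfsg.Agent.Fusion

variable {G : Type*} [Group G] [Finite G] {p : ℕ} [hp : Fact p.Prime]

theorem zFam_le_pCore {ok : Subgroup G → Prop} (hok : ReplFamily ok)
    (hc : Subgroup.centralizer (pCore p G : Set G) ≤ pCore p G)
    (hst : IsPStableOn p (pCore p G)) (S : Sylow p G) :
    zFam ok (S : Subgroup G) ≤ pCore p G := by
  intro z hz
  set Q := pCore p G
  set C := Subgroup.centralizer (Q : Set G)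
  obtain ⟨A, hA⟩ := hok.maxIn_nonempty (S : Subgroup G)
  have hZc : IsMulCommutative (zFam ok (S : Subgroup G)) :=
    isMulCommutative_of_le (hok.comm A hA.2.1) (hok.zFam_le_of_mem hA)
  have hQn : Q ≤ Subgroup.normalizer (zFam ok (S : Subgroup G) : Set G) :=
    (pCore_le_sylow S).trans (Subgroup.le_normalizer.trans (hok.normalizer_le_zFam _))
  have hzD := mem_of_quadratic_stable hst hZc hQn hz
  refine le_pCore (N := (pCore p (G ⧸ C)).comap (QuotientGroup.mk' C)) ?_ hzD
  exact (isPGroup_pCore p _).comap_of_ker_isPGroup (QuotientGroup.mk' C)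
    (by rw [QuotientGroup.ker_mk']; exact (isPGroup_pCore p G).to_le hc)

theorem zFam_normal {ok : Subgroup G → Prop} (hok : ReplFamily ok) (hp2 : p ≠ 2)
    (hc : Subgroup.centralizer (pCore p G : Set G) ≤ pCore p G)
    (hst : ∀ (P : Subgroup G) [P.Normal], IsPGroup p P → IsPStableOn p P) (S : Sylow p G) :
    (zFam ok (S : Subgroup G)).Normal := by
  have h := inf_zFam_normal hok hp2 hst S (pCore p G) (isPGroup_pCore p G)
  rwa [inf_eq_right.2 (zFam_le_pCore hok hc (hst _ (isPGroup_pCore p G)) S)] at h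

theorem zFam_characteristic {ok : Subgroup G → Prop} (hok : ReplFamily ok) (hp2 : p ≠ 2)
    (hc : Subgroup.centralizer (pCore p G : Set G) ≤ pCore p G)
    (hst : ∀ (P : Subgroup G) [P.Normal], IsPGroup p P → IsPStableOn p P) (S : Sylow p G) :
    (zFam ok (S : Subgroup G)).Characteristic := by
  haveI := zFam_normal hok hp2 hc hst S
  refine Subgroup.characteristic_iff_map_eq.2 fun e => ?_
  have hS' : SylIn p ((S : Subgroup G).map e.toMonoidHom) ⊤ := by
    refine ⟨le_top, S.isPGroup'.map _, ?_⟩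
    rw [Subgroup.relIndex_top_right, Subgroup.index_map_of_bijective e.bijective]
    exact S.not_dvd_index
  obtain ⟨x, -, hx⟩ := (sylIn_top S).conj_eq hS'
  rw [hok.map_zFam, ← hx, ← hok.map_zFam]
  exact cj_of_normal _ x

omit hp [Finite G] in
theorem isMulCommutative_closure_insert {x : G} {A : Subgroup G} (hA : IsMulCommutative A)
    (hx : ∀ a ∈ A, x * a = a * x) :
    IsMulCommutative (Subgroup.closure (insert x (A : Set G))) := by
  refine Subgroup.isMulCommutative_closure ?_
  rintro u (rfl | hu) v (rfl | hv)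
  · rfl
  · exact hx v hv
  · exact (hx u hu).symm
  · exact congrArg Subtype.val (hA.1.1 ⟨u, hu⟩ ⟨v, hv⟩)

omit hp [Finite G] in
theorem isElementaryAbelian_closure_insert {x : G} {A : Subgroup G}
    (hA : IsElementaryAbelian p A) (hx : ∀ a ∈ A, x * a = a * x) (hxp : x ^ p = 1) :
    IsElementaryAbelian p (Subgroup.closure (insert x (A : Set G))) := by
  have hc := isMulCommutative_closure_insert hA.1 hx
  refine ⟨hc, fun a ha => ?_⟩
  induction ha using Subgroup.closure_induction with
  | mem a ha =>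
    rcases ha with rfl | ha
    · exact hxp
    · exact hA.2 a ha
  | one => exact one_pow _
  | mul a b ha hb iha ihb =>
    have hab : Commute a b := congrArg Subtype.val (hc.1.1 ⟨a, ha⟩ ⟨b, hb⟩)
    rw [hab.mul_pow, iha, ihb, one_mul]
  | inv a _ iha => rw [inv_pow, iha, inv_one]

omit hp in
theorem mem_of_maxIn {ok : Subgroup G → Prop} {H A : Subgroup G} (hA : A ∈ maxIn ok H) {x : G}
    (hx : x ∈ H) (hok' : ok (Subgroup.closure (insert x (A : Set G)))) : x ∈ A := by
  have hle : A ≤ Subgroup.closure (insert x (A : Set G)) := fun a ha =>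
    Subgroup.subset_closure (Or.inr ha)
  have h := hA.2.2 _ ((Subgroup.closure_le _).2 (Set.insert_subset hx hA.1)) hok'
  rw [Subgroup.eq_of_le_of_card_ge hle h]
  exact Subgroup.subset_closure (Or.inl rfl)

omit hp [Finite G] in
theorem image_maxIn {H : Subgroup G} {okH : Subgroup H → Prop} {ok : Subgroup G → Prop}
    (h : ∀ A, okH A ↔ ok (A.map H.subtype)) :
    Set.image (fun A : Subgroup H => A.map H.subtype)
      {A | okH A ∧ ∀ B : Subgroup H, okH B → Nat.card B ≤ Nat.card A} = maxIn ok H := by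
  have hcard : ∀ A : Subgroup H, Nat.card (A.map H.subtype) = Nat.card A := fun A =>
    Subgroup.card_map_of_injective H.subtype_injective
  ext A
  constructor
  · rintro ⟨A, ⟨hA, hmax⟩, rfl⟩
    refine ⟨Subgroup.map_subtype_le _, (h A).1 hA, fun B hB hB' => ?_⟩
    have := hmax (B.subgroupOf H) ((h _).2 (by rwa [Subgroup.map_subgroupOf_eq_of_le hB]))
    rw [hcard, ← Subgroup.map_subgroupOf_eq_of_le hB, hcard]
    exact this
  · rintro ⟨hAH, hA, hmax⟩
    refine ⟨A.subgroupOf H, ⟨(h _).2 (by rwa [Subgroup.map_subgroupOf_eq_of_le hAH]),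
      fun B hB => ?_⟩, Subgroup.map_subgroupOf_eq_of_le hAH⟩
    rw [← hcard, ← hcard (A.subgroupOf H), Subgroup.map_subgroupOf_eq_of_le hAH]
    exact hmax _ (Subgroup.map_subtype_le _) ((h B).1 hB)

omit hp [Finite G] in
theorem comm_map_iff {H : Subgroup G} (A : Subgroup H) :
    IsMulCommutative A ↔ IsMulCommutative (A.map H.subtype) := by
  refine ⟨isMulCommutative_map _, fun h => ⟨⟨fun x y => Subtype.ext (Subtype.ext ?_)⟩⟩⟩
  exact (congrArg Subtype.val (h.1.1 ⟨_, x, x.2, rfl⟩ ⟨_, y, y.2, rfl⟩) :)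

omit hp [Finite G] in
theorem elementary_map_iff {H : Subgroup G} (A : Subgroup H) :
    IsElementaryAbelian p A ↔ IsElementaryAbelian p (A.map H.subtype) := by
  rw [isElementaryAbelian_iff_exponent, isElementaryAbelian_iff_exponent, ← comm_map_iff,
    exponent_map H.subtype_injective]

omit hp [Finite G] in
theorem image_maxAbelian (H : Subgroup G) :
    Set.image (fun A : Subgroup H => A.map H.subtype) (maxAbelianSubgroups H) =
      maxIn (fun A : Subgroup G => IsMulCommutative A) H :=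
  image_maxIn comm_map_iff

omit hp [Finite G] in
theorem image_maxElementary (H : Subgroup G) :
    Set.image (fun A : Subgroup H => A.map H.subtype) (maxElementaryAbelianSubgroups p H) =
      maxIn (fun A : Subgroup G => IsElementaryAbelian p A) H :=
  image_maxIn elementary_map_iff

omit hp [Finite G] in
theorem map_sSup_subtype {H : Subgroup G} (𝒜 : Set (Subgroup H)) :
    (sSup 𝒜).map H.subtype = sSup (Set.image (fun A : Subgroup H => A.map H.subtype) 𝒜) :=
  (Subgroup.gc_map_comap H.subtype).l_sSup.trans sSup_image.symm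

omit hp in
theorem zFam_comm_eq (H : Subgroup G) :
    zFam (fun A : Subgroup G => IsMulCommutative A) H = centerThompsonAOf H := by
  set ok := fun A : Subgroup G => IsMulCommutative A
  have hok : ReplFamily ok := replFamily_comm
  rw [centerThompsonAOf, thompsonSubgroupAOf, thompsonSubgroupA, map_sSup_subtype, image_maxAbelian]
  obtain ⟨A₀, hA₀⟩ := hok.maxIn_nonempty H
  refine le_antisymm (le_inf ((hok.zFam_le_of_mem hA₀).trans (le_sSup hA₀)) ?_) fun x hx => ?_
  · rw [Subgroup.le_centralizer_iff]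
    refine sSup_le fun A hA a ha z hz => ?_
    exact congrArg Subtype.val ((hok.comm A hA.2.1).1.1 ⟨z, hok.zFam_le_of_mem hA hz⟩ ⟨a, ha⟩)
  · have hxH : x ∈ H := (sSup_le fun A hA => hA.1 : sSup (maxIn ok H) ≤ H) hx.1
    refine ⟨hxH, Subgroup.mem_sInf.2 fun A hA => mem_of_maxIn hA hxH ?_⟩
    exact isMulCommutative_closure_insert (hok.comm A hA.2.1) fun a ha =>
      (Subgroup.mem_centralizer_iff.1 hx.2 a (le_sSup hA ha)).symm

omit hp in
/-- The intersection of the elementary abelian subgroups of largest order. -/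
theorem zFam_elementary_eq (H : Subgroup G) :
    zFam (fun A : Subgroup G => IsElementaryAbelian p A) H =
      omegaOne p (sSup (maxIn (fun A : Subgroup G => IsElementaryAbelian p A) H) ⊓
        Subgroup.centralizer
          ((sSup (maxIn (fun A : Subgroup G => IsElementaryAbelian p A) H) : Subgroup G) : Set G)) ∧
    zFam (fun A : Subgroup G => IsElementaryAbelian p A) H =
      omegaOne p (H ⊓ Subgroup.centralizer
        ((sSup (maxIn (fun A : Subgroup G => IsElementaryAbelian p A) H) : Subgroup G) : Set G)) := by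
  set ok := fun A : Subgroup G => IsElementaryAbelian p A
  have hok : ReplFamily ok := replFamily_elementary p
  set J := sSup (maxIn ok H)
  have hJH : J ≤ H := sSup_le fun A hA => hA.1
  obtain ⟨A₀, hA₀⟩ := hok.maxIn_nonempty H
  have h1 : ∀ z ∈ zFam ok H, z ∈ J ⊓ Subgroup.centralizer (J : Set G) ∧ z ^ p = 1 := by
    refine fun z hz => ⟨⟨le_sSup hA₀ (hok.zFam_le_of_mem hA₀ hz), ?_⟩,
      hA₀.2.1.2 z (hok.zFam_le_of_mem hA₀ hz)⟩
    refine (Subgroup.le_centralizer_iff.1 ?_ : zFam ok H ≤ Subgroup.centralizer (J : Set G)) hz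
    refine sSup_le fun A hA a ha z hz => ?_
    exact congrArg Subtype.val ((hok.comm A hA.2.1).1.1 ⟨z, hok.zFam_le_of_mem hA hz⟩ ⟨a, ha⟩)
  have h2 : omegaOne p (H ⊓ Subgroup.centralizer (J : Set G)) ≤ zFam ok H := by
    refine (Subgroup.closure_le _).2 ?_
    rintro x ⟨hx, hxp⟩
    refine ⟨hx.1, Subgroup.mem_sInf.2 fun A hA => mem_of_maxIn hA hx.1 ?_⟩
    exact isElementaryAbelian_closure_insert hA.2.1 (fun a ha =>
      (Subgroup.mem_centralizer_iff.1 hx.2 a (le_sSup hA ha)).symm) hxp
  have h3 : omegaOne p (J ⊓ Subgroup.centralizer (J : Set G)) ≤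
      omegaOne p (H ⊓ Subgroup.centralizer (J : Set G)) :=
    Subgroup.closure_mono fun x hx => ⟨⟨hJH hx.1.1, hx.1.2⟩, hx.2⟩
  have h4 : zFam ok H ≤ omegaOne p (J ⊓ Subgroup.centralizer (J : Set G)) := fun z hz =>
    Subgroup.subset_closure ⟨(h1 z hz).1, (h1 z hz).2⟩
  exact ⟨le_antisymm h4 (h3.trans h2), le_antisymm (h4.trans h3) h2⟩

omit hp in
theorem zFam_elementary_eq_omega (H : Subgroup G) :
    zFam (fun A : Subgroup G => IsElementaryAbelian p A) H =
      (omegaCenterThompson p H).map H.subtype := by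
  rw [(zFam_elementary_eq H).1, omegaCenterThompson, omegaOne, omegaOne, MonoidHom.map_closure,
    ← image_maxElementary, ← map_sSup_subtype]
  congr 1
  ext x
  constructor
  · rintro ⟨⟨⟨y, hy, rfl⟩, hc⟩, hxp⟩
    refine ⟨y, ⟨⟨hy, Subgroup.mem_centralizer_iff.2 fun z hz => Subtype.ext ?_⟩, Subtype.ext hxp⟩, rfl⟩
    exact Subgroup.mem_centralizer_iff.1 hc _ ⟨z, hz, rfl⟩
  · rintro ⟨y, ⟨⟨hy, hc⟩, hyp⟩, rfl⟩
    refine ⟨⟨⟨y, hy, rfl⟩, Subgroup.mem_centralizer_iff.2 ?_⟩, congrArg Subtype.val hyp⟩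
    rintro _ ⟨z, hz, rfl⟩
    exact congrArg Subtype.val (Subgroup.mem_centralizer_iff.1 hc z hz)

end Cfsg.Agent.Fusion
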