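import Cfsg.Prelude.Def_PLocal
import Cfsg.Prelude.Def_Transfer
import Cfsg.Agent.Lib.Fusion.Replacement
import Cfsg.Agent.Lib.Fusion.Cores

/-!
# Families of abelian subgroups of largest order and the ZJ argument
-/

set_option autoImplicit false

open scoped commutatorElement

namespace Cfsg.Agent.Fusion

variable {G : Type*} [Group G]

/-- A property of abelian subgroups which passes to abelian subgroups of no larger exponent. -/
structure ReplFamily (ok : Subgroup G → Prop) : Prop where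
  comm : ∀ A, ok A → IsMulCommutative A
  of_exponent : ∀ A R : Subgroup G, ok A → IsMulCommutative R →
    Monoid.exponent R ∣ Monoid.exponent A → ok R
  bot : ok ⊥

/-- The members of largest order inside `H`. -/
def maxIn (ok : Subgroup G → Prop) (H : Subgroup G) : Set (Subgroup G) :=
  {A | A ≤ H ∧ ok A ∧ ∀ B : Subgroup G, B ≤ H → ok B → Nat.card B ≤ Nat.card A}

/-- The intersection of the members of largest order. -/
def zFam (ok : Subgroup G → Prop) (H : Subgroup G) : Subgroup G := H ⊓ sInf (maxIn ok H)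

theorem isMulCommutative_map {G' : Type*} [Group G'] (f : G →* G') {A : Subgroup G}
    (hA : IsMulCommutative A) : IsMulCommutative (A.map f) := by
  refine ⟨⟨?_⟩⟩
  rintro ⟨_, x, hx, rfl⟩ ⟨_, y, hy, rfl⟩
  refine Subtype.ext ?_
  show f x * f y = f y * f x
  rw [← map_mul, ← map_mul]
  exact congrArg f (congrArg Subtype.val (hA.1.1 ⟨x, hx⟩ ⟨y, hy⟩))

theorem isMulCommutative_of_le {A B : Subgroup G} (hA : IsMulCommutative A) (h : B ≤ A) :
    IsMulCommutative B :=
  ⟨⟨fun x y => Subtype.ext (show (x : G) * y = y * x from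
    congrArg Subtype.val (hA.1.1 ⟨x, h x.2⟩ ⟨y, h y.2⟩))⟩⟩

theorem exponent_map {G' : Type*} [Group G'] {f : G →* G'} (hf : Function.Injective f)
    (A : Subgroup G) : Monoid.exponent (A.map f) = Monoid.exponent A :=
  (Monoid.exponent_eq_of_mulEquiv (A.equivMapOfInjective f hf)).symm

theorem isElementaryAbelian_iff_exponent {p : ℕ} {A : Subgroup G} :
    IsElementaryAbelian p A ↔ IsMulCommutative A ∧ Monoid.exponent A ∣ p := by
  refine and_congr_right fun _ => ?_
  rw [Monoid.exponent_dvd_iff_forall_pow_eq_one]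
  exact ⟨fun h a => Subtype.ext (h a a.2), fun h a ha => congrArg Subtype.val (h ⟨a, ha⟩)⟩

theorem replFamily_comm : ReplFamily (fun A : Subgroup G => IsMulCommutative A) :=
  ⟨fun _ h => h, fun _ _ _ h _ => h, inferInstance⟩

theorem replFamily_elementary (p : ℕ) :
    ReplFamily (fun A : Subgroup G => IsElementaryAbelian p A) := by
  refine ⟨fun _ h => h.1, fun A R hA hR h => isElementaryAbelian_iff_exponent.2
    ⟨hR, h.trans (isElementaryAbelian_iff_exponent.1 hA).2⟩, inferInstance, fun a ha => ?_⟩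
  rw [Subgroup.mem_bot.1 ha, one_pow]

namespace ReplFamily

variable {ok : Subgroup G → Prop} (hok : ReplFamily ok)
include hok

theorem map_equiv {A : Subgroup G} (h : ok A) (e : G ≃* G) : ok (A.map e.toMonoidHom) :=
  hok.of_exponent A _ h (isMulCommutative_map _ (hok.comm A h))
    (exponent_map (f := e.toMonoidHom) e.injective A).dvd

theorem maxIn_nonempty [Finite G] (H : Subgroup G) : (maxIn ok H).Nonempty := by
  obtain ⟨A, ⟨hAH, hA⟩, hmax⟩ := Set.exists_max_image {A : Subgroup G | A ≤ H ∧ ok A}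
    (fun A => Nat.card A) (Set.toFinite _) ⟨⊥, bot_le, hok.bot⟩
  exact ⟨A, hAH, hA, fun B hB hB' => hmax B ⟨hB, hB'⟩⟩

theorem zFam_le_of_mem {H A : Subgroup G} (hA : A ∈ maxIn ok H) : zFam ok H ≤ A :=
  inf_le_right.trans (sInf_le hA)

theorem map_mem_maxIn {H A : Subgroup G} (hA : A ∈ maxIn ok H) (e : G ≃* G) :
    A.map e.toMonoidHom ∈ maxIn ok (H.map e.toMonoidHom) := by
  refine ⟨Subgroup.map_mono hA.1, hok.map_equiv hA.2.1 e, fun B hB hB' => ?_⟩
  have h1 : B.map e.symm.toMonoidHom ≤ H := by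
    rintro _ ⟨x, hx, rfl⟩
    obtain ⟨y, hy, rfl⟩ := hB hx
    show e.symm (e y) ∈ H
    rwa [e.symm_apply_apply]
  have h2 := hA.2.2 _ h1 (hok.map_equiv hB' e.symm)
  rw [Subgroup.card_map_of_injective (f := e.symm.toMonoidHom) e.symm.injective] at h2
  rwa [Subgroup.card_map_of_injective (f := e.toMonoidHom) e.injective]

theorem map_zFam_le (H : Subgroup G) (e : G ≃* G) :
    (zFam ok H).map e.toMonoidHom ≤ zFam ok (H.map e.toMonoidHom) := by
  refine le_inf (Subgroup.map_mono inf_le_left) (le_sInf fun A hA => ?_)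
  have h := hok.map_mem_maxIn hA e.symm
  have e1 : (H.map e.toMonoidHom).map e.symm.toMonoidHom = H := by
    ext x; simp [Subgroup.mem_map]
  rw [e1] at h
  rintro _ ⟨x, hx, rfl⟩
  obtain ⟨y, hy, rfl⟩ := hok.zFam_le_of_mem h hx
  show e (e.symm y) ∈ A
  rwa [e.apply_symm_apply]

theorem map_zFam (H : Subgroup G) (e : G ≃* G) :
    (zFam ok H).map e.toMonoidHom = zFam ok (H.map e.toMonoidHom) := by
  refine le_antisymm (hok.map_zFam_le H e) fun x hx => ?_
  have e1 : (H.map e.toMonoidHom).map e.symm.toMonoidHom = H := by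
    ext x; simp [Subgroup.mem_map]
  have h := hok.map_zFam_le (H.map e.toMonoidHom) e.symm ⟨x, hx, rfl⟩
  rw [e1] at h
  exact ⟨_, h, e.apply_symm_apply x⟩

theorem normalizer_le_zFam [Finite G] (H : Subgroup G) :
    Subgroup.normalizer (H : Set G) ≤ Subgroup.normalizer (zFam ok H : Set G) := by
  intro g hg
  rw [mem_normalizer_iff_cj]
  have := hok.map_zFam H (MulAut.conj g)
  rw [show H.map (MulAut.conj g).toMonoidHom = H from cj_eq_self hg] at this
  exact this

end ReplFamily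

variable [Finite G] {p : ℕ} [hp : Fact p.Prime]

/-- Glauberman replacement inside a `p`-subgroup. -/
theorem exists_replacement_in (hp2 : p ≠ 2) {S B A : Subgroup G} (hS : IsPGroup p S) (hBS : B ≤ S)
    (hBn : S ≤ Subgroup.normalizer (B : Set G)) (hAS : A ≤ S) (hA : IsMulCommutative A)
    (hBA : ⁅B, B⁆ ≤ A) (hnot : ¬ B ≤ Subgroup.normalizer (A : Set G)) :
    ∃ R : Subgroup G, R ≤ S ∧
      (∀ D : Subgroup G, A ≤ D → S ≤ Subgroup.normalizer (D : Set G) → R ≤ D) ∧
      Nat.card R = Nat.card A ∧ IsMulCommutative R ∧ ⁅B, B⁆ ≤ R ∧ A ⊓ B < R ⊓ B ∧ R ⊓ B < B ∧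
      Monoid.exponent R ∣ Monoid.exponent A := by
  haveI : Group.IsNilpotent S := hS.isNilpotent
  set A0 := A.subgroupOf S
  set B0 := B.subgroupOf S
  haveI : B0.Normal := Subgroup.normal_subgroupOf_iff_le_normalizer hBS |>.2 hBn
  have hmapA : A0.map S.subtype = A := Subgroup.map_subgroupOf_eq_of_le hAS
  have hmapB : B0.map S.subtype = B := Subgroup.map_subgroupOf_eq_of_le hBS
  have hinj : Function.Injective S.subtype := S.subtype_injective
  have hA0 : IsMulCommutative A0 := ⟨⟨fun x y => Subtype.ext (Subtype.ext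
    (show ((x : S) : G) * ((y : S) : G) = ((y : S) : G) * ((x : S) : G) from
      congrArg Subtype.val (hA.1.1 ⟨_, x.2⟩ ⟨_, y.2⟩)))⟩⟩
  have hBA0 : ⁅B0, B0⁆ ≤ A0 := by
    rw [← Subgroup.map_le_map_iff_of_injective hinj, Subgroup.map_commutator, hmapA, hmapB]
    exact hBA
  have hnot0 : ¬ B0 ≤ Subgroup.normalizer (A0 : Set S) := by
    intro h
    refine hnot fun b hb => mem_normalizer_of_cj_le ?_
    rintro _ ⟨a, ha, rfl⟩
    exact (Subgroup.mem_normalizer_iff.1 (h (show (⟨b, hBS hb⟩ : S) ∈ B0 from hb))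
      ⟨a, hAS ha⟩).1 ha
  obtain ⟨b, hb, hbN, hbA⟩ := exists_normalizing_normalizer B0 A0 hnot0
  obtain ⟨h1, h2, h3, h4, h5, -, -, -, -, h10, h11⟩ :=
    replSub_spec hS (fun h => absurd h hp2) hA0 hBA0 hb hbN hbA
  refine ⟨(replSub A0 b).map S.subtype, Subgroup.map_subtype_le _, fun D hAD hD => ?_, ?_,
    isMulCommutative_map _ h2, ?_, ?_, ?_, ?_⟩
  · refine (Subgroup.map_mono h11).trans ?_
    rw [Subgroup.map_sup, hmapA]
    refine sup_le hAD ?_
    rintro _ ⟨_, ⟨a, ha, rfl⟩, rfl⟩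
    exact (Subgroup.mem_normalizer_iff.1 (hD ((b⁻¹ : S)).2) _).1 (hAD ha)
  · rw [Subgroup.card_map_of_injective hinj, h1, ← Subgroup.card_map_of_injective hinj, hmapA]
  · rw [← hmapB, ← Subgroup.map_commutator]; exact Subgroup.map_mono h3
  · rw [← hmapA, ← hmapB, ← Subgroup.map_inf _ _ _ hinj, ← Subgroup.map_inf _ _ _ hinj]
    exact Subgroup.map_lt_map_iff_of_injective hinj |>.2 h4
  · conv_lhs => rw [← hmapB, ← Subgroup.map_inf _ _ _ hinj]
    conv_rhs => rw [← hmapB]
    exact Subgroup.map_lt_map_iff_of_injective hinj |>.2 h5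
  · rw [exponent_map hinj, ← hmapA, exponent_map hinj]
    exact h10 hp2

/-- The replacement property of the family of members of largest order in a normal subgroup. -/
theorem replacement_property {ok : Subgroup G → Prop} (hok : ReplFamily ok) (hS : IsPGroup p G)
    (hp2 : p ≠ 2) (D B : Subgroup G) [D.Normal] [B.Normal]
    {U : Subgroup G} (hU : U ∈ maxIn ok D) (hBU : ⁅B, B⁆ ≤ U) (hnU : ¬ B ≤ U) :
    ∃ A ∈ maxIn ok D, ⁅B, B⁆ ≤ A ∧ ¬ B ≤ A ∧ B ≤ Subgroup.normalizer (A : Set G) := by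
  obtain ⟨A, ⟨hA, hBA, hnA⟩, hmax⟩ := Set.exists_max_image
    {A : Subgroup G | A ∈ maxIn ok D ∧ ⁅B, B⁆ ≤ A ∧ ¬ B ≤ A}
    (fun A => Nat.card (A ⊓ B : Subgroup G)) (Set.toFinite _) ⟨U, hU, hBU, hnU⟩
  refine ⟨A, hA, hBA, hnA, ?_⟩
  by_contra hnot
  obtain ⟨R, -, hRD, hcard, hR, hBR, hlt, hltB, hexp⟩ := exists_replacement_in hp2
    (S := ⊤) (hS.to_subgroup ⊤) le_top (by rw [Subgroup.normalizer_eq_top]) le_top
    (hok.comm A hA.2.1) hBA hnot
  have hRmem : R ∈ maxIn ok D := by
    refine ⟨hRD D hA.1 (by rw [Subgroup.normalizer_eq_top]),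
      hok.of_exponent A R hA.2.1 hR hexp, fun C hC hC' => hcard ▸ hA.2.2 C hC hC'⟩
  have hnR : ¬ B ≤ R := fun h => hltB.ne (inf_eq_right.2 h)
  exact absurd (hmax R ⟨hRmem, hBR, hnR⟩) (not_le.2 (card_lt_card_of_lt hlt))
where
  card_lt_card_of_lt {H K : Subgroup G} (h : H < K) : Nat.card H < Nat.card K := by
    refine lt_of_le_of_ne (Subgroup.card_le_of_le h.le) fun he => h.ne ?_
    exact Subgroup.eq_of_le_of_card_ge h.le he.ge

theorem mem_of_quadratic_stable {B : Subgroup G} [B.Normal] (hst : IsPStableOn p B)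
    {A : Subgroup G} (hA : IsMulCommutative A) (hBA : B ≤ Subgroup.normalizer (A : Set G))
    {a : G} (ha : a ∈ A) :
    a ∈ (pCore p (G ⧸ Subgroup.centralizer (B : Set G))).comap
      (QuotientGroup.mk' (Subgroup.centralizer (B : Set G))) := by
  refine hst a ?_
  have h1 : ⁅B, Subgroup.zpowers a⁆ ≤ A := by
    rw [Subgroup.commutator_le]
    intro x hx y hy
    have hy' : y ∈ A := (Subgroup.zpowers_le.2 ha) hy
    rw [commutatorElement_def]
    exact mul_mem ((Subgroup.mem_normalizer_iff.1 (hBA hx) y).1 hy') (inv_mem hy')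
  rw [Subgroup.commutator_eq_bot_iff_le_centralizer]
  intro x hx
  rw [Subgroup.mem_centralizer_iff]
  intro y hy
  exact (congrArg Subtype.val (hA.1.1 ⟨x, h1 hx⟩ ⟨y, (Subgroup.zpowers_le.2 ha) hy⟩)).symm

/-- The key step of Glauberman's ZJ theorem. -/
theorem inf_zFam_normal {ok : Subgroup G → Prop} (hok : ReplFamily ok) (hp2 : p ≠ 2)
    (hst : ∀ (P : Subgroup G) [P.Normal], IsPGroup p P → IsPStableOn p P) (S : Sylow p G)
    (B : Subgroup G) [B.Normal] (hB : IsPGroup p B) :
    (B ⊓ zFam ok (S : Subgroup G)).Normal := by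
  suffices key : ∀ n, ∀ B : Subgroup G, B.Normal → IsPGroup p B → Nat.card B = n →
      (B ⊓ zFam ok (S : Subgroup G)).Normal from key _ B inferInstance hB rfl
  intro n
  induction n using Nat.strong_induction_on with
  | _ n ih =>
  intro B hBnormal hB hn
  haveI := hBnormal
  subst hn
  set Z := zFam ok (S : Subgroup G)
  set Y := B ⊓ Z with hY
  by_contra hYn
  have hsmall : ∀ B₀ : Subgroup G, B₀.Normal → B₀ < B → (B₀ ⊓ Z).Normal := fun B₀ h1 h2 =>
    ih _ (replacement_property.card_lt_card_of_lt h2) B₀ h1 (hB.to_le h2.le) rfl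
  have hBS : B ≤ S := hB.le_sylow_of_normal S
  have hSY : (S : Subgroup G) ≤ Subgroup.normalizer (Y : Set G) := fun s hs => by
    have h1 := cj_eq_self (Subgroup.le_normalizer.trans (hok.normalizer_le_zFam (S : Subgroup G)) hs)
    refine mem_normalizer_iff_cj.2 ?_
    rw [hY, cj_inf, cj_of_normal, h1]
  have hSZ : (S : Subgroup G) ≤ Subgroup.normalizer (Z : Set G) :=
    Subgroup.le_normalizer.trans (hok.normalizer_le_zFam (S : Subgroup G))
  -- `B` is the normal closure of `Y`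
  have hYB : Y ≤ B := inf_le_left
  have hgen : Subgroup.normalClosure (Y : Set G) = B := by
    refine (Subgroup.normalClosure_le_normal hYB).antisymm ?_
    by_contra hcon
    set B₁ := Subgroup.normalClosure (Y : Set G)
    have h := hsmall B₁ inferInstance
      (lt_of_le_not_ge (Subgroup.normalClosure_le_normal hYB) hcon)
    have e : B₁ ⊓ Z = Y :=
      le_antisymm (inf_le_inf_right _ (Subgroup.normalClosure_le_normal hYB))
        (le_inf Subgroup.le_normalClosure inf_le_right)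
    exact hYn (e ▸ h)
  have hBne : B ≠ ⊥ := by
    rintro rfl
    exact hYn (by rw [hY, bot_inf_eq]; infer_instance)
  haveI : Nontrivial B := B.nontrivial_iff_ne_bot.2 hBne
  have hder : ⁅B, B⁆ < B := by
    haveI := hB.isNilpotent
    refine lt_of_le_of_ne (Subgroup.commutator_le_left B B) fun h => ?_
    have hlt : commutator ↥B < ⊤ :=
      Group.IsSolvable.commutator_lt_top_of_nontrivial B
    refine hlt.ne (Subgroup.map_injective B.subtype_injective ?_)
    rw [← MonoidHom.range_eq_map, B.range_subtype, commutator_def, Subgroup.map_commutator,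
      ← MonoidHom.range_eq_map, B.range_subtype]
    exact h
  set N₀ := ⁅B, B⁆ ⊓ Z with hN₀
  haveI : N₀.Normal := hsmall _ inferInstance hder
  have hBB : ⁅B, B⁆ ≤ N₀ := by
    set M := (Subgroup.centralizer ((B.map (QuotientGroup.mk' N₀)) : Set (G ⧸ N₀))).comap
      (QuotientGroup.mk' N₀)
    haveI : (B.map (QuotientGroup.mk' N₀)).Normal :=
      Subgroup.Normal.map inferInstance _ (QuotientGroup.mk'_surjective N₀)
    have hmem : ∀ x, x ∈ M ↔ ∀ y ∈ B, ⁅x, y⁆ ∈ N₀ := fun x => by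
      simp only [M, Subgroup.mem_comap, Subgroup.mem_centralizer_iff, SetLike.mem_coe,
        Subgroup.mem_map, forall_exists_index, and_imp, forall_apply_eq_imp_iff₂]
      refine forall₂_congr fun y _ => ?_
      rw [← (QuotientGroup.eq_one_iff (N := N₀) ⁅x, y⁆), ← QuotientGroup.mk'_apply,
        map_commutatorElement, commutatorElement_eq_one_iff_mul_comm, eq_comm]
    have hYM : Y ≤ M := fun y hy => (hmem y).2 fun x hx => by
      refine ⟨Subgroup.commutator_mem_commutator hy.1 hx, ?_⟩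
      rw [commutatorElement_def, mul_assoc y, mul_assoc y]
      exact mul_mem hy.2 ((Subgroup.mem_normalizer_iff.1 (hSZ (hBS hx)) _).1 (inv_mem hy.2))
    rw [Subgroup.commutator_le]
    intro x hx y hy
    exact (hmem x).1 (Subgroup.normalClosure_le_normal hYM (hgen.ge hx)) y hy
  have hBBZ : ⁅B, B⁆ ≤ Z := hBB.trans inf_le_right
  have hBY : B ≤ Subgroup.normalizer (Y : Set G) := hBS.trans hSY
  -- the stabilised subgroup
  set C := Subgroup.centralizer (B : Set G)
  set D₁ := (pCore p (G ⧸ C)).comap (QuotientGroup.mk' C)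
  have hD₁ : D₁ ≤ Subgroup.normalizer (Y : Set G) := by
    intro x hx
    set Sb := S.mapSurjective (QuotientGroup.mk'_surjective C)
    have hx' : QuotientGroup.mk' C x ∈ (Sb : Subgroup (G ⧸ C)) := pCore_le_sylow Sb hx
    rw [Sylow.coe_mapSurjective] at hx'
    obtain ⟨s, hs, he⟩ := hx'
    have hc : s⁻¹ * x ∈ C := QuotientGroup.eq.1 he
    have hxs : x = s * (s⁻¹ * x) := by group
    rw [hxs]
    refine mul_mem (hSY hs) ?_
    refine mem_normalizer_of_cj_le ?_
    rintro _ ⟨y, hy, rfl⟩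
    show s⁻¹ * x * y * (s⁻¹ * x)⁻¹ ∈ Y
    rwa [(mem_centralizer_set.1 hc) y (hYB hy)]
  set L := (Subgroup.normalizer (Y : Set G)).normalCore
  have hD₁L : D₁ ≤ L := Subgroup.normal_le_normalCore.2 hD₁
  have hBL : B ≤ L := Subgroup.normal_le_normalCore.2 hBY
  set T := (S : Subgroup G) ⊓ L
  have hT : SylIn p T L := (sylIn_top S).inf_normal le_top (by rw [Subgroup.normalizer_eq_top])
  -- a member inside `L`, meeting `B` properly unless all members lie in `L`
  have hkey : maxIn ok T = maxIn ok (S : Subgroup G) ∨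
      ∃ R ∈ maxIn ok (S : Subgroup G), R ≤ L ∧ ¬ B ≤ R := by
    by_cases hall : ∀ A ∈ maxIn ok (S : Subgroup G), A ≤ L
    · left
      obtain ⟨A₀, hA₀⟩ := hok.maxIn_nonempty (S : Subgroup G)
      ext A
      constructor
      · rintro ⟨hAT, hA, hmax⟩
        refine ⟨hAT.trans inf_le_left, hA, fun C hC hC' => ?_⟩
        exact (hA₀.2.2 C hC hC').trans (hmax A₀ (le_inf hA₀.1 (hall A₀ hA₀)) hA₀.2.1)
      · intro hA
        exact ⟨le_inf hA.1 (hall A hA), hA.2.1, fun C hC hC' => hA.2.2 C (hC.trans inf_le_left) hC'⟩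
    · right
      simp only [not_forall] at hall
      obtain ⟨A₀, hA₀, hA₀L⟩ := hall
      obtain ⟨A, ⟨hA, hAL⟩, hmax⟩ := Set.exists_max_image
        {A : Subgroup G | A ∈ maxIn ok (S : Subgroup G) ∧ ¬ A ≤ L}
        (fun A => Nat.card (A ⊓ B : Subgroup G)) (Set.toFinite _) ⟨A₀, hA₀, hA₀L⟩
      have hcomm := hok.comm A hA.2.1
      have hnot : ¬ B ≤ Subgroup.normalizer (A : Set G) := fun h =>
        hAL fun a ha => hD₁L (mem_of_quadratic_stable (hst B hB) hcomm h ha)
      obtain ⟨R, hRS, -, hcard, hR, -, hlt, hltB, hexp⟩ := exists_replacement_in hp2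
        S.isPGroup' hBS (by rw [Subgroup.normalizer_eq_top]; exact le_top) hA.1 hcomm
        (hBBZ.trans (hok.zFam_le_of_mem hA)) hnot
      have hRmem : R ∈ maxIn ok (S : Subgroup G) :=
        ⟨hRS, hok.of_exponent A R hA.2.1 hR hexp, fun C hC hC' => hcard ▸ hA.2.2 C hC hC'⟩
      refine ⟨R, hRmem, ?_, fun h => hltB.ne (inf_eq_right.2 h)⟩
      by_contra hRL
      exact absurd (hmax R ⟨hRmem, hRL⟩)
        (not_le.2 (replacement_property.card_lt_card_of_lt hlt))
  set W := B ⊓ zFam ok T with hW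
  have hYW : Y ≤ W := by
    refine le_inf hYB (le_inf (le_inf (hYB.trans hBS) (hYB.trans hBL)) (le_sInf fun A hA => ?_))
    rcases hkey with h | ⟨R, hR, hRL, -⟩
    · exact inf_le_right.trans (hok.zFam_le_of_mem (h ▸ hA))
    · refine inf_le_right.trans (hok.zFam_le_of_mem
        (⟨hA.1.trans inf_le_left, hA.2.1, fun C hC hC' => ?_⟩ : A ∈ maxIn ok (S : Subgroup G)))
      exact (hR.2.2 C hC hC').trans (hA.2.2 R (le_inf hR.1 hRL) hR.2.1)
  have hNW : Subgroup.normalizer (T : Set G) ≤ Subgroup.normalizer (W : Set G) := fun g hg => by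
    refine mem_normalizer_iff_cj.2 ?_
    rw [hW, cj_inf, cj_of_normal, cj_eq_self (hok.normalizer_le_zFam T hg)]
  have hdec : ∀ g : G, ∃ n ∈ Subgroup.normalizer (T : Set G), ∃ l ∈ L, g = n * l := by
    intro g
    obtain ⟨l, hl, he⟩ := (hT.cj' (g := g⁻¹)
      (by rw [Subgroup.normalizer_eq_top]; exact Subgroup.mem_top _)).conj_eq hT
    refine ⟨(l * g⁻¹)⁻¹, inv_mem (mem_normalizer_iff_cj.2 ?_), l, hl, by group⟩
    rw [← cj_cj]; exact he
  have hBW : B ≤ W := by
    rw [← hgen, Subgroup.normalClosure, Subgroup.closure_le]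
    intro x hx
    rw [Group.mem_conjugatesOfSet_iff] at hx
    obtain ⟨y, hy, hxy⟩ := hx
    obtain ⟨g, rfl⟩ := isConj_iff.1 hxy
    obtain ⟨m, hm, l, hl, rfl⟩ := hdec g
    have hly : l * y * l⁻¹ ∈ Y :=
      (Subgroup.mem_normalizer_iff.1 (Subgroup.normalCore_le _ hl) y).1 hy
    have := (Subgroup.mem_normalizer_iff.1 (hNW hm) _).1 (hYW hly)
    rw [show m * l * y * (m * l)⁻¹ = m * (l * y * l⁻¹) * m⁻¹ by group]
    exact this
  rcases hkey with h | ⟨R, hR, hRL, hBR⟩
  · refine hYn ?_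
    have hWY : W = Y := le_antisymm (le_inf inf_le_left (le_inf ((hW ▸ inf_le_left).trans hBS)
      (le_sInf fun A hA => (hW ▸ inf_le_right).trans (hok.zFam_le_of_mem (h.symm ▸ hA))))) hYW
    rw [show Y = B from le_antisymm hYB (hWY ▸ hBW)]
    infer_instance
  · refine hBR (hBW.trans (inf_le_right.trans (hok.zFam_le_of_mem
      ⟨le_inf hR.1 hRL, hR.2.1, fun C hC hC' => hR.2.2 C (hC.trans inf_le_left) hC'⟩)))

end Cfsg.Agent.Fusion
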