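import Cfsg.Agent.Lib.Fusion.ZJFamily

/-!
# The key step of the ZJ theorem under a weaker stability hypothesis

The proof of `inf_zFam_normal`, with stability asked only for a normal `p`-subgroup generated by
the conjugates of its intersection with `Z(J(S))` and a member of largest order normalised by it.
-/

set_option autoImplicit false

open scoped commutatorElement

namespace Cfsg.Agent.Fusion

variable {G : Type*} [Group G] [Finite G] {p : ℕ} [hp : Fact p.Prime]

/-- The key step of Glauberman's ZJ theorem, with stability asked only where it is used. -/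
theorem inf_zFam_normal' {ok : Subgroup G → Prop} (hok : ReplFamily ok) (hp2 : p ≠ 2)
    (S : Sylow p G) (hst : ∀ (P : Subgroup G) [P.Normal], IsPGroup p P →
      Subgroup.normalClosure ((P ⊓ zFam ok (S : Subgroup G) : Subgroup G) : Set G) = P →
      ∀ A ∈ maxIn ok (S : Subgroup G), P ≤ Subgroup.normalizer (A : Set G) → ∀ a ∈ A,
        a ∈ (pCore p (G ⧸ Subgroup.centralizer (P : Set G))).comap
          (QuotientGroup.mk' (Subgroup.centralizer (P : Set G))))
    (B : Subgroup G) [B.Normal] (hB : IsPGroup p B) :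
    (B ⊓ zFam ok (S : Subgroup G)).Normal := by
  suffices key : ∀ n, ∀ B : Subgroup G, B.Normal → IsPGroup p B → Nat.card B = n →
      (B ⊓ zFam ok (S : Subgroup G)).Normal from key _ B inferInstance hB rfl
  intro n
  induction n using Nat.strong_induction_on with
  | _ n ih =>
  intro B hBnormal hB hn
  haveI := hBnormal
  subst hn
  set Z := zFam ok (S : Subgroup G)
  set Y := B ⊓ Z with hY
  by_contra hYn
  have hsmall : ∀ B₀ : Subgroup G, B₀.Normal → B₀ < B → (B₀ ⊓ Z).Normal := fun B₀ h1 h2 =>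
    ih _ (replacement_property.card_lt_card_of_lt h2) B₀ h1 (hB.to_le h2.le) rfl
  have hBS : B ≤ S := hB.le_sylow_of_normal S
  have hSY : (S : Subgroup G) ≤ Subgroup.normalizer (Y : Set G) := fun s hs => by
    have h1 := cj_eq_self (Subgroup.le_normalizer.trans (hok.normalizer_le_zFam (S : Subgroup G)) hs)
    refine mem_normalizer_iff_cj.2 ?_
    rw [hY, cj_inf, cj_of_normal, h1]
  have hSZ : (S : Subgroup G) ≤ Subgroup.normalizer (Z : Set G) :=
    Subgroup.le_normalizer.trans (hok.normalizer_le_zFam (S : Subgroup G))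
  -- `B` is the normal closure of `Y`
  have hYB : Y ≤ B := inf_le_left
  have hgen : Subgroup.normalClosure (Y : Set G) = B := by
    refine (Subgroup.normalClosure_le_normal hYB).antisymm ?_
    by_contra hcon
    set B₁ := Subgroup.normalClosure (Y : Set G)
    have h := hsmall B₁ inferInstance
      (lt_of_le_not_ge (Subgroup.normalClosure_le_normal hYB) hcon)
    have e : B₁ ⊓ Z = Y :=
      le_antisymm (inf_le_inf_right _ (Subgroup.normalClosure_le_normal hYB))
        (le_inf Subgroup.le_normalClosure inf_le_right)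
    exact hYn (e ▸ h)
  have hBne : B ≠ ⊥ := by
    rintro rfl
    exact hYn (by rw [hY, bot_inf_eq]; infer_instance)
  haveI : Nontrivial B := B.nontrivial_iff_ne_bot.2 hBne
  have hder : ⁅B, B⁆ < B := by
    haveI := hB.isNilpotent
    refine lt_of_le_of_ne (Subgroup.commutator_le_left B B) fun h => ?_
    have hlt : commutator ↥B < ⊤ :=
      Group.IsSolvable.commutator_lt_top_of_nontrivial B
    refine hlt.ne (Subgroup.map_injective B.subtype_injective ?_)
    rw [← MonoidHom.range_eq_map, B.range_subtype, commutator_def, Subgroup.map_commutator,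
      ← MonoidHom.range_eq_map, B.range_subtype]
    exact h
  set N₀ := ⁅B, B⁆ ⊓ Z with hN₀
  haveI : N₀.Normal := hsmall _ inferInstance hder
  have hBB : ⁅B, B⁆ ≤ N₀ := by
    set M := (Subgroup.centralizer ((B.map (QuotientGroup.mk' N₀)) : Set (G ⧸ N₀))).comap
      (QuotientGroup.mk' N₀)
    haveI : (B.map (QuotientGroup.mk' N₀)).Normal :=
      Subgroup.Normal.map inferInstance _ (QuotientGroup.mk'_surjective N₀)
    have hmem : ∀ x, x ∈ M ↔ ∀ y ∈ B, ⁅x, y⁆ ∈ N₀ := fun x => by
      simp only [M, Subgroup.mem_comap, Subgroup.mem_centralizer_iff, SetLike.mem_coe,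
        Subgroup.mem_map, forall_exists_index, and_imp, forall_apply_eq_imp_iff₂]
      refine forall₂_congr fun y _ => ?_
      rw [← (QuotientGroup.eq_one_iff (N := N₀) ⁅x, y⁆), ← QuotientGroup.mk'_apply,
        map_commutatorElement, commutatorElement_eq_one_iff_mul_comm, eq_comm]
    have hYM : Y ≤ M := fun y hy => (hmem y).2 fun x hx => by
      refine ⟨Subgroup.commutator_mem_commutator hy.1 hx, ?_⟩
      rw [commutatorElement_def, mul_assoc y, mul_assoc y]
      exact mul_mem hy.2 ((Subgroup.mem_normalizer_iff.1 (hSZ (hBS hx)) _).1 (inv_mem hy.2))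
    rw [Subgroup.commutator_le]
    intro x hx y hy
    exact (hmem x).1 (Subgroup.normalClosure_le_normal hYM (hgen.ge hx)) y hy
  have hBBZ : ⁅B, B⁆ ≤ Z := hBB.trans inf_le_right
  have hBY : B ≤ Subgroup.normalizer (Y : Set G) := hBS.trans hSY
  -- the stabilised subgroup
  set C := Subgroup.centralizer (B : Set G)
  set D₁ := (pCore p (G ⧸ C)).comap (QuotientGroup.mk' C)
  have hD₁ : D₁ ≤ Subgroup.normalizer (Y : Set G) := by
    intro x hx
    set Sb := S.mapSurjective (QuotientGroup.mk'_surjective C)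
    have hx' : QuotientGroup.mk' C x ∈ (Sb : Subgroup (G ⧸ C)) := pCore_le_sylow Sb hx
    rw [Sylow.coe_mapSurjective] at hx'
    obtain ⟨s, hs, he⟩ := hx'
    have hc : s⁻¹ * x ∈ C := QuotientGroup.eq.1 he
    have hxs : x = s * (s⁻¹ * x) := by group
    rw [hxs]
    refine mul_mem (hSY hs) ?_
    refine mem_normalizer_of_cj_le ?_
    rintro _ ⟨y, hy, rfl⟩
    show s⁻¹ * x * y * (s⁻¹ * x)⁻¹ ∈ Y
    rwa [(mem_centralizer_set.1 hc) y (hYB hy)]
  set L := (Subgroup.normalizer (Y : Set G)).normalCore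
  have hD₁L : D₁ ≤ L := Subgroup.normal_le_normalCore.2 hD₁
  have hBL : B ≤ L := Subgroup.normal_le_normalCore.2 hBY
  set T := (S : Subgroup G) ⊓ L
  have hT : SylIn p T L := (sylIn_top S).inf_normal le_top (by rw [Subgroup.normalizer_eq_top])
  -- a member inside `L`, meeting `B` properly unless all members lie in `L`
  have hkey : maxIn ok T = maxIn ok (S : Subgroup G) ∨
      ∃ R ∈ maxIn ok (S : Subgroup G), R ≤ L ∧ ¬ B ≤ R := by
    by_cases hall : ∀ A ∈ maxIn ok (S : Subgroup G), A ≤ L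
    · left
      obtain ⟨A₀, hA₀⟩ := hok.maxIn_nonempty (S : Subgroup G)
      ext A
      constructor
      · rintro ⟨hAT, hA, hmax⟩
        refine ⟨hAT.trans inf_le_left, hA, fun C hC hC' => ?_⟩
        exact (hA₀.2.2 C hC hC').trans (hmax A₀ (le_inf hA₀.1 (hall A₀ hA₀)) hA₀.2.1)
      · intro hA
        exact ⟨le_inf hA.1 (hall A hA), hA.2.1, fun C hC hC' => hA.2.2 C (hC.trans inf_le_left) hC'⟩
    · right
      simp only [not_forall] at hall
      obtain ⟨A₀, hA₀, hA₀L⟩ := hall
      obtain ⟨A, ⟨hA, hAL⟩, hmax⟩ := Set.exists_max_image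
        {A : Subgroup G | A ∈ maxIn ok (S : Subgroup G) ∧ ¬ A ≤ L}
        (fun A => Nat.card (A ⊓ B : Subgroup G)) (Set.toFinite _) ⟨A₀, hA₀, hA₀L⟩
      have hcomm := hok.comm A hA.2.1
      have hnot : ¬ B ≤ Subgroup.normalizer (A : Set G) := fun h =>
        hAL fun a ha => hD₁L (hst B hB hgen A hA h a ha)
      obtain ⟨R, hRS, -, hcard, hR, -, hlt, hltB, hexp⟩ := exists_replacement_in hp2
        S.isPGroup' hBS (by rw [Subgroup.normalizer_eq_top]; exact le_top) hA.1 hcomm
        (hBBZ.trans (hok.zFam_le_of_mem hA)) hnot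
      have hRmem : R ∈ maxIn ok (S : Subgroup G) :=
        ⟨hRS, hok.of_exponent A R hA.2.1 hR hexp, fun C hC hC' => hcard ▸ hA.2.2 C hC hC'⟩
      refine ⟨R, hRmem, ?_, fun h => hltB.ne (inf_eq_right.2 h)⟩
      by_contra hRL
      exact absurd (hmax R ⟨hRmem, hRL⟩)
        (not_le.2 (replacement_property.card_lt_card_of_lt hlt))
  set W := B ⊓ zFam ok T with hW
  have hYW : Y ≤ W := by
    refine le_inf hYB (le_inf (le_inf (hYB.trans hBS) (hYB.trans hBL)) (le_sInf fun A hA => ?_))
    rcases hkey with h | ⟨R, hR, hRL, -⟩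
    · exact inf_le_right.trans (hok.zFam_le_of_mem (h ▸ hA))
    · refine inf_le_right.trans (hok.zFam_le_of_mem
        (⟨hA.1.trans inf_le_left, hA.2.1, fun C hC hC' => ?_⟩ : A ∈ maxIn ok (S : Subgroup G)))
      exact (hR.2.2 C hC hC').trans (hA.2.2 R (le_inf hR.1 hRL) hR.2.1)
  have hNW : Subgroup.normalizer (T : Set G) ≤ Subgroup.normalizer (W : Set G) := fun g hg => by
    refine mem_normalizer_iff_cj.2 ?_
    rw [hW, cj_inf, cj_of_normal, cj_eq_self (hok.normalizer_le_zFam T hg)]
  have hdec : ∀ g : G, ∃ n ∈ Subgroup.normalizer (T : Set G), ∃ l ∈ L, g = n * l := by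
    intro g
    obtain ⟨l, hl, he⟩ := (hT.cj' (g := g⁻¹)
      (by rw [Subgroup.normalizer_eq_top]; exact Subgroup.mem_top _)).conj_eq hT
    refine ⟨(l * g⁻¹)⁻¹, inv_mem (mem_normalizer_iff_cj.2 ?_), l, hl, by group⟩
    rw [← cj_cj]; exact he
  have hBW : B ≤ W := by
    rw [← hgen, Subgroup.normalClosure, Subgroup.closure_le]
    intro x hx
    rw [Group.mem_conjugatesOfSet_iff] at hx
    obtain ⟨y, hy, hxy⟩ := hx
    obtain ⟨g, rfl⟩ := isConj_iff.1 hxy
    obtain ⟨m, hm, l, hl, rfl⟩ := hdec g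
    have hly : l * y * l⁻¹ ∈ Y :=
      (Subgroup.mem_normalizer_iff.1 (Subgroup.normalCore_le _ hl) y).1 hy
    have := (Subgroup.mem_normalizer_iff.1 (hNW hm) _).1 (hYW hly)
    rw [show m * l * y * (m * l)⁻¹ = m * (l * y * l⁻¹) * m⁻¹ by group]
    exact this
  rcases hkey with h | ⟨R, hR, hRL, hBR⟩
  · refine hYn ?_
    have hWY : W = Y := le_antisymm (le_inf inf_le_left (le_inf ((hW ▸ inf_le_left).trans hBS)
      (le_sInf fun A hA => (hW ▸ inf_le_right).trans (hok.zFam_le_of_mem (h.symm ▸ hA))))) hYW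
    rw [show Y = B from le_antisymm hYB (hWY ▸ hBW)]
    infer_instance
  · refine hBR (hBW.trans (inf_le_right.trans (hok.zFam_le_of_mem
      ⟨le_inf hR.1 hRL, hR.2.1, fun C hC hC' => hR.2.2 C (hC.trans inf_le_left) hC'⟩)))

end Cfsg.Agent.Fusion
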